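import Mathlib

/-!
Small facts on the alternating group of degree six: actions on fewer than six points are trivial and
orbits on normalised sum-zero functions modulo three are long.
-/

set_option autoImplicit false

namespace CfsgLib.FischerTwoFour

/-- The alternating group of degree six. -/
abbrev A6 : Type := alternatingGroup (Fin 6)

theorem card_A6 : Nat.card A6 = 360 := by
  rw [A6, nat_card_alternatingGroup, Nat.card_fin]
  rfl

theorem isSimpleGroup_A6 : IsSimpleGroup A6 :=
  alternatingGroup.isSimpleGroup (α := Fin 6) (by simp)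

/-- A homomorphism to a group of order less than `360` is trivial. -/
theorem hom_trivial {P : Type*} [Group P] [Finite P] (φ : A6 →* P) (hP : Nat.card P < 360) (π : A6) :
    φ π = 1 := by
  have := isSimpleGroup_A6
  rcases φ.normal_ker.eq_bot_or_eq_top with h | h
  · exfalso
    have := Nat.card_le_card_of_injective φ ((MonoidHom.ker_eq_bot_iff φ).1 h)
    rw [card_A6] at this
    omega
  · exact MonoidHom.mem_ker.1 (h ▸ Subgroup.mem_top π)

/-- An action on fewer than six points is trivial. -/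
theorem act_trivial {α : Type*} [Finite α] (φ : A6 →* Equiv.Perm α) (hα : Nat.card α ≤ 5) (π : A6)
    (a : α) : φ π a = a := by
  classical
  have : Nat.card (Equiv.Perm α) ≤ 120 := by
    rw [Nat.card_perm]
    exact le_trans (Nat.factorial_le hα) (by decide)
  rw [hom_trivial φ (by omega) π]
  rfl

/-- Either every element of an invariant finite set is fixed or there is an orbit of length at least six. -/
theorem fixed_or_six {α : Type*} [DecidableEq α] (φ : A6 →* Equiv.Perm α)
    {a : α} (hmov : ∃ π, φ π a ≠ a) :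
    6 ≤ (Finset.univ.image fun π => φ π a).card := by
  by_contra hlt
  obtain ⟨π, hπ⟩ := hmov
  let O : Finset α := Finset.univ.image fun π => φ π a
  have hO : ∀ σ : A6, ∀ b ∈ O, φ σ b ∈ O := by
    intro σ b hb
    obtain ⟨τ, -, rfl⟩ := Finset.mem_image.1 hb
    exact Finset.mem_image.2 ⟨σ * τ, Finset.mem_univ _, by rw [map_mul]; rfl⟩
  let ψ : A6 →* Equiv.Perm O :=
    { toFun := fun σ => ⟨fun b => ⟨φ σ b, hO σ b b.2⟩, fun b => ⟨φ σ⁻¹ b, hO σ⁻¹ b b.2⟩,
        fun b => Subtype.ext (by simp [map_inv]), fun b => Subtype.ext (by simp [map_inv])⟩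
      map_one' := Equiv.ext fun b => Subtype.ext (by simp)
      map_mul' := fun σ τ => Equiv.ext fun b => Subtype.ext (by simp [map_mul]) }
  have haO : a ∈ O := Finset.mem_image.2 ⟨1, Finset.mem_univ _, by simp⟩
  have := act_trivial ψ (by rw [Nat.card_eq_fintype_card, Fintype.card_coe]; exact Nat.lt_succ_iff.mp (not_le.mp hlt)) π ⟨a, haO⟩
  exact hπ (congrArg Subtype.val this)

/-- Twenty pairs of transpositions. -/
def quads : Fin 20 → Fin 6 × Fin 6 × Fin 6 × Fin 6 :=
  ![(0, 1, 0, 1), (1, 5, 2, 4), (0, 3, 0, 4), (0, 2, 1, 4), (0, 1, 3, 5), (1, 2, 1, 3), (0, 3, 3, 4),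
    (1, 2, 2, 3), (0, 5, 2, 4), (0, 1, 4, 5), (0, 1, 2, 5), (2, 4, 3, 5), (1, 4, 1, 5), (0, 3, 2, 5),
    (0, 2, 3, 4), (0, 5, 2, 3), (1, 4, 4, 5), (1, 3, 2, 5), (0, 2, 1, 5), (0, 4, 1, 2)]

theorem quads_ne : ∀ k, (quads k).1 ≠ (quads k).2.1 ∧ (quads k).2.2.1 ≠ (quads k).2.2.2 := by decide

/-- The product of two transpositions attached to `k`. -/
def orbPerm (k : Fin 20) : A6 :=
  ⟨Equiv.swap (quads k).1 (quads k).2.1 * Equiv.swap (quads k).2.2.1 (quads k).2.2.2, by
    rw [Equiv.Perm.mem_alternatingGroup, map_mul, Equiv.Perm.sign_swap (quads_ne k).1,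
      Equiv.Perm.sign_swap (quads_ne k).2]
    rfl⟩

/-- A transposition on codes. -/
def sw (a b x : Fin 6) : Fin 6 := if x = a then b else if x = b then a else x

theorem sw_eq (a b x : Fin 6) : Equiv.swap a b x = sw a b x := Equiv.swap_apply_def a b x

theorem orbPerm_apply (k : Fin 20) (x : Fin 6) : (orbPerm k : Equiv.Perm (Fin 6)) x =
    sw (quads k).1 (quads k).2.1 (sw (quads k).2.2.1 (quads k).2.2.2 x) := by
  rw [← sw_eq, ← sw_eq]
  rfl

/-- The code of the translate of `L` by `k`. -/
def orbCode (L : Fin 6 → Fin 3) (k : Fin 20) : ℕ :=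
  ((List.range 6).map fun i =>
    let q := quads k
    let v := L (sw q.1 q.2.1 (sw q.2.2.1 q.2.2.2 (Fin.ofNat 6 i))) - L (sw q.1 q.2.1 (sw q.2.2.1 q.2.2.2 0))
    (v : ℕ) * 3 ^ i).sum

theorem orbit_table : ∀ a b c d e : Fin 3, a + b + c + d + e = 0 → (a, b, c, d, e) ≠ (0, 0, 0, 0, 0) →
    13 ≤ ((List.finRange 20).map (orbCode ![0, a, b, c, d, e])).dedup.length := by decide +kernel

/-- A normalised nonzero sum-zero function has at least thirteen distinct normalised translates. -/
theorem orbit_long (L : Fin 6 → ZMod 3) (h0 : L 0 = 0) (hsum : ∑ i, L i = 0) (hne : L ≠ 0)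
    {α : Type*} [DecidableEq α] (F : A6 → α)
    (hF : ∀ π σ : A6, F π = F σ →
      ∀ i, L ((π : Equiv.Perm (Fin 6)) i) - L ((π : Equiv.Perm (Fin 6)) 0) =
        L ((σ : Equiv.Perm (Fin 6)) i) - L ((σ : Equiv.Perm (Fin 6)) 0)) :
    13 ≤ (Finset.univ.image F).card := by
  classical
  have hL : L = ![0, L 1, L 2, L 3, L 4, L 5] := by
    funext i; fin_cases i <;> first | exact h0 | rfl
  rw [Fin.sum_univ_six, h0, zero_add] at hsum
  have key : 13 ≤ ((List.finRange 20).map (orbCode L)).dedup.length := by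
    rw [hL]
    exact orbit_table (L 1) (L 2) (L 3) (L 4) (L 5) hsum (by
      intro e
      injection e with e1 e
      injection e with e2 e
      injection e with e3 e
      injection e with e4 e5
      refine hne (funext fun i => ?_)
      fin_cases i
      exacts [h0, e1, e2, e3, e4, e5])
  rw [← List.card_toFinset] at key
  refine le_trans key ?_
  obtain ⟨g, hg⟩ : ∃ g : α → ℕ, ∀ k, g (F (orbPerm k)) = orbCode L k := by
    refine ⟨Function.extend (fun k => F (orbPerm k)) (orbCode L) (fun _ => 0), fun k => ?_⟩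
    refine Function.FactorsThrough.extend_apply ?_ _ k
    intro k l hkl
    refine congrArg List.sum (List.map_congr_left fun i _ => ?_)
    have := hF _ _ hkl (Fin.ofNat 6 i)
    rw [orbPerm_apply, orbPerm_apply, orbPerm_apply, orbPerm_apply] at this
    exact congrArg (fun v : Fin 3 => (v : ℕ) * 3 ^ i) this
  refine le_trans (Finset.card_le_card (t := (Finset.univ.image F).image g) ?_) Finset.card_image_le
  intro n hn
  obtain ⟨k, -, rfl⟩ := List.mem_map.1 (List.mem_toFinset.1 hn)
  exact Finset.mem_image.2 ⟨F (orbPerm k), Finset.mem_image.2 ⟨_, Finset.mem_univ _, rfl⟩, hg k⟩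

end CfsgLib.FischerTwoFour
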