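import Mathlib
import Cfsg.Prelude.Def_Transfer
import Cfsg.Agent.Lib.FischerTwoFour.Small
import Cfsg.Agent.Lib.DimThreeMax.AutCard
import Cfsg.Agent.Classical.SLGen
import Cfsg.Agent.Classical.SLBasic

/-!
A group acting on an elementary group of order eight as `SL(3, 2)` whose kernel maps onto the
alternating group of degree six with invariant kernel is a product modulo that kernel.
-/

set_option autoImplicit false
set_option linter.unusedSectionVars false

namespace CfsgLib.FischerTwoFour

open Matrix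

/-- `SL(3, 2)` is simple. -/
theorem sl32_simple : IsSimpleGroup (SpecialLinearGroup (Fin 3) (ZMod 2)) := by
  have hsim := Cfsg.Agent.Classical.psl_isSimpleGroup (F := ZMod 2) (ι := Fin 3) (by norm_num)
  have hc : Subgroup.center (SpecialLinearGroup (Fin 3) (ZMod 2)) = ⊥ := by
    apply Subgroup.eq_bot_of_card_eq
    rw [Cfsg.Agent.Classical.card_center_sl 3 (by norm_num), ZMod.card]
    rfl
  let e : SpecialLinearGroup (Fin 3) (ZMod 2) ≃* ProjectiveSpecialLinearGroup (Fin 3) (ZMod 2) :=
    ((QuotientGroup.quotientBot).symm).trans (QuotientGroup.quotientMulEquivOfEq hc.symm)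
  exact e.isSimpleGroup

variable {G : Type*} [Group G] [Finite G]

/-- The matrices of an action by conjugation on an elementary group of order eight. -/
theorem exists_matrix_hom {V : Subgroup G} (hV : Cfsg.IsElementaryAbelian 2 V) (h8 : Nat.card V = 8) :
    ∃ M : ↥(Subgroup.normalizer (V : Set G)) →* SpecialLinearGroup (Fin 3) (ZMod 2),
      ∀ l, M l = 1 ↔ (l : G) ∈ Subgroup.centralizer (V : Set G) := by
  classical
  set L := Subgroup.normalizer (V : Set G) with hL
  letI cg : CommGroup V := { (inferInstance : Group V) with mul_comm := hV.1.1.1 }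
  have two : ∀ x : Additive V, (2 : ℕ) • x = 0 := fun x => by
    apply Additive.toMul.injective
    rw [toMul_nsmul]
    exact Subtype.ext (hV.2 _ (Additive.toMul x).2)
  letI : Module (ZMod 2) (Additive V) := AddCommGroup.zmodModule two
  have hrank : Module.finrank (ZMod 2) (Additive V) = 3 := by
    haveI : Fintype (Additive V) := Fintype.ofFinite _
    have h := Module.card_eq_pow_finrank (K := ZMod 2) (V := Additive V)
    rw [ZMod.card, ← Nat.card_eq_fintype_card, Nat.card_congr (Additive.toMul), h8] at h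
    exact (Nat.pow_right_injective le_rfl (h.symm.trans (by norm_num : (8 : ℕ) = 2 ^ 3))).symm ▸ rfl
  let b := Module.finBasisOfFinrankEq (ZMod 2) (Additive V) hrank
  have hcl : ∀ (l : L) (x : G), x ∈ V → (l : G) * x * (l : G)⁻¹ ∈ V := fun l x hx =>
    (Subgroup.mem_normalizer_iff.1 l.2 x).1 hx
  let act : L → Additive V →+ Additive V := fun l =>
    AddMonoidHom.mk' (fun x => Additive.ofMul ⟨(l : G) * ((Additive.toMul x : V) : G) * (l : G)⁻¹,
      hcl l _ (Additive.toMul x).2⟩) fun x y => by
      apply Additive.toMul.injective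
      exact Subtype.ext (conj_mul ..).symm
  have hact : ∀ l (x : Additive V), ((Additive.toMul (act l x) : V) : G) = (l : G) * ((Additive.toMul x : V) : G) * (l : G)⁻¹ :=
    fun l x => rfl
  let E : L →* Module.End (ZMod 2) (Additive V) :=
    { toFun := fun l => (act l).toZModLinearMap 2
      map_one' := by
        refine LinearMap.ext fun x => Additive.toMul.injective (Subtype.ext ?_)
        rw [AddMonoidHom.coe_toZModLinearMap, hact, Module.End.one_apply]
        simp
      map_mul' := fun a c => by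
        refine LinearMap.ext fun x => Additive.toMul.injective (Subtype.ext ?_)
        rw [AddMonoidHom.coe_toZModLinearMap, Module.End.mul_apply, AddMonoidHom.coe_toZModLinearMap,
          AddMonoidHom.coe_toZModLinearMap, hact, hact, hact, Subgroup.coe_mul]
        group }
  have hEact : ∀ l x, E l x = act l x := fun l x => rfl
  let F : L →* Matrix (Fin 3) (Fin 3) (ZMod 2) :=
    (LinearMap.toMatrixAlgEquiv b).toMonoidHom.comp E
  have hdet : ∀ l, (F l).det = 1 := fun l => by
    have h : IsUnit (F l) := (Group.isUnit l).map F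
    rw [Matrix.isUnit_iff_isUnit_det] at h
    exact (by decide : ∀ a : ZMod 2, a ≠ 0 → a = 1) _ h.ne_zero
  refine ⟨MonoidHom.mk' (fun l => ⟨F l, hdet l⟩) fun a c => Subtype.ext (map_mul F a c), fun l => ⟨fun h => ?_, fun h => ?_⟩⟩
  · have hF : F l = 1 := congrArg Subtype.val h
    have hE : E l = 1 := (LinearMap.toMatrixAlgEquiv b).injective (hF.trans (map_one _).symm)
    refine Subgroup.mem_centralizer_iff.2 fun x hx => ?_
    have := congrArg (fun f : Module.End (ZMod 2) (Additive V) =>
      ((Additive.toMul (f (Additive.ofMul ⟨x, hx⟩)) : V) : G)) hE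
    simp only [hEact, hact, Module.End.one_apply, toMul_ofMul] at this
    exact (mul_inv_eq_iff_eq_mul.1 this).symm
  · refine Subtype.ext ?_
    show F l = 1
    have hE : E l = 1 := by
      refine LinearMap.ext fun x => Additive.toMul.injective (Subtype.ext ?_)
      rw [hEact, hact, ← Subgroup.mem_centralizer_iff.1 h _ (Additive.toMul x).2, mul_inv_cancel_right]
      rfl
    show LinearMap.toMatrixAlgEquiv b (E l) = 1
    rw [hE, map_one]

theorem conj_inner_injective : Function.Injective (MulAut.conj : A6 →* MulAut A6) := by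
  have := isSimpleGroup_A6
  rw [← MonoidHom.ker_eq_bot_iff]
  refine ((MulAut.conj : A6 →* MulAut A6).normal_ker.eq_bot_or_eq_top).resolve_right fun h => ?_
  obtain ⟨a, b, hab⟩ : ∃ a b : A6, a * b ≠ b * a := by
    by_contra hno
    push Not at hno
    let _ : CommGroup A6 := { (inferInstance : Group A6) with mul_comm := hno }
    have := IsSimpleGroup.prime_card (α := A6)
    rw [card_A6] at this
    norm_num at this
  have e : MulAut.conj a b = b := by rw [MonoidHom.mem_ker.1 (h ▸ Subgroup.mem_top a)]; rfl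
  rw [MulAut.conj_apply] at e
  exact hab (mul_inv_eq_iff_eq_mul.1 e)

/-- The structure of the quotient. -/
theorem quot_prod (L K R : Subgroup G) (hKL : K ≤ L) (hRK : R ≤ K)
    (M : L →* SpecialLinearGroup (Fin 3) (ZMod 2)) (hM : ∀ l, M l = 1 ↔ (l : G) ∈ K)
    (hcard : Nat.card L = 168 * Nat.card K) (π : K →* A6) (hπ : Function.Surjective π)
    (hR : R = π.ker.map K.subtype) (hRn : ∀ l ∈ L, ∀ r ∈ R, l * r * l⁻¹ ∈ R) :
    Function.Surjective M ∧ ∃ Ψ : L →* SpecialLinearGroup (Fin 3) (ZMod 2) × A6,
      Function.Surjective Ψ ∧ Ψ.ker = R.subgroupOf L := by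
  classical
  haveI := sl32_simple
  have hker : M.ker = K.subgroupOf L := by
    ext l; rw [MonoidHom.mem_ker, hM, Subgroup.mem_subgroupOf]
  have hMs : Function.Surjective M := by
    rw [← MonoidHom.range_eq_top]
    refine Subgroup.eq_top_of_card_eq _ ?_
    have h := Subgroup.card_eq_card_quotient_mul_card_subgroup M.ker
    rw [Nat.card_congr (QuotientGroup.quotientKerEquivRange M).toEquiv, hker,
      Nat.card_congr (Subgroup.subgroupOfEquivOfLe hKL).toEquiv, hcard] at h
    rw [CfsgLib.DimThreeMax.card_sl32]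
    exact (Nat.eq_of_mul_eq_mul_right Nat.card_pos h).symm
  refine ⟨hMs, ?_⟩
  have hKn : ∀ (l : L) (k : K), (l : G) * k * (l : G)⁻¹ ∈ K := fun l k => by
    have h : M (l * ⟨k, hKL k.2⟩ * l⁻¹) = 1 := by
      rw [map_mul, map_mul, (hM ⟨k, hKL k.2⟩).2 k.2, mul_one, ← map_mul, mul_inv_cancel, map_one]
    exact (hM _).1 h
  let cK : L → K → K := fun l k => ⟨(l : G) * k * (l : G)⁻¹, hKn l k⟩
  have cK_mul : ∀ l a b, cK l (a * b) = cK l a * cK l b := fun l a b => Subtype.ext (conj_mul ..).symm
  have cK_comp : ∀ l m a, cK (l * m) a = cK l (cK m a) := fun l m a => Subtype.ext (by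
    show ((l * m : L) : G) * a * ((l * m : L) : G)⁻¹ = (l : G) * ((m : G) * a * (m : G)⁻¹) * (l : G)⁻¹
    rw [Subgroup.coe_mul]; group)
  have cK_ker : ∀ l a, π a = 1 → π (cK l a) = 1 := fun l a ha => by
    have h : (l : G) * a * (l : G)⁻¹ ∈ R := hRn l l.2 a (hR ▸ ⟨a, ha, rfl⟩)
    rw [hR] at h
    obtain ⟨b, hb, e⟩ := h
    rw [show cK l a = b from Subtype.ext e.symm]; exact hb
  choose sec hsec using hπ
  have well : ∀ l k, π (cK l (sec (π k))) = π (cK l k) := fun l k => by
    have h := cK_ker l (k⁻¹ * sec (π k)) (by rw [map_mul, map_inv, hsec, inv_mul_cancel])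
    rw [cK_mul, map_mul] at h
    have hinv : cK l k⁻¹ = (cK l k)⁻¹ := Subtype.ext (conj_inv ..).symm
    rw [hinv, map_inv, inv_mul_eq_one] at h
    exact h.symm
  have cK_one : ∀ a, cK 1 a = a := fun a => Subtype.ext (by simp [cK])
  let Φ : L →* MulAut A6 :=
    { toFun := fun l =>
        { toFun := fun a => π (cK l (sec a))
          invFun := fun a => π (cK l⁻¹ (sec a))
          left_inv := fun a => by
            show π (cK l⁻¹ (sec (π (cK l (sec a))))) = a
            rw [well, ← cK_comp, inv_mul_cancel, cK_one, hsec]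
          right_inv := fun a => by
            show π (cK l (sec (π (cK l⁻¹ (sec a))))) = a
            rw [well, ← cK_comp, mul_inv_cancel, cK_one, hsec]
          map_mul' := fun a b => by
            show π (cK l (sec (a * b))) = π (cK l (sec a)) * π (cK l (sec b))
            conv_lhs => rw [← hsec a, ← hsec b, ← map_mul, well, cK_mul, map_mul] }
      map_one' := MulEquiv.ext fun a => by
        show π (cK 1 (sec a)) = a
        rw [cK_one, hsec]
      map_mul' := fun l m => MulEquiv.ext fun a => by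
        show π (cK (l * m) (sec a)) = π (cK l (sec (π (cK m (sec a)))))
        rw [well, cK_comp] }
  have hΦ : ∀ k : K, Φ ⟨k, hKL k.2⟩ = MulAut.conj (π k) := fun k => MulEquiv.ext fun a => by
    show π (cK ⟨k, hKL k.2⟩ (sec a)) = π k * a * (π k)⁻¹
    rw [show cK ⟨k, hKL k.2⟩ (sec a) = k * sec a * k⁻¹ from Subtype.ext rfl, map_mul, map_mul, map_inv, hsec]
  let N : Subgroup (MulAut A6) := (MulAut.conj : A6 →* MulAut A6).range
  haveI hN : N.Normal := ⟨by
    rintro _ ⟨a, rfl⟩ f
    exact ⟨f a, MulEquiv.ext fun x => by simp [MulAut.conj_apply]⟩⟩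
  have hidx : N.index = 4 := by
    have h := N.card_mul_index
    rw [← Nat.card_congr (MonoidHom.ofInjective conj_inner_injective).toEquiv, card_A6,
      CfsgLib.DimThreeMax.card_mulAut_alt_six] at h
    omega
  let θ : L →* MulAut A6 ⧸ N := (QuotientGroup.mk' N).comp Φ
  have hKθ : K.subgroupOf L ≤ θ.ker := fun l hl => by
    show QuotientGroup.mk' N (Φ l) = 1
    rw [show l = ⟨((⟨l, hl⟩ : K) : G), hKL hl⟩ from rfl, hΦ]
    exact (QuotientGroup.eq_one_iff _).2 ⟨_, rfl⟩
  have hθ : θ.ker = ⊤ := by
    rcases (Subgroup.Normal.map θ.normal_ker M hMs).eq_bot_or_eq_top with h | h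
    · exfalso
      rw [Subgroup.map_eq_bot_iff, hker] at h
      have e : θ.ker = K.subgroupOf L := le_antisymm h hKθ
      have h1 := Subgroup.card_eq_card_quotient_mul_card_subgroup θ.ker
      rw [Nat.card_congr (QuotientGroup.quotientKerEquivRange θ).toEquiv, e,
        Nat.card_congr (Subgroup.subgroupOfEquivOfLe hKL).toEquiv, hcard] at h1
      have h2 : 168 = Nat.card θ.range := Nat.eq_of_mul_eq_mul_right Nat.card_pos h1
      have h3 := Subgroup.card_subgroup_dvd_card θ.range
      rw [← h2, ← Subgroup.index_eq_card, hidx] at h3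
      norm_num at h3
    · refine eq_top_iff.2 fun l _ => ?_
      obtain ⟨j, hj, e⟩ := (h ▸ Subgroup.mem_top (M l) : M l ∈ θ.ker.map M)
      have : j⁻¹ * l ∈ θ.ker := hKθ (by rw [← hker, MonoidHom.mem_ker, map_mul, map_inv, e, inv_mul_cancel])
      simpa using mul_mem hj this
  have hinner : ∀ l, Φ l ∈ N := fun l =>
    (QuotientGroup.eq_one_iff _).1 (MonoidHom.mem_ker.1 (hθ ▸ Subgroup.mem_top l) : θ l = 1)
  let eI : A6 ≃* N := MonoidHom.ofInjective conj_inner_injective
  let π' : L →* A6 := eI.symm.toMonoidHom.comp (Φ.codRestrict N hinner)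
  have hπ' : ∀ l, MulAut.conj (π' l) = Φ l := fun l => congrArg Subtype.val (eI.apply_symm_apply ⟨Φ l, hinner l⟩)
  have hπK : ∀ k : K, π' ⟨k, hKL k.2⟩ = π k := fun k => conj_inner_injective ((hπ' _).trans (hΦ k))
  refine ⟨M.prod π', fun ⟨m, a⟩ => ?_, ?_⟩
  · obtain ⟨l, rfl⟩ := hMs m
    let k : K := sec ((π' l)⁻¹ * a)
    refine ⟨l * ⟨k, hKL k.2⟩, Prod.ext ?_ ?_⟩
    · show M (l * _) = M l
      rw [map_mul, (hM ⟨k, hKL k.2⟩).2 k.2, mul_one]
    · show π' (l * _) = a
      rw [map_mul, hπK, hsec, mul_inv_cancel_left]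
  · ext l
    rw [MonoidHom.mem_ker, Subgroup.mem_subgroupOf, MonoidHom.prod_apply, Prod.mk_eq_one]
    constructor
    · rintro ⟨h1, h2⟩
      rw [hR]
      let k : K := ⟨l, (hM l).1 h1⟩
      exact ⟨k, (hπK k).symm.trans h2, rfl⟩
    · intro h
      refine ⟨(hM l).2 (hRK h), ?_⟩
      rw [hR] at h
      obtain ⟨k, hk, e⟩ := h
      rw [show l = ⟨k, hKL k.2⟩ from Subtype.ext e.symm, hπK]
      exact hk

end CfsgLib.FischerTwoFour
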