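import Cfsg.Agent.Lib.FischerTwoFour.FourModel
import Cfsg.Agent.Lib.FischerTwoFour.Small

/-!
Facts about the fifteen pairings of six points: the orthogonals of isotropic planes of patterns, the
permutations fixing each pair, and elementary subgroups of the alternating group of degree six.
-/

set_option autoImplicit false

namespace CfsgLib.FischerTwoFour.Four

/-- The pairing with one given pair. -/
def base : Fin 15 := 0

theorem pairing_spec : ∀ j i, pairing j (pairing j i) = i ∧ pairing j i ≠ i := by decide +kernel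

theorem pairing_base : pairing base = ![1, 0, 3, 2, 5, 4] := rfl

set_option synthInstance.maxSize 1000 in
set_option synthInstance.maxHeartbeats 200000 in
theorem iso_flat : ∀ P P' : Pat, Norm P → Norm P' → P ≠ 0 → P' ≠ 0 → P ≠ P' →
    (∀ y ∈ perp2 P P', ∀ y' ∈ perp2 P P', dot y y' = 0) →
    ∃ j, perp2 P P' = Finset.univ.filter (Flat j) := by
  decide +kernel

theorem flat_sum : ∀ j y, Flat j y → ∑ i, y i = 0 := by decide +kernel

theorem flat_count : ∀ j, (Finset.univ.filter (Flat j)).card = 8 := by decide +kernel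

/-- The patterns annihilating all flat patterns of a pairing. -/
def annFlat (j : Fin 15) : Finset Pat :=
  Finset.univ.filter fun P => Norm P ∧ ∀ y, Flat j y → dot P y = 0

theorem card_annFlat : ∀ j, (annFlat j).card = 4 := by decide +kernel

/-- A permutation fixing each pair of a pairing. -/
def FixPairs (j : Fin 15) (π : A6) : Prop :=
  ∀ i, (π : Equiv.Perm (Fin 6)) i = i ∨ (π : Equiv.Perm (Fin 6)) i = pairing j i

/-- The indicator of the pair of a point. -/
def pairInd (j : Fin 15) (i : Fin 6) : Pat := fun k => if k = i ∨ k = pairing j i then 1 else 0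

theorem flat_pairInd : ∀ j i, Flat j (pairInd j i) := by decide +kernel

theorem three_out : ∀ j i, ∃ a b c, a ≠ b ∧ a ≠ c ∧ b ≠ c ∧
    pairInd j i a = 0 ∧ pairInd j i b = 0 ∧ pairInd j i c = 0 := by decide +kernel

/-- Fixing every flat pattern up to constants means fixing each pair. -/
theorem fixPairs_of (j : Fin 15) (π : A6)
    (h : ∀ y, Flat j y → ∃ c : ZMod 2, ∀ k, y ((π : Equiv.Perm (Fin 6)).symm k) = y k + c) : FixPairs j π := by
  intro i
  obtain ⟨c, hc⟩ := h _ (flat_pairInd j i)
  have hi : pairInd j i i = 1 := if_pos (Or.inl rfl)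
  rcases (by decide : ∀ c : ZMod 2, c = 0 ∨ c = 1) c with rfl | rfl
  · have e := hc ((π : Equiv.Perm (Fin 6)) i)
    rw [Equiv.symm_apply_apply, hi, add_zero] at e
    by_contra hn
    push Not at hn
    rw [pairInd, if_neg (not_or.2 hn)] at e
    exact one_ne_zero e
  · exfalso
    obtain ⟨a, b, d, hab, had, hbd, ha, hb, hd⟩ := three_out j i
    have hin : ∀ k, pairInd j i k = 0 →
        (π : Equiv.Perm (Fin 6)).symm k = i ∨ (π : Equiv.Perm (Fin 6)).symm k = pairing j i := by
      intro k hk
      have e := hc k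
      rw [hk, zero_add] at e
      by_contra hn
      rw [pairInd, if_neg hn] at e
      exact zero_ne_one e
    have hinj := (π : Equiv.Perm (Fin 6)).symm.injective
    rcases hin a ha with ea | ea <;> rcases hin b hb with eb | eb <;> rcases hin d hd with ed | ed <;>
      first
        | exact hab (hinj (ea.trans eb.symm))
        | exact had (hinj (ea.trans ed.symm))
        | exact hbd (hinj (eb.trans ed.symm))

theorem flat_of_fixPairs {j : Fin 15} {π : A6} (h : FixPairs j π) {y : Pat} (hy : Flat j y) (k : Fin 6) :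
    y ((π : Equiv.Perm (Fin 6)).symm k) = y k := by
  obtain ⟨i, rfl⟩ := (π : Equiv.Perm (Fin 6)).surjective k
  rw [Equiv.symm_apply_apply]
  rcases h i with e | e <;> rw [e]
  exact (hy i).symm

/-- Representatives of the pairs. -/
def firstPt (j : Fin 15) : Finset (Fin 6) := Finset.univ.filter fun i => i < pairing j i

/-- The double transposition avoiding the pair of a point, as a permutation. -/
def dperm (j : Fin 15) (a : Fin 6) : Equiv.Perm (Fin 6) where
  toFun := dtr j a
  invFun := dtr j a
  left_inv := by revert j a; decide +kernel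
  right_inv := by revert j a; decide +kernel

theorem sign_dperm : ∀ j a, Equiv.Perm.sign (dperm j a) = 1 := by decide +kernel

/-- The double transpositions of a pairing. -/
def dA (j : Fin 15) (a : Fin 6) : A6 := ⟨dperm j a, Equiv.Perm.mem_alternatingGroup.2 (sign_dperm j a)⟩

theorem dA_apply (j : Fin 15) (a i : Fin 6) : (dA j a : Equiv.Perm (Fin 6)) i = dtr j a i := rfl

theorem fixPairs_dA : ∀ j a i, dtr j a i = i ∨ dtr j a i = pairing j i := by decide +kernel

theorem perm_split : ∀ (j : Fin 15) (π : Equiv.Perm (Fin 6)), (∀ i, π i = i ∨ π i = pairing j i) →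
    Equiv.Perm.sign π = 1 → π = 1 ∨ ∃ a, π = dperm j a := by
  decide +kernel

theorem fixPairs_cases {j : Fin 15} {π : A6} (h : FixPairs j π) : π = 1 ∨ ∃ a, π = dA j a := by
  rcases perm_split j π h (Equiv.Perm.mem_alternatingGroup.1 π.2) with e | ⟨a, e⟩
  · exact Or.inl (Subtype.ext e)
  · exact Or.inr ⟨a, Subtype.ext e⟩

theorem card_fixPairs_le (j : Fin 15) (s : Finset A6) (hs : ∀ π ∈ s, FixPairs j π) : s.card ≤ 4 := by
  classical
  have : s ⊆ insert 1 ((firstPt j).image (dA j)) := by
    intro π hπ
    rcases fixPairs_cases (hs π hπ) with e | ⟨a, e⟩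
    · exact Finset.mem_insert.2 (Or.inl e)
    · refine Finset.mem_insert.2 (Or.inr (Finset.mem_image.2 ?_))
      obtain ⟨b, hb, hab⟩ := (by decide +kernel : ∀ j a, ∃ b, b ∈ firstPt j ∧ ∀ i, dtr j b i = dtr j a i) j a
      exact ⟨b, hb, e ▸ Subtype.ext (Equiv.ext hab)⟩
  refine (Finset.card_le_card this).trans ((Finset.card_insert_le _ _).trans ?_)
  have h3 := (by decide +kernel : ∀ j, (firstPt j).card = 3) j
  have := Finset.card_image_le (s := firstPt j) (f := dA j)
  omega

theorem dperm_apart : ∀ j j', j ≠ j' → ∃ a b, (dperm j a * dperm j' b) ^ 4 ≠ 1 := by decide +kernel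

theorem orderOf_four : ∃ a : A6, orderOf a = 4 := by
  let σ : Equiv.Perm (Fin 6) := Equiv.swap 0 1 * Equiv.swap 1 2 * Equiv.swap 2 3 * Equiv.swap 4 5
  have hs : Equiv.Perm.sign σ = 1 := by decide +kernel
  let a : A6 := ⟨σ, Equiv.Perm.mem_alternatingGroup.2 hs⟩
  refine ⟨a, ?_⟩
  have : Fact (Nat.Prime 2) := ⟨Nat.prime_two⟩
  refine orderOf_eq_prime_pow (p := 2) (n := 1) (fun e => ?_) (Subtype.ext ?_)
  · have h : σ ^ (2 ^ 1) = 1 := congrArg Subtype.val e
    exact absurd h (by decide +kernel)
  · show σ ^ (2 ^ (1 + 1)) = 1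
    decide +kernel

end CfsgLib.FischerTwoFour.Four
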