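import Cfsg.Agent.Lib.FischerTwoFour.Coord
import Cfsg.Agent.Lib.FischerTwoFour.Flat

/-!
The stabiliser of the base vector is the product of the group of transvection type and the permutations;
what the patterns fix; elementary subgroups of the alternating group of degree six.
-/

set_option autoImplicit false
set_option linter.unusedSectionVars false

namespace CfsgLib.FischerTwoFour

open Four

/-- An elementary abelian `2`-subgroup of `A₆` has order at most four. -/
theorem elem_A6_le (B : Subgroup A6) (h2 : ∀ b ∈ B, b * b = 1) : Nat.card B ≤ 4 := by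
  have : Fact (Nat.Prime 2) := ⟨Nat.prime_two⟩
  have hB : IsPGroup 2 B := fun b => ⟨1, Subtype.ext (by
    show (b : A6) ^ (2 ^ 1) = 1
    rw [pow_one, sq]; exact h2 b b.2)⟩
  obtain ⟨n, hn⟩ := hB.exists_card_eq
  have hd : Nat.card B ∣ 360 := card_A6 ▸ Subgroup.card_subgroup_dvd_card B
  by_contra hgt
  push Not at hgt
  have hn3 : n ≤ 3 := by
    by_contra h'
    push Not at h'
    have h16 : 2 ^ 4 ∣ 360 := (pow_dvd_pow 2 h').trans (hn ▸ hd)
    norm_num at h16
  have hn' : n = 3 := by
    by_contra h'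
    have : n ≤ 2 := by omega
    have := Nat.pow_le_pow_right (by norm_num : 0 < 2) this
    rw [hn] at hgt
    omega
  obtain ⟨a, ha⟩ := orderOf_four
  have hz : IsPGroup 2 (Subgroup.zpowers a) := IsPGroup.of_card (n := 2) (by rw [Nat.card_zpowers, ha]; rfl)
  obtain ⟨P, hP⟩ := hz.exists_le_sylow
  obtain ⟨P', hP'⟩ := hB.exists_le_sylow
  have hc : ∀ P : Sylow 2 A6, Nat.card P = 8 := by
    intro P
    rw [Sylow.card_eq_multiplicity, card_A6, show (360 : ℕ) = 2 ^ 3 * 45 by norm_num]
    rw [Nat.factorization_mul (by norm_num) (by norm_num), Nat.Prime.factorization_pow Nat.prime_two,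
      Finsupp.add_apply, Finsupp.single_eq_same, Nat.factorization_eq_zero_of_not_dvd (by norm_num : ¬ 2 ∣ 45)]
    norm_num
  have heq : B = (P' : Subgroup A6) :=
    Subgroup.eq_of_le_of_card_ge hP' (by rw [hn, hn']; exact (hc P').le)
  obtain ⟨g, hg⟩ := MulAction.exists_smul_eq A6 P' P
  have haP : a ∈ (P : Subgroup A6) := hP (Subgroup.mem_zpowers a)
  rw [← hg, Sylow.coe_subgroup_smul, Subgroup.mem_pointwise_smul_iff_inv_smul_mem, MulAut.inv_def,
    ← heq] at haP
  have h1 := h2 _ haP
  rw [MulAut.smul_def, ← map_mul] at h1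
  have h1' : a * a = 1 := (MulAut.conj g).symm.injective (h1.trans (map_one _).symm)
  have := orderOf_dvd_of_pow_eq_one (show a ^ 2 = 1 by rw [sq]; exact h1')
  rw [ha] at this
  norm_num at this

/-- The bits of a vector. -/
def bits (x : Vec) : Pat × Pat := (fun i => (x i).1, fun i => (x i).2)

theorem bits_injective : Function.Injective bits := fun x y e => funext fun i =>
  Prod.ext (congrFun (congrArg Prod.fst e) i) (congrFun (congrArg Prod.snd e) i)

namespace Co

variable {H V : Type*} [Group H] [Finite H] [AddCommGroup V] {R : QRep H V} (K : Co R)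

theorem p_injective : Function.Injective K.p := by
  rw [injective_iff_map_eq_one]
  intro π hπ
  refine Subtype.ext (Equiv.ext fun i => ?_)
  show (π : Equiv.Perm (Fin 6)) i = i
  have h := congrFun (K.img_p π (one1 i one)) ((π : Equiv.Perm (Fin 6)) i)
  rw [hπ, K.img_eq (R.one_apply _), Equiv.symm_apply_apply] at h
  simp only [one1, Pi.single_apply, if_true] at h
  by_contra hne
  rw [if_neg hne] at h
  exact absurd h (by decide)

theorem p_mem_S {π : A6} (h : K.p π ∈ K.S) : π = 1 := by
  obtain ⟨μ, hμ, -, hall⟩ := K.exists_pattern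
  have hD : K.D (K.p π) = one1 ((π : Equiv.Perm (Fin 6)) 2) one + one1 2 one := by
    rw [D, K.img_p]
    congr 1
    funext i
    simp only [one1, Pi.single_apply, Equiv.symm_apply_eq]
  by_cases h2 : (π : Equiv.Perm (Fin 6)) 2 = 2
  · refine K.p_injective ?_
    rw [map_one]
    exact K.D_injective h (one_mem _) (by rw [hD, h2, Four.vec_add_self, K.D_one])
  · exfalso
    obtain ⟨k, hk1, hk2⟩ := (by decide : ∀ a : Fin 6, ∃ k, k ≠ a ∧ k ≠ 2) ((π : Equiv.Perm (Fin 6)) 2)
    have e := congrFun (hall _ h).2 k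
    rw [hD] at e
    simp only [patV, Pi.add_apply, cst, one1, Pi.single_apply, hk1, hk2, if_false, h2, Ne.symm h2,
      if_true, add_zero, zero_add] at e
    split_ifs at e
    · rcases hμ with rfl | rfl <;> exact absurd e (by decide)
    · exact absurd e (by decide)

/-- The full stabiliser hypothesis. -/
def StabCard : Prop := Nat.card (R.stab K.v) = 360 * Nat.card K.S

theorem decomp (hst : K.StabCard) {h : H} (hh : R.ρ h K.v = K.v) : ∃ s ∈ K.S, ∃ π, h = s * K.p π := by
  let f : K.S × A6 → R.stab K.v := fun a => ⟨(a.1 : H) * K.p a.2, by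
    show R.ρ ((a.1 : H) * K.p a.2) K.v = K.v
    rw [R.mul_apply, K.p_fix, a.1.2.1]⟩
  have hf : Function.Injective f := by
    rintro ⟨⟨s, hs⟩, π⟩ ⟨⟨s', hs'⟩, π'⟩ e
    have e' : s * K.p π = s' * K.p π' := congrArg Subtype.val e
    have hm : K.p (π * π'⁻¹) ∈ K.S := by
      rw [map_mul, map_inv, show K.p π * (K.p π')⁻¹ = s⁻¹ * s' by
        rw [eq_inv_mul_iff_mul_eq, ← _root_.mul_assoc, e', mul_inv_cancel_right]]
      exact mul_mem (inv_mem hs) hs'
    obtain rfl : π = π' := mul_inv_eq_one.1 (K.p_mem_S hm)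
    obtain rfl : s = s' := mul_right_cancel e'
    rfl
  have hb : Function.Bijective f := (Nat.bijective_iff_injective_and_card f).2 ⟨hf, by
    rw [Nat.card_prod, card_A6, hst, _root_.mul_comm]⟩
  obtain ⟨⟨⟨s, hs⟩, π⟩, e⟩ := hb.2 ⟨h, hh⟩
  exact ⟨s, hs, π, (congrArg Subtype.val e).symm⟩

theorem decomp_unique {s s' : H} (hs : s ∈ K.S) (hs' : s' ∈ K.S) {π π' : A6}
    (e : s * K.p π = s' * K.p π') : π = π' := by
  refine mul_inv_eq_one.1 (K.p_mem_S ?_)
  rw [map_mul, map_inv, show K.p π * (K.p π')⁻¹ = s⁻¹ * s' by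
    rw [eq_inv_mul_iff_mul_eq, ← _root_.mul_assoc, e, mul_inv_cancel_right]]
  exact mul_mem (inv_mem hs) hs'

/-- The permutation of a stabilising element. -/
noncomputable def projFun (hst : K.StabCard) (h : R.stab K.v) : A6 := (K.decomp hst h.2).choose_spec.2.choose

theorem projFun_eq (hst : K.StabCard) (h : R.stab K.v) {s : H} (hs : s ∈ K.S) {π : A6}
    (e : (h : H) = s * K.p π) : K.projFun hst h = π :=
  K.decomp_unique (K.decomp hst h.2).choose_spec.1 hs ((K.decomp hst h.2).choose_spec.2.choose_spec.symm.trans e)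

/-- The projection to the permutations. -/
noncomputable def proj (hst : K.StabCard) : R.stab K.v →* A6 :=
  MonoidHom.mk' (K.projFun hst) fun a b => by
    obtain ⟨s, hs, π, ea⟩ := K.decomp hst a.2
    obtain ⟨s', hs', π', eb⟩ := K.decomp hst b.2
    rw [K.projFun_eq hst a hs ea, K.projFun_eq hst b hs' eb]
    refine K.projFun_eq hst (a * b) (mul_mem hs (K.conj_mem hs' (K.p_fix π))) ?_
    rw [Subgroup.coe_mul, ea, eb, map_mul]
    group

theorem proj_spec (hst : K.StabCard) (h : R.stab K.v) :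
    ∃ s ∈ K.S, (h : H) = s * K.p (K.proj hst h) := by
  obtain ⟨s, hs, π, e⟩ := K.decomp hst h.2
  exact ⟨s, hs, by rw [e]; congr 2; exact (K.projFun_eq hst h hs e).symm⟩

theorem proj_ker (hst : K.StabCard) (h : R.stab K.v) (h1 : K.proj hst h = 1) : (h : H) ∈ K.S := by
  obtain ⟨s, hs, e⟩ := K.proj_spec hst h
  rw [e, h1, map_one, _root_.mul_one]; exact hs

theorem proj_p (hst : K.StabCard) {π : A6} : K.proj hst ⟨K.p π, K.p_fix π⟩ = π :=
  K.projFun_eq hst _ (one_mem _) (_root_.one_mul _).symm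

/-- On sum-zero vectors a stabilising element is a permutation up to constants. -/
theorem img_stab (hst : K.StabCard) (h : R.stab K.v) {x : Vec} (hx : sig x = 0) :
    ∃ c, K.img h x = (fun i => x ((K.proj hst h : Equiv.Perm (Fin 6)).symm i)) + cst c := by
  obtain ⟨s, hs, e⟩ := K.proj_spec hst h
  rw [e, K.img_mul, K.img_p]
  refine ⟨_, K.img_sum_zero hs ?_⟩
  rw [← hx]
  exact Equiv.sum_comp (K.proj hst h : Equiv.Perm (Fin 6)).symm x

theorem patOf_mul {μ : K4} (hμ : μ ≠ 0)
    (hall : ∀ h ∈ K.S, Norm (K.patOf μ h) ∧ K.D h = patV μ (K.patOf μ h) + cst (K.D h 2))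
    {a b : H} (ha : a ∈ K.S) (hb : b ∈ K.S) : K.patOf μ (a * b) = K.patOf μ a + K.patOf μ b := by
  funext i
  obtain ⟨c, hc⟩ := K.D_mul ha hb
  have h1 : ∀ h ∈ K.S, K.D h i + K.D h 2 = 0 ∨ K.D h i + K.D h 2 = μ := fun h hh => by
    rw [(hall h hh).2]
    simp only [patV, Pi.add_apply, cst, (hall h hh).1.1, if_neg zero_ne_one, zero_add]
    split_ifs
    · exact Or.inr (by rw [add_assoc, Four.add_self, add_zero])
    · exact Or.inl (by rw [zero_add, Four.add_self])
  simp only [patOf, Pi.add_apply]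
  have e : K.D (a * b) i + K.D (a * b) 2 = (K.D a i + K.D a 2) + (K.D b i + K.D b 2) := by
    rw [hc]
    exact (by decide +kernel : ∀ p q r s c : K4, p + q + c + (r + s + c) = (p + r) + (q + s)) _ _ _ _ _
  rw [e]
  exact (by decide : ∀ μ u w : K4, μ ≠ 0 → (u = 0 ∨ u = μ) → (w = 0 ∨ w = μ) →
    (if u + w = μ then (1 : ZMod 2) else 0) = (if u = μ then 1 else 0) + (if w = μ then 1 else 0))
    μ _ _ hμ (h1 a ha) (h1 b hb)

theorem eq_one_of_patOf {μ : K4}
    (hall : ∀ h ∈ K.S, Norm (K.patOf μ h) ∧ K.D h = patV μ (K.patOf μ h) + cst (K.D h 2))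
    {h : H} (hh : h ∈ K.S) (h0 : K.patOf μ h = 0) : h = 1 := by
  refine K.D_eq_cst hh (γ := K.D h 2) ?_
  have e := (hall h hh).2
  rw [h0] at e
  refine e.trans ?_
  funext i
  simp [patV]

/-- The fixed vectors of an element with nonzero pattern are orthogonal to it. -/
theorem fixed_perp {μ : K4} (hμ : μ ≠ 0)
    (hall : ∀ h ∈ K.S, Norm (K.patOf μ h) ∧ K.D h = patV μ (K.patOf μ h) + cst (K.D h 2))
    {h : H} (hh : h ∈ K.S) (h0 : K.patOf μ h ≠ 0) {x : Vec} (hx : R.ρ h (K.e x) = K.e x) :
    sig x = 0 ∧ perp (K.patOf μ h) (bits x).1 ∧ perp (K.patOf μ h) (bits x).2 := by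
  have hD := (hall h hh).2
  have e := K.img_eq hx
  rw [K.img_S hh, act, add_assoc, add_eq_left] at e
  have hs : sig x = 0 := by
    by_contra hs
    refine h0 (funext fun i => ?_)
    have ei := congrFun e i
    have e2 := congrFun e 2
    simp only [Pi.add_apply, Pi.zero_apply, cst] at ei e2
    have : K.D h i = K.D h 2 := (by decide +kernel : ∀ s a b c : K4, s ≠ 0 → mul s a + c = 0 →
      mul s b + c = 0 → a = b) _ _ _ _ hs ei e2
    show (if K.D h i + K.D h 2 = μ then (1 : ZMod 2) else 0) = 0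
    rw [this, Four.add_self, if_neg (Ne.symm hμ)]
  refine ⟨hs, ?_⟩
  have e0 := congrFun e 0
  simp only [Pi.add_apply, Pi.zero_apply, cst, hs, Four.zero_mul, zero_add,
    show x + one1 2 0 = x by rw [one1, Pi.single_zero, add_zero]] at e0
  set P := K.patOf μ h
  have hherm : herm x (K.D h) = mul (∑ i, if P i = 1 then x i else 0) (cj μ) + mul (sig x) (cj (K.D h 2)) := by
    show ∑ i, mul (x i) (cj (K.D h i)) = AddMonoidHom.mk' (fun c => mul c (cj μ)) (fun a b => add_mul a b _)
      (∑ i, if P i = 1 then x i else 0) + AddMonoidHom.mk' (fun c => mul c (cj (K.D h 2))) (fun a b => add_mul a b _) (∑ i, x i)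
    rw [map_sum, map_sum, ← Finset.sum_add_distrib]
    refine Finset.sum_congr rfl fun i _ => ?_
    conv_lhs => rw [hD]
    simp only [patV, Pi.add_apply, cst, AddMonoidHom.mk'_apply]
    split_ifs
    · exact (by decide +kernel : ∀ a m c : K4, mul a (cj (m + c)) = mul a (cj m) + mul a (cj c)) _ _ _
    · rw [zero_add, Four.zero_mul, zero_add]
  rw [hherm, hs, Four.zero_mul, add_zero] at e0
  have h0' : (∑ i, if P i = 1 then x i else 0) = 0 :=
    (Four.eq_zero_of_mul e0).resolve_right fun e => hμ ((by decide : ∀ m : K4, cj m = 0 → m = 0) μ e)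
  constructor
  · refine ⟨?_, ?_⟩
    · have := congrArg Prod.fst hs
      rwa [sig, Prod.fst_sum] at this
    · have := congrArg Prod.fst h0'
      rw [Prod.fst_sum] at this
      refine Eq.trans (Finset.sum_congr rfl fun i _ => ?_) this
      rcases (by decide : ∀ p : ZMod 2, p = 0 ∨ p = 1) (P i) with e | e <;> simp [e, bits]
  · refine ⟨?_, ?_⟩
    · have := congrArg Prod.snd hs
      rwa [sig, Prod.snd_sum] at this
    · have := congrArg Prod.snd h0'
      rw [Prod.snd_sum] at this
      refine Eq.trans (Finset.sum_congr rfl fun i _ => ?_) this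
      rcases (by decide : ∀ p : ZMod 2, p = 0 ∨ p = 1) (P i) with e | e <;> simp [e, bits]

end Co

end CfsgLib.FischerTwoFour
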