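import Cfsg.Agent.Lib.FischerTwoFour.Geo
import Cfsg.Agent.Lib.FischerTwoFour.Proj

/-!
Elementary subgroups of the stabiliser with the singular vectors they fix: the product of the orders is
at most `1024`, with equality only for the subgroup fixing the vectors constant on the pairs of a pairing.
-/

set_option autoImplicit false
set_option linter.unusedSectionVars false

universe u

namespace CfsgLib.FischerTwoFour

open Four

variable {C : Type u} [Group C] [Finite C] {Q : Subgroup C} [Q.Normal] {S : Shape Q} (G : Geo S)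

/-- Vectors constant on the pairs of a pairing. -/
def IsFlat (j : Fin 15) (x : Vec) : Prop := ∀ i, x (pairing j i) = x i

theorem flat_bits {j : Fin 15} {x : Vec} : IsFlat j x ↔ Flat j (bits x).1 ∧ Flat j (bits x).2 :=
  ⟨fun h => ⟨fun i => congrArg Prod.fst (h i), fun i => congrArg Prod.snd (h i)⟩,
    fun h i => Prod.ext (h.1 i) (h.2 i)⟩

theorem IsFlat.sum_zero {j : Fin 15} {x : Vec} (h : IsFlat j x) : sig x = 0 := by
  obtain ⟨h1, h2⟩ := flat_bits.1 h
  refine Prod.ext ?_ ?_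
  · rw [sig, Prod.fst_sum]; exact flat_sum j _ h1
  · rw [sig, Prod.snd_sum]; exact flat_sum j _ h2

theorem card_flat (j : Fin 15) : Nat.card {x : Vec // IsFlat j x} = 64 := by
  let e : {x : Vec // IsFlat j x} ≃ {y : Pat // Flat j y} × {y : Pat // Flat j y} :=
    { toFun := fun x => (⟨_, (flat_bits.1 x.2).1⟩, ⟨_, (flat_bits.1 x.2).2⟩)
      invFun := fun y => ⟨fun i => (y.1.1 i, y.2.1 i), flat_bits.2 ⟨y.1.2, y.2.2⟩⟩
      left_inv := fun x => rfl
      right_inv := fun y => rfl }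
  rw [Nat.card_congr e, Nat.card_prod, Nat.card_eq_fintype_card, Fintype.card_subtype, flat_count]

namespace Geo

/-- The subgroup of `M / Q` fixing the flat vectors of a pairing. -/
noncomputable def flatStab (j : Fin 15) : Subgroup (C ⧸ Q) where
  carrier := {h | h ∈ G.Mb ∧ ∀ x, IsFlat j x → S.rep.ρ h (G.K.e x) = G.K.e x}
  one_mem' := ⟨one_mem _, fun x _ => S.rep.one_apply _⟩
  mul_mem' {a b} ha hb := ⟨mul_mem ha.1 hb.1, fun x hx => by rw [S.rep.mul_apply, hb.2 x hx, ha.2 x hx]⟩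
  inv_mem' {a} ha := ⟨inv_mem ha.1, fun x hx => by
    conv_lhs => rw [← ha.2 x hx]
    exact S.rep.inv_apply a _⟩

theorem stabCard : G.K.StabCard := by
  show Nat.card ((S.rep.sub G.Mb).stab G.K.v) = 360 * Nat.card G.K.S
  rw [G.card_stab, G.card_S]

theorem flat_cst (j : Fin 15) (a : K4) : IsFlat j (cst a) := fun _ => rfl

theorem flatStab_fix {j : Fin 15} {h : C ⧸ Q} (hh : h ∈ G.flatStab j) : S.rep.ρ h G.K.v = G.K.v :=
  hh.2 _ (flat_cst j one)

/-- An element of `flatStab` as an element of the stabiliser. -/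
def toStab {j : Fin 15} (h : G.flatStab j) : (S.rep.sub G.Mb).stab G.K.v :=
  ⟨⟨h.1, h.2.1⟩, G.flatStab_fix h.2⟩

theorem card_flatStab_le (j : Fin 15) : Nat.card (G.flatStab j) ≤ 16 := by
  classical
  obtain ⟨μ, hμ, -, hall⟩ := G.K.exists_pattern
  have hμ0 : μ ≠ 0 := by rcases hμ with rfl | rfl <;> decide
  let f : G.flatStab j →* A6 := MonoidHom.mk' (fun h => G.K.proj G.stabCard (G.toStab h)) fun a b => by
    rw [← map_mul]; rfl
  have hr : Nat.card f.range ≤ 4 := by
    have : Fintype f.range := Fintype.ofFinite _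
    rw [Nat.card_eq_fintype_card]
    refine le_trans (le_of_eq (Finset.card_map ⟨Subtype.val, Subtype.val_injective⟩).symm)
      (card_fixPairs_le j (Finset.univ.map ⟨Subtype.val, Subtype.val_injective⟩) ?_)
    intro π hπ
    obtain ⟨⟨_, h, rfl⟩, -, rfl⟩ := Finset.mem_map.1 hπ
    refine fixPairs_of j _ fun y hy => ?_
    let x : Vec := fun i => (y i, 0)
    have hx : IsFlat j x := fun i => Prod.ext (hy i) rfl
    obtain ⟨c, hc⟩ := G.K.img_stab G.stabCard (G.toStab h) hx.sum_zero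
    rw [G.K.img_eq (h.2.2 x hx)] at hc
    refine ⟨c.1, fun k => ?_⟩
    have e := congrArg Prod.fst (congrFun hc k)
    show y (((f h : A6) : Equiv.Perm (Fin 6)).symm k) = y k + c.1
    simp only [Pi.add_apply, cst, Prod.fst_add, x] at e
    rw [e]
    exact ((by decide : ∀ a b : ZMod 2, a = a + b + b) _ _)
  have hk : Nat.card f.ker ≤ 4 := by
    let g : f.ker → annFlat j := fun h => ⟨G.K.patOf μ ⟨h.1.1, h.1.2.1⟩, by
      have hS : (⟨h.1.1, h.1.2.1⟩ : G.Mb) ∈ G.K.S := G.K.proj_ker G.stabCard (G.toStab h.1) h.2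
      refine Finset.mem_filter.2 ⟨Finset.mem_univ _, (hall _ hS).1, fun y hy => ?_⟩
      by_cases h0 : G.K.patOf μ ⟨h.1.1, h.1.2.1⟩ = 0
      · rw [h0]; simp [dot]
      · exact (G.K.fixed_perp hμ0 hall hS h0 (x := fun i => (y i, 0)) (h.1.2.2 _ fun i => Prod.ext (hy i) rfl)).2.1.2⟩
    have hg : Function.Injective g := by
      intro a b e
      have e' : G.K.patOf μ ⟨a.1.1, a.1.2.1⟩ = G.K.patOf μ ⟨b.1.1, b.1.2.1⟩ := congrArg Subtype.val e
      have ha : (⟨a.1.1, a.1.2.1⟩ : G.Mb) ∈ G.K.S := G.K.proj_ker G.stabCard (G.toStab a.1) a.2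
      have hb : (⟨b.1.1, b.1.2.1⟩ : G.Mb) ∈ G.K.S := G.K.proj_ker G.stabCard (G.toStab b.1) b.2
      set a' : G.Mb := ⟨a.1.1, a.1.2.1⟩
      set b' : G.Mb := ⟨b.1.1, b.1.2.1⟩
      have hab : G.K.patOf μ (a'⁻¹ * b') = 0 := by
        have h1 := G.K.patOf_mul hμ0 hall (inv_mem ha) ha
        rw [inv_mul_cancel] at h1
        have h0 : G.K.patOf μ (1 : G.Mb) = 0 := by
          funext i
          show (if _ then (1 : ZMod 2) else 0) = 0
          rw [G.K.D_one, if_neg]
          simpa using Ne.symm hμ0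
        rw [G.K.patOf_mul hμ0 hall (inv_mem ha) hb, ← e', ← h1, h0]
      have := inv_mul_eq_one.1 (G.K.eq_one_of_patOf hall (mul_mem (inv_mem ha) hb) hab)
      exact Subtype.ext (Subtype.ext (congrArg (fun m : G.Mb => (m : C ⧸ Q)) this))
    refine (Nat.card_le_card_of_injective g hg).trans ?_
    rw [Nat.card_eq_fintype_card, Fintype.card_coe, card_annFlat]
  rw [Subgroup.card_eq_card_quotient_mul_card_subgroup f.ker,
    Nat.card_congr (QuotientGroup.quotientKerEquivRange f).toEquiv]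
  exact le_trans (Nat.mul_le_mul hr hk) (by norm_num)

theorem t_fix {h : C ⧸ Q} (hm : h ∈ G.Mb) {u : VQ Q} (hu : S.rep.ρ h u = u) :
    S.rep.ρ h (S.rep.ρ (G.K.t : C ⧸ Q) u) = S.rep.ρ (G.K.t : C ⧸ Q) u := by
  rw [← S.rep.mul_apply, show h * (G.K.t : C ⧸ Q) = (G.K.t : C ⧸ Q) * h from
    congrArg Subtype.val (G.K.t_comm ⟨h, hm⟩), S.rep.mul_apply, hu]

/-- The main bound. -/
theorem elementary_bound (A : Subgroup (C ⧸ Q)) (hA2 : ∀ a ∈ A, a * a = 1)
    (hAv : ∀ a ∈ A, S.rep.ρ a G.K.v = G.K.v) (L : AddSubgroup (VQ Q)) (hL : Nat.card L ≤ 64)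
    (hiso : ∀ a ∈ L, ∀ b ∈ L, S.rep.b a b = 0) (hfix : ∀ a ∈ A, ∀ u ∈ L, S.rep.ρ a u = u) :
    Nat.card A * Nat.card L ≤ 1024 ∧ (Nat.card A * Nat.card L = 1024 →
      ∃ j, A = G.flatStab j ∧ Nat.card A = 16 ∧ ∀ u, u ∈ L ↔ ∃ x, IsFlat j x ∧ G.K.e x = u) := by
  classical
  obtain ⟨μ, hμ, -, hall⟩ := G.K.exists_pattern
  have hμ0 : μ ≠ 0 := by rcases hμ with rfl | rfl <;> decide
  -- the part in `M / Q`
  let Am : Subgroup G.Mb := A.subgroupOf G.Mb
  have hAmstab : ∀ m : Am, (S.rep.sub G.Mb).ρ (m : G.Mb) G.K.v = G.K.v := fun m => hAv _ m.2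
  let f : Am →* A6 := MonoidHom.mk' (fun m => G.K.proj G.stabCard ⟨m.1, hAmstab m⟩) fun a b => by
    rw [← map_mul]; rfl
  have hr : Nat.card f.range ≤ 4 := by
    refine elem_A6_le _ ?_
    rintro _ ⟨m, rfl⟩
    rw [← map_mul, show m * m = 1 from Subtype.ext (Subtype.ext (hA2 _ m.2)), map_one]
  have hkS : ∀ m : f.ker, ((m : Am) : G.Mb) ∈ G.K.S := fun m =>
    G.K.proj_ker G.stabCard ⟨_, hAmstab m.1⟩ m.2
  let P : Finset Pat := Finset.univ.filter fun y => ∃ m : f.ker, G.K.patOf μ ((m : Am) : G.Mb) = y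
  have hP : ∀ y, y ∈ P ↔ ∃ m : f.ker, G.K.patOf μ ((m : Am) : G.Mb) = y := fun y => by simp [P]
  have hPnorm : ∀ y ∈ P, Norm y := fun y hy => by
    obtain ⟨m, rfl⟩ := (hP y).1 hy
    exact (hall _ (hkS m)).1
  have hPadd : ∀ y ∈ P, ∀ y' ∈ P, y + y' ∈ P := fun y hy y' hy' => by
    obtain ⟨m, rfl⟩ := (hP y).1 hy
    obtain ⟨m', rfl⟩ := (hP y').1 hy'
    exact (hP _).2 ⟨m * m', G.K.patOf_mul hμ0 hall (hkS m) (hkS m')⟩
  have hPinj : Function.Injective fun m : f.ker => G.K.patOf μ ((m : Am) : G.Mb) := by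
    intro a b e
    have h1 := G.K.patOf_mul hμ0 hall (hkS a⁻¹) (hkS a)
    have h2 := G.K.patOf_mul hμ0 hall (hkS a⁻¹) (hkS b)
    have h0 : G.K.patOf μ (1 : G.Mb) = 0 := by
      funext i
      show (if _ then (1 : ZMod 2) else 0) = 0
      rw [G.K.D_one, if_neg]
      simpa using Ne.symm hμ0
    have hzero : G.K.patOf μ (((a⁻¹ * b : f.ker) : Am) : G.Mb) = 0 := by
      show G.K.patOf μ ((((a⁻¹ : f.ker) : Am) : G.Mb) * ((b : Am) : G.Mb)) = 0
      have e' : G.K.patOf μ ((a : Am) : G.Mb) = G.K.patOf μ ((b : Am) : G.Mb) := e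
      rw [h2, ← e', ← h1]
      show G.K.patOf μ (((a⁻¹ * a : f.ker) : Am) : G.Mb) = 0
      rw [inv_mul_cancel]
      exact h0
    exact inv_mul_eq_one.1 (Subtype.ext (Subtype.ext (G.K.eq_one_of_patOf hall (hkS (a⁻¹ * b)) hzero)))
  have hPcard : P.card = Nat.card f.ker := by
    have : Fintype f.ker := Fintype.ofFinite _
    rw [Nat.card_eq_fintype_card, ← Finset.card_univ, ← Finset.card_image_of_injective _ hPinj]
    refine congrArg Finset.card ?_
    ext y
    simp [hP]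
  have h0P : (0 : Pat) ∈ P := (hP 0).2 ⟨1, by
    funext i
    show (if _ then (1 : ZMod 2) else 0) = 0
    rw [show (((1 : f.ker) : Am) : G.Mb) = 1 from rfl, G.K.D_one, if_neg]
    simpa using Ne.symm hμ0⟩
  have hAm : Nat.card Am = Nat.card f.range * P.card := by
    rw [hPcard, Subgroup.card_eq_card_quotient_mul_card_subgroup f.ker,
      Nat.card_congr (QuotientGroup.quotientKerEquivRange f).toEquiv]
  have hAle : Nat.card A ≤ 2 * Nat.card Am := by
    have hn : G.Mb.Normal := Subgroup.normal_of_index_eq_two G.index_Mb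
    have hm := Subgroup.card_mul_index ((A ⊓ G.Mb).subgroupOf A)
    rw [Nat.card_congr (Subgroup.subgroupOfEquivOfLe (inf_le_left : A ⊓ G.Mb ≤ A)).toEquiv] at hm
    have hx : ((A ⊓ G.Mb).subgroupOf A).index ≤ 2 := by
      show (A ⊓ G.Mb).relIndex A ≤ 2
      rw [Subgroup.inf_relIndex_left]
      exact Nat.le_of_dvd (by norm_num) (G.index_Mb ▸ Subgroup.relIndex_dvd_index_of_normal G.Mb A)
    have hEm : Nat.card Am = Nat.card ↥(A ⊓ G.Mb) := by
      show Nat.card (A.subgroupOf G.Mb) = _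
      rw [← Subgroup.inf_subgroupOf_right A G.Mb]
      exact Nat.card_congr (Subgroup.subgroupOfEquivOfLe inf_le_right).toEquiv
    rw [hEm]
    nlinarith
  -- what the part in `M / Q` fixes
  let Fx : Finset Vec := Finset.univ.filter fun x =>
    ∀ y ∈ P, y ≠ 0 → sig x = 0 ∧ perp y (bits x).1 ∧ perp y (bits x).2
  have hfixed : ∀ x : Vec, (∀ m : Am, S.rep.ρ ((m : G.Mb) : C ⧸ Q) (G.K.e x) = G.K.e x) → x ∈ Fx := by
    intro x hx
    refine Finset.mem_filter.2 ⟨Finset.mem_univ _, fun y hy hy0 => ?_⟩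
    obtain ⟨m, rfl⟩ := (hP y).1 hy
    exact G.K.fixed_perp hμ0 hall (hkS m) hy0 (hx m.1)
  have hFx : ∀ {y y' y'' : Pat}, y ∈ P → y ≠ 0 →
      (Fx.card ≤ 256 ∧ (y' ∈ P → y' ≠ 0 → y ≠ y' → Fx.card ≤ 64 ∧
        (y'' ∈ P → y'' ≠ 0 → y'' ≠ y → y'' ≠ y' → y'' ≠ y + y' → Fx.card ≤ 16))) := by
    intro y y' y'' hy hy0
    have mem : ∀ x ∈ Fx, ∀ y ∈ P, y ≠ 0 → perp y (bits x).1 ∧ perp y (bits x).2 := fun x hx y hy hy0 =>
      ((Finset.mem_filter.1 hx).2 y hy hy0).2
    have sq : ∀ (T : Finset Pat) (n : ℕ), T.card ≤ n → (∀ x ∈ Fx, (bits x).1 ∈ T ∧ (bits x).2 ∈ T) →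
        Fx.card ≤ n * n := fun T n hT h => by
      rw [← Finset.card_image_of_injective Fx bits_injective]
      refine (Finset.card_le_card (t := T ×ˢ T) fun p hp => ?_).trans ?_
      · obtain ⟨x, hx, rfl⟩ := Finset.mem_image.1 hp
        exact Finset.mem_product.2 (h x hx)
      · rw [Finset.card_product]; exact Nat.mul_le_mul hT hT
    refine ⟨?_, fun hy' hy0' hne => ⟨?_, fun hy'' hy0'' n1 n2 n3 => ?_⟩⟩
    · refine sq _ 16 (card_perp1 y (hPnorm y hy) hy0) fun x hx => ?_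
      obtain ⟨⟨a, b⟩, c, d⟩ := mem x hx y hy hy0
      simp [a, b, c, d]
    · refine sq _ 8 (card_perp2 y y' (hPnorm y hy) (hPnorm y' hy') hy0 hy0' hne).le fun x hx => ?_
      obtain ⟨⟨a, b⟩, c, d⟩ := mem x hx y hy hy0
      obtain ⟨⟨-, b'⟩, -, d'⟩ := mem x hx y' hy' hy0'
      simp [perp2, a, b, c, d, b', d']
    · refine sq _ 4 (card_perp3 y y' y'' (hPnorm y hy) (hPnorm y' hy') (hPnorm y'' hy'') hy0 hy0' hy0'' hne n1 n2
        n3) fun x hx => ?_
      obtain ⟨⟨a, b⟩, c, d⟩ := mem x hx y hy hy0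
      obtain ⟨⟨-, b'⟩, -, d'⟩ := mem x hx y' hy' hy0'
      obtain ⟨⟨-, b''⟩, -, d''⟩ := mem x hx y'' hy'' hy0''
      simp [perp2, a, b, c, d, b', d', b'', d'']
  obtain ⟨k, hk, hkval⟩ : ∃ k ≤ 4, P.card = 2 ^ k := by
    have : Fact (Nat.Prime 2) := ⟨Nat.prime_two⟩
    have h2 : IsPGroup 2 f.ker := fun m => ⟨1, by
      rw [pow_one, sq]; exact Subtype.ext (Subtype.ext (Subtype.ext (hA2 _ m.1.2)))⟩
    obtain ⟨k, hk⟩ := h2.exists_card_eq
    refine ⟨k, ?_, hPcard ▸ hk⟩
    have h16 : P.card ≤ (Finset.univ.filter fun y : Pat => Norm y).card :=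
      Finset.card_le_card fun y hy => Finset.mem_filter.2 ⟨Finset.mem_univ _, hPnorm y hy⟩
    rw [show (Finset.univ.filter fun y : Pat => Norm y).card = 2 ^ 4 by decide +kernel, hPcard, hk] at h16
    exact (Nat.pow_le_pow_iff_right (by norm_num)).1 h16
  have hbound : Fx.card ≤ 4096 ∧ (1 ≤ k → Fx.card ≤ 256) ∧ (2 ≤ k → Fx.card ≤ 64) ∧
      (3 ≤ k → Fx.card ≤ 16) ∧ (k = 4 → Fx.card ≤ 4) := by
    refine ⟨(Finset.card_le_univ _).trans (le_of_eq (by
      rw [Fintype.card_fun, Fintype.card_prod, ZMod.card, Fintype.card_fin]; norm_num)), ?_, ?_, ?_, ?_⟩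
    · intro h
      obtain ⟨y, hy, hy0⟩ := Finset.exists_mem_ne (s := P) (by rw [hkval]; exact Nat.one_lt_two_pow (by omega)) 0
      exact (hFx (y' := 0) (y'' := 0) hy hy0).1
    · intro h
      have h4 : 4 ≤ P.card := hkval.symm ▸ (Nat.pow_le_pow_right two_pos h : 2 ^ 2 ≤ 2 ^ k)
      obtain ⟨y, hy, hy0⟩ := Finset.exists_mem_ne (show 1 < P.card by omega) 0
      obtain ⟨y', hy', hn⟩ : ∃ y' ∈ P, y' ∉ ({0, y} : Finset Pat) := by
        by_contra hno
        push Not at hno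
        have := (Finset.card_le_card (t := ({0, y} : Finset Pat)) hno).trans Finset.card_le_two
        omega
      simp only [Finset.mem_insert, Finset.mem_singleton, not_or] at hn
      exact ((hFx (y'' := 0) hy hy0).2 hy' hn.1 (Ne.symm hn.2)).1
    · intro h
      have h8 : 8 ≤ P.card := hkval.symm ▸ (Nat.pow_le_pow_right two_pos h : 2 ^ 3 ≤ 2 ^ k)
      obtain ⟨y, hy, hy0⟩ := Finset.exists_mem_ne (show 1 < P.card by omega) 0
      obtain ⟨y', hy', hn⟩ : ∃ y' ∈ P, y' ∉ ({0, y} : Finset Pat) := by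
        by_contra hno
        push Not at hno
        have := (Finset.card_le_card (t := ({0, y} : Finset Pat)) hno).trans Finset.card_le_two
        omega
      simp only [Finset.mem_insert, Finset.mem_singleton, not_or] at hn
      obtain ⟨y'', hy'', hn'⟩ : ∃ y'' ∈ P, y'' ∉ ({0, y, y', y + y'} : Finset Pat) := by
        by_contra hno
        push Not at hno
        have := (Finset.card_le_card (t := ({0, y, y', y + y'} : Finset Pat)) hno).trans Finset.card_le_four
        omega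
      simp only [Finset.mem_insert, Finset.mem_singleton, not_or] at hn'
      exact ((hFx hy hy0).2 hy' hn.1 (Ne.symm hn.2)).2 hy'' hn'.1 hn'.2.1 hn'.2.2.1 hn'.2.2.2
    · intro h
      have hPall : P = Finset.univ.filter fun y : Pat => Norm y :=
        Finset.eq_of_subset_of_card_le (fun y hy => Finset.mem_filter.2 ⟨Finset.mem_univ _, hPnorm y hy⟩) (by
          rw [hkval, h]; decide +kernel)
      refine (Finset.card_le_card (t := Finset.univ.image cst) fun x hx => ?_).trans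
        (Finset.card_image_le.trans (le_of_eq (by rw [Finset.card_univ]; rfl)))
      refine Finset.mem_image.2 ⟨x 0, Finset.mem_univ _, ?_⟩
      have hall' : ∀ y : Pat, Norm y → dot y (bits x).1 = 0 ∧ dot y (bits x).2 = 0 := fun y hy => by
        by_cases h0 : y = 0
        · subst h0; simp [dot]
        · obtain ⟨-, ⟨-, a⟩, -, b⟩ := (Finset.mem_filter.1 hx).2 y
            (hPall ▸ Finset.mem_filter.2 ⟨Finset.mem_univ _, hy⟩) h0
          exact ⟨a, b⟩
      obtain ⟨y0, hy0P, hy00⟩ := Finset.exists_mem_ne (show 1 < P.card by rw [hkval, h]; norm_num) 0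
      obtain ⟨hs, ⟨s1, -⟩, s2, -⟩ := (Finset.mem_filter.1 hx).2 y0 hy0P hy00
      funext i
      exact Prod.ext (perp_all _ s1 (fun y hy => (hall' y hy).1) 0 i) (perp_all _ s2 (fun y hy => (hall' y hy).2) 0 i)
  have hLfix : ∀ u ∈ L, ∀ m : Am, S.rep.ρ ((m : G.Mb) : C ⧸ Q) u = u := fun u hu m => hfix _ m.2 u hu
  have hLFx : Nat.card L ≤ Fx.card := by
    rw [← Fintype.card_coe, ← Nat.card_eq_fintype_card]
    refine Nat.card_le_card_of_injective (fun u : L => (⟨G.K.e.symm u, hfixed _ fun m => by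
      rw [G.K.e.apply_symm_apply]; exact hLfix u u.2 m⟩ : Fx)) fun a b e => ?_
    exact Subtype.ext (G.K.e.symm.injective (congrArg Subtype.val e))
  have hAm4 : Nat.card Am ≤ 4 * 2 ^ k := by rw [hAm, hkval]; exact Nat.mul_le_mul_right _ hr
  obtain ⟨b0, b1, b2, b3, b4⟩ := hbound
  by_cases hin : A ≤ G.Mb
  · have hAeq : Nat.card A = Nat.card Am :=
      (Nat.card_congr (Subgroup.subgroupOfEquivOfLe hin).toEquiv).symm
    by_cases hk2 : k = 2
    · subst hk2
      have hle : Nat.card A * Nat.card L ≤ 1024 := by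
        rw [hAeq]; exact le_trans (Nat.mul_le_mul hAm4 hL) (by norm_num)
      refine ⟨hle, fun heq => ?_⟩
      rw [hAeq] at heq
      have hA16 : Nat.card Am = 16 := by nlinarith
      have hL64 : Nat.card L = 64 := by nlinarith
      have hFx64 : Fx.card = 64 := le_antisymm (b2 le_rfl) (hL64 ▸ hLFx)
      obtain ⟨y, hy, hy0⟩ := Finset.exists_mem_ne (show 1 < P.card by rw [hkval]; norm_num) 0
      obtain ⟨y', hy', hn⟩ : ∃ y' ∈ P, y' ∉ ({0, y} : Finset Pat) := by
        by_contra hno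
        push Not at hno
        have := (Finset.card_le_card (t := ({0, y} : Finset Pat)) hno).trans Finset.card_le_two
        rw [hkval] at this
        norm_num at this
      simp only [Finset.mem_insert, Finset.mem_singleton, not_or] at hn
      set T := perp2 y y'
      have hT8 : T.card = 8 := card_perp2 y y' (hPnorm y hy) (hPnorm y' hy') hy0 hn.1 (Ne.symm hn.2)
      have hmemT : ∀ u ∈ L, (bits (G.K.e.symm u)).1 ∈ T ∧ (bits (G.K.e.symm u)).2 ∈ T := fun u hu => by
        have hx := hfixed (G.K.e.symm u) fun m => by rw [G.K.e.apply_symm_apply]; exact hLfix u hu m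
        obtain ⟨-, ⟨a, b⟩, c, d⟩ := (Finset.mem_filter.1 hx).2 y hy hy0
        obtain ⟨-, ⟨-, b'⟩, -, d'⟩ := (Finset.mem_filter.1 hx).2 y' hy' hn.1
        simp [T, perp2, a, b, c, d, b', d']
      have hsurj : ∀ p ∈ T, ∀ p' ∈ T, G.K.e (fun i => (p i, p' i)) ∈ L := by
        let φ : L → T × T := fun u => (⟨_, (hmemT u u.2).1⟩, ⟨_, (hmemT u u.2).2⟩)
        have hφ : Function.Injective φ := fun a b e => by
          refine Subtype.ext (G.K.e.symm.injective (bits_injective ?_))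
          exact Prod.ext (congrArg (fun q : T × T => (q.1 : Pat)) e) (congrArg (fun q : T × T => (q.2 : Pat)) e)
        have hb := (Nat.bijective_iff_injective_and_card φ).2 ⟨hφ, by
          rw [hL64, Nat.card_prod, Nat.card_eq_fintype_card, Fintype.card_coe, hT8]⟩
        intro p hp p' hp'
        obtain ⟨u, hu⟩ := hb.2 (⟨p, hp⟩, ⟨p', hp'⟩)
        have e1 : (bits (G.K.e.symm u)).1 = p := congrArg (fun q : T × T => (q.1 : Pat)) hu
        have e2 : (bits (G.K.e.symm u)).2 = p' := congrArg (fun q : T × T => (q.2 : Pat)) hu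
        rw [← e1, ← e2]
        show G.K.e (G.K.e.symm u) ∈ L
        rw [G.K.e.apply_symm_apply]; exact u.2
      have h0T : (0 : Pat) ∈ T :=
        Finset.mem_filter.2 ⟨Finset.mem_univ _, by simp, by simp [dot], by simp [dot]⟩
      have hdot : ∀ p ∈ T, ∀ p' ∈ T, dot p p' = 0 := fun p hp p' hp' => by
        have := hiso _ (hsurj p hp 0 h0T) _ (hsurj 0 h0T p' hp')
        rw [show S.rep.b = (S.rep.sub G.Mb).b from rfl, G.K.b_e] at this
        rw [← this]
        refine Finset.sum_congr rfl fun i _ => ?_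
        simp [bt]
      obtain ⟨j, hj⟩ := iso_flat y y' (hPnorm y hy) (hPnorm y' hy') hy0 hn.1 (Ne.symm hn.2) hdot
      have hLj : ∀ u, u ∈ L ↔ ∃ x, IsFlat j x ∧ G.K.e x = u := by
        intro u
        constructor
        · intro hu
          obtain ⟨a, b⟩ := hmemT u hu
          rw [show T = _ from hj, Finset.mem_filter] at a b
          exact ⟨_, flat_bits.2 ⟨a.2, b.2⟩, G.K.e.apply_symm_apply u⟩
        · rintro ⟨x, hx, rfl⟩
          have := hsurj (bits x).1 (by rw [show T = _ from hj]; simp [(flat_bits.1 hx).1]) (bits x).2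
            (by rw [show T = _ from hj]; simp [(flat_bits.1 hx).2])
          exact this
      refine ⟨j, ?_, hAeq ▸ hA16, hLj⟩
      have hle' : A ≤ G.flatStab j := fun a ha =>
        ⟨hin ha, fun x hx => hfix a ha _ ((hLj _).2 ⟨x, hx, rfl⟩)⟩
      exact Subgroup.eq_of_le_of_card_ge hle' (by rw [hAeq, hA16]; exact G.card_flatStab_le j)
    · have hlt : Nat.card A * Nat.card L < 1024 := by
        rw [hAeq]
        rcases (by omega : k ≤ 1 ∨ k = 3 ∨ k = 4) with h | h | h
        · have := Nat.pow_le_pow_right (by norm_num : 0 < 2) h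
          exact lt_of_le_of_lt (Nat.mul_le_mul (hAm4.trans (Nat.mul_le_mul_left 4 this)) hL) (by norm_num)
        · subst h
          exact lt_of_le_of_lt (Nat.mul_le_mul hAm4 (hLFx.trans (b3 le_rfl))) (by norm_num)
        · subst h
          exact lt_of_le_of_lt (Nat.mul_le_mul hAm4 (hLFx.trans (b4 rfl))) (by norm_num)
      exact ⟨hlt.le, fun e => absurd e hlt.ne⟩
  · obtain ⟨e0, he0, he0M⟩ : ∃ e0 ∈ A, e0 ∉ G.Mb := by
      by_contra hno
      push Not at hno
      exact hin hno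
    set τ := (G.K.t : C ⧸ Q)
    have hτ : ∀ u, S.rep.ρ e0 (S.rep.ρ τ u) = S.rep.ρ τ⁻¹ (S.rep.ρ e0 u) := fun u => by
      rw [← S.rep.mul_apply, ← S.rep.mul_apply, ← G.inv e0 he0M]
      congr 2
      exact (inv_mul_cancel_right _ e0).symm
    have hsq : Nat.card L * Nat.card L ≤ Fx.card := by
      rw [← Nat.card_prod, ← Fintype.card_coe Fx, ← Nat.card_eq_fintype_card]
      refine Nat.card_le_card_of_injective (fun p : L × L =>
        (⟨G.K.e.symm ((p.1 : VQ Q) + S.rep.ρ τ p.2), hfixed _ fun m => by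
          rw [G.K.e.apply_symm_apply, map_add, hLfix _ p.1.2 m,
            G.t_fix (m : G.Mb).2 (hLfix _ p.2.2 m)]⟩ : Fx)) ?_
      rintro ⟨a, b⟩ ⟨a', b'⟩ e
      have e' : (a : VQ Q) + S.rep.ρ τ b = a' + S.rep.ρ τ b' :=
        G.K.e.symm.injective (congrArg Subtype.val e)
      set u := (a : VQ Q) - a'
      set w := (b' : VQ Q) - b
      have huw : u = S.rep.ρ τ w := by
        rw [map_sub]
        exact sub_eq_sub_iff_add_eq_add.2 (e'.trans (add_comm _ _))
      have hu : S.rep.ρ e0 u = u := by rw [map_sub, hfix _ he0 _ a.2, hfix _ he0 _ a'.2]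
      have hw : S.rep.ρ e0 w = w := by rw [map_sub, hfix _ he0 _ b'.2, hfix _ he0 _ b.2]
      rw [huw, hτ, hw] at hu
      have h2 : S.rep.ρ τ (S.rep.ρ τ w) = w := by
        rw [← hu, ← S.rep.mul_apply, mul_inv_cancel, S.rep.one_apply]
      have hw0 : w = 0 := by
        obtain ⟨x, hx⟩ := G.K.e.surjective w
        rw [← hx, show S.rep.ρ τ (G.K.e x) = (S.rep.sub G.Mb).ρ G.K.t (G.K.e x) from rfl, G.K.e_om,
          show S.rep.ρ τ (G.K.e (omV x)) = (S.rep.sub G.Mb).ρ G.K.t (G.K.e (omV x)) from rfl, G.K.e_om] at h2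
        rw [← hx, show x = 0 from funext fun i =>
          (by decide : ∀ c : K4, om (om c) = c → c = 0) _ (congrFun (G.K.e.injective h2) i), map_zero]
      rw [hw0, map_zero, sub_eq_zero] at huw
      exact Prod.ext (Subtype.ext huw) (Subtype.ext (sub_eq_zero.1 hw0).symm)
    have hA8 : Nat.card A ≤ 8 * 2 ^ k := hAle.trans (by omega)
    have hlt : Nat.card A * Nat.card L < 1024 := by
      rcases (by omega : k = 0 ∨ k = 1 ∨ k = 2 ∨ k = 3 ∨ k = 4) with rfl | rfl | rfl | rfl | rfl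
      · exact lt_of_le_of_lt (Nat.mul_le_mul hA8 hL) (by norm_num)
      · have := hsq.trans (b1 le_rfl)
        have : Nat.card L ≤ 16 := Nat.mul_self_le_mul_self_iff.1 (this.trans (by norm_num))
        exact lt_of_le_of_lt (Nat.mul_le_mul hA8 this) (by norm_num)
      · have := hsq.trans (b2 le_rfl)
        have : Nat.card L ≤ 8 := Nat.mul_self_le_mul_self_iff.1 (this.trans (by norm_num))
        exact lt_of_le_of_lt (Nat.mul_le_mul hA8 this) (by norm_num)
      · have := hsq.trans (b3 le_rfl)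
        have : Nat.card L ≤ 4 := Nat.mul_self_le_mul_self_iff.1 (this.trans (by norm_num))
        exact lt_of_le_of_lt (Nat.mul_le_mul hA8 this) (by norm_num)
      · have := hsq.trans (b4 rfl)
        have : Nat.card L ≤ 2 := Nat.mul_self_le_mul_self_iff.1 (this.trans (by norm_num))
        exact lt_of_le_of_lt (Nat.mul_le_mul hA8 this) (by norm_num)
    exact ⟨hlt.le, fun e => absurd e hlt.ne⟩

end Geo

end CfsgLib.FischerTwoFour
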