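import Mathlib
import Cfsg.Agent.Lib.UFourThreeSix.Iso

/-!
The subgroup `3^4` of `PSU_4(3)` normalised by an alternating group of degree six, and its preimage in a
central extension by a group of order three.
-/

set_option autoImplicit false

namespace CfsgLib.FischerTwoFour

open scoped commutatorElement

/-- The data: a central extension `f : H →* G₀` with kernel `⟨t⟩` and a monomial subgroup of `G₀`. -/
structure Mono (H G₀ : Type*) [Group H] [Group G₀] where
  f : H →* G₀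
  f_surj : Function.Surjective f
  t : H
  t_cube : t ^ 3 = 1
  t_ne : t ≠ 1
  t_comm : ∀ h, h * t = t * h
  ker_f : f.ker = Subgroup.zpowers t
  A : Subgroup G₀
  card_A : Nat.card A = 81
  x : Fin 6 → Fin 6 → G₀
  A_eq : A = Subgroup.closure (Set.range fun ab : Fin 6 × Fin 6 => x ab.1 ab.2)
  x_comm : ∀ a b c d, x a b * x c d = x c d * x a b
  x_symm : ∀ a b, x b a = (x a b)⁻¹
  x_cube : ∀ a b, x a b ^ 3 = 1
  x_trans : ∀ a b c, x a b * x b c = x a c
  x_sum : x 1 0 * x 2 0 * x 3 0 * x 4 0 * x 5 0 = 1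
  p : alternatingGroup (Fin 6) →* G₀
  p_conj : ∀ π a b, p π * x a b * (p π)⁻¹ =
    x ((π : Equiv.Perm (Fin 6)) a) ((π : Equiv.Perm (Fin 6)) b)

section PSU

open CfsgLib.U43Six

variable {K : Type*} [Field K] [Fintype K]

theorem dab_eq_prod {F : Type*} [Field F] [Fintype F] {c : Fin 6 → Fˣ} (hc : ∏ i, c i = 1) :
    c = dab (c 1) 1 0 * dab (c 2) 2 0 * dab (c 3) 3 0 * dab (c 4) 4 0 * dab (c 5) 5 0 := by
  funext i
  rw [Fin.prod_univ_six] at hc
  have h0 : c 0 = (c 1)⁻¹ * (c 2)⁻¹ * (c 3)⁻¹ * (c 4)⁻¹ * (c 5)⁻¹ := by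
    rw [← mul_inv, ← mul_inv, ← mul_inv, ← mul_inv, eq_inv_iff_mul_eq_one, ← hc]
    ac_rfl
  fin_cases i <;> simp [dab, h0]

theorem exists_mono {H : Type*} [Group H] (hK : Fintype.card K = 9) (f : H →* Cfsg.PSU 4 K 3)
    (hf : Function.Surjective f) (t : H) (ht3 : t ^ 3 = 1) (htne : t ≠ 1) (htc : ∀ h, h * t = t * h)
    (hker : f.ker = Subgroup.zpowers t) : Nonempty (Mono H (Cfsg.PSU 4 K 3)) := by
  classical
  let _ : Fintype (GaloisField 2 2) := Fintype.ofFinite _
  obtain ⟨D⟩ := exists_four (F := GaloisField 2 2)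
    (by rw [← Nat.card_eq_fintype_card, GaloisField.card 2 2 two_ne_zero]; rfl)
  obtain ⟨E⟩ := exists_nine hK
  obtain ⟨φ⟩ := nonempty_iso D E
  let π₀ : X0 D →* Cfsg.PSU 4 K 3 := φ.toMonoidHom.comp (QuotientGroup.mk' _)
  have hπ₀ : π₀.ker = Subgroup.center (X0 D) := by
    ext g
    simp [π₀]
  let xe : Fin 6 → Fin 6 → X0 D := fun a b => ⟨dd D (dab D.w a b), Mgrp_le_X0 D (dab_mem D D.w a b)⟩
  let pe : alternatingGroup (Fin 6) →* X0 D :=
    ((pm D).comp (alternatingGroup (Fin 6)).subtype).codRestrict (X0 D)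
      fun π => pm_mem_X0 D (Equiv.Perm.mem_alternatingGroup.1 π.2)
  let M' : Subgroup (X0 D) := (Mgrp D).subgroupOf (X0 D)
  have hcM : Subgroup.center (X0 D) ≤ M' := by
    intro g hg
    obtain ⟨u, hu⟩ := (mem_center_X0 D).1 hg
    rw [Subgroup.mem_subgroupOf, hu]
    exact scalar_mem D u
  have hMcl : M' = Subgroup.closure (Set.range fun ab : Fin 6 × Fin 6 => xe ab.1 ab.2) := by
    refine le_antisymm ?_ ((Subgroup.closure_le _).2 ?_)
    · intro g hg
      obtain ⟨c, hc, hcg⟩ := (mem_Mgrp D).1 hg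
      have hsub : ∀ (u : (GaloisField 2 2)ˣ) (a b : Fin 6),
          ∃ h : dd D (dab u a b) ∈ X0 D, (⟨_, h⟩ : X0 D) ∈
            Subgroup.closure (Set.range fun ab : Fin 6 × Fin 6 => xe ab.1 ab.2) := by
        intro u a b
        obtain ⟨n, rfl⟩ := exists_pow_w D u
        have e : dab (D.w ^ n) a b = dab D.w a b ^ n := by
          simp only [dab, mul_pow, ← Pi.mulSingle_pow, inv_pow]
        refine ⟨Mgrp_le_X0 D (dab_mem D _ a b), ?_⟩
        have : (⟨_, Mgrp_le_X0 D (dab_mem D (D.w ^ n) a b)⟩ : X0 D) = xe a b ^ n := by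
          apply Subtype.ext
          show dd D (dab (D.w ^ n) a b) = _
          rw [e, map_pow]
          rfl
        rw [this]
        exact pow_mem (Subgroup.subset_closure (Set.mem_range_self (a, b))) n
      have hdec := dab_eq_prod hc
      have hg' : (g : G6 (GaloisField 2 2)) = dd D (dab (c 1) 1 0) * dd D (dab (c 2) 2 0) *
          dd D (dab (c 3) 3 0) * dd D (dab (c 4) 4 0) * dd D (dab (c 5) 5 0) := by
        rw [← map_mul, ← map_mul, ← map_mul, ← map_mul, ← hdec, hcg]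
        rfl
      obtain ⟨h1, m1⟩ := hsub (c 1) 1 0
      obtain ⟨h2, m2⟩ := hsub (c 2) 2 0
      obtain ⟨h3, m3⟩ := hsub (c 3) 3 0
      obtain ⟨h4, m4⟩ := hsub (c 4) 4 0
      obtain ⟨h5, m5⟩ := hsub (c 5) 5 0
      have := mul_mem (mul_mem (mul_mem (mul_mem m1 m2) m3) m4) m5
      convert this
      exact Subtype.ext hg'
    · rintro _ ⟨ab, rfl⟩
      exact dab_mem D _ _ _
  refine ⟨⟨f, hf, t, ht3, htne, htc, hker, M'.map π₀, ?_, fun a b => π₀ (xe a b), ?_, ?_, ?_, ?_, ?_, ?_,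
    π₀.comp pe, ?_⟩⟩
  · have h1 : Nat.card M' = 243 := by
      rw [Nat.card_congr (Subgroup.subgroupOfEquivOfLe (Mgrp_le_X0 D)).toEquiv, card_Mgrp]
    have h3 : Nat.card (π₀.ker.subgroupOf M') = 3 := by
      rw [hπ₀, Nat.card_congr (Subgroup.subgroupOfEquivOfLe hcM).toEquiv, card_center_X0]
    let g := π₀.comp M'.subtype
    have hk : g.ker = π₀.ker.subgroupOf M' := rfl
    have h2 := Subgroup.card_eq_card_quotient_mul_card_subgroup g.ker
    rw [hk, h3, h1] at h2
    have e : M'.map π₀ = g.range := by rw [MonoidHom.range_comp, Subgroup.range_subtype]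
    rw [e, ← Nat.card_congr (QuotientGroup.quotientKerEquivRange g).toEquiv,
      Nat.card_congr (QuotientGroup.quotientMulEquivOfEq hk).toEquiv]
    omega
  · rw [hMcl, MonoidHom.map_closure, ← Set.range_comp]
    rfl
  · intro a b c d
    rw [← map_mul, ← map_mul]
    exact congrArg π₀ (Subtype.ext (Mgrp_comm D (dab_mem D _ _ _) (dab_mem D _ _ _)))
  · intro a b
    rw [← map_inv]
    refine congrArg π₀ (Subtype.ext ?_)
    show dd D (dab D.w b a) = (dd D (dab D.w a b))⁻¹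
    rw [← map_inv]
    congr 1
    simp only [dab, mul_inv, ← Pi.mulSingle_inv, inv_inv, mul_comm]
  · intro a b
    rw [← map_pow, ← map_one π₀]
    refine congrArg π₀ (Subtype.ext ?_)
    show dd D (dab D.w a b) ^ 3 = 1
    rw [← map_pow, ← map_one (dd D)]
    congr 1
    funext i
    exact D.unit_cube _
  · intro a b c
    rw [← map_mul]
    refine congrArg π₀ (Subtype.ext ?_)
    show dd D (dab D.w a b) * dd D (dab D.w b c) = dd D (dab D.w a c)
    rw [← map_mul]
    congr 1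
    funext i
    simp only [dab, Pi.mul_apply, Pi.mulSingle_apply]
    split_ifs <;> simp
  · rw [← map_mul, ← map_mul, ← map_mul, ← map_mul, ← MonoidHom.mem_ker, hπ₀, mem_center_X0 D]
    refine ⟨D.w, ?_⟩
    show dd D (dab D.w 1 0) * dd D (dab D.w 2 0) * dd D (dab D.w 3 0) * dd D (dab D.w 4 0) *
      dd D (dab D.w 5 0) = _
    rw [← map_mul, ← map_mul, ← map_mul, ← map_mul]
    congr 1
    have hw3 : D.w ^ 3 = 1 := D.unit_cube _
    funext i
    fin_cases i <;> simp [dab]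
    calc (D.w)⁻¹ * (D.w)⁻¹ * (D.w)⁻¹ * (D.w)⁻¹ * (D.w)⁻¹
        = ((D.w ^ 3) ^ 2)⁻¹ * D.w := by group
      _ = D.w := by rw [hw3]; simp
  · intro π a b
    rw [MonoidHom.comp_apply, ← map_inv, ← map_mul, ← map_mul]
    refine congrArg π₀ (Subtype.ext ?_)
    show pm D (π : Equiv.Perm (Fin 6)) * dd D (dab D.w a b) * (pm D (π : Equiv.Perm (Fin 6)))⁻¹ = _
    rw [pm_conj]
    congr 1
    funext i
    simp only [dab, Pi.mul_apply, Pi.mulSingle_apply, Equiv.symm_apply_eq]

end PSU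

end CfsgLib.FischerTwoFour
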