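import Mathlib
import Cfsg.Agent.Lib.FischerTwoFour.Mono
import Cfsg.Agent.Lib.FischerTwoFour.Small

/-!
The preimage `E` of the `3^4` in the central extension is elementary abelian of order `243`; the
action of the alternating group on its characters.
-/

set_option autoImplicit false
set_option linter.unusedSectionVars false

namespace CfsgLib.FischerTwoFour

open scoped commutatorElement

namespace Mono

variable {H G₀ : Type*} [Group H] [Finite H] [Group G₀] (D : Mono H G₀)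

/-- The preimage of `A`. -/
def E : Subgroup H := D.A.comap D.f

theorem mem_E {h : H} : h ∈ D.E ↔ D.f h ∈ D.A := Iff.rfl

theorem t_mem : D.t ∈ D.E := by
  rw [mem_E, MonoidHom.mem_ker.1 (D.ker_f ▸ Subgroup.mem_zpowers D.t)]
  exact one_mem _

theorem ker_le : D.f.ker ≤ D.E := fun h hh => by
  rw [mem_E, MonoidHom.mem_ker.1 hh]; exact one_mem _

theorem orderOf_t : orderOf D.t = 3 :=
  orderOf_eq_prime (hp := ⟨Nat.prime_three⟩) D.t_cube D.t_ne

theorem card_E : Nat.card D.E = 243 := by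
  let g := D.f.comp D.E.subtype
  have hr : g.range = D.A := by
    rw [MonoidHom.range_comp, Subgroup.range_subtype]
    exact Subgroup.map_comap_eq_self_of_surjective D.f_surj _
  have h := Subgroup.card_eq_card_quotient_mul_card_subgroup g.ker
  have hk : g.ker = D.f.ker.subgroupOf D.E := rfl
  have e1 : Nat.card (D.E ⧸ g.ker) = 81 := by
    rw [Nat.card_congr (QuotientGroup.quotientKerEquivRange g).toEquiv, hr, D.card_A]
  rw [e1, hk, Nat.card_congr (Subgroup.subgroupOfEquivOfLe D.ker_le).toEquiv, D.ker_f,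
    Nat.card_zpowers, D.orderOf_t] at h
  omega

theorem comm_ker {k : H} (hk : k ∈ D.f.ker) (h : H) : h * k = k * h := by
  rw [D.ker_f] at hk
  obtain ⟨n, rfl⟩ := Subgroup.mem_zpowers_iff.1 hk
  exact ((show Commute h D.t from D.t_comm h).zpow_right n).eq

theorem cube_ker {k : H} (hk : k ∈ D.f.ker) : k ^ 3 = 1 := by
  rw [D.ker_f] at hk
  obtain ⟨n, rfl⟩ := Subgroup.mem_zpowers_iff.1 hk
  rw [← zpow_natCast, ← zpow_mul, mul_comm, zpow_mul, zpow_natCast, D.t_cube, one_zpow]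

theorem eq_one_of_inv {k : H} (hk : k ∈ D.f.ker) (h : k = k⁻¹) : k = 1 := by
  have h2 : k ^ 2 = 1 := by rw [sq]; nth_rewrite 2 [h]; exact mul_inv_cancel k
  calc k = k ^ 3 * (k ^ 2)⁻¹ := by group
    _ = 1 := by rw [D.cube_ker hk, h2]; simp

/-! ### The commutator pairing on `A` -/

/-- A lift. -/
noncomputable def lift (u : G₀) : H := (D.f_surj u).choose

theorem f_lift (u : G₀) : D.f (D.lift u) = u := (D.f_surj u).choose_spec

/-- The commutator of lifts. -/
noncomputable def K (u v : G₀) : H := ⁅D.lift u, D.lift v⁆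

theorem K_eq {a b : H} {u v : G₀} (ha : D.f a = u) (hb : D.f b = v) : D.K u v = ⁅a, b⁆ := by
  have hk1 : a⁻¹ * D.lift u ∈ D.f.ker := by simp [MonoidHom.mem_ker, ha, D.f_lift]
  have hk2 : b⁻¹ * D.lift v ∈ D.f.ker := by simp [MonoidHom.mem_ker, hb, D.f_lift]
  obtain ⟨k, hk, e1⟩ : ∃ k ∈ D.f.ker, D.lift u = a * k := ⟨_, hk1, by group⟩
  obtain ⟨l, hl, e2⟩ : ∃ l ∈ D.f.ker, D.lift v = b * l := ⟨_, hk2, by group⟩
  rw [K, e1, e2, commutatorElement_def, commutatorElement_def, mul_inv_rev, mul_inv_rev]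
  have c1 := D.comm_ker hk
  have c2 := D.comm_ker hl
  calc a * k * (b * l) * (k⁻¹ * a⁻¹) * (l⁻¹ * b⁻¹)
      = a * (k * (b * l)) * k⁻¹ * a⁻¹ * (l⁻¹ * b⁻¹) := by group
    _ = a * (b * l * k) * k⁻¹ * a⁻¹ * (l⁻¹ * b⁻¹) := by rw [c1]
    _ = a * b * (l * a⁻¹) * l⁻¹ * b⁻¹ := by group
    _ = a * b * (a⁻¹ * l) * l⁻¹ * b⁻¹ := by rw [c2]
    _ = a * b * a⁻¹ * b⁻¹ := by group

theorem K_ker {u v : G₀} (huv : u * v = v * u) : D.K u v ∈ D.f.ker := by
  rw [MonoidHom.mem_ker, K, map_commutatorElement, D.f_lift, D.f_lift]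
  exact commutatorElement_eq_one_iff_mul_comm.2 huv

theorem K_mul_left {u u' v : G₀} (h' : u' * v = v * u') :
    D.K (u * u') v = D.K u v * D.K u' v := by
  rw [D.K_eq (a := D.lift u * D.lift u') (by rw [map_mul, D.f_lift, D.f_lift]) (D.f_lift v)]
  have c := D.comm_ker (D.K_ker h')
  show ⁅D.lift u * D.lift u', D.lift v⁆ = D.K u v * D.K u' v
  rw [c (D.K u v)]
  have e := c (D.lift u)
  simp only [K, commutatorElement_def] at e ⊢
  set a := D.lift u; set b := D.lift u'; set q := D.lift v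
  calc a * b * q * (a * b)⁻¹ * q⁻¹ = (a * (b * q * b⁻¹ * q⁻¹)) * (q * a⁻¹ * q⁻¹) := by group
    _ = (b * q * b⁻¹ * q⁻¹ * a) * (q * a⁻¹ * q⁻¹) := by rw [e]
    _ = b * q * b⁻¹ * q⁻¹ * (a * q * a⁻¹ * q⁻¹) := by group

theorem K_swap (u v : G₀) : D.K v u = (D.K u v)⁻¹ := (commutatorElement_inv (D.lift u) (D.lift v)).symm

theorem K_conj {u v : G₀} (huv : u * v = v * u) (g : G₀) : D.K (g * u * g⁻¹) (g * v * g⁻¹) = D.K u v := by
  rw [D.K_eq (a := D.lift g * D.lift u * (D.lift g)⁻¹) (b := D.lift g * D.lift v * (D.lift g)⁻¹)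
    (by simp [D.f_lift]) (by simp [D.f_lift]), ← conjugate_commutatorElement]
  show D.lift g * D.K u v * (D.lift g)⁻¹ = _
  rw [D.comm_ker (D.K_ker huv), mul_inv_cancel_right]

theorem K_one_left (v : G₀) : D.K 1 v = 1 := by
  rw [D.K_eq (map_one _) (D.f_lift v), commutatorElement_one_left]

theorem K_self (u : G₀) : D.K u u = 1 := commutatorElement_self _

theorem K_inv_left {u v : G₀} (h : u * v = v * u) : D.K u⁻¹ v = (D.K u v)⁻¹ := by
  have := D.K_mul_left (u := u⁻¹) h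
  rw [inv_mul_cancel, D.K_one_left] at this
  exact eq_inv_of_mul_eq_one_left this.symm

/-! ### `E` is abelian -/

theorem x_self (a : Fin 6) : D.x a a = 1 := by
  have := D.x_trans a a a; exact mul_eq_left.mp this

/-- The pairing on generators. -/
noncomputable def k (a b c d : Fin 6) : H := D.K (D.x a b) (D.x c d)

theorem k_conj (π : A6) (a b c d : Fin 6) : D.k ((π : Equiv.Perm (Fin 6)) a) ((π : Equiv.Perm (Fin 6)) b)
    ((π : Equiv.Perm (Fin 6)) c) ((π : Equiv.Perm (Fin 6)) d) = D.k a b c d := by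
  rw [k, ← D.p_conj, ← D.p_conj, D.K_conj (D.x_comm _ _ _ _)]; rfl

theorem k_left (a b e c d : Fin 6) : D.k a b c d = D.k a e c d * D.k e b c d := by
  rw [k, ← D.x_trans a e b, D.K_mul_left (D.x_comm _ _ _ _)]; rfl

theorem k_swap (a b c d : Fin 6) : D.k c d a b = (D.k a b c d)⁻¹ := D.K_swap _ _

theorem k_right (a b c d e : Fin 6) : D.k a b c d = D.k a b c e * D.k a b e d := by
  have h := D.k_left c d e a b
  rw [D.k_swap a b c d, D.k_swap a b c e, D.k_swap a b e d] at h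
  have := congrArg (·⁻¹) h
  simp only [inv_inv, mul_inv_rev] at this
  rw [this]
  exact (D.comm_ker (D.K_ker (D.x_comm a b c e))) _

theorem k_disjoint {a b c d : Fin 6} (hac : a ≠ c) (had : a ≠ d) (hbc : b ≠ c) (hbd : b ≠ d) :
    D.k a b c d = 1 := by
  refine D.eq_one_of_inv (D.K_ker (D.x_comm _ _ _ _)) ?_
  by_cases hab : a = b
  · subst hab; simp [k, x_self, K_one_left]
  by_cases hcd : c = d
  · subst hcd; rw [k, D.K_swap, x_self, K_one_left]
    simp
  let π : A6 := ⟨Equiv.swap a c * Equiv.swap b d, by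
    rw [Equiv.Perm.mem_alternatingGroup, map_mul, Equiv.Perm.sign_swap hac, Equiv.Perm.sign_swap hbd]; rfl⟩
  have h := D.k_conj π a b c d
  have ea : (π : Equiv.Perm (Fin 6)) a = c := by
    show Equiv.swap a c (Equiv.swap b d a) = c
    rw [Equiv.swap_apply_of_ne_of_ne hab had, Equiv.swap_apply_left]
  have eb : (π : Equiv.Perm (Fin 6)) b = d := by
    show Equiv.swap a c (Equiv.swap b d b) = d
    rw [Equiv.swap_apply_left, Equiv.swap_apply_of_ne_of_ne (Ne.symm had) (Ne.symm hcd)]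
  have ec : (π : Equiv.Perm (Fin 6)) c = a := by
    show Equiv.swap a c (Equiv.swap b d c) = a
    rw [Equiv.swap_apply_of_ne_of_ne (Ne.symm hbc) hcd, Equiv.swap_apply_right]
  have ed : (π : Equiv.Perm (Fin 6)) d = b := by
    show Equiv.swap a c (Equiv.swap b d d) = b
    rw [Equiv.swap_apply_right, Equiv.swap_apply_of_ne_of_ne (Ne.symm hab) hbc]
  rw [ea, eb, ec, ed, D.k_swap a b c d] at h
  exact h.symm

theorem k_share (a b c : Fin 6) : D.k a b a c = 1 := by
  by_cases hab : a = b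
  · subst hab; simp [k, x_self, K_one_left]
  by_cases hac : a = c
  · subst hac; rw [k, D.K_swap, x_self, K_one_left, inv_one]
  by_cases hbc : b = c
  · subst hbc; exact D.K_self _
  have first : ∀ {a b c d : Fin 6}, a ≠ b → a ≠ c → b ≠ c → d ≠ a → d ≠ b → d ≠ c →
      D.k a b a c = D.k a d a c := by
    intro a b c d hab _ hbc hda _ hdc
    rw [D.k_left a b d a c, D.k_disjoint hda hdc (Ne.symm hab) hbc, mul_one]
  have second : ∀ {a b c d : Fin 6}, a ≠ b → a ≠ c → b ≠ c → d ≠ a → d ≠ b → d ≠ c →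
      D.k a b a c = D.k a b a d := by
    intro a b c d hab hac hbc hda hdb hdc
    rw [D.k_right a b a c d, D.k_disjoint (Ne.symm hda) hac (Ne.symm hdb) hbc, mul_one]
  obtain ⟨d, hda, hdb, hdc⟩ := (by decide : ∀ a b c : Fin 6, ∃ d, d ≠ a ∧ d ≠ b ∧ d ≠ c) a b c
  refine D.eq_one_of_inv (D.K_ker (D.x_comm _ _ _ _)) ?_
  show D.k a b a c = (D.k a b a c)⁻¹
  rw [← D.k_swap a b a c, second hab hac hbc hda hdb hdc,
    first hab (Ne.symm hda) (Ne.symm hdb) (Ne.symm hac) (Ne.symm hbc) (Ne.symm hdc),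
    second hac (Ne.symm hda) (Ne.symm hdc) (Ne.symm hab) hbc hdb.symm]

theorem k_eq_one (a b c d : Fin 6) : D.k a b c d = 1 := by
  have h0 : ∀ b d : Fin 6, D.k 0 b 0 d = 1 := D.k_share 0
  have inv0 : ∀ a b d : Fin 6, D.k a b 0 d = 1 := fun a b d => by
    rw [D.k_left a b 0 0 d, h0, mul_one]
    show D.K (D.x a 0) (D.x 0 d) = 1
    rw [D.x_symm 0 a, D.K_inv_left (D.x_comm _ _ _ _)]
    show (D.k 0 a 0 d)⁻¹ = 1
    rw [h0, inv_one]
  rw [D.k_right a b c d 0, inv0, mul_one]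
  show D.K (D.x a b) (D.x c 0) = 1
  rw [D.x_symm 0 c, D.K_swap, D.K_inv_left (D.x_comm _ _ _ _), D.K_swap, inv_inv]
  show (D.k a b 0 c)⁻¹ = 1
  rw [inv0, inv_one]

theorem E_comm {u v : H} (hu : u ∈ D.E) (hv : v ∈ D.E) : u * v = v * u := by
  rw [mem_E, D.A_eq] at hu hv
  have hgen : ∀ ab : Fin 6 × Fin 6, ∀ w ∈ Subgroup.closure
      (Set.range fun ab : Fin 6 × Fin 6 => D.x ab.1 ab.2),
      D.K (D.x ab.1 ab.2) w = 1 ∧ D.x ab.1 ab.2 * w = w * D.x ab.1 ab.2 := by
    intro ab w hw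
    induction hw using Subgroup.closure_induction with
    | mem w hw => obtain ⟨cd, rfl⟩ := hw; exact ⟨D.k_eq_one _ _ _ _, D.x_comm _ _ _ _⟩
    | one => exact ⟨by rw [D.K_swap, K_one_left, inv_one], by simp⟩
    | mul w w' _ _ h h' =>
      refine ⟨?_, by rw [← mul_assoc, h.2, mul_assoc, h'.2, mul_assoc]⟩
      rw [D.K_swap, D.K_mul_left h'.2.symm, D.K_swap (D.x ab.1 ab.2) w, D.K_swap (D.x ab.1 ab.2) w',
        h.1, h'.1]
      simp
    | inv w _ h =>
      refine ⟨?_, ((show Commute (D.x ab.1 ab.2) w from h.2).inv_right).eq⟩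
      rw [D.K_swap, D.K_inv_left h.2.symm, D.K_swap (D.x ab.1 ab.2) w, h.1]
      simp
  have hall : ∀ a ∈ Subgroup.closure (Set.range fun ab : Fin 6 × Fin 6 => D.x ab.1 ab.2), ∀ w ∈
      Subgroup.closure (Set.range fun ab : Fin 6 × Fin 6 => D.x ab.1 ab.2),
      D.K a w = 1 ∧ a * w = w * a := by
    intro a ha
    induction ha using Subgroup.closure_induction with
    | mem a ha => obtain ⟨ab, rfl⟩ := ha; exact hgen ab
    | one => exact fun w _ => ⟨D.K_one_left w, by simp⟩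
    | mul a a' _ _ h h' =>
      intro w hw
      exact ⟨by rw [D.K_mul_left (h' w hw).2, (h w hw).1, (h' w hw).1, one_mul],
        by rw [mul_assoc, (h' w hw).2, ← mul_assoc, (h w hw).2, mul_assoc]⟩
    | inv a _ h =>
      intro w hw
      exact ⟨by rw [D.K_inv_left (h w hw).2, (h w hw).1, inv_one],
        ((show Commute a w from (h w hw).2).inv_left).eq⟩
  have := (hall _ hu _ hv).1
  rw [D.K_eq rfl rfl] at this
  exact commutatorElement_eq_one_iff_mul_comm.1 this

/-- The generators of `E`. -/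
theorem E_eq : D.E = Subgroup.closure
    (insert D.t (Set.range fun ab : Fin 6 × Fin 6 => D.lift (D.x ab.1 ab.2))) := by
  refine le_antisymm ?_ ((Subgroup.closure_le _).2 ?_)
  · intro h hh
    set C := Subgroup.closure (insert D.t (Set.range fun ab : Fin 6 × Fin 6 => D.lift (D.x ab.1 ab.2)))
    have hA : D.A ≤ C.map D.f := by
      rw [D.A_eq, Subgroup.closure_le]
      rintro _ ⟨ab, rfl⟩
      exact ⟨_, Subgroup.subset_closure (Set.mem_insert_of_mem _ (Set.mem_range_self ab)), D.f_lift _⟩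
    obtain ⟨w, hw, hwf⟩ := hA hh
    have hk : w⁻¹ * h ∈ D.f.ker := by simp [MonoidHom.mem_ker, hwf]
    rw [D.ker_f] at hk
    have := mul_mem hw ((Subgroup.zpowers_le.2 (Subgroup.subset_closure (Set.mem_insert _ _))) hk)
    simpa using this
  · rintro h (rfl | ⟨ab, rfl⟩)
    · exact D.t_mem
    · show _ ∈ D.E
      rw [mem_E, D.f_lift, D.A_eq]
      exact Subgroup.subset_closure (Set.mem_range_self ab)

theorem lift_x_mem (a b : Fin 6) : D.lift (D.x a b) ∈ D.E := by
  rw [E_eq]; exact Subgroup.subset_closure (Set.mem_insert_of_mem _ (Set.mem_range_self (a, b)))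

theorem cube_lift (a b : Fin 6) (hx : D.x a b ^ 3 = 1) :
    D.lift (D.x a b) ^ 3 ∈ D.f.ker := by
  rw [MonoidHom.mem_ker, map_pow, D.f_lift, hx]

theorem cube_congr {u v : H} (h : D.f u = D.f v) : u ^ 3 = v ^ 3 := by
  have hk : v⁻¹ * u ∈ D.f.ker := by simp [MonoidHom.mem_ker, h]
  have hc : Commute v (v⁻¹ * u) := D.comm_ker hk v
  rw [show u = v * (v⁻¹ * u) by group, hc.mul_pow, D.cube_ker hk, mul_one]

theorem E_cube {u : H} (hu : u ∈ D.E) : u ^ 3 = 1 := by
  have hpair : ∀ a b, D.lift (D.x a b) ^ 3 = 1 := by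
    intro a b
    by_cases hab : a = b
    · subst hab
      rw [D.cube_congr (v := 1) (by rw [D.f_lift, D.x_self, map_one]), one_pow]
    have inv : ∀ π : A6, ∀ a b, D.lift (D.x ((π : Equiv.Perm (Fin 6)) a) ((π : Equiv.Perm (Fin 6)) b)) ^ 3
        = D.lift (D.x a b) ^ 3 := by
      intro π a b
      rw [D.cube_congr (v := D.lift (D.p π) * D.lift (D.x a b) * (D.lift (D.p π))⁻¹)
        (by simp [D.f_lift, D.p_conj]), conj_pow,
        D.comm_ker (D.cube_lift a b (D.x_cube a b)), mul_inv_cancel_right]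
    obtain ⟨π, h0, h3, hs⟩ := CfsgLib.U43Six.two_transitive a b hab
    obtain ⟨σ, k0, k3, ks⟩ := CfsgLib.U43Six.two_transitive 3 0 (by decide)
    have e1 := inv ⟨π, Equiv.Perm.mem_alternatingGroup.2 hs⟩ 0 3
    have e2 := inv ⟨σ, Equiv.Perm.mem_alternatingGroup.2 ks⟩ 0 3
    simp only [h0, h3] at e1
    simp only [k0, k3] at e2
    rw [e1]
    refine D.eq_one_of_inv (D.cube_lift 0 3 (D.x_cube 0 3)) ?_
    conv_lhs => rw [← e2]
    rw [D.cube_congr (v := (D.lift (D.x 0 3))⁻¹) (by simp [D.f_lift, D.x_symm 0 3]), inv_pow]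
  rw [E_eq] at hu
  induction hu using Subgroup.closure_induction with
  | mem v hv =>
    rcases hv with rfl | ⟨ab, rfl⟩
    exacts [D.t_cube, hpair _ _]
  | one => exact one_pow _
  | mul v w hv hw h h' =>
    rw [← E_eq] at hv hw
    rw [(show Commute v w from D.E_comm hv hw).mul_pow, h, h', one_mul]
  | inv v _ h => rw [inv_pow, h, inv_one]

/-! ### The action of the alternating group on `E` and on its characters -/

theorem conj_mem (π : A6) {u : H} (hu : u ∈ D.E) :
    D.lift (D.p π) * u * (D.lift (D.p π))⁻¹ ∈ D.E := by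
  rw [mem_E] at hu ⊢
  rw [map_mul, map_mul, map_inv, D.f_lift]
  rw [D.A_eq] at hu ⊢
  generalize D.f u = w at hu
  induction hu using Subgroup.closure_induction with
  | mem w hw => obtain ⟨ab, rfl⟩ := hw; rw [D.p_conj]; exact Subgroup.subset_closure (Set.mem_range_self (_, _))
  | one => simp
  | mul v w _ _ h h' =>
    have := mul_mem h h'
    simpa [mul_assoc] using this
  | inv v _ h =>
    have := inv_mem h
    simpa [mul_assoc] using this

/-- Conjugation on `E`. -/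
noncomputable def cj (π : A6) (u : D.E) : D.E :=
  ⟨D.lift (D.p π) * u * (D.lift (D.p π))⁻¹, D.conj_mem π u.2⟩

theorem cj_val (π : A6) (u : D.E) :
    ((D.cj π u : D.E) : H) = D.lift (D.p π) * u * (D.lift (D.p π))⁻¹ := rfl

theorem conj_congr {a b : H} (h : D.f a = D.f b) (u : H) : a * u * a⁻¹ = b * u * b⁻¹ := by
  have hk : b⁻¹ * a ∈ D.f.ker := by simp [MonoidHom.mem_ker, h]
  have := D.comm_ker hk u
  calc a * u * a⁻¹ = b * ((b⁻¹ * a) * u) * a⁻¹ := by group
    _ = b * (u * (b⁻¹ * a)) * a⁻¹ := by rw [this]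
    _ = b * u * b⁻¹ := by group

theorem cj_mul (π σ : A6) (u : D.E) : D.cj (π * σ) u = D.cj π (D.cj σ u) := by
  apply Subtype.ext
  simp only [cj_val]
  rw [D.conj_congr (a := D.lift (D.p (π * σ))) (b := D.lift (D.p π) * D.lift (D.p σ))
    (by simp [D.f_lift])]
  group

theorem cj_one (u : D.E) : D.cj 1 u = u := by
  apply Subtype.ext
  rw [cj_val, D.conj_congr (a := D.lift (D.p 1)) (b := 1) (by simp [D.f_lift])]
  simp

theorem cj_mul_elt (π : A6) (u v : D.E) : D.cj π (u * v) = D.cj π u * D.cj π v :=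
  Subtype.ext (by simp only [cj_val, Subgroup.coe_mul]; group)

/-- `t` inside `E`. -/
def tE : D.E := ⟨D.t, D.t_mem⟩

theorem cj_t (π : A6) : D.cj π D.tE = D.tE :=
  Subtype.ext (by
    show D.lift (D.p π) * D.t * (D.lift (D.p π))⁻¹ = D.t
    rw [D.t_comm, mul_inv_cancel_right])

/-- The action on functions on `E`. -/
noncomputable def act : A6 →* Equiv.Perm (D.E → ZMod 3) where
  toFun π :=
    { toFun := fun c u => c (D.cj π⁻¹ u)
      invFun := fun c u => c (D.cj π u)
      left_inv := fun c => funext fun u => by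
        show c (D.cj π⁻¹ (D.cj π u)) = c u
        rw [← cj_mul, inv_mul_cancel, cj_one]
      right_inv := fun c => funext fun u => by
        show c (D.cj π (D.cj π⁻¹ u)) = c u
        rw [← cj_mul, mul_inv_cancel, cj_one] }
  map_one' := Equiv.ext fun c => funext fun u => by simp [cj_one]
  map_mul' π σ := Equiv.ext fun c => funext fun u => by
    show c (D.cj (π * σ)⁻¹ u) = c (D.cj σ⁻¹ (D.cj π⁻¹ u))
    rw [mul_inv_rev, cj_mul]

theorem act_apply (π : A6) (c : D.E → ZMod 3) (u : D.E) : D.act π c u = c (D.cj π⁻¹ u) := rfl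

/-- Characters. -/
def IsChar (c : D.E → ZMod 3) : Prop := ∀ u v, c (u * v) = c u + c v

theorem IsChar.sub {c d : D.E → ZMod 3} (hc : D.IsChar c) (hd : D.IsChar d) : D.IsChar (c - d) := fun u v => by
  simp only [Pi.sub_apply, hc u v, hd u v]; abel

theorem IsChar.act {c : D.E → ZMod 3} (hc : D.IsChar c) (π : A6) : D.IsChar (D.act π c) := fun u v => by
  simp only [act_apply, cj_mul_elt]
  exact hc _ _

/-- A nonzero character trivial on `t` has an orbit of length at least thirteen. -/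
theorem linear_orbit {c : D.E → ZMod 3} (hc : D.IsChar c) (ht : c D.tE = 0) (hne : c ≠ 0)
    [DecidableEq (D.E → ZMod 3)] : 13 ≤ (Finset.univ.image fun π => D.act π c).card := by
  have h1 : c 1 = 0 := by
    have := hc 1 1; rw [mul_one] at this; exact left_eq_add.mp this
  have hinv : ∀ u, c u⁻¹ = - c u := fun u => by
    have := hc u u⁻¹; rw [mul_inv_cancel, h1] at this; exact (neg_eq_of_add_eq_zero_right this.symm).symm
  have hker : ∀ u : D.E, D.f u = 1 → c u = 0 := by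
    rintro ⟨u, hu⟩ hf
    have hk : u ∈ Subgroup.zpowers D.t := D.ker_f ▸ hf
    have hcases : u = 1 ∨ u = D.t ∨ u = D.t * D.t := by
      obtain ⟨n, rfl⟩ := Subgroup.mem_zpowers_iff.1 hk
      rw [← zpow_mod_orderOf, D.orderOf_t]
      rcases (by omega : n % (3 : ℕ) = 0 ∨ n % (3 : ℕ) = 1 ∨ n % (3 : ℕ) = 2) with e | e | e <;>
        simp only [e] <;> simp [sq]
    rcases hcases with rfl | rfl | rfl
    · exact h1
    · exact ht
    · show c (D.tE * D.tE) = 0
      rw [hc, ht, add_zero]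
  have hcongr : ∀ u v : D.E, D.f u = D.f v → c u = c v := fun u v h => by
    have := hker (u⁻¹ * v) (by simp [h])
    rw [hc, hinv, neg_add_eq_zero] at this
    exact this
  let cv : Fin 6 → Fin 6 → ZMod 3 := fun a b => c ⟨_, D.lift_x_mem a b⟩
  have hcv : ∀ a b, cv a b = cv a 0 - cv b 0 := by
    intro a b
    have := hcongr ⟨_, D.lift_x_mem a b⟩ (⟨_, D.lift_x_mem a 0⟩ * ⟨_, D.lift_x_mem b 0⟩⁻¹)
      (by simp [D.f_lift, ← D.x_trans a 0 b, D.x_symm b 0])
    rw [hc, hinv, ← sub_eq_add_neg] at this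
    exact this
  have hsum : ∑ i, cv i 0 = 0 := by
    rw [Fin.sum_univ_six, show cv 0 0 = 0 from hker _ (by simp [D.f_lift, D.x_self]), zero_add]
    have := hker (⟨_, D.lift_x_mem 1 0⟩ * ⟨_, D.lift_x_mem 2 0⟩ * ⟨_, D.lift_x_mem 3 0⟩ *
      ⟨_, D.lift_x_mem 4 0⟩ * ⟨_, D.lift_x_mem 5 0⟩) (by simp [D.f_lift, D.x_sum])
    rw [hc, hc, hc, hc] at this
    exact this
  have hL : (fun i => cv i 0) ≠ 0 := by
    intro e
    refine hne (funext fun u => ?_)
    obtain ⟨u, hu⟩ := u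
    have hu' := hu
    rw [E_eq] at hu'
    induction hu' using Subgroup.closure_induction with
    | mem v hv =>
      rcases hv with rfl | ⟨ab, rfl⟩
      · exact ht
      · show cv ab.1 ab.2 = 0
        rw [hcv, congrFun e ab.1, congrFun e ab.2]; simp
    | one => exact h1
    | mul v w hv hw h h' =>
      rw [← E_eq] at hv hw
      have := hc ⟨v, hv⟩ ⟨w, hw⟩
      show c ⟨v * w, hu⟩ = 0
      rw [show (⟨v * w, hu⟩ : D.E) = ⟨v, hv⟩ * ⟨w, hw⟩ from rfl, this, h hv, h' hw]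
      simp
    | inv v hv h =>
      rw [← E_eq] at hv
      show c ⟨v⁻¹, hu⟩ = 0
      rw [show (⟨v⁻¹, hu⟩ : D.E) = ⟨v, hv⟩⁻¹ from rfl, hinv, h hv]
      simp
  refine orbit_long (fun i => cv i 0) (hker _ (by simp [D.f_lift, D.x_self])) hsum hL
    (fun π => D.act π⁻¹ c) (fun π σ hπσ i => ?_) |>.trans (Finset.card_le_card ?_)
  · have h := congrFun hπσ ⟨_, D.lift_x_mem i 0⟩
    simp only [act_apply, inv_inv] at h
    have hv : ∀ τ : A6, c (D.cj τ ⟨_, D.lift_x_mem i 0⟩) =
        cv ((τ : Equiv.Perm (Fin 6)) i) 0 - cv ((τ : Equiv.Perm (Fin 6)) 0) 0 := by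
      intro τ
      rw [← hcv]
      exact hcongr _ _ (by simp [cj_val, D.f_lift, D.p_conj])
    rwa [hv, hv] at h
  · intro x hx
    obtain ⟨π, -, rfl⟩ := Finset.mem_image.1 hx
    exact Finset.mem_image.2 ⟨π⁻¹, Finset.mem_univ _, rfl⟩

end Mono

end CfsgLib.FischerTwoFour
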