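import Cfsg.Agent.Lib.FischerTwoFour.Setting

/-!
The tower `Q ≤ N ≤ M ≤ C`: `N / Q` is central in `M / Q` and fixed-point-free on `Q / Z(Q)`, and
`M / Q` is perfect.
-/

set_option autoImplicit false
set_option linter.unusedSectionVars false
set_option linter.style.haveILetI false

universe u

namespace CfsgLib.FischerTwoFour

open scoped commutatorElement

namespace Frame

variable {H V : Type*} [Group H] [Finite H] [AddCommGroup V] [Fintype V] {R : QRep H V} (F : Frame R)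

theorem ext_lines {a b : H} (h : ∀ i, ∀ v ∈ F.L i, R.ρ a v = R.ρ b v) : a = b := by
  refine inv_mul_eq_one.1 (R.faithful _ fun v => ?_)
  obtain ⟨f, rfl⟩ := F.bij.2 v
  show R.ρ (a⁻¹ * b) (∑ i, (f i : V)) = ∑ i, (f i : V)
  rw [map_sum]
  refine Finset.sum_congr rfl fun i _ => ?_
  rw [R.mul_apply, ← h i _ (f i).2, R.inv_apply]

theorem diag_conj {d : Fin 6 → ZMod 3} {h : H}
    (hh : ∀ i, ∀ v ∈ F.L i, R.ρ h v = R.ρ (F.t ^ (d i).val) v) (τ : A6) (i : Fin 6) {v : V}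
    (hv : v ∈ F.L ((τ : Equiv.Perm (Fin 6)) i)) :
    R.ρ ⁅F.g τ, h⁆ v = R.ρ (F.t ^ (d i - d ((τ : Equiv.Perm (Fin 6)) i)).val) v := by
  have e1 : ∀ w ∈ F.L i, ∀ n : ℕ, R.ρ (F.g τ) (R.ρ (F.t ^ n) w) = R.ρ (F.t ^ n) (R.ρ (F.g τ) w) :=
    fun w _ n => by rw [← R.mul_apply, ← R.mul_apply, ((show Commute (F.g τ) F.t from F.t_comm _).pow_right n).eq]
  -- `g` maps `L i` onto the line of `τ i`
  obtain ⟨w, hw, rfl⟩ : ∃ w ∈ F.L i, R.ρ (F.g τ) w = v := by
    haveI : ∀ j, Finite (F.L j) := fun j => Nat.finite_of_card_ne_zero (by rw [F.card_L]; norm_num)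
    let φ : F.L i → F.L ((τ : Equiv.Perm (Fin 6)) i) := fun w => ⟨_, F.g_maps τ i w w.2⟩
    obtain ⟨w, hw⟩ := ((Nat.bijective_iff_injective_and_card φ).2 ⟨fun a b e =>
      Subtype.ext (R.inj _ (congrArg Subtype.val e)), by rw [F.card_L, F.card_L]⟩).2 ⟨v, hv⟩
    exact ⟨w, w.2, congrArg Subtype.val hw⟩
  set u := R.ρ (F.g τ) w with hu
  set k := d ((τ : Equiv.Perm (Fin 6)) i)
  have hback : R.ρ h⁻¹ u = R.ρ (F.t ^ (-k).val) u := by
    refine R.inj h ?_
    rw [← R.mul_apply, mul_inv_cancel, R.one_apply, hh _ _ (F.stable_pow _ hv _), ← R.mul_apply,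
      ← pow_add, ZMod.neg_val]
    split_ifs with hk
    · rw [show d ((τ : Equiv.Perm (Fin 6)) i) = 0 from hk, ZMod.val_zero, add_zero, pow_zero, R.one_apply]
    · rw [Nat.add_sub_cancel' (ZMod.val_lt _).le, F.t_cube, R.one_apply]
  rw [commutatorElement_def, R.mul_apply, R.mul_apply, R.mul_apply, hback,
    show R.ρ (F.g τ)⁻¹ (R.ρ (F.t ^ (-k).val) u) = R.ρ (F.t ^ (-k).val) w by
      rw [hu, ← e1 _ hw, R.inv_apply],
    hh _ _ (F.stable_pow _ hw _), e1 _ (F.stable_pow _ hw _), e1 _ hw, ← hu, ← R.mul_apply]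
  rw [show R.ρ (F.t ^ (d i).val * F.t ^ (-k).val) u = R.ρ (F.t ^ (d i).val) (R.ρ (F.t ^ (-k).val) u) from
      R.mul_apply _ _ _, F.t_pow_add, sub_eq_add_neg]

theorem rot_three : ∃ τ σ : A6, ∀ j, (![1, 2, 0, 3, 4, 5] : Fin 6 → Fin 6) j = (τ : Equiv.Perm (Fin 6)).symm j ∧
    (![0, 1, 2, 4, 5, 3] : Fin 6 → Fin 6) j = (σ : Equiv.Perm (Fin 6)).symm j :=
  ⟨⟨Equiv.swap 0 2 * Equiv.swap 1 2, Equiv.Perm.mem_alternatingGroup.2 (by decide +kernel)⟩,
    ⟨Equiv.swap 3 5 * Equiv.swap 4 5, Equiv.Perm.mem_alternatingGroup.2 (by decide +kernel)⟩,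
    by decide +kernel⟩

/-- `t` is in the derived subgroup. -/
theorem t_mem_commutator : F.t ∈ commutator H := by
  obtain ⟨τ, σ, hperm⟩ := rot_three
  obtain ⟨h₁, hh₁⟩ := F.diag ![1, 2, 0, 0, 0, 0] (by decide)
  obtain ⟨h₂, hh₂⟩ := F.diag ![0, 0, 0, 1, 2, 0] (by decide)
  have e : ⁅F.g τ, h₁⁆ * ⁅F.g σ, h₂⁆ = F.t := by
    refine F.ext_lines fun j v hv => ?_
    have e2 : R.ρ ⁅F.g σ, h₂⁆ v = R.ρ (F.t ^ ((![0, 0, 0, 1, 1, 1] : Fin 6 → ZMod 3) j).val) v := by
      obtain ⟨i, rfl⟩ := (σ : Equiv.Perm (Fin 6)).surjective j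
      have h := (hperm ((σ : Equiv.Perm (Fin 6)) i)).2
      rw [Equiv.symm_apply_apply] at h
      rw [F.diag_conj hh₂ σ i hv]
      congr 3
      generalize (σ : Equiv.Perm (Fin 6)) i = j at h ⊢
      rw [← h]; clear h
      revert j; decide
    have e1 : ∀ w ∈ F.L j, R.ρ ⁅F.g τ, h₁⁆ w = R.ρ (F.t ^ ((![1, 1, 1, 0, 0, 0] : Fin 6 → ZMod 3) j).val) w := by
      obtain ⟨i, rfl⟩ := (τ : Equiv.Perm (Fin 6)).surjective j
      have h := (hperm ((τ : Equiv.Perm (Fin 6)) i)).1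
      rw [Equiv.symm_apply_apply] at h
      intro w hw
      rw [F.diag_conj hh₁ τ i hw]
      congr 3
      generalize (τ : Equiv.Perm (Fin 6)) i = j at h ⊢
      rw [← h]; clear h
      revert j; decide
    rw [R.mul_apply, e2, e1 _ (F.stable_pow _ hv _), F.t_pow_add]
    conv_rhs => rw [← pow_one F.t]
    congr 3
    clear hv e1 e2
    revert j; decide
  rw [← e]
  exact mul_mem (Subgroup.commutator_mem_commutator (Subgroup.mem_top _) (Subgroup.mem_top _))
    (Subgroup.commutator_mem_commutator (Subgroup.mem_top _) (Subgroup.mem_top _))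

end Frame

variable {C : Type u} [Group C] [Finite C] {Q : Subgroup C} [Q.Normal] (S : Shape Q)

namespace Shape

include S

/-- The tower with its action. -/
theorem tower_data : ∃ (N M : Subgroup C) (_ : N.Normal) (_ : M.Normal),
    Q ≤ N ∧ N ≤ M ∧ Nat.card N = 3 * Nat.card Q ∧ M.index = 2 ∧
    (∀ m ∈ M, ∀ n ∈ N, ⁅m, n⁆ ∈ Q) ∧
    (∀ n ∈ N, n ∉ Q → ∀ v : VQ Q, rho Q n (rho Q n v) + rho Q n v + v = 0) ∧
    M ≤ ⁅M, M⁆ ⊔ Q ∧
    (∃ (K : Type) (_ : Field K) (_ : Fintype K),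
      Fintype.card K = 9 ∧ Nonempty (M ⧸ N.subgroupOf M ≃* Cfsg.PSU 4 K 3)) := by
  classical
  obtain ⟨N, M, hN, hM, hQN, hNM, hcardN, ⟨K, hfK, hftK, hK, ⟨φ⟩⟩, hidx⟩ := S.tower
  have : Fact (Nat.Prime 3) := ⟨Nat.prime_three⟩
  have : CharP K 3 := charP_of_card_eq_prime_pow (f := 2) (p := 3) (by rw [hK]; rfl)
  let QM : Subgroup M := Q.subgroupOf M
  let NM : Subgroup M := N.subgroupOf M
  have hQM : Nat.card QM = Nat.card Q := Nat.card_congr (Subgroup.subgroupOfEquivOfLe (hQN.trans hNM)).toEquiv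
  have hNMc : Nat.card NM = 3 * Nat.card Q := by
    rw [← hcardN]; exact Nat.card_congr (Subgroup.subgroupOfEquivOfLe hNM).toEquiv
  have hMcard : Nat.card M = 3265920 * (3 * Nat.card Q) := by
    rw [Subgroup.card_eq_card_quotient_mul_card_subgroup NM, hNMc, Nat.card_congr φ.toEquiv,
      CfsgLib.UFourThree82.card_psu hK]
  have hMbar : Nat.card (M ⧸ QM) = 9797760 := by
    have h := Subgroup.card_eq_card_quotient_mul_card_subgroup QM
    rw [hQM, hMcard] at h
    have : 0 < Nat.card Q := Nat.card_pos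
    nlinarith
  have hCcard : Nat.card (C ⧸ Q) = 19595520 := by
    have h := Subgroup.card_eq_card_quotient_mul_card_subgroup Q
    have h2 := Subgroup.card_mul_index M
    rw [hidx, hMcard] at h2
    have : 0 < Nat.card Q := Nat.card_pos
    nlinarith
  let ι : M ⧸ QM →* C ⧸ Q := QuotientGroup.map QM Q M.subtype le_rfl
  have hι : Function.Injective ι := by
    rw [injective_iff_map_eq_one]
    intro x hx
    obtain ⟨m, rfl⟩ := QuotientGroup.mk_surjective x
    exact (QuotientGroup.eq_one_iff m).2 ((QuotientGroup.eq_one_iff (m : C)).1 hx)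
  let f₀ : M →* Cfsg.PSU 4 K 3 := φ.toMonoidHom.comp (QuotientGroup.mk' NM)
  have hle : QM ≤ f₀.ker := fun x hx => by
    show φ (QuotientGroup.mk' NM x) = 1
    have hx' : x ∈ NM := hQN hx
    rw [show QuotientGroup.mk' NM x = 1 from (QuotientGroup.eq_one_iff x).2 hx', map_one]
  let f : M ⧸ QM →* Cfsg.PSU 4 K 3 := QuotientGroup.lift QM f₀ hle
  have hf : Function.Surjective f := fun y => by
    obtain ⟨z, rfl⟩ := φ.surjective y
    obtain ⟨m, rfl⟩ := QuotientGroup.mk_surjective z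
    exact ⟨QuotientGroup.mk m, rfl⟩
  have hker3 : Nat.card f.ker = 3 := by
    have h := Subgroup.card_eq_card_quotient_mul_card_subgroup f.ker
    rw [hMbar, Nat.card_congr (QuotientGroup.quotientKerEquivOfSurjective f hf).toEquiv,
      CfsgLib.UFourThree82.card_psu hK] at h
    omega
  have : IsCyclic f.ker := isCyclic_of_prime_card (p := 3) hker3
  obtain ⟨t₀, ht₀⟩ := IsCyclic.exists_generator (α := f.ker)
  let t : M ⧸ QM := t₀
  have hker : f.ker = Subgroup.zpowers t := by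
    refine le_antisymm (fun x hx => ?_) ((Subgroup.zpowers_le).2 t₀.2)
    obtain ⟨n, hn⟩ := Subgroup.mem_zpowers_iff.1 (ht₀ ⟨x, hx⟩)
    exact Subgroup.mem_zpowers_iff.2 ⟨n, by simpa [t] using congrArg Subtype.val hn⟩
  have hto : orderOf t = 3 := by rw [← Nat.card_zpowers, ← hker, hker3]
  have ht3 : t ^ 3 = 1 := hto ▸ pow_orderOf_eq_one t
  have htne : t ≠ 1 := fun e => by rw [e, orderOf_one] at hto; omega
  have htc : ∀ h, h * t = t * h := by
    let Z : Subgroup (M ⧸ QM) := Subgroup.centralizer {t}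
    have hpow : ∀ g : M ⧸ QM, g * t * g⁻¹ ∈ Subgroup.zpowers t := fun g => by
      rw [← hker]; exact Subgroup.Normal.conj_mem inferInstance t (hker ▸ Subgroup.mem_zpowers t) g
    have hzc : ∀ k ∈ Z, ∀ a ∈ Subgroup.zpowers t, k * a = a * k := by
      intro k hk a ha
      obtain ⟨n, rfl⟩ := Subgroup.mem_zpowers_iff.1 ha
      exact ((show Commute k t from Subgroup.mem_centralizer_singleton_iff.1 hk).zpow_right n).eq
    have hZn : Z.Normal := ⟨fun k hk g => by
      rw [Subgroup.mem_centralizer_singleton_iff]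
      have h1 := hzc k hk (g⁻¹ * t * g⁻¹⁻¹) (hpow g⁻¹)
      calc g * k * g⁻¹ * t = g * (k * (g⁻¹ * t * g⁻¹⁻¹)) * g⁻¹ := by group
        _ = g * (g⁻¹ * t * g⁻¹⁻¹ * k) * g⁻¹ := by rw [h1]
        _ = t * (g * k * g⁻¹) := by group⟩
    have hsq : ∀ g : M ⧸ QM, g * g ∈ Z := by
      intro g
      have hg : g * t * g⁻¹ = t ∨ g * t * g⁻¹ = t⁻¹ := by
        obtain ⟨n, hn⟩ := Subgroup.mem_zpowers_iff.1 (hpow g)
        rw [← hn, ← zpow_mod_orderOf, hto]
        rcases (by omega : n % (3 : ℕ) = 0 ∨ n % (3 : ℕ) = 1 ∨ n % (3 : ℕ) = 2) with e | e | e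
        · exfalso
          rw [← zpow_mod_orderOf, hto, e, zpow_zero] at hn
          exact htne (by
            have := hn.symm
            rwa [mul_inv_eq_one, mul_eq_left] at this)
        · left; rw [e, zpow_one]
        · right
          rw [e, eq_inv_iff_mul_eq_one, ← zpow_add_one]
          rw [show ((2 : ℤ) + 1) = ((3 : ℕ) : ℤ) from rfl, zpow_natCast]
          exact ht3
      rw [Subgroup.mem_centralizer_singleton_iff]
      have h2 : g * (g * t * g⁻¹) * g⁻¹ = t := by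
        rcases hg with e | e
        · rw [e, e]
        · rw [e, ← conj_inv, e, inv_inv]
      calc g * g * t = g * (g * t * g⁻¹) * g⁻¹ * (g * g) := by group
        _ = t * (g * g) := by rw [h2]
    have : IsSimpleGroup (Cfsg.PSU 4 K 3) :=
      CfsgLib.ClassicalGroups.psu_isSimpleGroup (n := 4) (by rw [hK]; rfl) (by norm_num) (by norm_num)
    rcases (Subgroup.Normal.map hZn f hf).eq_bot_or_eq_top with h | h
    · exfalso
      have : Fact (Nat.Prime 7) := ⟨by norm_num⟩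
      obtain ⟨y, hy⟩ := exists_prime_orderOf_dvd_card' (G := Cfsg.PSU 4 K 3) 7 (by
        rw [CfsgLib.UFourThree82.card_psu hK]; norm_num)
      obtain ⟨g, rfl⟩ := hf y
      have h2 : f g ^ 2 = 1 := by
        rw [sq, ← map_mul, ← Subgroup.mem_bot, ← h]
        exact ⟨_, hsq g, rfl⟩
      have := orderOf_dvd_of_pow_eq_one h2
      rw [hy] at this
      omega
    · intro g
      obtain ⟨k, hk, hkg⟩ := (h ▸ Subgroup.mem_top (f g) : f g ∈ Z.map f)
      have hmem : k⁻¹ * g ∈ Subgroup.zpowers t := by rw [← hker, MonoidHom.mem_ker]; simp [hkg]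
      have hkt : k * t = t * k := Subgroup.mem_centralizer_singleton_iff.1 hk
      obtain ⟨n, hn⟩ := Subgroup.mem_zpowers_iff.1 hmem
      rw [show g = k * t ^ n by rw [hn, mul_inv_cancel_left], mul_assoc, ← zpow_add_one, ← mul_assoc t,
        ← hkt, mul_assoc, ← zpow_one_add, add_comm]
  obtain ⟨D⟩ := exists_mono hK f hf t ht3 htne htc hker
  let R' : QRep (M ⧸ QM) (VQ Q) :=
    { ρ := S.rep.ρ.comp ι
      faithful := fun h hh => hι ((S.rep.faithful (ι h) hh).trans (map_one ι).symm)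
      two := S.rep.two
      card_V := S.rep.card_V
      q := S.rep.q
      b := S.rep.b
      q_add := S.rep.q_add
      b_add := S.rep.b_add
      nondeg := S.rep.nondeg
      q_inv := fun h v => S.rep.q_inv (ι h) v }
  obtain ⟨F⟩ := exists_frame (D := D) (R := R')
  haveI : IsSimpleGroup (Cfsg.PSU 4 K 3) :=
    CfsgLib.ClassicalGroups.psu_isSimpleGroup (n := 4) (by rw [hK]; rfl) (by norm_num) (by norm_num)
  have hcard7 : 7 ∣ Nat.card (Cfsg.PSU 4 K 3) := by
    rw [CfsgLib.UFourThree82.card_psu hK]; norm_num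
  have hnab : commutator (Cfsg.PSU 4 K 3) = ⊤ := by
    refine (inferInstance : (commutator (Cfsg.PSU 4 K 3)).Normal).eq_bot_or_eq_top.resolve_left fun h => ?_
    letI : CommGroup (Cfsg.PSU 4 K 3) :=
      { (inferInstance : Group (Cfsg.PSU 4 K 3)) with
        mul_comm := fun a b => commutatorElement_eq_one_iff_mul_comm.1
          (Subgroup.mem_bot.1 (h ▸ Subgroup.commutator_mem_commutator (Subgroup.mem_top a) (Subgroup.mem_top b))) }
    have hp : (Nat.card (Cfsg.PSU 4 K 3)).Prime := IsSimpleGroup.prime_card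
    rw [CfsgLib.UFourThree82.card_psu hK] at hp
    norm_num at hp
  haveI := Fintype.ofFinite (VQ Q)
  have hFt : F.t ∈ f.ker := by
    have h2 : f F.t ∈ Subgroup.center (Cfsg.PSU 4 K 3) := Subgroup.mem_center_iff.2 fun y => by
      obtain ⟨g, rfl⟩ := hf y
      rw [← map_mul, ← map_mul, F.t_comm]
    rcases (inferInstance : (Subgroup.center (Cfsg.PSU 4 K 3)).Normal).eq_bot_or_eq_top with h | h
    · exact MonoidHom.mem_ker.2 (Subgroup.mem_bot.1 (h ▸ h2))
    · exfalso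
      rw [← commutator_eq_bot_iff_center_eq_top, hnab] at h
      exact top_ne_bot h
  have hFne : F.t ≠ 1 := fun e => by
    obtain ⟨v, hv⟩ := (Finite.one_lt_card_iff_nontrivial.1 (by rw [R'.card_V]; norm_num) :
      Nontrivial (VQ Q)).exists_pair_ne
    obtain ⟨w, hw⟩ := hv
    refine hw ((?_ : ∀ v : VQ Q, v = 0) v |>.trans ((?_ : ∀ v : VQ Q, v = 0) w).symm) <;>
    · intro v
      have h := F.t_fpf v
      rwa [e, R'.one_apply, R'.one_apply, R'.two, zero_add] at h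
  have hkerF : f.ker = Subgroup.zpowers F.t := by
    haveI : Fact (Nat.card f.ker).Prime := ⟨by rw [hker3]; exact Nat.prime_three⟩
    refine le_antisymm (fun x hx => ?_) (Subgroup.zpowers_le.2 hFt)
    have h := mem_zpowers_of_prime_card (G := f.ker) rfl (g := ⟨F.t, hFt⟩) (g' := ⟨x, hx⟩)
      (fun e => hFne (congrArg Subtype.val e))
    obtain ⟨n, hn⟩ := Subgroup.mem_zpowers_iff.1 h
    exact Subgroup.mem_zpowers_iff.2 ⟨n, by simpa using congrArg Subtype.val hn⟩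
  have hNM' : ∀ (n : C) (hn : n ∈ N), (QuotientGroup.mk ⟨n, hNM hn⟩ : M ⧸ QM) ∈ f.ker := by
    intro n hn
    show φ (QuotientGroup.mk' NM ⟨n, hNM hn⟩) = 1
    rw [show QuotientGroup.mk' NM ⟨n, hNM hn⟩ = 1 from (QuotientGroup.eq_one_iff _).2 hn, map_one]
  refine ⟨N, M, hN, hM, hQN, hNM, hcardN, hidx, ?_, ?_, ?_, ⟨K, hfK, hftK, hK, ⟨φ⟩⟩⟩
  · intro m hm n hn
    have h : ⁅(QuotientGroup.mk ⟨m, hm⟩ : M ⧸ QM), (QuotientGroup.mk ⟨n, hNM hn⟩ : M ⧸ QM)⁆ = 1 := by
      rw [commutatorElement_eq_one_iff_mul_comm]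
      obtain ⟨k, hk⟩ := Subgroup.mem_zpowers_iff.1 (hker ▸ hNM' n hn)
      rw [← hk]
      exact ((show Commute (QuotientGroup.mk ⟨m, hm⟩ : M ⧸ QM) t from htc _).zpow_right k).eq
    rw [commutatorElement_def, ← QuotientGroup.mk_inv, ← QuotientGroup.mk_inv, ← QuotientGroup.mk_mul,
      ← QuotientGroup.mk_mul, ← QuotientGroup.mk_mul] at h
    have h' : (⟨m, hm⟩ * ⟨n, hNM hn⟩ * (⟨m, hm⟩ : M)⁻¹ * (⟨n, hNM hn⟩ : M)⁻¹) ∈ QM :=
      (QuotientGroup.eq_one_iff _).1 h
    exact h'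
  · intro n hn hnQ
    have hne : (QuotientGroup.mk ⟨n, hNM hn⟩ : M ⧸ QM) ≠ 1 := fun e => by
      have h : (⟨n, hNM hn⟩ : M) ∈ QM := (QuotientGroup.eq_one_iff _).1 e
      exact hnQ h
    obtain ⟨k, hk⟩ := Subgroup.mem_zpowers_iff.1 (hkerF ▸ hNM' n hn)
    have hgoal : ∀ v, R'.ρ (QuotientGroup.mk ⟨n, hNM hn⟩) v = rho Q n v := fun v => rfl
    intro v
    have hmod : ∀ k : ℤ, F.t ^ k = F.t ^ (k % (3 : ℕ)) := fun k => by
      rw [← orderOf_eq_prime (hp := ⟨Nat.prime_three⟩) F.t_cube hFne, zpow_mod_orderOf]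
    rw [← hgoal, ← hgoal, ← hk, hmod]
    rcases (by omega : k % (3 : ℕ) = 0 ∨ k % (3 : ℕ) = 1 ∨ k % (3 : ℕ) = 2) with e | e | e <;> rw [e]
    · exact absurd (by rw [← hk, hmod, e, zpow_zero]) hne
    · rw [zpow_one]; exact F.t_fpf v
    · rw [show (2 : ℤ) = ((2 : ℕ) : ℤ) from rfl, zpow_natCast, pow_two, R'.mul_apply, R'.mul_apply,
        ← R'.mul_apply F.t F.t (R'.ρ F.t v), ← R'.mul_apply, ← pow_three, F.t_cube, R'.one_apply,
        add_comm (R'.ρ F.t v)]
      exact F.t_fpf v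
  · have hperf : commutator (M ⧸ QM) = ⊤ := by
      refine eq_top_iff.2 fun x _ => ?_
      have hmap : (commutator (M ⧸ QM)).map f = ⊤ := by
        rw [commutator_def, Subgroup.map_commutator, ← MonoidHom.range_eq_map,
          MonoidHom.range_eq_top.2 hf, ← commutator_def, hnab]
      obtain ⟨y, hy, hyx⟩ := (hmap ▸ Subgroup.mem_top (f x) : f x ∈ (commutator (M ⧸ QM)).map f)
      have : y⁻¹ * x ∈ Subgroup.zpowers F.t := hkerF ▸ by simp [MonoidHom.mem_ker, hyx]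
      simpa using mul_mem hy (Subgroup.zpowers_le.2 F.t_mem_commutator this)
    intro m hm
    have hmap : (commutator M).map (QuotientGroup.mk' QM) = ⊤ := by
      rw [commutator_def, Subgroup.map_commutator, ← MonoidHom.range_eq_map,
        MonoidHom.range_eq_top.2 (QuotientGroup.mk'_surjective _), ← commutator_def, hperf]
    obtain ⟨y, hy, hyx⟩ := (hmap ▸ Subgroup.mem_top (QuotientGroup.mk' QM ⟨m, hm⟩) :
      QuotientGroup.mk' QM ⟨m, hm⟩ ∈ (commutator M).map (QuotientGroup.mk' QM))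
    have hyq : y⁻¹ * ⟨m, hm⟩ ∈ QM := QuotientGroup.eq.1 hyx
    have hy' : (y : C) ∈ ⁅M, M⁆ := by
      have h : M.subtype y ∈ (commutator M).map M.subtype := ⟨y, hy, rfl⟩
      rwa [commutator_def, Subgroup.map_commutator, ← MonoidHom.range_eq_map, Subgroup.range_subtype] at h
    have := Subgroup.mul_mem_sup hy' (show (y : C)⁻¹ * m ∈ Q from hyq)
    rwa [mul_inv_cancel_left] at this

end Shape

end CfsgLib.FischerTwoFour
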