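import Cfsg.Agent.Lib.FischerTwoFour.Coord
import Cfsg.Agent.Lib.FischerTwoFour.Tower

/-!
The index two subgroup of `C / Q` with its monomial coordinates at a vector of the orbit of length 1701.
-/

set_option autoImplicit false
set_option linter.unusedSectionVars false

universe u

namespace CfsgLib.FischerTwoFour

open Four

/-- Restriction of a representation to a subgroup. -/
def QRep.sub {H V : Type*} [Group H] [AddCommGroup V] (R : QRep H V) (M : Subgroup H) : QRep M V where
  ρ := R.ρ.comp M.subtype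
  faithful h hh := Subtype.ext (R.faithful (h : H) hh)
  two := R.two
  card_V := R.card_V
  q := R.q
  b := R.b
  q_add := R.q_add
  b_add := R.b_add
  nondeg := R.nondeg
  q_inv h v := R.q_inv (h : H) v

theorem QRep.sub_apply {H V : Type*} [Group H] [AddCommGroup V] (R : QRep H V) (M : Subgroup H) (h : M)
    (v : V) : (R.sub M).ρ h v = R.ρ (h : H) v := rfl

theorem QRep.rel_of_fpf {H V : Type*} [Group H] [AddCommGroup V] (R : QRep H V) {a b c : V}
    (h : a + b + c = 0) : a = b + c := by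
  calc a = a + ((b + c) + (b + c)) := by rw [R.two, add_zero]
    _ = (a + b + c) + (b + c) := by abel
    _ = b + c := by rw [h, zero_add]

namespace Frame

variable {H V : Type*} [Group H] [Finite H] [AddCommGroup V] [Fintype V] {R : QRep H V} (F : Frame R)

/-- The coordinates normalised at a full code. -/
noncomputable def coord (a : Fin 6 → ZMod 3) : Vec →+ V :=
  AddMonoidHom.mk' (fun x => ∑ i, ((if (x i).1 = 1 then ((F.pt i (some (a i)) : F.L i) : V) else 0) +
      (if (x i).2 = 1 then R.ρ F.t ((F.pt i (some (a i)) : F.L i) : V) else 0))) fun x y => by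
    rw [← Finset.sum_add_distrib]
    refine Finset.sum_congr rfl fun i _ => ?_
    have key : ∀ (u : V) (p q : ZMod 2), (if p + q = 1 then u else 0) =
        (if p = 1 then u else 0) + (if q = 1 then u else 0) := by
      intro u p q
      rcases (by decide : ∀ p : ZMod 2, p = 0 ∨ p = 1) p with rfl | rfl <;>
        rcases (by decide : ∀ p : ZMod 2, p = 0 ∨ p = 1) q with rfl | rfl <;>
          simp [R.two, show (1 : ZMod 2) + 1 = 0 by decide]
    simp only [Pi.add_apply, Prod.fst_add, Prod.snd_add, key]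
    abel

/-- The code of a vector. -/
def codeOf (a : Fin 6 → ZMod 3) (x : Vec) : Code := fun i => if x i = 0 then none else some (lg (x i) + a i)

theorem coord_eq (a : Fin 6 → ZMod 3) (x : Vec) : F.coord a x = F.Φ (codeOf a x) := by
  show _ = ∑ i : Fin 6, ((F.pt i (codeOf a x i) : F.L i) : V)
  simp only [coord, AddMonoidHom.mk'_apply]
  refine Finset.sum_congr rfl fun i _ => ?_
  have hb : ∀ j, R.ρ (F.t ^ (j : ZMod 3).val) ((F.pt i (some (a i)) : F.L i) : V) =
      ((F.pt i (some (j + a i)) : F.L i) : V) := fun j => F.t_pow_add j (a i) _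
  have h1 := hb 1
  have h2 := hb 2
  rw [show (1 : ZMod 3).val = 1 from rfl, pow_one] at h1
  rw [show (2 : ZMod 3).val = 2 from rfl, pow_two, R.mul_apply] at h2
  have hrel := F.t_fpf ((F.pt i (some (a i)) : F.L i) : V)
  rcases (by decide : ∀ c : K4, c = 0 ∨ c = (1, 0) ∨ c = (0, 1) ∨ c = (1, 1)) (x i) with e | e | e | e <;>
    simp only [codeOf, e]
  · simp; rfl
  · simp [lg]
  · simp [lg, h1]
  · simp only [if_true, Prod.mk_eq_zero, one_ne_zero, false_and, if_false]
    rw [show lg ((1, 1) : K4) = 2 from rfl, ← h2, R.rel_of_fpf hrel, add_comm]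

theorem coord_bij (a : Fin 6 → ZMod 3) : Function.Bijective (F.coord a) := by
  have hinj : Function.Injective (F.coord a) := by
    intro x y e
    rw [F.coord_eq, F.coord_eq] at e
    funext i
    exact (by decide : ∀ (c : ZMod 3) (u w : K4), (if u = 0 then none else some (lg u + c)) =
      (if w = 0 then none else some (lg w + c)) → u = w) (a i) _ _ (congrFun (F.Φ_bij.1 e) i)
  refine (Nat.bijective_iff_injective_and_card _).2 ⟨hinj, ?_⟩
  rw [R.card_V, Nat.card_eq_fintype_card, Fintype.card_fun, Fintype.card_prod, ZMod.card, Fintype.card_fin]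
  norm_num

theorem wt_codeOf (a : Fin 6 → ZMod 3) (x : Vec) : wt (codeOf a x) = wtV x := by
  rw [wt, wtV]
  refine congrArg Finset.card (Finset.filter_congr fun i _ => ?_)
  simp [codeOf]

theorem cl_codeOf (a : Fin 6 → ZMod 3) {x : Vec} (hx : wtV x = 6) :
    cl (codeOf a x) = clsV x + ∑ i, a i := by
  rw [cl, clsV, ← Finset.sum_add_distrib]
  refine Finset.sum_congr rfl fun i _ => ?_
  have : Finset.univ.filter (fun i => x i ≠ 0) = Finset.univ :=
    Finset.eq_univ_of_card _ (by rw [← wtV, hx]; rfl)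
  rw [codeOf, if_neg (Finset.filter_eq_self.1 this i (Finset.mem_univ _))]
  rfl

/-- The monomial coordinates at a vector of the orbit of length 1701. -/
theorem exists_co {x : H} (hx : orderOf x = 7) (h11 : ¬ 11 ∣ Nat.card H) :
    ∃ K : Co R, K.t = F.t ∧ (R.orb K.v).card = 1701 ∧
      ∀ w : Vec, wtV w = 2 → (R.orb (K.e w)).card = 378 := by
  classical
  obtain ⟨f₁, f₂, w1, w2, c1, c2, hor, hfull⟩ := F.orbits_codes hx h11
  have hq2 : R.q (F.Φ f₂) = 0 := by rw [F.q_Φ, w2]; rfl
  obtain ⟨f, hf, hrel⟩ := hfull _ (F.Φ_ne_zero (by omega)) hq2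
  have hsome : ∀ i, ∃ j, f i = some j := fun i => by
    have : Finset.univ.filter (fun i => f i ≠ none) = Finset.univ :=
      Finset.eq_univ_of_card _ (by rw [← wt, hf]; rfl)
    exact Option.ne_none_iff_exists'.1 (Finset.filter_eq_self.1 this i (Finset.mem_univ _))
  choose a ha using hsome
  have hcl : cl f = ∑ i, a i := Finset.sum_congr rfl fun i _ => by rw [ha]; rfl
  let e : Vec ≃+ V := AddEquiv.ofBijective (F.coord a) (F.coord_bij a)
  have hone : F.Φ (codeOf a (cst one)) = F.Φ f := congrArg F.Φ (funext fun i => by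
    rw [codeOf, ha, if_neg (show cst one i ≠ 0 from (by decide : (one : K4) ≠ 0))]
    show some (lg one + a i) = _
    rw [show lg one = 0 from rfl, zero_add])
  have he : ∀ x, e x = F.Φ (codeOf a x) := F.coord_eq a
  have horb : ∀ {u w}, R.Rel u w → (R.orb w).card = (R.orb u).card := fun {u w} h =>
    congrArg Finset.card (Finset.ext fun y => by
      rw [QRep.mem_orb, QRep.mem_orb]
      exact ⟨fun h' => h.trans R h', fun h' => (h.symm R).trans R h'⟩)
  have hv : (R.orb (F.Φ f)).card = 1701 := (horb hrel).symm.trans c2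
  obtain ⟨φ, -, hφ⟩ := F.stab_A6_lines hf
  have hφb : ∀ (π : A6) i, R.ρ (φ π) ((F.pt i (some (a i)) : F.L i) : V) =
      ((F.pt ((π : Equiv.Perm (Fin 6)) i) (some (a ((π : Equiv.Perm (Fin 6)) i))) : F.L _) : V) := by
    intro π i
    obtain ⟨hm, hfix⟩ := hφ π
    let G1 : ∀ k, F.L k := fun k => ⟨R.ρ (φ π) ((F.pt ((π : Equiv.Perm (Fin 6)).symm k)
        (f ((π : Equiv.Perm (Fin 6)).symm k)) : F.L _) : V), by
      have := hm _ _ (F.pt ((π : Equiv.Perm (Fin 6)).symm k) (f ((π : Equiv.Perm (Fin 6)).symm k))).2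
      rwa [Equiv.apply_symm_apply] at this⟩
    have hG : (∑ k, (G1 k : V)) = ∑ k, ((F.pt k (f k) : F.L k) : V) := by
      conv_rhs => rw [← Frame.Φ, ← hfix, Frame.Φ, map_sum]
      exact Equiv.sum_comp (π : Equiv.Perm (Fin 6)).symm (fun i => R.ρ (φ π) ((F.pt i (f i) : F.L i) : V))
    have := congrArg Subtype.val (congrFun (F.bij.1 (a₁ := G1) (a₂ := fun k => F.pt k (f k)) hG)
      ((π : Equiv.Perm (Fin 6)) i))
    simp only [G1] at this
    rw [Equiv.symm_apply_apply] at this
    rwa [ha, ha] at this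
  have h2 : ∀ w : Vec, wtV w = 2 → (R.orb (e w)).card = 378 := fun w hw => by
    rw [he, horb (F.rel_weight (f := f₁) (f' := codeOf a w) (by rw [w1, wt_codeOf, hw]) (Or.inl w1)), c1]
  refine ⟨{ t := F.t, t_cube := F.t_cube, t_comm := F.t_comm, e := e, e_om := ?_, q_e := ?_, p := φ,
            p_e := ?_, wt_two := ?_, wt_four := ?_, wt_six := ?_ }, rfl, ?_, h2⟩
  · intro x
    show R.ρ F.t (F.coord a x) = F.coord a (omV x)
    simp only [coord, AddMonoidHom.mk'_apply, map_sum, map_add, omV, om]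
    refine Finset.sum_congr rfl fun i _ => ?_
    set b := ((F.pt i (some (a i)) : F.L i) : V)
    have hr : R.ρ F.t (R.ρ F.t b) = R.ρ F.t b + b :=
      R.rel_of_fpf (F.t_fpf b)
    have h2n : ∀ u w : V, u + (u + w) = w := fun u w => by rw [← add_assoc, R.two, zero_add]
    rcases (by decide : ∀ p : ZMod 2, p = 0 ∨ p = 1) (x i).1 with e1 | e1 <;>
      rcases (by decide : ∀ p : ZMod 2, p = 0 ∨ p = 1) (x i).2 with e2 | e2 <;>
        simp [e1, e2, hr, h2n, R.two, show (1 : ZMod 2) + 1 = 0 by decide] <;>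
        first | abel | (rw [add_comm])
  · intro x
    rw [he, F.q_Φ, wt_codeOf, wtV, ← Finset.sum_boole]
    exact Finset.sum_congr rfl fun i _ => by rw [nz]; split_ifs <;> simp_all
  · intro π x
    show R.ρ (φ π) (F.coord a x) = F.coord a fun i => x ((π : Equiv.Perm (Fin 6)).symm i)
    simp only [coord, AddMonoidHom.mk'_apply, map_sum, map_add]
    rw [← Equiv.sum_comp (π : Equiv.Perm (Fin 6)) (fun k => (if (x ((π : Equiv.Perm (Fin 6)).symm k)).1 = 1
      then ((F.pt k (some (a k)) : F.L k) : V) else 0) + (if (x ((π : Equiv.Perm (Fin 6)).symm k)).2 = 1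
      then R.ρ F.t ((F.pt k (some (a k)) : F.L k) : V) else 0))]
    refine Finset.sum_congr rfl fun i _ => ?_
    simp only [Equiv.symm_apply_apply]
    split_ifs <;> simp only [map_zero, hφb, ← R.mul_apply, F.t_comm] <;> rw [R.mul_apply, hφb]
  · intro w hw hr
    have := horb hr
    rw [h2 w hw, he, hone, hv] at this
    omega
  · intro w hw
    rw [he, he, hone]
    have h4 : R.Rel (F.Φ f₂) (F.Φ (codeOf a w)) :=
      F.rel_weight (by rw [w2, wt_codeOf, hw]) (Or.inr w2)
    exact hrel.trans R h4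
  · intro w hw hc
    rw [he, he, hone]
    exact F.rel_full hf (by rw [wt_codeOf, hw]) (by rw [cl_codeOf a hw, hc, zero_add, hcl])
  · show (R.orb (e (cst one))).card = 1701
    rw [he, hone, hv]

end Frame

variable {C : Type u} [Group C] [Finite C] {Q : Subgroup C} [Q.Normal] (S : Shape Q)

include S in
theorem Shape.card_VQ_fintype : Nat.card (VQ Q) = 4096 := S.card_VQ

/-- The index two subgroup of `C / Q` with coordinates. -/
theorem Shape.exists_co (hV : Fintype (VQ Q)) :
    ∃ Mb : Subgroup (C ⧸ Q), Mb.index = 2 ∧ Nat.card Mb = 9797760 ∧ ∃ K : Co (S.rep.sub Mb),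
      ((S.rep.sub Mb).orb K.v).card = 1701 ∧ (∀ w : Vec, wtV w = 2 → ((S.rep.sub Mb).orb (K.e w)).card = 378) ∧
      orderOf (K.t : C ⧸ Q) = 3 ∧ ∀ y : C ⧸ Q, y * (K.t : C ⧸ Q) * y⁻¹ ∈ Subgroup.zpowers (K.t : C ⧸ Q) := by
  classical
  obtain ⟨N, M, hN, hM, hQN, hNM, hcardN, hidx, hcom, -, -, K, hfK, hftK, hK, ⟨φ⟩⟩ := S.tower_data
  have : Fact (Nat.Prime 3) := ⟨Nat.prime_three⟩
  have : CharP K 3 := charP_of_card_eq_prime_pow (f := 2) (p := 3) (by rw [hK]; rfl)
  let Mb : Subgroup (C ⧸ Q) := M.map (QuotientGroup.mk' Q)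
  let Nb : Subgroup (C ⧸ Q) := N.map (QuotientGroup.mk' Q)
  have hNb : Nat.card Nb = 3 := by
    let g := (QuotientGroup.mk' Q).comp N.subtype
    have hr : g.range = Nb := by rw [MonoidHom.range_comp, Subgroup.range_subtype]
    have hk : g.ker = Q.subgroupOf N := by ext n; simp [g, Subgroup.mem_subgroupOf]
    have h := Subgroup.card_eq_card_quotient_mul_card_subgroup g.ker
    rw [Nat.card_congr (QuotientGroup.quotientKerEquivRange g).toEquiv, hr, hk,
      Nat.card_congr (Subgroup.subgroupOfEquivOfLe hQN).toEquiv, hcardN] at h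
    exact (Nat.eq_of_mul_eq_mul_right Nat.card_pos h).symm
  have hMidx : Mb.index = 2 := by
    rw [Subgroup.index_map_eq _ (QuotientGroup.mk'_surjective Q) ?_, hidx]
    rw [QuotientGroup.ker_mk']; exact hQN.trans hNM
  have hMb : Nat.card Mb = 9797760 := by
    have h := Subgroup.card_mul_index Mb
    rw [hMidx, S.card_C] at h
    omega
  -- the projection
  let π₀ : M →* Mb := ((QuotientGroup.mk' Q).comp M.subtype).codRestrict Mb fun m => ⟨m, m.2, rfl⟩
  have hπ₀ : Function.Surjective π₀ := by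
    rintro ⟨_, m, hm, rfl⟩
    exact ⟨⟨m, hm⟩, rfl⟩
  let f₀ : M →* Cfsg.PSU 4 K 3 := φ.toMonoidHom.comp (QuotientGroup.mk' (N.subgroupOf M))
  have hker : π₀.ker ≤ f₀.ker := fun m hm => by
    have hmQ : (m : C) ∈ Q := (QuotientGroup.eq_one_iff _).1 (congrArg Subtype.val hm)
    show φ (QuotientGroup.mk' _ m) = 1
    rw [show QuotientGroup.mk' (N.subgroupOf M) m = 1 from (QuotientGroup.eq_one_iff m).2 (hQN hmQ), map_one]
  let f : Mb →* Cfsg.PSU 4 K 3 := π₀.liftOfSurjective hπ₀ ⟨f₀, hker⟩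
  have hfπ : ∀ m, f (π₀ m) = f₀ m := fun m => π₀.liftOfRightInverse_comp_apply _ (Function.rightInverse_surjInv hπ₀) ⟨f₀, hker⟩ m
  have hf : Function.Surjective f := fun y => by
    obtain ⟨z, rfl⟩ := φ.surjective y
    obtain ⟨m, rfl⟩ := QuotientGroup.mk_surjective z
    exact ⟨π₀ m, hfπ m⟩
  have hfker : ∀ y : Mb, y ∈ f.ker ↔ (y : C ⧸ Q) ∈ Nb := by
    intro y
    obtain ⟨m, rfl⟩ := hπ₀ y
    rw [MonoidHom.mem_ker, hfπ]
    constructor
    · intro h
      have : QuotientGroup.mk' (N.subgroupOf M) m = 1 := φ.injective (h.trans (map_one φ).symm)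
      exact ⟨m, (QuotientGroup.eq_one_iff m).1 this, rfl⟩
    · rintro ⟨n, hn, e⟩
      have hm : (m : C) ∈ N := by
        have e' : n⁻¹ * (m : C) ∈ Q := QuotientGroup.eq.1 e
        simpa using N.mul_mem hn (hQN e')
      show φ (QuotientGroup.mk' _ m) = 1
      rw [show QuotientGroup.mk' (N.subgroupOf M) m = 1 from (QuotientGroup.eq_one_iff m).2 hm, map_one]
  have hNle : Nb ≤ Mb := Subgroup.map_mono hNM
  have : IsCyclic Nb := isCyclic_of_prime_card (p := 3) hNb
  obtain ⟨t₀, ht₀⟩ := IsCyclic.exists_generator (α := Nb)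
  let t : Mb := ⟨(t₀ : C ⧸ Q), hNle t₀.2⟩
  have hz : Subgroup.zpowers (t₀ : C ⧸ Q) = Nb := by
    refine le_antisymm (Subgroup.zpowers_le.2 t₀.2) fun y hy => ?_
    obtain ⟨n, hn⟩ := Subgroup.mem_zpowers_iff.1 (ht₀ ⟨y, hy⟩)
    exact Subgroup.mem_zpowers_iff.2 ⟨n, by simpa using congrArg Subtype.val hn⟩
  have hto : orderOf (t₀ : C ⧸ Q) = 3 := by rw [← Nat.card_zpowers, hz, hNb]
  have ht3 : t ^ 3 = 1 := Subtype.ext (hto ▸ pow_orderOf_eq_one _)
  have htne : t ≠ 1 := fun e => by
    have e' : (t₀ : C ⧸ Q) = 1 := congrArg Subtype.val e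
    rw [e', orderOf_one] at hto; omega
  have htc : ∀ h : Mb, h * t = t * h := by
    rintro ⟨_, m, hm, rfl⟩
    apply Subtype.ext
    obtain ⟨n, hn, hne⟩ := t₀.2
    show QuotientGroup.mk' Q m * (t₀ : C ⧸ Q) = (t₀ : C ⧸ Q) * QuotientGroup.mk' Q m
    rw [← hne, ← commutatorElement_eq_one_iff_mul_comm, ← map_commutatorElement]
    exact (QuotientGroup.eq_one_iff _).2 (hcom m hm n hn)
  have hfk : f.ker = Subgroup.zpowers t := by
    ext y
    rw [hfker, ← hz, Subgroup.mem_zpowers_iff, Subgroup.mem_zpowers_iff]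
    exact exists_congr fun n => ⟨fun e => Subtype.ext (by simpa [t] using e),
      fun e => by simpa [t] using congrArg Subtype.val e⟩
  obtain ⟨D⟩ := exists_mono hK f hf t ht3 htne htc hfk
  obtain ⟨F⟩ := exists_frame (D := D) (R := S.rep.sub Mb)
  have : Fact (Nat.Prime 7) := ⟨by norm_num⟩
  obtain ⟨x, hx⟩ := exists_prime_orderOf_dvd_card' (G := Mb) 7 (by rw [hMb]; norm_num)
  obtain ⟨Kc, hKt, h1, h2⟩ := F.exists_co hx (by rw [hMb]; norm_num)
  refine ⟨Mb, hMidx, hMb, Kc, h1, h2, ?_, fun y => ?_⟩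
  all_goals
    have hmem : (F.t : C ⧸ Q) ∈ Nb := by
      have h : F.t ∈ f.ker := by
        rw [MonoidHom.mem_ker]
        have hc : f F.t ∈ Subgroup.center (Cfsg.PSU 4 K 3) := Subgroup.mem_center_iff.2 fun g => by
          obtain ⟨g, rfl⟩ := hf g
          rw [← map_mul, ← map_mul, F.t_comm]
        have : IsSimpleGroup (Cfsg.PSU 4 K 3) :=
          CfsgLib.ClassicalGroups.psu_isSimpleGroup (n := 4) (by rw [hK]; rfl) (by norm_num) (by norm_num)
        rcases (Subgroup.Normal.eq_bot_or_eq_top (inferInstance : (Subgroup.center (Cfsg.PSU 4 K 3)).Normal)) with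
          h | h
        · exact Subgroup.mem_bot.1 (h ▸ hc)
        · exfalso
          have hcard := CfsgLib.UFourThree82.card_psu hK
          have : Fact (Nat.Prime 7) := ⟨by norm_num⟩
          have hcomm : ∀ a b : Cfsg.PSU 4 K 3, a * b = b * a := fun a b =>
            Subgroup.mem_center_iff.1 (h ▸ Subgroup.mem_top b) a
          let _ : CommGroup (Cfsg.PSU 4 K 3) := { (inferInstance : Group (Cfsg.PSU 4 K 3)) with mul_comm := hcomm }
          have := IsSimpleGroup.prime_card (α := Cfsg.PSU 4 K 3)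
          rw [hcard] at this
          norm_num at this
      exact (hfker _).1 h
    have hF3 : orderOf (F.t : C ⧸ Q) = 3 := by
      refine orderOf_eq_prime (congrArg Subtype.val F.t_cube) fun e => ?_
      have e1 : F.t = 1 := Subtype.ext e
      have : Nontrivial (VQ Q) := Finite.one_lt_card_iff_nontrivial.1 (by rw [S.card_VQ]; norm_num)
      obtain ⟨u, hu⟩ := exists_ne (0 : VQ Q)
      have := F.t_fpf u
      rw [e1, QRep.one_apply, QRep.one_apply, S.rep.two, zero_add] at this
      exact hu this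
  · rw [hKt]; exact hF3
  · rw [hKt]
    have hz' : Subgroup.zpowers (F.t : C ⧸ Q) = Nb :=
      Subgroup.eq_of_le_of_card_ge (Subgroup.zpowers_le.2 hmem) (by rw [Nat.card_zpowers, hF3, hNb])
    rw [hz']
    obtain ⟨c, rfl⟩ := QuotientGroup.mk'_surjective Q y
    obtain ⟨n, hn, hne⟩ := hmem
    exact ⟨c * n * c⁻¹, hN.conj_mem n hn c, by rw [← hne]; simp⟩

end CfsgLib.FischerTwoFour
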