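import Mathlib

/-!
The field of four elements as pairs of bits, hermitian vectors of length six, and the finite facts about
patterns and pairings of six points used for the monomial model of large Fischer type.
-/

set_option autoImplicit false

namespace CfsgLib.FischerTwoFour.Four

/-- Four elements: `(a, b)` stands for `a + b ω`. -/
abbrev K4 : Type := ZMod 2 × ZMod 2

/-- Vectors of length six. -/
abbrev Vec : Type := Fin 6 → K4

/-- The unit. -/
def one : K4 := (1, 0)

/-- Multiplication by `ω`. -/
def om (x : K4) : K4 := (x.2, x.1 + x.2)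

/-- The product. -/
def mul (x y : K4) : K4 := (x.1 * y.1 + x.2 * y.2, x.1 * y.2 + x.2 * y.1 + x.2 * y.2)

/-- Conjugation. -/
def cj (x : K4) : K4 := (x.1 + x.2, x.2)

/-- The alternating form. -/
def bt (x y : K4) : ZMod 2 := x.1 * y.2 + x.2 * y.1

/-- The norm. -/
def nz (x : K4) : ZMod 2 := if x = 0 then 0 else 1

/-- The number of nonzero coordinates. -/
def wtV (x : Vec) : ℕ := (Finset.univ.filter fun i => x i ≠ 0).card

/-- The exponent of a nonzero element. -/
def lg (x : K4) : ZMod 3 := if x.2 = 0 then 0 else if x.1 = 0 then 1 else 2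

/-- The class of a full vector. -/
def clsV (x : Vec) : ZMod 3 := ∑ i, lg (x i)

/-- Coordinatewise multiplication by `ω`. -/
def omV (x : Vec) : Vec := fun i => om (x i)

/-- A constant vector. -/
def cst (a : K4) : Vec := fun _ => a

/-- The coordinate sum. -/
def sig (x : Vec) : K4 := ∑ i, x i

/-- The alternating form on vectors. -/
def btV (x y : Vec) : ZMod 2 := ∑ i, bt (x i) (y i)

/-- The hermitian form. -/
def herm (x y : Vec) : K4 := ∑ i, mul (x i) (cj (y i))

/-- A vector supported at one point. -/
def one1 (i : Fin 6) (a : K4) : Vec := Pi.single (M := fun _ => K4) i a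

theorem om_three : ∀ x : K4, om (om x) + om x + x = 0 := by decide

theorem add_self (x : K4) : x + x = 0 := by revert x; decide

theorem vec_add_self (x : Vec) : x + x = 0 := funext fun i => add_self (x i)

theorem om_add (x y : K4) : om (x + y) = om x + om y := by revert x y; decide

theorem mul_add (a x y : K4) : mul a (x + y) = mul a x + mul a y := by revert a x y; decide

theorem add_mul (a b x : K4) : mul (a + b) x = mul a x + mul b x := by revert a b x; decide

theorem mul_zero (a : K4) : mul a 0 = 0 := by revert a; decide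

theorem zero_mul (a : K4) : mul 0 a = 0 := by revert a; decide

theorem mul_one (a : K4) : mul a one = a := by revert a; decide

theorem one_mul (a : K4) : mul one a = a := by revert a; decide

theorem mul_comm (a b : K4) : mul a b = mul b a := by revert a b; decide

theorem mul_assoc (a b c : K4) : mul (mul a b) c = mul a (mul b c) := by revert a b c; decide

theorem eq_zero_of_mul {a b : K4} (h : mul a b = 0) : a = 0 ∨ b = 0 := by revert a b; decide

theorem mul_eq (a x : K4) : mul a x = (if a.1 = 1 then x else 0) + (if a.2 = 1 then om x else 0) := by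
  revert a x; decide

theorem bt_nz : ∀ x y : K4, nz (x + y) = nz x + nz y + bt x y := by decide

theorem bt_herm (x y : K4) : bt (mul x (cj y)) one = bt x y ∧ bt (om (mul x (cj y))) one = bt (om x) y := by
  revert x y; decide

theorem bt_separates : ∀ a a' : K4, bt a one = bt a' one → bt (om a) one = bt (om a') one → a = a' := by
  decide

theorem cst_add (a b : K4) : cst (a + b) = cst a + cst b := rfl

theorem omV_cst (a : K4) : omV (cst a) = cst (om a) := rfl

theorem omV_add (x y : Vec) : omV (x + y) = omV x + omV y := funext fun i => om_add (x i) (y i)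

theorem sig_add (x y : Vec) : sig (x + y) = sig x + sig y := Finset.sum_add_distrib

theorem sig_cst (a : K4) : sig (cst a) = 0 := by revert a; decide

theorem sig_single (i : Fin 6) (a : K4) : sig (one1 i a) = a :=
  (Finset.sum_pi_single' i a Finset.univ).trans (if_pos (Finset.mem_univ i))

theorem sig_omV (x : Vec) : sig (omV x) = om (sig x) :=
  (map_sum (AddMonoidHom.mk' om om_add) x Finset.univ).symm

theorem herm_add (x y z : Vec) : herm (x + y) z = herm x z + herm y z := by
  simp only [herm, ← Finset.sum_add_distrib]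
  exact Finset.sum_congr rfl fun i _ => add_mul _ _ _

theorem herm_zero (x : Vec) : herm x 0 = 0 :=
  Finset.sum_eq_zero fun i _ => by
    show mul (x i) (cj 0) = 0
    rw [show cj 0 = (0 : K4) from rfl, mul_zero]

/-- The prospective element with translation `D`, fixing the constant vectors. -/
def act (D x : Vec) : Vec :=
  x + (fun i => mul (sig x) (D i)) + cst (herm (x + one1 2 (sig x)) D)

theorem act_zero (x : Vec) : act 0 x = x := by
  funext i
  show x i + mul (sig x) (0 : K4) + herm _ 0 = x i
  rw [mul_zero, herm_zero, add_zero, add_zero]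

/-- A multiple of a pair. -/
def pairV (μ : K4) (a b : Fin 6) : Vec := fun i => if i = a ∨ i = b then μ else 0

/-- A translation supported on a pair, up to constants, is forced. -/
theorem forced : ∀ μ γ : K4,
    (wtV (one1 2 one + (pairV μ 0 1 + cst γ)) % 2 = 1) →
    (μ = 0 ∧ γ = 0) ∨
      wtV (act (pairV μ 0 1 + cst γ) (one1 2 one + one1 3 (0, 1))) = 4 ∨
      (wtV (act (pairV μ 0 1 + cst γ) (one1 2 one + one1 3 (0, 1))) = 6 ∧
        clsV (act (pairV μ 0 1 + cst γ) (one1 2 one + one1 3 (0, 1))) = 0) ∨
      ((μ = (0, 1) ∨ μ = (1, 1)) ∧ γ = one) := by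
  decide +kernel

theorem wt_two : wtV (one1 2 one + one1 3 (0, 1)) = 2 := by decide

/-- A pair translation on the fixed pattern. -/
theorem three_pairs : ∀ μ : K4, μ ≠ 0 → ∀ γ : K4, pairV μ 0 1 + pairV μ 4 5 + cst γ = pairV μ 2 3 + cst (μ + γ) := by
  decide

/-! ### Patterns -/

/-- Subsets of six points as bit vectors. -/
abbrev Pat : Type := Fin 6 → ZMod 2

/-- The product of two patterns. -/
def dot (x y : Pat) : ZMod 2 := ∑ i, x i * y i

/-- All patterns are even or zero representatives. -/
def perp (P : Pat) (y : Pat) : Prop := ∑ i, y i = 0 ∧ dot P y = 0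

/-- A normalised pattern: even, and zero at the third point. -/
def Norm (P : Pat) : Prop := P 2 = 0 ∧ ∑ i, P i = 0

instance (P : Pat) : Decidable (Norm P) := inferInstanceAs (Decidable (_ ∧ _))

/-- The vector of a normalised pattern. -/
def patV (μ : K4) (P : Pat) : Vec := fun i => if P i = 1 then μ else 0

/-- Patterns orthogonal to two given ones. -/
def perp2 (P P' : Pat) : Finset Pat :=
  Finset.univ.filter fun y => ∑ i, y i = 0 ∧ dot P y = 0 ∧ dot P' y = 0

set_option synthInstance.maxSize 1000 in
set_option synthInstance.maxHeartbeats 200000 in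
theorem card_perp2 : ∀ P P' : Pat, Norm P → Norm P' → P ≠ 0 → P' ≠ 0 → P ≠ P' → (perp2 P P').card = 8 := by
  decide +kernel

set_option synthInstance.maxSize 1000 in
set_option synthInstance.maxHeartbeats 200000 in
theorem card_perp3 : ∀ P P' P'' : Pat, Norm P → Norm P' → Norm P'' → P ≠ 0 → P' ≠ 0 → P'' ≠ 0 → P ≠ P' →
    P'' ≠ P → P'' ≠ P' → P'' ≠ P + P' → ((perp2 P P').filter fun y => dot P'' y = 0).card ≤ 4 := by
  decide +kernel

theorem card_perp1 : ∀ P : Pat, Norm P → P ≠ 0 →
    (Finset.univ.filter fun y : Pat => ∑ i, y i = 0 ∧ dot P y = 0).card ≤ 16 := by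
  decide +kernel

theorem perp_all : ∀ y : Pat, ∑ i, y i = 0 →
    (∀ P : Pat, Norm P → dot P y = 0) → ∀ i j, y i = y j := by
  decide +kernel

/-! ### Pairings of the six points -/

/-- The fifteen pairings, each as its involution without fixed points. -/
def pairing : Fin 15 → Fin 6 → Fin 6 :=
  ![![1, 0, 3, 2, 5, 4], ![1, 0, 4, 5, 2, 3], ![1, 0, 5, 4, 3, 2],
    ![2, 3, 0, 1, 5, 4], ![2, 4, 0, 5, 1, 3], ![2, 5, 0, 4, 3, 1],
    ![3, 2, 1, 0, 5, 4], ![3, 4, 5, 0, 1, 2], ![3, 5, 4, 0, 2, 1],
    ![4, 2, 1, 5, 0, 3], ![4, 3, 5, 1, 0, 2], ![4, 5, 3, 2, 0, 1],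
    ![5, 2, 1, 4, 3, 0], ![5, 3, 4, 1, 2, 0], ![5, 4, 3, 2, 1, 0]]

/-- The double transpositions of a pairing: the pairing with the pair of `a` removed. -/
def dtr (j : Fin 15) (a : Fin 6) (i : Fin 6) : Fin 6 := if i = a ∨ i = pairing j a then i else pairing j i

/-- A vector constant on each pair. -/
def Flat (j : Fin 15) (y : Pat) : Prop := ∀ i, y (pairing j i) = y i

instance (j : Fin 15) (y : Pat) : Decidable (Flat j y) := inferInstanceAs (Decidable (∀ _, _))

end CfsgLib.FischerTwoFour.Four
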