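import Mathlib

/-!
Weight decomposition of an abelian group of exponent two on which a fixed-point-free automorphism `ω`
of order three and commuting automorphisms `y i` of order dividing three act.
-/

set_option autoImplicit false

namespace CfsgLib.FischerTwoFour

variable {W : Type*} [AddCommGroup W] {ι : Type*}

/-- A system of weight operators. -/
structure WSys (W : Type*) [AddCommGroup W] (ι : Type*) where
  two : ∀ w : W, w + w = 0
  om : W →+ W
  om_rel : ∀ w, om (om w) + om w + w = 0
  y : ι → W →+ W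
  y_cube : ∀ i w, y i (y i (y i w)) = w
  y_om : ∀ i w, y i (om w) = om (y i w)
  y_comm : ∀ i k w, y i (y k w) = y k (y i w)

theorem zmod_three_id : ∀ c j : ZMod 3, c + (c + c) = 0 ∧ j + (c + c) = -(-j + c) ∧ j + j = -j := by decide

namespace WSys

variable (S : WSys W ι)

include S in
theorem neg_eq (w : W) : -w = w := neg_eq_of_add_eq_zero_left (S.two w)

/-- The powers of `ω`. -/
def pw (j : ZMod 3) (w : W) : W := S.om^[j.val] w

theorem pw_zero (w : W) : S.pw 0 w = w := rfl
theorem pw_one (w : W) : S.pw 1 w = S.om w := rfl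
theorem pw_two (w : W) : S.pw 2 w = S.om (S.om w) := rfl

theorem pw_add_hom (j : ZMod 3) (u v : W) : S.pw j (u + v) = S.pw j u + S.pw j v := by
  obtain rfl | rfl | rfl : j = 0 ∨ j = 1 ∨ j = 2 := by revert j; decide
  all_goals simp [pw_zero, pw_one, pw_two]

theorem pw_map_zero (j : ZMod 3) : S.pw j (0 : W) = 0 := by
  obtain rfl | rfl | rfl : j = 0 ∨ j = 1 ∨ j = 2 := by revert j; decide
  all_goals simp [pw_zero, pw_one, pw_two]

theorem om_cube (w : W) : S.om (S.om (S.om w)) = w := by
  have h := congrArg S.om (S.om_rel w)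
  rw [map_add, map_add, map_zero] at h
  have h2 := S.om_rel w
  calc S.om (S.om (S.om w)) = -(S.om (S.om w) + S.om w) := eq_neg_of_add_eq_zero_left (by rw [← add_assoc, h])
    _ = w := by
        rw [eq_comm, eq_neg_iff_add_eq_zero, ← h2]
        abel

theorem pw_pw (a b : ZMod 3) (w : W) : S.pw a (S.pw b w) = S.pw (a + b) w := by
  obtain rfl | rfl | rfl : a = 0 ∨ a = 1 ∨ a = 2 := by revert a; decide
  all_goals obtain rfl | rfl | rfl : b = 0 ∨ b = 1 ∨ b = 2 := by revert b; decide
  all_goals
    first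
    | rfl
    | exact S.om_cube _
    | (show S.om (S.om (S.om (S.om w))) = S.om w; rw [S.om_cube])

theorem y_pw (i : ι) (j : ZMod 3) (w : W) : S.y i (S.pw j w) = S.pw j (S.y i w) := by
  obtain rfl | rfl | rfl : j = 0 ∨ j = 1 ∨ j = 2 := by revert j; decide
  all_goals simp [pw_zero, pw_one, pw_two, S.y_om]

theorem sum_pw (w : W) : w + S.pw 1 w + S.pw 2 w = 0 := by
  rw [pw_one, pw_two, ← S.om_rel w]; abel

theorem sum_pw_neg {d : ZMod 3} (hd : d ≠ 0) (w : W) : w + S.pw d w + S.pw (-d) w = 0 := by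
  obtain rfl | rfl : d = 1 ∨ d = 2 := by revert d; decide
  · exact S.sum_pw w
  · show w + S.pw 2 w + S.pw 1 w = 0
    rw [← S.sum_pw w]; abel

/-- The projection onto the `ω ^ j` eigenspace of `y i`. -/
def eig (i : ι) (j : ZMod 3) : W →+ W :=
  AddMonoidHom.mk' (fun w => w + S.pw (-j) (S.y i w) + S.pw j (S.y i (S.y i w))) fun u v => by
    simp only [map_add, pw_add_hom]; abel

theorem eig_apply (i : ι) (j : ZMod 3) (w : W) :
    S.eig i j w = w + S.pw (-j) (S.y i w) + S.pw j (S.y i (S.y i w)) := rfl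

theorem eig_of_weight {i : ι} {c : ZMod 3} (j : ZMod 3) {w : W} (h : S.y i w = S.pw c w) :
    S.eig i j w = if c = j then w else 0 := by
  have h2 : S.y i (S.y i w) = S.pw (c + c) w := by rw [h, y_pw, h, pw_pw]
  rw [eig_apply, h2, h, pw_pw, pw_pw]
  by_cases hcj : c = j
  · subst hcj
    rw [if_pos rfl, neg_add_cancel, pw_zero, (zmod_three_id c c).1, pw_zero, S.two, zero_add]
  · rw [if_neg hcj]
    have hd : -j + c ≠ 0 := by
      intro e; exact hcj (by rw [neg_add_eq_zero] at e; exact e.symm)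
    rw [(zmod_three_id c j).2.1]
    exact S.sum_pw_neg hd w

theorem y_eig (i k : ι) (j : ZMod 3) (w : W) : S.y k (S.eig i j w) = S.eig i j (S.y k w) := by
  simp only [eig_apply, map_add, y_pw, S.y_comm k i]

theorem eig_pw (i : ι) (j d : ZMod 3) (w : W) : S.eig i j (S.pw d w) = S.pw d (S.eig i j w) := by
  simp only [eig_apply, pw_add_hom, y_pw, pw_pw, add_comm d]

theorem y_eig_self (i : ι) (j : ZMod 3) (w : W) : S.y i (S.eig i j w) = S.pw j (S.eig i j w) := by
  simp only [eig_apply, map_add, y_pw, pw_add_hom, pw_pw, S.y_cube]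
  rw [show j + -j = 0 from add_neg_cancel j, (zmod_three_id j j).2.2, pw_zero]
  abel

theorem eig_sum (i : ι) (w : W) : S.eig i 0 w + S.eig i 1 w + S.eig i 2 w = w := by
  have h1 := S.sum_pw (S.y i w)
  have h2 := S.sum_pw (S.y i (S.y i w))
  simp only [eig_apply, neg_zero, pw_zero, show (-(1 : ZMod 3)) = 2 from rfl, show (-(2 : ZMod 3)) = 1 from rfl]
  calc _ = (w + w) + w + (S.y i w + S.pw 1 (S.y i w) + S.pw 2 (S.y i w))
        + (S.y i (S.y i w) + S.pw 1 (S.y i (S.y i w)) + S.pw 2 (S.y i (S.y i w))) := by abel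
    _ = w := by rw [h1, h2, S.two]; simp

/-- The weight space of `c`. -/
def space (c : ι → ZMod 3) : AddSubgroup W where
  carrier := {w | ∀ i, S.y i w = S.pw (c i) w}
  zero_mem' := fun i => by rw [map_zero, pw_map_zero]
  add_mem' := fun {u v} hu hv i => by rw [map_add, pw_add_hom, hu i, hv i]
  neg_mem' := fun {u} hu => by rwa [S.neg_eq]

theorem mem_space {c : ι → ZMod 3} {w : W} : w ∈ S.space c ↔ ∀ i, S.y i w = S.pw (c i) w := Iff.rfl

theorem pw_mem {c : ι → ZMod 3} {w : W} (d : ZMod 3) (h : w ∈ S.space c) : S.pw d w ∈ S.space c := fun i => by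
  rw [y_pw, h i, pw_pw, pw_pw, add_comm]

/-- Applying the projections of `c` along a list. -/
def proj (c : ι → ZMod 3) : List ι → (W →+ W)
  | [] => AddMonoidHom.id W
  | i :: l => (S.eig i (c i)).comp (proj c l)

theorem proj_of_mem [DecidableEq ι] {c d : ι → ZMod 3} {w : W} (h : w ∈ S.space d) :
    ∀ l : List ι, S.proj c l w = if ∀ i ∈ l, d i = c i then w else 0 := by
  intro l
  induction l with
  | nil => simp [proj]
  | cons i l ih =>
    show S.eig i (c i) (S.proj c l w) = _
    rw [ih]
    by_cases hl : ∀ k ∈ l, d k = c k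
    · rw [if_pos hl, S.eig_of_weight _ (h i)]
      by_cases hi : d i = c i
      · rw [if_pos hi, if_pos]
        intro k hk
        rcases List.mem_cons.1 hk with rfl | hk
        exacts [hi, hl k hk]
      · rw [if_neg hi, if_neg]
        exact fun hh => hi (hh i List.mem_cons_self)
    · rw [if_neg hl, map_zero, if_neg]
      exact fun hh => hl fun k hk => hh k (List.mem_cons_of_mem _ hk)

/-- Every element is a sum of elements of weight spaces. -/
theorem exists_sum [Fintype ι] [DecidableEq ι] (w : W) :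
    ∃ f : (ι → ZMod 3) → W, (∀ c, f c ∈ S.space c) ∧ ∑ c, f c = w := by
  classical
  have key : ∀ l : List ι, w ∈ AddSubgroup.closure {v | ∀ i ∈ l, ∃ j, S.y i v = S.pw j v} := by
    intro l
    induction l with
    | nil => exact AddSubgroup.subset_closure (by simp)
    | cons i l ih =>
      refine (AddSubgroup.closure_le _).2 ?_ ih
      intro v hv
      have hmem : ∀ j, S.eig i j v ∈ AddSubgroup.closure {v | ∀ k ∈ i :: l, ∃ j, S.y k v = S.pw j v} := by
        intro j
        refine AddSubgroup.subset_closure fun k hk => ?_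
        rcases List.mem_cons.1 hk with rfl | hk
        · exact ⟨j, S.y_eig_self k j v⟩
        · obtain ⟨d, hd⟩ := hv k hk
          exact ⟨d, by rw [S.y_eig, hd, S.eig_pw]⟩
      rw [SetLike.mem_coe, ← S.eig_sum i v]
      exact add_mem (add_mem (hmem 0) (hmem 1)) (hmem 2)
  refine AddSubgroup.closure_induction ?_ ?_ ?_ ?_ (key Finset.univ.toList)
  · intro v hv
    choose j hj using fun i => hv i (by simp)
    refine ⟨Function.update (fun _ => (0 : W)) j v, fun c => ?_, ?_⟩
    · by_cases hc : c = j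
      · subst hc; rw [Function.update_self]; exact hj
      · rw [Function.update_of_ne hc]; exact zero_mem _
    · rw [Finset.sum_eq_single j (fun c _ hc => Function.update_of_ne hc _ _) (by simp), Function.update_self]
  · exact ⟨fun _ => 0, fun c => zero_mem _, by simp⟩
  · rintro u v - - ⟨f, hf, hfs⟩ ⟨g, hg, hgs⟩
    exact ⟨fun c => f c + g c, fun c => add_mem (hf c) (hg c), by rw [Finset.sum_add_distrib, hfs, hgs]⟩
  · rintro u - ⟨f, hf, hfs⟩
    exact ⟨fun c => f c, hf, by rw [hfs, S.neg_eq]⟩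

/-- The weight spaces are independent. -/
theorem eq_zero_of_sum [Fintype ι] [DecidableEq ι] {f : (ι → ZMod 3) → W} (hf : ∀ c, f c ∈ S.space c)
    (h0 : ∑ c, f c = 0) (c : ι → ZMod 3) : f c = 0 := by
  classical
  have h := congrArg (S.proj c Finset.univ.toList) h0
  rw [map_sum, map_zero] at h
  have hterm : ∀ d, S.proj c Finset.univ.toList (f d) = if d = c then f d else 0 := by
    intro d
    rw [S.proj_of_mem (hf d)]
    congr 1
    simp [funext_iff]
  simp only [hterm, Finset.sum_ite_eq', Finset.mem_univ, if_true] at h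
  exact h

/-- The order is the product of the orders of the weight spaces. -/
theorem card_eq_prod [Fintype ι] [DecidableEq ι] [Finite W] :
    Nat.card W = ∏ c : ι → ZMod 3, Nat.card (S.space c) := by
  classical
  rw [← Nat.card_pi]
  refine (Nat.card_eq_of_bijective (fun f : (∀ c, S.space c) => ∑ c, (f c : W)) ⟨?_, ?_⟩).symm
  · intro f g hfg
    funext c
    have hzero := S.eq_zero_of_sum (f := fun c => (f c : W) - g c) (fun c => sub_mem (f c).2 (g c).2)
      (by rw [Finset.sum_sub_distrib, sub_eq_zero]; exact hfg) c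
    exact Subtype.ext (sub_eq_zero.1 hzero)
  · intro w
    obtain ⟨f, hf, hs⟩ := S.exists_sum w
    exact ⟨fun c => ⟨f c, hf c⟩, hs⟩

theorem four_le_card {c : ι → ZMod 3} [Finite W] {w : W} (hw : w ∈ S.space c) (h0 : w ≠ 0) :
    4 ≤ Nat.card (S.space c) := by
  classical
  have hne : S.om w ≠ 0 := fun e => h0 (by rw [← S.om_cube w, e, map_zero, map_zero])
  have hne2 : S.om (S.om w) ≠ 0 := fun e => h0 (by rw [← S.om_cube w, e, map_zero])
  have hd1 : S.om w ≠ w := fun e => h0 (by
    have := S.om_rel w; rwa [e, e, S.two, zero_add] at this)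
  have hd2 : S.om (S.om w) ≠ w := fun e => by
    apply hd1
    conv_rhs => rw [← S.om_cube w, e]
  have hd3 : S.om (S.om w) ≠ S.om w := fun e => hd1 (by
    have := congrArg (fun v => S.om (S.om v)) e
    simpa only [S.om_cube] using this)
  let f : Fin 4 → S.space c := ![0, ⟨w, hw⟩, ⟨S.pw 1 w, S.pw_mem 1 hw⟩, ⟨S.pw 2 w, S.pw_mem 2 hw⟩]
  have hf : Function.Injective f := by
    intro a b hab
    have := congrArg Subtype.val hab
    fin_cases a <;> fin_cases b <;>
      first
      | rfl
      | (exfalso; simp only [f] at this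
         simp_all [pw_one, pw_two, eq_comm])
  simpa using Nat.card_le_card_of_injective f hf

theorem four_pow_le [Fintype ι] [DecidableEq ι] [Finite W] (T : Finset (ι → ZMod 3))
    (hT : ∀ c ∈ T, ∃ w ∈ S.space c, w ≠ 0) : 4 ^ T.card ≤ Nat.card W := by
  classical
  rw [S.card_eq_prod]
  refine le_trans ?_ (Finset.prod_le_prod_of_subset_of_one_le' (Finset.subset_univ T)
    fun c _ _ => Nat.card_pos)
  rw [← Finset.prod_const]
  refine Finset.prod_le_prod' fun c hc => ?_
  obtain ⟨w, hw, h0⟩ := hT c hc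
  exact S.four_le_card hw h0

/-- In the extreme case every weight space has four elements. -/
theorem card_space_eq [Fintype ι] [DecidableEq ι] [Finite W] (T : Finset (ι → ZMod 3))
    (hT : ∀ c ∈ T, ∃ w ∈ S.space c, w ≠ 0) (hW : Nat.card W ≤ 4 ^ T.card) :
    (∀ c ∈ T, Nat.card (S.space c) = 4) ∧ ∀ c ∉ T, S.space c = ⊥ := by
  classical
  have h4 : ∀ c ∈ T, 4 ≤ Nat.card (S.space c) := fun c hc => by
    obtain ⟨w, hw, h0⟩ := hT c hc; exact S.four_le_card hw h0
  have hTle : 4 ^ T.card ≤ ∏ c ∈ T, Nat.card (S.space c) := by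
    rw [← Finset.prod_const]; exact Finset.prod_le_prod' h4
  have hfull := S.card_eq_prod
  rw [← Finset.prod_mul_prod_compl T] at hfull
  have hcpos : 0 < ∏ c ∈ Tᶜ, Nat.card (S.space c) := Finset.prod_pos fun c _ => Nat.card_pos
  have hc1 : ∏ c ∈ Tᶜ, Nat.card (S.space c) = 1 := by
    by_contra hne
    have h2 : 2 ≤ ∏ c ∈ Tᶜ, Nat.card (S.space c) := by omega
    have := Nat.mul_le_mul hTle h2
    have : 0 < 4 ^ T.card := by positivity
    omega
  refine ⟨fun c hc => ?_, fun c hc => ?_⟩
  · by_contra hne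
    have hlt : 4 < Nat.card (S.space c) := lt_of_le_of_ne (h4 c hc) (Ne.symm hne)
    have : ∏ d ∈ T, 4 < ∏ d ∈ T, Nat.card (S.space d) :=
      Finset.prod_lt_prod (fun d _ => by norm_num) h4 ⟨c, hc, hlt⟩
    rw [Finset.prod_const] at this
    rw [hc1, mul_one] at hfull
    omega
  · rw [← AddSubgroup.card_eq_one]
    exact Finset.prod_eq_one_iff.1 hc1 c (Finset.mem_compl.2 hc)

end WSys

end CfsgLib.FischerTwoFour
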