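import Mathlib
import Cfsg.Agent.Lib.FischerTwoFour.Chars
import Cfsg.Agent.Lib.FischerTwoFour.Weight

/-!
A faithful quadratic representation of dimension twelve over two elements of a group with monomial
data is a monomial representation on six anisotropic lines over four elements.
-/

set_option autoImplicit false
set_option linter.unusedSectionVars false

namespace CfsgLib.FischerTwoFour

/-- A faithful representation of `H` on a nondegenerate quadratic space of dimension twelve. -/
structure QRep (H V : Type*) [Group H] [AddCommGroup V] where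
  ρ : H →* AddMonoid.End V
  faithful : ∀ h, (∀ v, ρ h v = v) → h = 1
  two : ∀ v : V, v + v = 0
  card_V : Nat.card V = 4096
  q : V → ZMod 2
  b : V → V → ZMod 2
  q_add : ∀ u v, q (u + v) = q u + q v + b u v
  b_add : ∀ u v w, b (u + v) w = b u w + b v w
  nondeg : ∀ u, (∀ v, b u v = 0) → u = 0
  q_inv : ∀ h v, q (ρ h v) = q v

namespace QRep

variable {H V : Type*} [Group H] [AddCommGroup V] (R : QRep H V)

theorem mul_apply (a b : H) (v : V) : R.ρ (a * b) v = R.ρ a (R.ρ b v) := by
  rw [map_mul]; rfl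

theorem one_apply (v : V) : R.ρ 1 v = v := by rw [map_one]; rfl

theorem inv_apply (a : H) (v : V) : R.ρ a⁻¹ (R.ρ a v) = v := by
  rw [← mul_apply, inv_mul_cancel, one_apply]

theorem inj (a : H) {u v : V} (h : R.ρ a u = R.ρ a v) : u = v := by
  rw [← R.inv_apply a u, h, R.inv_apply]

theorem b_comm (u v : V) : R.b u v = R.b v u := by
  have h := R.q_add v u
  rw [add_comm v u, R.q_add u v, add_comm (R.q u) (R.q v)] at h
  exact add_left_cancel h

theorem b_zero_left (v : V) : R.b 0 v = 0 := by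
  have := R.b_add 0 0 v; rw [add_zero] at this; exact left_eq_add.mp this

theorem b_zero_right (v : V) : R.b v 0 = 0 := by rw [b_comm, b_zero_left]

theorem q_zero : R.q 0 = 0 := by
  have := R.q_add 0 0
  rw [add_zero, R.b_zero_left, add_zero] at this
  exact left_eq_add.mp this

theorem b_add_right (u v w : V) : R.b u (v + w) = R.b u v + R.b u w := by
  rw [b_comm, b_add, R.b_comm v, R.b_comm w]

theorem b_inv (h : H) (u v : V) : R.b (R.ρ h u) (R.ρ h v) = R.b u v := by
  have e := R.q_add (R.ρ h u) (R.ρ h v)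
  rw [← map_add, R.q_inv, R.q_inv, R.q_inv, R.q_add] at e
  exact (add_left_cancel e).symm

theorem q_sum {ι : Type*} (s : Finset ι) (f : ι → V)
    (h : ∀ i ∈ s, ∀ j ∈ s, i ≠ j → R.b (f i) (f j) = 0) : R.q (∑ i ∈ s, f i) = ∑ i ∈ s, R.q (f i) := by
  classical
  induction s using Finset.induction_on with
  | empty => simp [q_zero]
  | insert a s ha ih =>
    rw [Finset.sum_insert ha, Finset.sum_insert ha, R.q_add,
      ih fun i hi j hj => h i (Finset.mem_insert_of_mem hi) j (Finset.mem_insert_of_mem hj)]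
    have : R.b (f a) (∑ i ∈ s, f i) = 0 := by
      rw [show R.b (f a) (∑ i ∈ s, f i) = AddMonoidHom.mk' (R.b (f a)) (R.b_add_right (f a)) (∑ i ∈ s, f i) from rfl,
        map_sum]
      exact Finset.sum_eq_zero fun i hi => h a (Finset.mem_insert_self _ _) i (Finset.mem_insert_of_mem hi)
        fun e => ha (e ▸ hi)
    rw [this, add_zero]

end QRep

/-- Six anisotropic lines permuted monomially. -/
structure Frame {H V : Type*} [Group H] [AddCommGroup V] (R : QRep H V) where
  t : H
  t_cube : t ^ 3 = 1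
  t_comm : ∀ h, h * t = t * h
  t_fpf : ∀ v, R.ρ t (R.ρ t v) + R.ρ t v + v = 0
  L : Fin 6 → AddSubgroup V
  card_L : ∀ i, Nat.card (L i) = 4
  stable : ∀ i, ∀ v ∈ L i, R.ρ t v ∈ L i
  orth : ∀ i j, i ≠ j → ∀ v ∈ L i, ∀ w ∈ L j, R.b v w = 0
  q_one : ∀ i, ∀ v ∈ L i, v ≠ 0 → R.q v = 1
  bij : Function.Bijective (fun f : (∀ i, L i) => ∑ i, (f i : V))
  diag : ∀ d : Fin 6 → ZMod 3, ∑ i, d i = 0 →
    ∃ h : H, ∀ i, ∀ v ∈ L i, R.ρ h v = R.ρ (t ^ (d i).val) v
  g : A6 → H
  g_mul : ∀ π σ : A6, ∃ n : ℕ, g (π * σ) = g π * g σ * t ^ n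
  g_maps : ∀ (π : A6) i, ∀ v ∈ L i, R.ρ (g π) v ∈ L ((π : Equiv.Perm (Fin 6)) i)

section Build

variable {H G₀ V : Type*} [Group H] [Finite H] [Group G₀] [AddCommGroup V] [Finite V]
  (D : Mono H G₀) (R : QRep H V)

/-- The automorphism of order three of `V × V`. -/
def omW : V × V →+ V × V :=
  AddMonoidHom.mk' (fun w => (w.2, w.1 + w.2)) fun u v => by
    simp only [Prod.fst_add, Prod.snd_add, Prod.mk_add_mk, Prod.mk.injEq, true_and]; abel

/-- The weight system on `V × V`. -/
def wsys : WSys (V × V) D.E where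
  two w := Prod.ext (R.two _) (R.two _)
  om := omW
  om_rel w := by
    obtain ⟨a, b⟩ := w
    refine Prod.ext ?_ ?_
    · show a + b + b + a = 0
      rw [add_assoc a, R.two, add_zero, R.two]
    · show b + (a + b) + (a + b) + b = 0
      rw [add_assoc b, R.two, add_zero, R.two]
  y u := AddMonoidHom.prodMap (R.ρ (u : H)) (R.ρ (u : H))
  y_cube u w := by
    obtain ⟨a, b⟩ := w
    have h : ∀ v, R.ρ (u : H) (R.ρ (u : H) (R.ρ (u : H) v)) = v := fun v => by
      rw [← R.mul_apply, ← R.mul_apply, ← pow_three', D.E_cube u.2, R.one_apply]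
    exact Prod.ext (h a) (h b)
  y_om u w := Prod.ext rfl (map_add (R.ρ (u : H)) _ _)
  y_comm u v w := by
    obtain ⟨a, b⟩ := w
    have h : ∀ x, R.ρ (u : H) (R.ρ (v : H) x) = R.ρ (v : H) (R.ρ (u : H) x) := fun x => by
      rw [← R.mul_apply, ← R.mul_apply, D.E_comm u.2 v.2]
    exact Prod.ext (h a) (h b)

variable {D R}

theorem y_apply (u : D.E) (w : V × V) : (wsys D R).y u w = (R.ρ (u : H) w.1, R.ρ (u : H) w.2) := rfl

theorem pw_inj {W ι : Type*} [AddCommGroup W] (S : WSys W ι) {w : W} (hw : w ≠ 0) {a b : ZMod 3}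
    (h : S.pw a w = S.pw b w) : a = b := by
  have h2 := congrArg (S.pw (-b)) h
  rw [S.pw_pw, S.pw_pw, neg_add_cancel, S.pw_zero] at h2
  by_contra hab
  have hne : -b + a ≠ 0 := fun e => hab (by rw [neg_add_eq_zero] at e; exact e.symm)
  have := S.sum_pw_neg hne w
  have h3 : S.pw (-(-b + a)) w = w := by
    conv_lhs => rw [← h2]
    rw [S.pw_pw, neg_add_cancel, S.pw_zero]
  rw [h2, h3, S.two, zero_add] at this
  exact hw this

theorem isChar_of_weight {c : D.E → ZMod 3} {w : V × V} (hw : w ∈ (wsys D R).space c) (h0 : w ≠ 0) :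
    D.IsChar c := fun u v => by
  have e : (wsys D R).y (u * v) w = (wsys D R).y u ((wsys D R).y v w) :=
    Prod.ext (R.mul_apply (u : H) v w.1) (R.mul_apply (u : H) v w.2)
  rw [hw (u * v), hw v, (wsys D R).y_pw, hw u, WSys.pw_pw, add_comm (c v)] at e
  exact pw_inj (wsys D R) h0 e

/-- The symmetry of conjugation. -/
theorem neg_weight {c : D.E → ZMod 3} {w : V × V} (hw : w ∈ (wsys D R).space c) (h0 : w ≠ 0) :
    ∃ w' ∈ (wsys D R).space (-c), w' ≠ 0 := by
  refine ⟨(w.1 + w.2, w.2), fun u => ?_, fun e => h0 ?_⟩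
  · have h := hw u
    rw [y_apply] at h ⊢
    simp only [map_add, Pi.neg_apply]
    obtain ⟨a, b⟩ := w
    generalize c u = j at h ⊢
    fin_cases j
    · have h1 := congrArg Prod.fst h; have h2 := congrArg Prod.snd h
      simp only at h1 h2 ⊢
      rw [show R.ρ (u : H) a = a from h1, show R.ρ (u : H) b = b from h2]
      rfl
    · have h1 : R.ρ (u : H) a = b := congrArg Prod.fst h
      have h2 : R.ρ (u : H) b = a + b := congrArg Prod.snd h
      simp only
      rw [h1, h2]
      show (b + (a + b), a + b) = (a + b + b, b + (a + b + b))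
      refine Prod.ext ?_ ?_ <;> simp only
      · abel
      · calc a + b = a + b + (b + b) := by rw [R.two, add_zero]
          _ = b + (a + b + b) := by abel
    · have h1 : R.ρ (u : H) a = a + b := congrArg Prod.fst h
      have h2 : R.ρ (u : H) b = b + (a + b) := congrArg Prod.snd h
      simp only
      rw [h1, h2]
      show (a + b + (b + (a + b)), b + (a + b)) = (b, a + b + b)
      refine Prod.ext ?_ ?_ <;> simp only
      · calc a + b + (b + (a + b)) = (a + a) + (b + b) + b := by abel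
          _ = b := by rw [R.two, R.two, zero_add, zero_add]
      · abel
  · rw [Prod.mk_eq_zero] at e
    exact Prod.ext (by simpa [e.2] using e.1) e.2

theorem pw_map (f : V →+ V) (j : ZMod 3) (w : V × V) :
    (wsys D R).pw j (f w.1, f w.2) = (f ((wsys D R).pw j w).1, f ((wsys D R).pw j w).2) := by
  obtain rfl | rfl | rfl : j = 0 ∨ j = 1 ∨ j = 2 := by revert j; decide
  · rfl
  · exact Prod.ext rfl (map_add f w.1 w.2).symm
  · show (f w.1 + f w.2, f w.2 + (f w.1 + f w.2)) = (f (w.1 + w.2), f (w.2 + (w.1 + w.2)))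
    simp only [map_add]

theorem act_weight {c : D.E → ZMod 3} {w : V × V} (hw : w ∈ (wsys D R).space c) (h0 : w ≠ 0) (π : A6) :
    ∃ w' ∈ (wsys D R).space (D.act π c), w' ≠ 0 := by
  set g := D.lift (D.p π) with hg
  refine ⟨(R.ρ g w.1, R.ρ g w.2), fun u => ?_, fun e => h0 ?_⟩
  · have hcomm : ∀ x, R.ρ (u : H) (R.ρ g x) = R.ρ g (R.ρ ((D.cj π⁻¹ u : D.E) : H) x) := fun x => by
      rw [← R.mul_apply, ← R.mul_apply, D.cj_val,
        D.conj_congr (a := D.lift (D.p π⁻¹)) (b := g⁻¹) (by simp [hg, D.f_lift])]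
      congr 1
      congr 1
      group
    have h := hw (D.cj π⁻¹ u)
    rw [y_apply] at h ⊢
    simp only [hcomm, Mono.act_apply]
    have h1 : R.ρ ((D.cj π⁻¹ u : D.E) : H) w.1 = _ := congrArg Prod.fst h
    have h2 : R.ρ ((D.cj π⁻¹ u : D.E) : H) w.2 = _ := congrArg Prod.snd h
    rw [h1, h2]
    exact (pw_map (R.ρ g) _ w).symm
  · rw [Prod.mk_eq_zero] at e
    exact Prod.ext (R.inj g (by rw [e.1]; exact (map_zero _).symm))
      (R.inj g (by rw [e.2]; exact (map_zero _).symm))

/-- The line of a character in `V`. -/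
def lineOf (D : Mono H G₀) (R : QRep H V) (c : D.E → ZMod 3) : AddSubgroup V where
  carrier := {v | ∀ u : D.E, R.ρ (u : H) v = R.ρ (D.t ^ (c u).val) v}
  zero_mem' := fun u => by rw [map_zero, map_zero]
  add_mem' := fun {v w} hv hw u => by rw [map_add, map_add, hv u, hw u]
  neg_mem' := fun {v} hv u => by rw [map_neg, map_neg, hv u]

include D in
theorem exists_frame : Nonempty (Frame R) := by
  classical
  have : Fintype D.E := Fintype.ofFinite _
  set S := wsys D R with hS
  let SW : Finset (D.E → ZMod 3) := Finset.univ.filter fun c => ∃ w ∈ S.space c, w ≠ 0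
  have memSW : ∀ c, c ∈ SW ↔ ∃ w ∈ S.space c, w ≠ 0 := fun c => by simp [SW]
  have hW : Nat.card (V × V) = 4 ^ 12 := by rw [Nat.card_prod, R.card_V]; rfl
  have h12 : SW.card ≤ 12 := by
    have h := S.four_pow_le SW (fun c hc => (memSW c).1 hc)
    rw [hW] at h
    exact (Nat.pow_le_pow_iff_right (by norm_num)).1 h
  have hchar : ∀ c ∈ SW, D.IsChar c := fun c hc => by
    obtain ⟨w, hw, h0⟩ := (memSW c).1 hc; exact isChar_of_weight hw h0
  have hneg : ∀ c ∈ SW, -c ∈ SW := fun c hc => by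
    obtain ⟨w, hw, h0⟩ := (memSW c).1 hc; exact (memSW _).2 (neg_weight hw h0)
  have hact : ∀ c ∈ SW, ∀ π, D.act π c ∈ SW := fun c hc π => by
    obtain ⟨w, hw, h0⟩ := (memSW c).1 hc; exact (memSW _).2 (act_weight hw h0 π)
  have hlin : ∀ c ∈ SW, c D.tE = 0 → c = 0 := by
    intro c hc ht
    by_contra hne
    have h := D.linear_orbit (hchar c hc) ht hne
    have : (Finset.univ.image fun π => D.act π c) ⊆ SW := by
      intro x hx
      obtain ⟨π, -, rfl⟩ := Finset.mem_image.1 hx
      exact hact c hc π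
    have := Finset.card_le_card this
    omega
  have hact_t : ∀ (c : D.E → ZMod 3) (π : A6), D.act π c D.tE = c D.tE := fun c π => by
    rw [Mono.act_apply, D.cj_t]
  let S1 : Finset (D.E → ZMod 3) := SW.filter fun c => c D.tE = 1
  have hdisj : Disjoint S1 (S1.image fun c => -c) := by
    rw [Finset.disjoint_left]
    intro c hc hc'
    obtain ⟨d, hd, rfl⟩ := Finset.mem_image.1 hc'
    have h1 := (Finset.mem_filter.1 hc).2
    rw [Pi.neg_apply, (Finset.mem_filter.1 hd).2] at h1
    exact absurd h1 (by decide)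
  have hcardS1 : (S1 ∪ S1.image fun c => -c).card = 2 * S1.card := by
    rw [Finset.card_union_of_disjoint hdisj, Finset.card_image_of_injective _ neg_injective]; ring
  have hsub : (S1 ∪ S1.image fun c => -c) ⊆ SW := by
    intro c hc
    rcases Finset.mem_union.1 hc with h | h
    · exact (Finset.mem_filter.1 h).1
    · obtain ⟨d, hd, rfl⟩ := Finset.mem_image.1 h
      exact hneg d (Finset.mem_filter.1 hd).1
  -- elements acting trivially
  have htriv : ∀ u : D.E, (∀ c ∈ SW, c u = 0) → u = 1 := by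
    intro u hu
    refine Subtype.ext (R.faithful _ fun v => ?_)
    obtain ⟨f, hf, hs⟩ := S.exists_sum (v, (0 : V))
    have : S.y u (v, (0 : V)) = (v, (0 : V)) := by
      rw [← hs, map_sum]
      refine Finset.sum_congr rfl fun c _ => ?_
      by_cases h0 : f c = 0
      · rw [h0, map_zero]
      · rw [hf c u, hu c ((memSW c).2 ⟨_, hf c, h0⟩)]; rfl
    exact congrArg Prod.fst this
  -- a moved weight
  have hmoved : ∃ c ∈ S1, ∃ π, D.act π c ≠ c := by
    by_contra hno
    push Not at hno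
    have huniq : ∀ c ∈ S1, ∀ d ∈ S1, c = d := by
      intro c hc d hd
      by_contra hne
      have hc1 := Finset.mem_filter.1 hc
      have hd1 := Finset.mem_filter.1 hd
      have h := D.linear_orbit (c := c - d) ((hchar c hc1.1).sub D (hchar d hd1.1))
        (by rw [Pi.sub_apply, hc1.2, hd1.2, sub_self]) (sub_ne_zero.2 hne)
      have hone : (Finset.univ.image fun π => D.act π (c - d)) ⊆ {c - d} := by
        intro x hx
        obtain ⟨π, -, rfl⟩ := Finset.mem_image.1 hx
        rw [Finset.mem_singleton]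
        funext u
        have e1 := congrFun (hno c hc π) u
        have e2 := congrFun (hno d hd π) u
        simp only [Mono.act_apply, Pi.sub_apply] at e1 e2 ⊢
        rw [e1, e2]
      have := Finset.card_le_card hone
      rw [Finset.card_singleton] at this
      omega
    have hcov : ∀ c ∈ SW, c = 0 ∨ c ∈ S1 ∨ -c ∈ S1 := by
      intro c hc
      rcases (by decide : ∀ j : ZMod 3, j = 0 ∨ j = 1 ∨ -j = 1) (c D.tE) with e | e | e
      · exact Or.inl (hlin c hc e)
      · exact Or.inr (Or.inl (Finset.mem_filter.2 ⟨hc, e⟩))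
      · exact Or.inr (Or.inr (Finset.mem_filter.2 ⟨hneg c hc, e⟩))
    obtain ⟨u, hu, hzero⟩ : ∃ u : D.E, u ≠ 1 ∧ ∀ c ∈ S1, c u = 0 := by
      rcases S1.eq_empty_or_nonempty with he | ⟨c₀, hc₀⟩
      · exact ⟨D.tE, fun e => D.t_ne (congrArg Subtype.val e), by simp [he]⟩
      · obtain ⟨a, b, hab, hcab⟩ := Fintype.exists_ne_map_eq_of_card_lt c₀ (by
          rw [ZMod.card, ← Nat.card_eq_fintype_card, D.card_E]; norm_num)
        refine ⟨a⁻¹ * b, fun e => hab (inv_mul_eq_one.1 e), fun c hc => ?_⟩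
        rw [huniq c hc c₀ hc₀]
        have hch := hchar c₀ (Finset.mem_filter.1 hc₀).1
        have h2 := hch a (a⁻¹ * b)
        rw [mul_inv_cancel_left, hcab] at h2
        exact left_eq_add.mp h2
    refine hu (htriv u fun c hc => ?_)
    rcases hcov c hc with rfl | h | h
    · rfl
    · exact hzero c h
    · exact neg_eq_zero.1 (hzero _ h)
  obtain ⟨c₁, hc₁, hm⟩ := hmoved
  let O := Finset.univ.image fun π => D.act π c₁
  have hO6 : 6 ≤ O.card := fixed_or_six D.act hm
  have hOS1 : O ⊆ S1 := by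
    intro x hx
    obtain ⟨π, -, rfl⟩ := Finset.mem_image.1 hx
    exact Finset.mem_filter.2 ⟨hact _ (Finset.mem_filter.1 hc₁).1 π,
      (hact_t _ π).trans (Finset.mem_filter.1 hc₁).2⟩
  have hS1six : S1.card = 6 := by
    have := Finset.card_le_card hOS1
    have := Finset.card_le_card hsub
    omega
  have hOeq : O = S1 := Finset.eq_of_subset_of_card_le hOS1 (by omega)
  have hSWeq : SW = S1 ∪ S1.image fun c => -c :=
    (Finset.eq_of_subset_of_card_le hsub (by omega)).symm
  obtain ⟨hfour, hbot⟩ := S.card_space_eq SW (fun c hc => (memSW c).1 hc) (by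
    rw [hW, hSWeq, hcardS1, hS1six])
  -- `t` is fixed-point-free
  have ht1 : ∀ c ∈ S1, c D.tE = 1 := fun c hc => (Finset.mem_filter.1 hc).2
  have hfpfW : ∀ w, S.y D.tE (S.y D.tE w) + S.y D.tE w + w = 0 := by
    intro w
    obtain ⟨f, hf, rfl⟩ := S.exists_sum w
    rw [map_sum, map_sum, ← Finset.sum_add_distrib, ← Finset.sum_add_distrib]
    refine Finset.sum_eq_zero fun c _ => ?_
    by_cases hc : f c = 0
    · rw [hc]; simp
    · have hcS : c ∈ SW := (memSW c).2 ⟨_, hf c, hc⟩
      have hne : c D.tE ≠ 0 := fun e => by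
        have h0 := hlin c hcS e
        rw [hSWeq, h0, Finset.mem_union, Finset.mem_image] at hcS
        rcases hcS with h | ⟨d, hd, hd0⟩
        · exact zero_ne_one (ht1 _ h)
        · rw [neg_eq_zero] at hd0
          subst hd0
          exact zero_ne_one (ht1 _ hd)
      rw [hf c D.tE, S.y_pw, hf c D.tE, S.pw_pw]
      have := S.sum_pw_neg hne (f c)
      rw [show c D.tE + c D.tE = -(c D.tE) by generalize c D.tE = j; revert j; decide]
      rw [← this]; abel
  have hfpf : ∀ v, R.ρ D.t (R.ρ D.t v) + R.ρ D.t v + v = 0 := fun v =>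
    congrArg Prod.fst (hfpfW (v, 0))
  have tpow : ∀ (j : ZMod 3) (v : V), (S.pw j (v, R.ρ D.t v)) =
      (R.ρ (D.t ^ j.val) v, R.ρ D.t (R.ρ (D.t ^ j.val) v)) := by
    intro j v
    have hrel : v + R.ρ D.t v = R.ρ D.t (R.ρ D.t v) :=
      calc v + R.ρ D.t v = (v + R.ρ D.t v) + 0 := (add_zero _).symm
        _ = (v + R.ρ D.t v) + (R.ρ D.t (R.ρ D.t v) + R.ρ D.t v + v) := by rw [hfpf]
        _ = R.ρ D.t (R.ρ D.t v) + ((R.ρ D.t v + R.ρ D.t v) + (v + v)) := by abel
        _ = _ := by rw [R.two, R.two, add_zero, add_zero]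
    fin_cases j
    · show (v, R.ρ D.t v) = (R.ρ (D.t ^ 0) v, R.ρ D.t (R.ρ (D.t ^ 0) v))
      rw [pow_zero, R.one_apply]
    · show (R.ρ D.t v, v + R.ρ D.t v) = (R.ρ (D.t ^ 1) v, R.ρ D.t (R.ρ (D.t ^ 1) v))
      rw [pow_one, hrel]
    · show (v + R.ρ D.t v, R.ρ D.t v + (v + R.ρ D.t v)) = (R.ρ (D.t ^ 2) v, R.ρ D.t (R.ρ (D.t ^ 2) v))
      rw [pow_two, R.mul_apply, hrel]
      refine Prod.ext rfl ?_
      show R.ρ D.t v + R.ρ D.t (R.ρ D.t v) = _
      have := congrArg (R.ρ D.t) hrel
      rw [map_add] at this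
      exact this
  have hline : ∀ c ∈ S1, ∀ v, v ∈ lineOf D R c ↔ (v, R.ρ D.t v) ∈ S.space c := by
    intro c hc v
    refine forall_congr' fun u => ?_
    rw [tpow, hS, y_apply]
    constructor
    · intro h
      show (R.ρ (u : H) v, R.ρ (u : H) (R.ρ D.t v)) = _
      rw [← R.mul_apply (u : H), D.t_comm, R.mul_apply, h]
    · exact fun h => congrArg Prod.fst h
  have hback : ∀ c ∈ S1, ∀ w ∈ S.space c, w = (w.1, R.ρ D.t w.1) := by
    intro c hc w hw
    have h : (R.ρ D.t w.1, R.ρ D.t w.2) = S.pw (c D.tE) w := hw D.tE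
    rw [ht1 c hc] at h
    exact Prod.ext rfl (congrArg Prod.fst h).symm
  have hcardline : ∀ c ∈ S1, Nat.card (lineOf D R c) = 4 := by
    intro c hc
    rw [← hfour c (Finset.mem_filter.1 hc).1]
    exact Nat.card_congr
      { toFun := fun v => ⟨((v : V), R.ρ D.t v), (hline c hc _).1 v.2⟩
        invFun := fun w => ⟨(w : V × V).1, (hline c hc _).2 (by rw [← hback c hc _ w.2]; exact w.2)⟩
        left_inv := fun v => rfl
        right_inv := fun w => Subtype.ext (hback c hc _ w.2).symm }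
  -- labelling of the six lines
  have eS1 : Fintype.card {c // c ∈ S1} = 6 := by rw [Fintype.card_coe]; exact hS1six
  let e := (Fintype.equivFinOfCardEq eS1).symm
  let lab : Fin 6 → (D.E → ZMod 3) := fun i => (e i : D.E → ZMod 3)
  have hlab : ∀ i, lab i ∈ S1 := fun i => (e i).2
  have labinj : Function.Injective lab := Subtype.val_injective.comp e.injective
  have hactS1 : ∀ π, ∀ c ∈ S1, D.act π c ∈ S1 := fun π c hc =>
    Finset.mem_filter.2 ⟨hact c (Finset.mem_filter.1 hc).1 π, (hact_t c π).trans (ht1 c hc)⟩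
  let idx : A6 → Fin 6 → Fin 6 := fun π i => e.symm ⟨D.act π (lab i), hactS1 π _ (hlab i)⟩
  have hidx : ∀ π i, lab (idx π i) = D.act π (lab i) := fun π i => by simp [lab, idx]
  let θ : A6 →* Equiv.Perm (Fin 6) :=
    { toFun := fun π => ⟨idx π, idx π⁻¹,
        fun i => labinj (by rw [hidx, hidx, ← Equiv.Perm.mul_apply, ← map_mul, inv_mul_cancel, map_one]; rfl),
        fun i => labinj (by rw [hidx, hidx, ← Equiv.Perm.mul_apply, ← map_mul, mul_inv_cancel, map_one]; rfl)⟩
      map_one' := Equiv.ext fun i => labinj (by show lab (idx 1 i) = _; rw [hidx, map_one]; rfl)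
      map_mul' := fun π σ => Equiv.ext fun i => labinj (by
        show lab (idx (π * σ) i) = lab (idx π (idx σ i))
        rw [hidx, hidx, hidx, map_mul]; rfl) }
  have hθinj : Function.Injective θ := by
    rw [← MonoidHom.ker_eq_bot_iff]
    have := isSimpleGroup_A6
    refine (θ.normal_ker.eq_bot_or_eq_top).resolve_right fun htop => ?_
    obtain ⟨π, hπ⟩ := hm
    obtain ⟨i, hi⟩ : ∃ i, lab i = c₁ := ⟨e.symm ⟨c₁, hc₁⟩, by simp [lab]⟩
    apply hπ
    have h1 : θ π = 1 := MonoidHom.mem_ker.1 (htop ▸ Subgroup.mem_top π)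
    have h2 := hidx π i
    rw [show idx π i = i from congrArg (fun s : Equiv.Perm (Fin 6) => s i) h1, hi] at h2
    exact h2.symm
  have hsign : ∀ π, θ π ∈ alternatingGroup (Fin 6) := fun π =>
    Equiv.Perm.mem_alternatingGroup.2 (hom_trivial (Equiv.Perm.sign.comp θ) (by
      rw [Nat.card_eq_fintype_card, Fintype.card_units_int]; norm_num) π)
  let θ' : A6 →* A6 := θ.codRestrict _ hsign
  have hθ' : Function.Bijective θ' :=
    Finite.injective_iff_bijective.1 fun a b h => hθinj (congrArg Subtype.val h)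
  let Θ : A6 ≃* A6 := MulEquiv.ofBijective θ' hθ'
  -- the coordinate map of `E`
  let χ : D.E → Fin 6 → ZMod 3 := fun u i => lab i u
  have hχmul : ∀ u v, χ (u * v) = χ u + χ v := fun u v => funext fun i =>
    hchar _ (Finset.mem_filter.1 (hlab i)).1 u v
  have hχzero : ∀ u, χ u = 0 → u = 1 := by
    intro u hu
    refine htriv u fun c hc => ?_
    rw [hSWeq, Finset.mem_union, Finset.mem_image] at hc
    have key : ∀ c ∈ S1, c u = 0 := fun c hc => by
      have := congrFun hu (e.symm ⟨c, hc⟩)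
      simpa [χ, lab] using this
    rcases hc with h | ⟨d, hd, rfl⟩
    · exact key c h
    · rw [Pi.neg_apply, key d hd, neg_zero]
  have hχone : χ 1 = 0 := by
    have := hχmul 1 1; rw [mul_one] at this; exact left_eq_add.mp this
  have hχinv : ∀ u, χ u⁻¹ = - χ u := fun u => by
    have := hχmul u u⁻¹; rw [mul_inv_cancel, hχone] at this
    exact (neg_eq_of_add_eq_zero_right this.symm).symm
  let I : AddSubgroup (Fin 6 → ZMod 3) :=
    { carrier := Set.range χ
      zero_mem' := ⟨1, hχone⟩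
      add_mem' := by rintro _ _ ⟨u, rfl⟩ ⟨v, rfl⟩; exact ⟨u * v, hχmul u v⟩
      neg_mem' := by rintro _ ⟨u, rfl⟩; exact ⟨u⁻¹, hχinv u⟩ }
  have hcardI : Nat.card I = 243 := by
    rw [← D.card_E]
    refine (Nat.card_eq_of_bijective (fun u => (⟨χ u, u, rfl⟩ : I)) ⟨fun u v h => ?_, ?_⟩).symm
    · have h' : χ u = χ v := congrArg Subtype.val h
      exact inv_mul_eq_one.1 (hχzero _ (by rw [hχmul, hχinv, h', neg_add_cancel]))
    · rintro ⟨_, u, rfl⟩; exact ⟨u, rfl⟩
  have hIinv : ∀ π : A6, ∀ x ∈ I, (fun i => x (((θ π)⁻¹) i)) ∈ I := by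
    rintro π _ ⟨u, rfl⟩
    refine ⟨D.cj π u, funext fun i => ?_⟩
    show lab i (D.cj π u) = lab ((θ π)⁻¹ i) u
    have h : lab ((θ π)⁻¹ i) = D.act π⁻¹ (lab i) := by
      rw [← map_inv]; exact hidx π⁻¹ i
    rw [h, Mono.act_apply, inv_inv]
  let permQ : A6 → ((Fin 6 → ZMod 3) ⧸ I) →+ ((Fin 6 → ZMod 3) ⧸ I) := fun π =>
    QuotientAddGroup.map I I
      (AddMonoidHom.mk' (fun x i => x ((θ π)⁻¹ i)) fun x y => rfl) (fun x hx => hIinv π x hx)
  have permQ_mk : ∀ π (x : Fin 6 → ZMod 3),
      permQ π (QuotientAddGroup.mk x) = QuotientAddGroup.mk (fun i => x ((θ π)⁻¹ i)) := fun π x => rfl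
  have permQ_mul : ∀ π σ x, permQ (π * σ) x = permQ π (permQ σ x) := by
    intro π σ x
    obtain ⟨x, rfl⟩ := QuotientAddGroup.mk_surjective x
    rw [permQ_mk, permQ_mk, permQ_mk]
    refine congrArg _ (funext fun i => ?_)
    rw [map_mul, mul_inv_rev, Equiv.Perm.mul_apply]
  have permQ_one : ∀ x, permQ 1 x = x := by
    intro x
    obtain ⟨x, rfl⟩ := QuotientAddGroup.mk_surjective x
    rw [permQ_mk, map_one, inv_one]; rfl
  let φQ : A6 →* Equiv.Perm ((Fin 6 → ZMod 3) ⧸ I) :=
    { toFun := fun π => ⟨permQ π, permQ π⁻¹, fun x => by rw [← permQ_mul, inv_mul_cancel, permQ_one],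
        fun x => by rw [← permQ_mul, mul_inv_cancel, permQ_one]⟩
      map_one' := Equiv.ext permQ_one
      map_mul' := fun π σ => Equiv.ext (permQ_mul π σ) }
  have hQcard : Nat.card ((Fin 6 → ZMod 3) ⧸ I) ≤ 5 := by
    have h := AddSubgroup.card_eq_card_quotient_mul_card_addSubgroup I
    rw [hcardI] at h
    simp only [Nat.card_eq_fintype_card, Fintype.card_fun, ZMod.card, Fintype.card_fin] at h
    rw [Nat.card_eq_fintype_card]
    omega
  have hdiff : ∀ a b : Fin 6, (Pi.single a (1 : ZMod 3) - Pi.single b 1) ∈ I := by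
    intro a b
    by_cases hab : a = b
    · rw [hab, sub_self]; exact zero_mem _
    obtain ⟨τ, h0, -, hs⟩ := CfsgLib.U43Six.two_transitive a b hab
    obtain ⟨τ', k0, -, ks⟩ := CfsgLib.U43Six.two_transitive b a (Ne.symm hab)
    let π : A6 := Θ.symm (⟨τ, Equiv.Perm.mem_alternatingGroup.2 hs⟩ *
      (⟨τ', Equiv.Perm.mem_alternatingGroup.2 ks⟩ : A6)⁻¹)
    have hπ : θ π b = a := by
      have : θ' π = ⟨τ, Equiv.Perm.mem_alternatingGroup.2 hs⟩ *
          (⟨τ', Equiv.Perm.mem_alternatingGroup.2 ks⟩ : A6)⁻¹ := Θ.apply_symm_apply _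
      have h2 : θ π = τ * τ'⁻¹ := congrArg Subtype.val this
      rw [h2, Equiv.Perm.mul_apply, show τ'⁻¹ b = 0 from (Equiv.symm_apply_eq τ').2 k0.symm, h0]
    have h := act_trivial φQ hQcard π (QuotientAddGroup.mk (Pi.single b (1 : ZMod 3)))
    have h' : permQ π (QuotientAddGroup.mk (Pi.single b (1 : ZMod 3))) = _ := h
    rw [permQ_mk, QuotientAddGroup.eq] at h'
    have hsingle : (fun i => (Pi.single b (1 : ZMod 3) : Fin 6 → ZMod 3) ((θ π)⁻¹ i)) = (Pi.single a 1 : Fin 6 → ZMod 3) := by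
      funext i
      simp only [Pi.single_apply, Equiv.Perm.inv_eq_iff_eq, hπ]
    rw [hsingle] at h'
    have := neg_mem h'
    rwa [neg_add, neg_neg, ← sub_eq_add_neg] at this
  have hzero : ∀ d : Fin 6 → ZMod 3, ∑ i, d i = 0 → d ∈ I := by
    intro d hd
    have hdec : d = ∑ a, (d a).val • (Pi.single a (1 : ZMod 3) - Pi.single 0 1 : Fin 6 → ZMod 3) := by
      funext i
      rw [Finset.sum_apply]
      simp only [Pi.smul_apply, Pi.sub_apply, smul_sub, nsmul_eq_mul, ZMod.natCast_val, ZMod.cast_id',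
        id_eq, Finset.sum_sub_distrib, ← Finset.sum_mul, hd, zero_mul, sub_zero]
      rw [Finset.sum_eq_single i (fun a _ ha => by rw [Pi.single_eq_of_ne (Ne.symm ha), mul_zero]) (by simp),
        Pi.single_eq_same, mul_one]
    rw [hdec]
    exact sum_mem fun a _ => AddSubgroup.nsmul_mem _ (hdiff a 0) _
  -- bijectivity
  have hbij : Function.Bijective (fun f : (∀ i, lineOf D R (lab i)) => ∑ i, (f i : V)) := by
    have hinj : Function.Injective (fun f : (∀ i, lineOf D R (lab i)) => ∑ i, (f i : V)) := by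
      intro f f' hff
      funext i
      apply Subtype.ext
      have hfe : ∑ k, ((f k : V) - f' k) = 0 := by
        rw [Finset.sum_sub_distrib, sub_eq_zero]; exact hff
      let F : (D.E → ZMod 3) → V × V := fun c =>
        if h : c ∈ S1 then (((f (e.symm ⟨c, h⟩) : V) - f' (e.symm ⟨c, h⟩)),
          R.ρ D.t ((f (e.symm ⟨c, h⟩) : V) - f' (e.symm ⟨c, h⟩))) else 0
      have hFlab : ∀ k, F (lab k) = (((f k : V) - f' k), R.ρ D.t ((f k : V) - f' k)) := fun k => by
        simp only [F, dif_pos (hlab k)]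
        have : e.symm ⟨lab k, hlab k⟩ = k := e.symm_apply_apply k
        rw [this]
      have hFmem : ∀ c, F c ∈ S.space c := by
        intro c
        by_cases h : c ∈ S1
        · obtain ⟨k, hk⟩ : ∃ k, lab k = c := ⟨e.symm ⟨c, h⟩, by simp [lab]⟩
          rw [← hk, hFlab]
          exact (hline _ (hlab k) _).1 (sub_mem (f k).2 (f' k).2)
        · simp only [F, dif_neg h]; exact zero_mem _
      have hFsum : ∑ c, F c = 0 := by
        rw [← Finset.sum_subset (Finset.subset_univ S1) (fun c _ hc => by simp only [F, dif_neg hc]),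
          ← Finset.sum_coe_sort S1, ← e.sum_comp]
        show ∑ k, F (lab k) = 0
        simp only [hFlab]
        refine Prod.ext ?_ ?_
        · rw [Prod.fst_sum]; exact hfe
        · rw [Prod.snd_sum, ← map_sum, hfe, map_zero]; rfl
      have := S.eq_zero_of_sum hFmem hFsum (lab i)
      rw [hFlab] at this
      exact sub_eq_zero.1 (congrArg Prod.fst this)
    refine (Nat.bijective_iff_injective_and_card _).2 ⟨hinj, ?_⟩
    rw [Nat.card_pi, Finset.prod_congr rfl (fun i _ => hcardline _ (hlab i)), R.card_V]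
    simp
  have hstab : ∀ i, ∀ v ∈ lineOf D R (lab i), R.ρ D.t v ∈ lineOf D R (lab i) := by
    intro i v hv u
    rw [← R.mul_apply, D.t_comm, R.mul_apply, hv u, ← R.mul_apply, ← R.mul_apply]
    congr 2
    exact (Commute.self_pow D.t _).eq
  have horth : ∀ i j, i ≠ j → ∀ v ∈ lineOf D R (lab i), ∀ w ∈ lineOf D R (lab j), R.b v w = 0 := by
    intro i j hij v hv w hw
    obtain ⟨u, hu⟩ : ∃ u, lab i u ≠ lab j u := by
      by_contra h
      push Not at h
      exact hij (labinj (funext h))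
    have step : ∀ w ∈ lineOf D R (lab j), R.b v w = R.b v (R.ρ D.t w) := by
      have hk : ∃ n : ℕ, n % 3 ≠ 0 ∧ ∀ w ∈ lineOf D R (lab j), R.b v w = R.b v (R.ρ (D.t ^ n) w) := by
        refine ⟨2 * (lab i u).val + (lab j u).val, ?_, fun w hw => ?_⟩
        · have := ZMod.val_lt (lab i u); have := ZMod.val_lt (lab j u)
          have : (lab i u).val ≠ (lab j u).val := fun e => hu (ZMod.val_injective 3 e)
          omega
        · have h := R.b_inv (u : H) v w
          rw [hv u, hw u] at h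
          have h' := R.b_inv (D.t ^ (2 * (lab i u).val)) (R.ρ (D.t ^ (lab i u).val) v)
            (R.ρ (D.t ^ (lab j u).val) w)
          rw [← R.mul_apply, ← R.mul_apply, ← pow_add, ← pow_add,
            show 2 * (lab i u).val + (lab i u).val = 3 * (lab i u).val by ring, pow_mul, D.t_cube,
            one_pow, R.one_apply] at h'
          rw [h', h]
      obtain ⟨n, hn, hkey⟩ := hk
      have hmod : ∀ x, R.ρ (D.t ^ n) x = R.ρ (D.t ^ (n % 3)) x := fun x => by
        conv_lhs => rw [← Nat.div_add_mod n 3, pow_add, pow_mul, D.t_cube, one_pow, one_mul]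
      intro w hw
      rcases (by omega : n % 3 = 1 ∨ n % 3 = 2) with h | h
      · rw [hkey w hw, hmod, h, pow_one]
      · have e1 := hkey w hw
        rw [hmod, h] at e1
        have hw2 : R.ρ (D.t ^ 2) w ∈ lineOf D R (lab j) := by
          rw [pow_two, R.mul_apply]; exact hstab j _ (hstab j _ hw)
        have e2 := hkey _ hw2
        rw [hmod, h, ← R.mul_apply, ← pow_add, show 2 + 2 = 3 + 1 from rfl, pow_add, D.t_cube, one_mul,
          pow_one] at e2
        rw [e1, e2]
    have e1 := step w hw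
    have e2 := step _ (hstab j _ hw)
    have h3 : R.b v (R.ρ D.t (R.ρ D.t w)) + R.b v (R.ρ D.t w) + R.b v w = 0 := by
      rw [← R.b_add_right, ← R.b_add_right, hfpf, R.b_zero_right]
    rw [← e2, ← e1] at h3
    generalize R.b v w = k at h3
    revert h3
    revert k
    decide
  have hmaps : ∀ (π : A6) i, ∀ v ∈ lineOf D R (lab i),
      R.ρ (D.lift (D.p π)) v ∈ lineOf D R (lab (θ π i)) := by
    intro π i v hv u
    show R.ρ (u : H) _ = R.ρ (D.t ^ (lab (idx π i) u).val) _
    rw [hidx, Mono.act_apply]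
    set g := D.lift (D.p π)
    have hu : (u : H) * g = g * ((D.cj π⁻¹ u : D.E) : H) := by
      rw [D.cj_val, D.conj_congr (a := D.lift (D.p π⁻¹)) (b := g⁻¹) (by simp [g, D.f_lift])]
      group
    rw [← R.mul_apply, hu, R.mul_apply, hv, ← R.mul_apply, ← R.mul_apply]
    congr 2
    exact ((show Commute g D.t from D.t_comm g).pow_right _).eq
  refine ⟨⟨D.t, D.t_cube, D.t_comm, hfpf, fun i => lineOf D R (lab i), fun i => hcardline _ (hlab i),
    hstab, horth, ?_, hbij, ?_, fun τ => D.lift (D.p (Θ.symm τ)), ?_, ?_⟩⟩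
  · intro i v hv hv0
    by_contra hq
    have hq0 : R.q v = 0 := by
      generalize R.q v = k at hq; revert hq; revert k; decide
    have hbt : R.b v (R.ρ D.t v) = 0 := by
      have e := R.q_add v (R.ρ D.t v)
      have hsum : v + R.ρ D.t v = R.ρ D.t (R.ρ D.t v) := by
        have := tpow 2 v
        have := congrArg Prod.fst this
        rw [show (2 : ZMod 3).val = 2 from rfl, pow_two, R.mul_apply] at this
        exact this
      rw [hsum, R.q_inv, R.q_inv, hq0, add_zero, zero_add] at e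
      exact e.symm
    have hbv : R.b v v = 0 := by
      have e := R.q_add v v
      rw [R.two, R.q_zero, hq0, add_zero, zero_add] at e
      exact e.symm
    have hbt2 : R.b v (R.ρ D.t (R.ρ D.t v)) = 0 := by
      have hh := hfpf v
      have : R.b v (R.ρ D.t (R.ρ D.t v)) + R.b v (R.ρ D.t v) + R.b v v = 0 := by
        rw [← R.b_add_right, ← R.b_add_right, hh, R.b_zero_right]
      rwa [hbt, hbv, add_zero, add_zero] at this
    have hL : ∀ x ∈ lineOf D R (lab i), R.b v x = 0 := by
      intro x hx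
      have : Fintype (lineOf D R (lab i)) := Fintype.ofFinite _
      have hd1 : R.ρ D.t v ≠ v := fun e => hv0 (by
        have := hfpf v; rwa [e, e, R.two, zero_add] at this)
      have hd0 : R.ρ D.t v ≠ 0 := fun e => hv0 (R.inj D.t (by rw [e, map_zero]))
      let s : Finset (lineOf D R (lab i)) := {0, ⟨v, hv⟩, ⟨_, hstab i v hv⟩, ⟨_, hstab i _ (hstab i v hv)⟩}
      have hs : s.card = 4 := by
        have a1 : (0 : lineOf D R (lab i)) ∉ ({⟨v, hv⟩, ⟨_, hstab i v hv⟩, ⟨_, hstab i _ (hstab i v hv)⟩} : Finset _) := by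
          simp only [Finset.mem_insert, Finset.mem_singleton, Subtype.ext_iff, AddSubgroup.coe_zero, not_or]
          exact ⟨Ne.symm hv0, Ne.symm hd0, fun e => hd0 (R.inj D.t (by rw [← e, map_zero]))⟩
        have a2 : (⟨v, hv⟩ : lineOf D R (lab i)) ∉ ({⟨_, hstab i v hv⟩, ⟨_, hstab i _ (hstab i v hv)⟩} : Finset _) := by
          simp only [Finset.mem_insert, Finset.mem_singleton, Subtype.ext_iff, not_or]
          refine ⟨Ne.symm hd1, fun e => hd1 ?_⟩
          have := congrArg (R.ρ D.t) e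
          rw [← R.mul_apply D.t D.t v, ← R.mul_apply, ← pow_three, D.t_cube, R.one_apply] at this
          exact this
        rw [Finset.card_insert_of_notMem a1, Finset.card_insert_of_notMem a2, Finset.card_pair]
        intro e
        exact hd1 (R.inj D.t (congrArg Subtype.val e)).symm
      have hall : s = Finset.univ := Finset.eq_univ_of_card s (by
        rw [hs, ← Nat.card_eq_fintype_card, hcardline _ (hlab i)])
      have := hall ▸ Finset.mem_univ (⟨x, hx⟩ : lineOf D R (lab i))
      simp only [s, Finset.mem_insert, Finset.mem_singleton, Subtype.ext_iff, AddSubgroup.coe_zero] at this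
      rcases this with rfl | rfl | rfl | rfl
      exacts [R.b_zero_right v, hbv, hbt, hbt2]
    refine hv0 (R.nondeg v fun w => ?_)
    obtain ⟨f, rfl⟩ := hbij.2 w
    show AddMonoidHom.mk' (R.b v) (R.b_add_right v) (∑ k, (f k : V)) = 0
    rw [map_sum]
    refine Finset.sum_eq_zero fun k _ => ?_
    by_cases hk : i = k
    · subst hk; exact hL _ (f i).2
    · exact horth i k hk v hv _ (f k).2
  · intro d hd
    obtain ⟨u, hu⟩ := hzero d hd
    exact ⟨u, fun i v hv => by rw [hv u, ← hu]⟩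
  · intro π σ
    have hk : (D.lift (D.p (Θ.symm π)) * D.lift (D.p (Θ.symm σ)))⁻¹ * D.lift (D.p (Θ.symm (π * σ))) ∈
        Subgroup.zpowers D.t := by
      rw [← D.ker_f, MonoidHom.mem_ker]
      simp [D.f_lift]
    obtain ⟨n, hn⟩ : ∃ n : ℕ, D.t ^ n =
        (D.lift (D.p (Θ.symm π)) * D.lift (D.p (Θ.symm σ)))⁻¹ * D.lift (D.p (Θ.symm (π * σ))) := by
      obtain ⟨m, hm⟩ := Subgroup.mem_zpowers_iff.1 hk
      refine ⟨(m % 3).toNat, ?_⟩
      rw [← hm, ← zpow_natCast, Int.toNat_of_nonneg (by omega),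
        show ((3 : ℤ)) = ((orderOf D.t : ℕ) : ℤ) by rw [D.orderOf_t]; rfl, zpow_mod_orderOf]
    exact ⟨n, by rw [hn, mul_inv_cancel_left]⟩
  · intro τ i v hv
    have := hmaps (Θ.symm τ) i v hv
    rwa [show θ (Θ.symm τ) = (τ : Equiv.Perm (Fin 6)) from congrArg Subtype.val (Θ.apply_symm_apply τ)] at this

end Build

end CfsgLib.FischerTwoFour
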