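import Mathlib
import Cfsg.Agent.Lib.FischerTwoFour.Lines

/-!
The nonzero singular vectors of a monomial frame form two orbits, of lengths 378 and 1701, when the
group contains an element of order seven and its order is not divisible by eleven; every singular
vector is fixed by a subgroup isomorphic to the alternating group of degree six.
-/

set_option autoImplicit false
set_option linter.unusedSectionVars false

namespace CfsgLib.FischerTwoFour

/-- Coordinates. -/
abbrev Code : Type := Fin 6 → Option (ZMod 3)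

/-- The weight. -/
def wt (f : Code) : ℕ := (Finset.univ.filter fun i => f i ≠ none).card

/-- The class of a full vector. -/
def cl (f : Code) : ZMod 3 := ∑ i, (f i).getD 0

theorem counts : (Finset.univ.filter fun f : Code => wt f = 2).card = 135 ∧
    (Finset.univ.filter fun f : Code => wt f = 4).card = 1215 ∧
    ∀ c : ZMod 3, (Finset.univ.filter fun f : Code => wt f = 6 ∧ cl f = c).card = 243 := by
  decide +kernel

namespace QRep

variable {H V : Type*} [Group H] [Finite H] [AddCommGroup V] (R : QRep H V)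

/-- The action of `H` on `V`. -/
@[reducible] def toAction : MulAction H V where
  smul h v := R.ρ h v
  one_smul v := R.one_apply v
  mul_smul a b v := R.mul_apply a b v

/-- `v` is in the orbit of `u`. -/
def Rel (u v : V) : Prop := ∃ h, R.ρ h u = v

theorem Rel.refl (u : V) : R.Rel u u := ⟨1, R.one_apply u⟩

theorem Rel.symm {u v : V} (h : R.Rel u v) : R.Rel v u := by
  obtain ⟨a, rfl⟩ := h; exact ⟨a⁻¹, R.inv_apply a u⟩

theorem Rel.trans {u v w : V} (h : R.Rel u v) (h' : R.Rel v w) : R.Rel u w := by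
  obtain ⟨a, rfl⟩ := h; obtain ⟨b, rfl⟩ := h'; exact ⟨b * a, R.mul_apply b a u⟩

theorem Rel.q {u v : V} (h : R.Rel u v) : R.q v = R.q u := by
  obtain ⟨a, rfl⟩ := h; exact R.q_inv a u

/-- The orbit as a finite set. -/
noncomputable def orb (u : V) [Fintype V] : Finset V :=
  haveI := Classical.decPred (R.Rel u)
  Finset.univ.filter (R.Rel u)

theorem mem_orb [Fintype V] {u v : V} : v ∈ R.orb u ↔ R.Rel u v := by simp [orb]

theorem card_orb_dvd [Fintype V] (u : V) : (R.orb u).card ∣ Nat.card H := by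
  classical
  let _ := R.toAction
  have h : MulAction.orbit H u = ((R.orb u : Finset V) : Set V) := by
    ext v
    rw [Finset.mem_coe, mem_orb]
    exact Iff.rfl
  rw [← Set.ncard_coe_finset, ← h, ← MulAction.index_stabilizer]
  exact Subgroup.index_dvd_card _

theorem dvd_card_of_free [Fintype V] {p : ℕ} (hp : p.Prime) {x : H} (hx : x ^ p = 1) (S : Finset V)
    (hS : ∀ v ∈ S, R.ρ x v ∈ S) (hfree : ∀ v ∈ S, R.ρ x v ≠ v) : p ∣ S.card := by
  classical
  have := Fact.mk hp
  let f : Function.End S := fun v => ⟨R.ρ x v, hS v v.2⟩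
  have hpow : ∀ n (v : S), ((f ^ n) v : V) = R.ρ (x ^ n) v := by
    intro n
    induction n with
    | zero => intro v; rw [pow_zero, pow_zero, R.one_apply]; rfl
    | succ n ih =>
      intro v
      rw [pow_succ', pow_succ', R.mul_apply, ← ih v]
      rfl
  have h := Equiv.Perm.card_fixedPoints_modEq (f := f) (p := p) (n := 1) (by
    funext v
    apply Subtype.ext
    rw [pow_one, hpow, hx, R.one_apply]
    rfl)
  have h0 : IsEmpty f.fixedPoints := ⟨fun v => hfree v.1 v.1.2 (congrArg Subtype.val v.2)⟩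
  rw [Fintype.card_eq_zero_iff.2 h0, Fintype.card_coe] at h
  exact Nat.modEq_zero_iff_dvd.1 h

/-- The sign of a bit. -/
def sg (a : ZMod 2) : ℤ := if a = 0 then 1 else -1

theorem sg_add : ∀ a b, sg (a + b) = sg a * sg b := by decide

theorem sg_sq : ∀ a, sg a * sg a = 1 := by decide

/-- The Gauss sum of a nondegenerate subspace squares to its order. -/
theorem gauss (W : AddSubgroup V) [Fintype W]
    (hnd : ∀ a : W, a ≠ 0 → ∃ w : W, R.b (w : V) a = 1) :
    (∑ u : W, sg (R.q u)) * (∑ u : W, sg (R.q u)) = Fintype.card W := by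
  classical
  rw [Finset.sum_mul_sum]
  have key : ∀ u : W, ∑ v : W, sg (R.q u) * sg (R.q v) = ∑ a : W, sg (R.q a) * sg (R.b u a) := by
    intro u
    rw [← Equiv.sum_comp (Equiv.addLeft u)]
    refine Finset.sum_congr rfl fun a _ => ?_
    rw [Equiv.coe_addLeft, AddSubgroup.coe_add, R.q_add, sg_add, sg_add, ← mul_assoc, ← mul_assoc,
      sg_sq, one_mul]
  rw [Finset.sum_congr rfl fun u _ => key u, Finset.sum_comm]
  rw [Finset.sum_eq_single (0 : W)]
  · simp [R.b_zero_right, R.q_zero, sg]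
  · intro a _ ha
    obtain ⟨w, hw⟩ := hnd a ha
    rw [← Finset.mul_sum]
    have : ∑ u : W, sg (R.b u a) = - ∑ u : W, sg (R.b u a) := by
      conv_lhs => rw [← Equiv.sum_comp (Equiv.addLeft w)]
      rw [← Finset.sum_neg_distrib]
      refine Finset.sum_congr rfl fun u _ => ?_
      rw [Equiv.coe_addLeft, AddSubgroup.coe_add, R.b_add, sg_add, hw,
        show sg 1 = -1 from rfl, neg_one_mul]
    rw [show ∑ u : W, sg (R.b u a) = 0 by linarith, mul_zero]
  · simp

end QRep

namespace Frame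

variable {H V : Type*} [Group H] [Finite H] [AddCommGroup V] [Fintype V] {R : QRep H V} (F : Frame R)

theorem exists_ne (i : Fin 6) : ∃ v : F.L i, v ≠ 0 := by
  have : Finite (F.L i) := inferInstance
  have h : Nontrivial (F.L i) := Finite.one_lt_card_iff_nontrivial.1 (by rw [F.card_L]; norm_num)
  exact _root_.exists_ne 0

/-- The chosen point of a line. -/
noncomputable def e (i : Fin 6) : F.L i := (F.exists_ne i).choose

theorem e_ne (i : Fin 6) : ((F.e i : F.L i) : V) ≠ 0 := fun h => (F.exists_ne i).choose_spec (Subtype.ext h)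

theorem stable_pow (i : Fin 6) {v : V} (hv : v ∈ F.L i) (n : ℕ) : R.ρ (F.t ^ n) v ∈ F.L i := by
  induction n with
  | zero => rwa [pow_zero, R.one_apply]
  | succ n ih => rw [pow_succ', R.mul_apply]; exact F.stable i _ ih

theorem t_pow_add (a b : ZMod 3) (v : V) :
    R.ρ (F.t ^ a.val) (R.ρ (F.t ^ b.val) v) = R.ρ (F.t ^ (a + b).val) v := by
  rw [← R.mul_apply, ← pow_add, ZMod.val_add]
  conv_lhs => rw [← Nat.div_add_mod (a.val + b.val) 3, pow_add, pow_mul, F.t_cube, one_pow, one_mul]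

theorem t_pow_fixed {a : ZMod 3} {v : V} (h : R.ρ (F.t ^ a.val) v = v) : a = 0 ∨ v = 0 := by
  by_cases ha : a = 0
  · exact Or.inl ha
  refine Or.inr ?_
  have h1 : R.ρ F.t v = v := by
    rcases (by decide : ∀ a : ZMod 3, a = 0 ∨ a = 1 ∨ a = 2) a with rfl | rfl | rfl
    · exact absurd rfl ha
    · rwa [show (1 : ZMod 3).val = 1 from rfl, pow_one] at h
    · have h2 := congrArg (R.ρ (F.t ^ (2 : ZMod 3).val)) h
      rw [F.t_pow_add, h, show (2 + 2 : ZMod 3).val = 1 from rfl, pow_one] at h2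
      exact h2
  have := F.t_fpf v
  rwa [h1, h1, R.two, zero_add] at this

/-- Points of a line in coordinates. -/
noncomputable def pt (i : Fin 6) : Option (ZMod 3) → F.L i
  | none => 0
  | some j => ⟨R.ρ (F.t ^ j.val) (F.e i), F.stable_pow i (F.e i).2 _⟩

theorem pt_bij (i : Fin 6) : Function.Bijective (F.pt i) := by
  have : Fintype (F.L i) := Fintype.ofFinite _
  rw [Fintype.bijective_iff_injective_and_card]
  refine ⟨?_, by rw [← Nat.card_eq_fintype_card (α := F.L i), F.card_L]; rfl⟩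
  rintro (_ | a) (_ | b) h
  · rfl
  · exact absurd (R.inj _ (show R.ρ (F.t ^ b.val) (F.e i : V) = R.ρ (F.t ^ b.val) 0 from
      ((congrArg Subtype.val h).symm.trans (map_zero (R.ρ (F.t ^ b.val))).symm))) (F.e_ne i)
  · exact absurd (R.inj _ (show R.ρ (F.t ^ a.val) (F.e i : V) = R.ρ (F.t ^ a.val) 0 from
      ((congrArg Subtype.val h).trans (map_zero (R.ρ (F.t ^ a.val))).symm))) (F.e_ne i)
  · have h1 : R.ρ (F.t ^ a.val) (F.e i : V) = R.ρ (F.t ^ b.val) (F.e i : V) := congrArg Subtype.val h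
    have h2 := congrArg (R.ρ (F.t ^ (-b).val)) h1
    rw [F.t_pow_add, F.t_pow_add, neg_add_cancel, ZMod.val_zero, pow_zero, R.one_apply] at h2
    rcases F.t_pow_fixed h2 with h3 | h3
    · rw [neg_add_eq_zero] at h3; rw [h3]
    · exact absurd h3 (F.e_ne i)

/-- The coordinate map. -/
noncomputable def Φ (f : Code) : V := ∑ i, ((F.pt i (f i) : F.L i) : V)

theorem Φ_bij : Function.Bijective F.Φ :=
  F.bij.comp (Function.Bijective.piMap fun i => F.pt_bij i)

theorem q_Φ (f : Code) : R.q (F.Φ f) = (wt f : ZMod 2) := by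
  rw [Φ, R.q_sum]
  · rw [wt, ← Finset.sum_boole]
    refine Finset.sum_congr rfl fun i _ => ?_
    rcases hi : f i with _ | j
    · simp [pt, R.q_zero]
    · rw [if_pos (by simp)]
      refine F.q_one i _ (F.pt i (some j)).2 fun h => ?_
      have := (F.pt_bij i).1 (show F.pt i (some j) = F.pt i none from Subtype.ext h)
      cases this
  · intro i _ j _ hij
    exact F.orth i j hij _ (F.pt i _).2 _ (F.pt j _).2

theorem Φ_zero : F.Φ (fun _ => none) = 0 := Finset.sum_eq_zero fun _ _ => rfl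

theorem Φ_ne_zero {f : Code} (h : wt f ≠ 0) : F.Φ f ≠ 0 := fun e => h (by
  rw [F.Φ_bij.1 (e.trans F.Φ_zero.symm)]; rfl)

/-- Moving coordinates by a diagonal element. -/
theorem diag_code (d : Fin 6 → ZMod 3) (hd : ∑ i, d i = 0) (f : Code) :
    R.Rel (F.Φ f) (F.Φ fun i => (f i).map (· + d i)) := by
  obtain ⟨h, hh⟩ := F.diag d hd
  refine ⟨h, ?_⟩
  rw [Φ, map_sum]
  refine Finset.sum_congr rfl fun i _ => ?_
  dsimp only
  rcases f i with _ | j
  · exact map_zero (R.ρ h)
  · show R.ρ h (R.ρ (F.t ^ j.val) (F.e i)) = R.ρ (F.t ^ (j + d i).val) (F.e i)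
    rw [hh i _ (F.stable_pow i (F.e i).2 _), F.t_pow_add, add_comm]

/-- The shift of the monomial element. -/
noncomputable def δ (τ : A6) (i : Fin 6) : ZMod 3 :=
  ((Equiv.ofBijective _ (F.pt_bij ((τ : Equiv.Perm (Fin 6)) i))).symm
    ⟨_, F.g_maps τ i _ (F.e i).2⟩).getD 0

theorem g_e (τ : A6) (i : Fin 6) :
    R.ρ (F.g τ) (F.e i) = R.ρ (F.t ^ (F.δ τ i).val) (F.e ((τ : Equiv.Perm (Fin 6)) i)) := by
  obtain ⟨o, ho⟩ := (F.pt_bij ((τ : Equiv.Perm (Fin 6)) i)).2 ⟨_, F.g_maps τ i _ (F.e i).2⟩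
  have hδ : F.δ τ i = o.getD 0 := by
    rw [δ]; congr 1
    rw [Equiv.symm_apply_eq]; exact ho.symm
  rcases o with _ | j
  · exfalso
    refine F.e_ne i (R.inj (F.g τ) ?_)
    rw [map_zero]
    exact (congrArg Subtype.val ho).symm
  · rw [hδ]; exact (congrArg Subtype.val ho).symm

theorem g_pt (τ : A6) (i : Fin 6) (o : Option (ZMod 3)) :
    R.ρ (F.g τ) ((F.pt i o : F.L i) : V) =
      ((F.pt ((τ : Equiv.Perm (Fin 6)) i) (o.map (· + F.δ τ i))) : V) := by
  rcases o with _ | j
  · exact map_zero _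
  · show R.ρ (F.g τ) (R.ρ (F.t ^ j.val) (F.e i)) = R.ρ (F.t ^ (j + F.δ τ i).val) (F.e _)
    rw [← R.mul_apply, ((show Commute (F.g τ) F.t from F.t_comm _).pow_right _).eq, R.mul_apply, F.g_e,
      F.t_pow_add]

/-- The coordinates after applying a monomial element. -/
noncomputable def move (τ : A6) (f : Code) : Code := fun k =>
  (f ((τ : Equiv.Perm (Fin 6)).symm k)).map (· + F.δ τ ((τ : Equiv.Perm (Fin 6)).symm k))

theorem g_Φ (τ : A6) (f : Code) : R.ρ (F.g τ) (F.Φ f) = F.Φ (F.move τ f) := by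
  rw [Φ, Φ, map_sum, ← Equiv.sum_comp (τ : Equiv.Perm (Fin 6)) (fun k => ((F.pt k (F.move τ f k) : F.L k) : V))]
  refine Finset.sum_congr rfl fun i _ => ?_
  rw [F.g_pt, move, Equiv.symm_apply_apply]

theorem δ_sum_mul (π σ : A6) : ∑ i, F.δ (π * σ) i = ∑ i, F.δ π i + ∑ i, F.δ σ i := by
  obtain ⟨n, hn⟩ := F.g_mul π σ
  have hi : ∀ i, F.δ (π * σ) i = (n : ZMod 3) + F.δ σ i + F.δ π ((σ : Equiv.Perm (Fin 6)) i) := by
    intro i
    have h := F.g_pt (π * σ) i (some 0)
    have hnn : R.ρ (F.t ^ n) (F.e i : V) = ((F.pt i (some (n : ZMod 3))) : V) := by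
      show _ = R.ρ (F.t ^ (n : ZMod 3).val) _
      rw [ZMod.val_natCast]
      conv_lhs => rw [← Nat.div_add_mod n 3, pow_add, pow_mul, F.t_cube, one_pow, one_mul]
    have h0 : ((F.pt i (some 0)) : V) = F.e i := by
      show R.ρ (F.t ^ (0 : ZMod 3).val) _ = _
      rw [ZMod.val_zero, pow_zero, R.one_apply]
    rw [h0, hn, R.mul_apply, R.mul_apply, hnn, F.g_pt, F.g_pt] at h
    have := (F.pt_bij _).1 (Subtype.ext h : F.pt (((π * σ : A6) : Equiv.Perm (Fin 6)) i)
      ((((some (n : ZMod 3)).map (· + F.δ σ i))).map (· + F.δ π _)) = _)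
    simpa using this.symm
  rw [Finset.sum_congr rfl fun i _ => hi i, Finset.sum_add_distrib, Finset.sum_add_distrib,
    Finset.sum_const, Finset.card_univ, Fintype.card_fin, Equiv.sum_comp (σ : Equiv.Perm (Fin 6)) (F.δ π)]
  have : (6 : ℕ) • (n : ZMod 3) = 0 := by
    rw [nsmul_eq_mul, show ((6 : ℕ) : ZMod 3) = 0 from rfl, zero_mul]
  rw [this, zero_add, add_comm]

theorem δ_sum (τ : A6) : ∑ i, F.δ τ i = 0 := by
  have h := hom_trivial
    (MonoidHom.mk' (fun π => Multiplicative.ofAdd (∑ i, F.δ π i)) fun a b => by rw [F.δ_sum_mul]; rfl)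
    (by rw [Nat.card_eq_fintype_card, Fintype.card_multiplicative, ZMod.card]; norm_num) τ
  exact Multiplicative.ofAdd.injective h

/-- Vectors of full weight in the same class are related. -/
theorem rel_full {f f' : Code} (hf : wt f = 6) (hf' : wt f' = 6) (hc : cl f = cl f') :
    R.Rel (F.Φ f) (F.Φ f') := by
  have hs : ∀ {f : Code}, wt f = 6 → ∀ i, ∃ j, f i = some j := by
    intro f hf i
    have : Finset.univ.filter (fun i => f i ≠ none) = Finset.univ :=
      Finset.eq_univ_of_card _ (by rw [← wt, hf]; rfl)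
    exact Option.ne_none_iff_exists'.1 (Finset.filter_eq_self.1 this i (Finset.mem_univ _))
  choose a ha using hs hf
  choose b hb using hs hf'
  have hd : ∑ i, (b i - a i) = 0 := by
    have e1 : cl f = ∑ i, a i := Finset.sum_congr rfl fun i _ => by rw [ha]; rfl
    have e2 : cl f' = ∑ i, b i := Finset.sum_congr rfl fun i _ => by rw [hb]; rfl
    rw [Finset.sum_sub_distrib, ← e1, ← e2, hc, sub_self]
  have := F.diag_code _ hd f
  convert this using 2
  funext i
  rw [ha, hb, Option.map_some, add_sub_cancel]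

theorem move_none (τ : A6) (f : Code) (i : Fin 6) :
    F.move τ f ((τ : Equiv.Perm (Fin 6)) i) = none ↔ f i = none := by
  rw [move, Equiv.symm_apply_apply, Option.map_eq_none_iff]

/-- Vectors with the same partial support are related. -/
theorem rel_partial {f f' : Code} (hsupp : ∀ i, f i = none ↔ f' i = none) (i₀ : Fin 6) (h0 : f i₀ = none) :
    R.Rel (F.Φ f) (F.Φ f') := by
  classical
  let d0 : Fin 6 → ZMod 3 := fun i => (f' i).getD 0 - (f i).getD 0
  let d : Fin 6 → ZMod 3 := d0 - Pi.single i₀ (∑ i, d0 i)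
  have hd : ∑ i, d i = 0 := by simp [d]
  have := F.diag_code d hd f
  convert this using 2
  funext i
  rcases hfi : f i with _ | a
  · rw [(hsupp i).1 hfi]; rfl
  · have hne' : f' i ≠ none := fun e => by
      have := (hsupp i).2 e
      rw [hfi] at this
      cases this
    obtain ⟨b, hb⟩ := Option.ne_none_iff_exists'.1 hne'
    have hne : i ≠ i₀ := fun e => by rw [e, h0] at hfi; cases hfi
    rw [hb, Option.map_some]
    simp [d, d0, hfi, hb, Pi.single_eq_of_ne hne]

theorem two_sets : ∀ a b a' b' : Fin 6, a ≠ b → a' ≠ b' → ∃ τ : A6,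
    (τ : Equiv.Perm (Fin 6)) a = a' ∧ (τ : Equiv.Perm (Fin 6)) b = b' := by
  intro a b a' b' hab hab'
  obtain ⟨π, p0, p3, ps⟩ := CfsgLib.U43Six.two_transitive a b hab
  obtain ⟨σ, s0, s3, ss⟩ := CfsgLib.U43Six.two_transitive a' b' hab'
  refine ⟨(⟨σ, Equiv.Perm.mem_alternatingGroup.2 ss⟩ : A6) * (⟨π, Equiv.Perm.mem_alternatingGroup.2 ps⟩ : A6)⁻¹,
    ?_, ?_⟩
  · show σ (π.symm a) = a'
    rw [← p0, Equiv.symm_apply_apply, s0]
  · show σ (π.symm b) = b'
    rw [← p3, Equiv.symm_apply_apply, s3]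

theorem rel_weight {f f' : Code} (hw : wt f = wt f') (hk : wt f = 2 ∨ wt f = 4) :
    R.Rel (F.Φ f) (F.Φ f') := by
  classical
  have hnone : ∀ f : Code, (Finset.univ.filter fun i => f i = none).card = 6 - wt f := by
    intro f
    have := Finset.card_filter_add_card_filter_not (s := (Finset.univ : Finset (Fin 6))) (fun i => f i ≠ none)
    simp only [not_not, Finset.card_univ, Fintype.card_fin] at this
    rw [wt]; omega
  obtain ⟨τ, hτ⟩ : ∃ τ : A6, ∀ i, f' ((τ : Equiv.Perm (Fin 6)) i) = none ↔ f i = none := by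
    rcases hk with h | h
    · obtain ⟨a, b, hab, e⟩ := Finset.card_eq_two.1 (show (Finset.univ.filter fun i => f i ≠ none).card = 2 from h)
      obtain ⟨a', b', hab', e'⟩ := Finset.card_eq_two.1
        (show (Finset.univ.filter fun i => f' i ≠ none).card = 2 from hw.symm.trans h)
      obtain ⟨τ, ha, hb⟩ := two_sets a b a' b' hab hab'
      refine ⟨τ, fun i => ?_⟩
      have h1 := congrArg (fun s => i ∈ s) e
      have h2 := congrArg (fun s => (τ : Equiv.Perm (Fin 6)) i ∈ s) e'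
      simp only [Finset.mem_filter, Finset.mem_univ, true_and, Finset.mem_insert, Finset.mem_singleton,
        eq_iff_iff] at h1 h2
      rw [← ha, ← hb, EmbeddingLike.apply_eq_iff_eq, EmbeddingLike.apply_eq_iff_eq, ← h1] at h2
      exact not_iff_not.1 h2
    · obtain ⟨a, b, hab, e⟩ := Finset.card_eq_two.1 (show (Finset.univ.filter fun i => f i = none).card = 2 by
        rw [hnone, h])
      obtain ⟨a', b', hab', e'⟩ := Finset.card_eq_two.1
        (show (Finset.univ.filter fun i => f' i = none).card = 2 by rw [hnone, ← hw, h])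
      obtain ⟨τ, ha, hb⟩ := two_sets a b a' b' hab hab'
      refine ⟨τ, fun i => ?_⟩
      have h1 := congrArg (fun s => i ∈ s) e
      have h2 := congrArg (fun s => (τ : Equiv.Perm (Fin 6)) i ∈ s) e'
      simp only [Finset.mem_filter, Finset.mem_univ, true_and, Finset.mem_insert, Finset.mem_singleton,
        eq_iff_iff] at h1 h2
      rw [← ha, ← hb, EmbeddingLike.apply_eq_iff_eq, EmbeddingLike.apply_eq_iff_eq, ← h1] at h2
      exact h2
  have h1 : R.Rel (F.Φ f) (F.Φ (F.move τ f)) := ⟨_, F.g_Φ τ f⟩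
  obtain ⟨i₀, hi₀⟩ : ∃ i, f i = none := by
    by_contra hno
    push Not at hno
    have := hnone f
    rw [Finset.filter_false_of_mem (fun i _ => hno i), Finset.card_empty] at this
    omega
  refine QRep.Rel.trans R h1 (F.rel_partial (fun k => ?_) _ ((F.move_none τ f i₀).2 hi₀))
  obtain ⟨i, rfl⟩ := (τ : Equiv.Perm (Fin 6)).surjective k
  rw [F.move_none, hτ]

/-- A full vector is fixed by a copy of the alternating group, permuting the lines. -/
theorem stab_A6_lines {f : Code} (hf : wt f = 6) :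
    ∃ φ : A6 →* H, Function.Injective φ ∧ ∀ τ : A6, (∀ i, ∀ v ∈ F.L i,
      R.ρ (φ τ) v ∈ F.L ((τ : Equiv.Perm (Fin 6)) i)) ∧ R.ρ (φ τ) (F.Φ f) = F.Φ f := by
  classical
  let P : A6 → H → Prop := fun τ h =>
    (∀ i, ∀ v ∈ F.L i, R.ρ h v ∈ F.L ((τ : Equiv.Perm (Fin 6)) i)) ∧
      R.ρ h (F.Φ f) = F.Φ f
  have hsome : ∀ i, f i ≠ none := fun i => by
    have : Finset.univ.filter (fun i => f i ≠ none) = Finset.univ :=
      Finset.eq_univ_of_card _ (by rw [← wt, hf]; rfl)
    exact Finset.filter_eq_self.1 this i (Finset.mem_univ _)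
  have hex : ∀ τ, ∃ h, P τ h := by
    intro τ
    have hmove : wt (F.move τ f) = 6 := by
      rw [wt, Finset.filter_true_of_mem (fun k _ => ?_)]; rfl
      obtain ⟨i, rfl⟩ := (τ : Equiv.Perm (Fin 6)).surjective k
      exact fun e => hsome i ((F.move_none τ f i).1 e)
    have hcl : cl (F.move τ f) = cl f := by
      rw [cl, ← Equiv.sum_comp (τ : Equiv.Perm (Fin 6))]
      have : ∀ i, (F.move τ f ((τ : Equiv.Perm (Fin 6)) i)).getD 0 = (f i).getD 0 + F.δ τ i := by
        intro i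
        obtain ⟨j, hj⟩ := Option.ne_none_iff_exists'.1 (hsome i)
        rw [move, Equiv.symm_apply_apply, hj]; rfl
      rw [Finset.sum_congr rfl fun i _ => this i, Finset.sum_add_distrib, F.δ_sum, add_zero]; rfl
    choose a ha using fun i => Option.ne_none_iff_exists'.1 (hsome i)
    choose b hb using fun i => Option.ne_none_iff_exists'.1
      (show F.move τ f i ≠ none from fun e => by
        obtain ⟨k, rfl⟩ := (τ : Equiv.Perm (Fin 6)).surjective i
        exact hsome k ((F.move_none τ f k).1 e))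
    have hd : ∑ i, (a i - b i) = 0 := by
      have e1 : cl f = ∑ i, a i := Finset.sum_congr rfl fun i _ => by rw [ha]; rfl
      have e2 : cl (F.move τ f) = ∑ i, b i := Finset.sum_congr rfl fun i _ => by rw [hb]; rfl
      rw [Finset.sum_sub_distrib, ← e1, ← e2, hcl, sub_self]
    obtain ⟨h, hh⟩ := F.diag _ hd
    refine ⟨h * F.g τ, fun i v hv => ?_, ?_⟩
    · rw [R.mul_apply, hh _ _ (F.g_maps τ i v hv)]
      exact F.stable_pow _ (F.g_maps τ i v hv) _
    · rw [R.mul_apply, F.g_Φ, Φ, map_sum, Φ]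
      refine Finset.sum_congr rfl fun i _ => ?_
      rw [hh i _ (F.pt i _).2, hb, ha]
      show R.ρ _ (R.ρ (F.t ^ (b i).val) _) = R.ρ (F.t ^ (a i).val) _
      rw [F.t_pow_add, sub_add_cancel]
  have huniq : ∀ τ h h', P τ h → P τ h' → h = h' := by
    intro τ h h' hP hP'
    have hcomp : ∀ {h}, P τ h → ∀ i,
        R.ρ h ((F.pt i (f i) : F.L i) : V) = ((F.pt ((τ : Equiv.Perm (Fin 6)) i) (f ((τ : Equiv.Perm (Fin 6)) i)) : F.L _) : V) := by
      intro h hP i
      obtain ⟨hm, hv⟩ := hP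
      let G1 : ∀ k, F.L k := fun k => ⟨R.ρ h ((F.pt ((τ : Equiv.Perm (Fin 6)).symm k)
          (f ((τ : Equiv.Perm (Fin 6)).symm k)) : F.L _) : V), by
        have := hm _ _ (F.pt ((τ : Equiv.Perm (Fin 6)).symm k) (f ((τ : Equiv.Perm (Fin 6)).symm k))).2
        rwa [Equiv.apply_symm_apply] at this⟩
      have hG : (∑ k, (G1 k : V)) = ∑ k, ((F.pt k (f k) : F.L k) : V) := by
        rw [← Φ, ← hv, Φ, map_sum]
        exact Equiv.sum_comp (τ : Equiv.Perm (Fin 6)).symm
          (fun i => R.ρ h ((F.pt i (f i) : F.L i) : V))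
      have := congrArg Subtype.val (congrFun (F.bij.1 (a₁ := G1) (a₂ := fun k => F.pt k (f k)) hG)
        ((τ : Equiv.Perm (Fin 6)) i))
      simp only [G1] at this
      rwa [Equiv.symm_apply_apply] at this
    have hagree : ∀ v, R.ρ h v = R.ρ h' v := by
      intro v
      obtain ⟨c, rfl⟩ := F.bij.2 v
      rw [map_sum, map_sum]
      refine Finset.sum_congr rfl fun i _ => ?_
      obtain ⟨o, ho⟩ := (F.pt_bij i).2 (c i)
      rw [← ho]
      obtain ⟨j, hj⟩ := Option.ne_none_iff_exists'.1 (hsome i)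
      rcases o with _ | k
      · show R.ρ h 0 = R.ρ h' 0
        rw [map_zero, map_zero]
      · have e1 := hcomp hP i
        have e2 := hcomp hP' i
        rw [hj] at e1 e2
        have hk : ((F.pt i (some k) : F.L i) : V) = R.ρ (F.t ^ (k - j).val) ((F.pt i (some j) : F.L i) : V) := by
          show R.ρ (F.t ^ k.val) _ = R.ρ _ (R.ρ (F.t ^ j.val) _)
          rw [F.t_pow_add, sub_add_cancel]
        rw [hk, ← R.mul_apply, ← R.mul_apply,
          ((show Commute h F.t from F.t_comm _).pow_right _).eq,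
          ((show Commute h' F.t from F.t_comm _).pow_right _).eq, R.mul_apply, R.mul_apply, e1, e2]
    exact inv_mul_eq_one.1 (R.faithful _ fun v => by rw [R.mul_apply, ← hagree, R.inv_apply])
  choose s hs using hex
  refine ⟨MonoidHom.mk' s fun π σ => huniq (π * σ) _ _ (hs _) ⟨fun i v hv => ?_, ?_⟩,
    fun π σ hπσ => ?_, fun τ => hs τ⟩
  · rw [R.mul_apply]; exact (hs π).1 _ _ ((hs σ).1 i v hv)
  · rw [R.mul_apply, (hs σ).2, (hs π).2]
  · change s π = s σ at hπσ
    apply Subtype.ext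
    ext1 i
    by_contra hne
    have h1 := (hs π).1 i _ (F.e i).2
    have h2 := (hs σ).1 i _ (F.e i).2
    rw [hπσ] at h1
    have h3 : R.b (R.ρ (s σ) (F.e i)) (R.ρ (s σ) (R.ρ F.t (F.e i))) = 0 :=
      F.orth _ _ hne _ h1 _ ((hs σ).1 i _ (F.stable i _ (F.e i).2))
    rw [R.b_inv] at h3
    have he := R.q_add (F.e i : V) (R.ρ F.t (F.e i))
    rw [h3, R.q_inv, F.q_one i _ (F.e i).2 (F.e_ne i)] at he
    have hne0 : (F.e i : V) + R.ρ F.t (F.e i) ≠ 0 := fun e => by
      have h' := F.t_fpf (F.e i : V)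
      rw [add_assoc, add_comm (R.ρ F.t (F.e i : V)), e, add_zero] at h'
      exact F.e_ne i (R.inj F.t (R.inj F.t (by rw [h', map_zero, map_zero])))
    rw [F.q_one i _ (add_mem (F.e i).2 (F.stable i _ (F.e i).2)) hne0] at he
    exact absurd he (by decide)

/-- A full vector is fixed by a copy of the alternating group. -/
theorem stab_A6 {f : Code} (hf : wt f = 6) :
    ∃ φ : A6 →* H, Function.Injective φ ∧ ∀ τ, R.ρ (φ τ) (F.Φ f) = F.Φ f := by
  obtain ⟨φ, h1, h2⟩ := F.stab_A6_lines hf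
  exact ⟨φ, h1, fun τ => (h2 τ).2⟩

/-- The set of a given weight. -/
noncomputable def blk (P : Code → Prop) [DecidablePred P] [DecidableEq V] : Finset V :=
  (Finset.univ.filter P).image F.Φ

/-- An element of order seven fixes no nonzero vector. -/
theorem seven_fpf (F : Frame R) {x : H} (hx : orderOf x = 7) {v : V} (hv : R.ρ x v = v) : v = 0 := by
  classical
  have hx7 : x ^ 7 = 1 := hx ▸ pow_orderOf_eq_one x
  let P : V →+ V := ∑ i ∈ Finset.range 7, R.ρ (x ^ i)
  have hP : ∀ v, P v = ∑ i ∈ Finset.range 7, R.ρ (x ^ i) v := fun v =>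
    map_sum (AddMonoidHom.eval v) (fun i => R.ρ (x ^ i)) (Finset.range 7)
  have hxP : ∀ v, R.ρ x (P v) = P v := by
    intro v
    rw [hP, map_sum]
    have e : ∀ i, R.ρ x (R.ρ (x ^ i) v) = R.ρ (x ^ (i + 1)) v := fun i => by
      rw [← R.mul_apply, ← pow_succ']
    rw [Finset.sum_congr rfl fun i _ => e i]
    simp only [Finset.sum_range_succ, Finset.sum_range_zero, zero_add, hx7, pow_zero]
    abel
  have hfix : ∀ v, R.ρ x v = v → P v = v := by
    intro v hv
    have e : ∀ i, R.ρ (x ^ i) v = v := fun i => by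
      induction i with
      | zero => rw [pow_zero, R.one_apply]
      | succ i ih => rw [pow_succ', R.mul_apply, ih, hv]
    rw [hP, Finset.sum_congr rfl fun i _ => e i]
    simp only [Finset.sum_range_succ, Finset.sum_range_zero, zero_add, R.two]
  let W : AddSubgroup V := P.ker
  let Fx : AddSubgroup V :=
    { carrier := {v | R.ρ x v = v}
      zero_mem' := map_zero _
      add_mem' := fun {a b} ha hb => by
        show R.ρ x (a + b) = a + b
        rw [map_add, ha, hb]
      neg_mem' := fun {a} ha => by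
        show R.ρ x (-a) = -a
        rw [map_neg, ha] }
  have hxW : ∀ w, P w = 0 → P (R.ρ x w) = 0 := by
    intro w hw
    have : P (R.ρ x w) = R.ρ x (P w) := by
      rw [hP, hP, map_sum]
      refine Finset.sum_congr rfl fun i _ => ?_
      rw [← R.mul_apply, ← R.mul_apply, (Commute.self_pow x i).eq]
    rw [this, hw, map_zero]
  have htW : ∀ w, P w = 0 → P (R.ρ F.t w) = 0 := by
    intro w hw
    have : P (R.ρ F.t w) = R.ρ F.t (P w) := by
      rw [hP, hP, map_sum]
      refine Finset.sum_congr rfl fun i _ => ?_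
      rw [← R.mul_apply, ← R.mul_apply, F.t_comm]
    rw [this, hw, map_zero]
  have horth : ∀ a w, R.ρ x a = a → P w = 0 → R.b a w = 0 := by
    intro a w ha hw
    have e : ∀ i, R.b a (R.ρ (x ^ i) w) = R.b a w := fun i => by
      induction i with
      | zero => rw [pow_zero, R.one_apply]
      | succ i ih =>
        rw [pow_succ', R.mul_apply]
        conv_lhs => rw [← ha]
        rw [R.b_inv, ih]
    have h0 : AddMonoidHom.mk' (R.b a) (R.b_add_right a) (P w) = 0 := by rw [hw, map_zero]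
    rw [hP, map_sum] at h0
    simp only [AddMonoidHom.mk'_apply, e, Finset.sum_const, Finset.card_range] at h0
    generalize R.b a w = k at h0 ⊢
    revert h0; revert k; decide
  have hsplit : ∀ v, ∃ a w, R.ρ x a = a ∧ P w = 0 ∧ v = a + w := fun v =>
    ⟨P v, v + P v, hxP v, by rw [map_add, hfix _ (hxP v), R.two], by
      rw [add_left_comm, R.two, add_zero]⟩
  have hnd : ∀ w, P w = 0 → w ≠ 0 → ∃ w', P w' = 0 ∧ R.b w' w = 1 := by
    intro w hw hw0
    by_contra hno
    push Not at hno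
    refine hw0 (R.nondeg w fun v => ?_)
    obtain ⟨a, w', ha, hw', rfl⟩ := hsplit v
    rw [R.b_add_right, R.b_comm w a, horth a w ha hw, zero_add, R.b_comm]
    exact (by decide : ∀ k : ZMod 2, k ≠ 1 → k = 0) _ (hno w' hw')
  have : Fintype W := Fintype.ofFinite _
  have hfreeW : ∀ w : V, P w = 0 → w ≠ 0 → R.ρ x w ≠ w := fun w hw hw0 e => hw0 (by rw [← hfix w e, hw])
  have htfree : ∀ w : V, w ≠ 0 → R.ρ F.t w ≠ w := fun w hw0 e => hw0 (by
    have := F.t_fpf w; rwa [e, e, R.two, zero_add] at this)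
  let S : Finset V := Finset.univ.filter fun w => P w = 0 ∧ w ≠ 0
  have hdvd : ∀ T ⊆ S, (∀ w ∈ T, R.ρ x w ∈ T) → (∀ w ∈ T, R.ρ F.t w ∈ T) → 7 ∣ T.card ∧ 3 ∣ T.card := by
    intro T hT h1 h2
    exact ⟨R.dvd_card_of_free (by norm_num) hx7 T h1 fun w hw =>
        hfreeW w (Finset.mem_filter.1 (hT hw)).2.1 (Finset.mem_filter.1 (hT hw)).2.2,
      R.dvd_card_of_free Nat.prime_three F.t_cube T h2 fun w hw => htfree w (Finset.mem_filter.1 (hT hw)).2.2⟩
  have hScard : S.card + 1 = Fintype.card W := by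
    have h1 : (Finset.univ.filter fun w : V => P w = 0) = insert 0 S := by
      ext w
      simp only [S, Finset.mem_filter, Finset.mem_univ, true_and, Finset.mem_insert]
      by_cases hw : w = 0 <;> simp [hw]
    rw [← Finset.card_insert_of_notMem (show (0 : V) ∉ S by simp [S]), ← h1, Fintype.card_subtype]
    exact congrArg Finset.card (Finset.filter_congr fun w _ => AddMonoidHom.mem_ker.symm)
  obtain ⟨k, hk12, hk⟩ := (Nat.dvd_prime_pow Nat.prime_two).1
    (show Nat.card W ∣ 2 ^ 12 by rw [show 2 ^ 12 = Nat.card V from R.card_V.symm]; exact AddSubgroup.card_addSubgroup_dvd_card W)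
  rw [Nat.card_eq_fintype_card] at hk
  have hmove : ∀ w : V, w ∈ S → R.ρ x w ∈ S ∧ R.ρ F.t w ∈ S := by
    intro w hw
    obtain ⟨-, hw1, hw2⟩ := Finset.mem_filter.1 hw
    exact ⟨Finset.mem_filter.2 ⟨Finset.mem_univ _, hxW w hw1, fun e => hw2 (R.inj x (by rw [e, map_zero]))⟩,
      Finset.mem_filter.2 ⟨Finset.mem_univ _, htW w hw1, fun e => hw2 (R.inj F.t (by rw [e, map_zero]))⟩⟩
  obtain ⟨d7, d3⟩ := hdvd S Finset.Subset.rfl (fun w hw => (hmove w hw).1) (fun w hw => (hmove w hw).2)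
  have hk3 : k = 0 ∨ k = 6 ∨ k = 12 := by
    interval_cases k <;> omega
  rcases hk3 with rfl | rfl | rfl
  · exfalso
    have hS0 : S = ∅ := Finset.card_eq_zero.1 (by omega)
    have hall : ∀ u, R.ρ x u = u := by
      intro u
      obtain ⟨a, w, ha, hw, rfl⟩ := hsplit u
      have : w = 0 := by
        by_contra hw0
        have : w ∈ S := Finset.mem_filter.2 ⟨Finset.mem_univ _, hw, hw0⟩
        rw [hS0] at this; exact Finset.notMem_empty _ this
      rw [this, add_zero, ha]
    have := R.faithful x hall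
    rw [this, orderOf_one] at hx
    omega
  · exfalso
    let Ss : Finset V := S.filter fun w => R.q w = 0
    have hq : ∀ w ∈ Ss, R.ρ x w ∈ Ss ∧ R.ρ F.t w ∈ Ss := fun w hw => by
      obtain ⟨h1, h2⟩ := Finset.mem_filter.1 hw
      exact ⟨Finset.mem_filter.2 ⟨(hmove w h1).1, by rw [R.q_inv, h2]⟩,
        Finset.mem_filter.2 ⟨(hmove w h1).2, by rw [R.q_inv, h2]⟩⟩
    obtain ⟨e7, e3⟩ := hdvd Ss (Finset.filter_subset _ _) (fun w hw => (hq w hw).1) (fun w hw => (hq w hw).2)
    have hg := R.gauss W (fun a ha => by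
      obtain ⟨w', h1, h2⟩ := hnd a a.2 (fun e => ha (Subtype.ext e))
      exact ⟨⟨w', h1⟩, h2⟩)
    have hsum : (∑ u : W, QRep.sg (R.q u)) = 1 + (∑ w ∈ S, QRep.sg (R.q w)) := by
      have h1 : (Finset.univ.filter fun w : V => P w = 0) = insert 0 S := by
        ext w
        simp only [S, Finset.mem_filter, Finset.mem_univ, true_and, Finset.mem_insert]
        by_cases hw : w = 0 <;> simp [hw]
      rw [Finset.sum_subtype (p := fun w => w ∈ W) (Finset.univ.filter fun w : V => P w = 0)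
        (fun w => by simp [W, AddMonoidHom.mem_ker]) (fun w => QRep.sg (R.q w)) |>.symm, h1,
        Finset.sum_insert (by simp [S]), R.q_zero]
      simp [QRep.sg]
    have hSs : (∑ w ∈ S, QRep.sg (R.q w)) = (Ss.card : ℤ) - ((S.card : ℤ) - Ss.card) := by
      rw [← Finset.sum_filter_add_sum_filter_not S (fun w => R.q w = 0),
        Finset.sum_congr rfl (fun w hw => show QRep.sg (R.q w) = 1 by simp [QRep.sg, (Finset.mem_filter.1 hw).2]),
        Finset.sum_congr rfl (s₁ := S.filter fun w => ¬ R.q w = 0)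
          (fun w hw => show QRep.sg (R.q w) = -1 by simp [QRep.sg, (Finset.mem_filter.1 hw).2])]
      have := Finset.card_filter_add_card_filter_not (s := S) (fun w => R.q w = 0)
      simp only [Finset.sum_const, nsmul_eq_mul, mul_one, mul_neg_one, Ss]
      push_cast [← this]
      ring
    rw [hsum, hSs, hk] at hg
    have hcardS : S.card = 63 := by omega
    rw [hcardS] at hg
    have hle : Ss.card ≤ 63 := hcardS ▸ Finset.card_filter_le S _
    generalize Ss.card = m at e7 e3 hg hle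
    interval_cases m <;> omega
  · by_contra hv0
    have hW : W = ⊤ := AddSubgroup.eq_top_of_card_eq W (by rw [Nat.card_eq_fintype_card, hk, R.card_V]; rfl)
    have : P v = 0 := AddMonoidHom.mem_ker.1 (hW ▸ AddSubgroup.mem_top v : v ∈ W)
    rw [hfix v hv] at this
    exact hv0 this

/-- The lengths of the five blocks. -/
def blkSize : Fin 5 → ℕ := ![135, 1215, 243, 243, 243]

/-- The block of a class. -/
def cls (c : ZMod 3) : Fin 5 := if c = 0 then 2 else if c = 1 then 3 else 4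

theorem block_sums : ∀ J₁ J₂ : Finset (Fin 5), 0 ∈ J₁ → 1 ∈ J₂ → (∑ j ∈ J₁, blkSize j) % 7 = 0 →
    (∑ j ∈ J₂, blkSize j) % 7 = 0 → ∑ j ∈ J₁, blkSize j ≠ 2079 → (∀ j ∈ J₁, j ∈ J₂ → 1 ∈ J₁) →
    ∑ j ∈ J₁, blkSize j = 378 ∧ ∑ j ∈ J₂, blkSize j = 1701 ∧ (∀ j, j ∈ J₁ ∨ j ∈ J₂) ∧
      (∃ c : ZMod 3, cls c ∈ J₁) ∧ ∃ c : ZMod 3, cls c ∈ J₂ := by
  decide +kernel

/-- The two orbits on nonzero singular vectors. -/
theorem orbits_codes (F : Frame R) {x : H} (hx : orderOf x = 7) (h11 : ¬ 11 ∣ Nat.card H) :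
    ∃ f₁ f₂ : Code, wt f₁ = 2 ∧ wt f₂ = 4 ∧ (R.orb (F.Φ f₁)).card = 378 ∧ (R.orb (F.Φ f₂)).card = 1701 ∧
      (∀ v, v ≠ 0 → R.q v = 0 → R.Rel (F.Φ f₁) v ∨ R.Rel (F.Φ f₂) v) ∧
      ∀ v, v ≠ 0 → R.q v = 0 → ∃ f, wt f = 6 ∧ R.Rel (F.Φ f) v := by
  classical
  obtain ⟨c2, c4, c6⟩ := counts
  -- the five blocks
  let P : Fin 5 → Code → Prop := fun j f =>
    ![wt f = 2, wt f = 4, wt f = 6 ∧ cl f = 0, wt f = 6 ∧ cl f = 1, wt f = 6 ∧ cl f = 2] j
  let rc : Fin 5 → Code :=
    ![![some 0, some 0, none, none, none, none], ![some 0, some 0, some 0, some 0, none, none],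
      ![some 0, some 0, some 0, some 0, some 0, some 0], ![some 1, some 0, some 0, some 0, some 0, some 0],
      ![some 2, some 0, some 0, some 0, some 0, some 0]]
  have hP0 : ∀ f, P 0 f = (wt f = 2) := fun f => rfl
  have hP1 : ∀ f, P 1 f = (wt f = 4) := fun f => rfl
  have hP2 : ∀ f, P 2 f = (wt f = 6 ∧ cl f = 0) := fun f => rfl
  have hP3 : ∀ f, P 3 f = (wt f = 6 ∧ cl f = 1) := fun f => rfl
  have hP4 : ∀ f, P 4 f = (wt f = 6 ∧ cl f = 2) := fun f => rfl
  have five : ∀ {C : Fin 5 → Prop}, C 0 → C 1 → C 2 → C 3 → C 4 → ∀ j, C j := fun h0 h1 h2 h3 h4 j => by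
    fin_cases j <;> assumption
  let B : Fin 5 → Finset V := fun j => F.blk (P j)
  let r : Fin 5 → V := fun j => F.Φ (rc j)
  have hB : ∀ j v, v ∈ B j ↔ ∃ f, P j f ∧ F.Φ f = v := fun j v => by
    simp only [B, blk, Finset.mem_image, Finset.mem_filter, Finset.mem_univ, true_and]
  have hcard : ∀ j, (B j).card = blkSize j := by
    have key : ∀ j (Q : Code → Prop) [DecidablePred Q], (∀ f, P j f = Q f) →
        (B j).card = (Finset.univ.filter Q).card := by
      intro j Q _ hQ
      show ((Finset.univ.filter (P j)).image F.Φ).card = _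
      rw [Finset.card_image_of_injective _ F.Φ_bij.1]
      exact congrArg Finset.card (Finset.filter_congr fun f _ => by rw [hQ f])
    exact five ((key 0 _ hP0).trans c2) ((key 1 _ hP1).trans c4) ((key 2 _ hP2).trans (c6 0))
      ((key 3 _ hP3).trans (c6 1)) ((key 4 _ hP4).trans (c6 2))
  have hrep : ∀ j, P j (rc j) := five (by rw [hP0]; decide) (by rw [hP1]; decide) (by rw [hP2]; decide)
    (by rw [hP3]; decide) (by rw [hP4]; decide)
  have hin : ∀ j, ∀ v ∈ B j, R.Rel (r j) v := by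
    intro j v hv
    obtain ⟨f, hf, rfl⟩ := (hB j v).1 hv
    have h0 := hrep j
    revert hf h0
    refine five (C := fun j => P j f → P j (rc j) → R.Rel (r j) (F.Φ f)) ?_ ?_ ?_ ?_ ?_ j <;> intro hf h0
    · rw [hP0] at hf h0; exact F.rel_weight (h0.trans hf.symm) (Or.inl h0)
    · rw [hP1] at hf h0; exact F.rel_weight (h0.trans hf.symm) (Or.inr h0)
    · rw [hP2] at hf h0; exact F.rel_full h0.1 hf.1 (h0.2.trans hf.2.symm)
    · rw [hP3] at hf h0; exact F.rel_full h0.1 hf.1 (h0.2.trans hf.2.symm)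
    · rw [hP4] at hf h0; exact F.rel_full h0.1 hf.1 (h0.2.trans hf.2.symm)
  have hsing : ∀ j, R.q (r j) = 0 ∧ r j ≠ 0 := by
    intro j
    have this : wt (rc j) = 2 ∨ wt (rc j) = 4 ∨ wt (rc j) = 6 :=
      five (C := fun j => wt (rc j) = 2 ∨ wt (rc j) = 4 ∨ wt (rc j) = 6) (Or.inl (hrep 0))
        (Or.inr (Or.inl (hrep 1))) (Or.inr (Or.inr (hrep 2).1)) (Or.inr (Or.inr (hrep 3).1))
        (Or.inr (Or.inr (hrep 4).1)) j
    refine ⟨?_, F.Φ_ne_zero (by omega)⟩
    show R.q (F.Φ (rc j)) = 0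
    rw [F.q_Φ]
    rcases this with h | h | h <;> rw [h] <;> rfl
  have cover : ∀ v, v ≠ 0 → R.q v = 0 → ∃ j, v ∈ B j := by
    intro v hv hq
    obtain ⟨f, rfl⟩ := F.Φ_bij.2 v
    rw [F.q_Φ, ZMod.natCast_eq_zero_iff_even] at hq
    have hle : wt f ≤ 6 := (Finset.card_le_univ _).trans_eq rfl
    have hne : wt f ≠ 0 := fun e => hv (by
      have : f = fun _ => none := funext fun i => by
        by_contra hi
        exact Finset.notMem_empty i (Finset.card_eq_zero.1 e ▸ Finset.mem_filter.2 ⟨Finset.mem_univ i, hi⟩)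
      rw [this, F.Φ_zero])
    obtain ⟨m, hm⟩ := hq
    rcases (by omega : wt f = 2 ∨ wt f = 4 ∨ wt f = 6) with h | h | h
    · exact ⟨0, (hB 0 _).2 ⟨f, h, rfl⟩⟩
    · exact ⟨1, (hB 1 _).2 ⟨f, h, rfl⟩⟩
    · rcases (by decide : ∀ c : ZMod 3, c = 0 ∨ c = 1 ∨ c = 2) (cl f) with hc | hc | hc
      · exact ⟨2, (hB 2 _).2 ⟨f, ⟨h, hc⟩, rfl⟩⟩
      · exact ⟨3, (hB 3 _).2 ⟨f, ⟨h, hc⟩, rfl⟩⟩
      · exact ⟨4, (hB 4 _).2 ⟨f, ⟨h, hc⟩, rfl⟩⟩
  let idx : Code → Fin 5 := fun f => if wt f = 2 then 0 else if wt f = 4 then 1 else cls (cl f)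
  have hidx : ∀ j f, P j f → idx f = j := fun j f =>
    five (C := fun j => P j f → idx f = j)
      (fun h => by have h' : wt f = 2 := h; simp only [idx]; rw [if_pos h'])
      (fun h => by
        have h' : wt f = 4 := h
        simp only [idx]; rw [if_neg (by omega), if_pos h'])
      (fun h => by
        have h' : wt f = 6 ∧ cl f = 0 := h
        simp only [idx]; rw [if_neg (by omega), if_neg (by omega), h'.2]; rfl)
      (fun h => by
        have h' : wt f = 6 ∧ cl f = 1 := h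
        simp only [idx]; rw [if_neg (by omega), if_neg (by omega), h'.2]; rfl)
      (fun h => by
        have h' : wt f = 6 ∧ cl f = 2 := h
        simp only [idx]; rw [if_neg (by omega), if_neg (by omega), h'.2]; rfl) j
  let J : V → Finset (Fin 5) := fun u => Finset.univ.filter fun j => R.Rel u (r j)
  have hmemJ : ∀ u j, j ∈ J u ↔ R.Rel u (r j) := fun u j => by simp [J]
  have horb : ∀ u, u ≠ 0 → R.q u = 0 → (R.orb u).card = ∑ j ∈ J u, blkSize j := by
    intro u hu0 huq
    have e : R.orb u = (J u).biUnion B := by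
      ext v
      rw [QRep.mem_orb, Finset.mem_biUnion]
      constructor
      · intro hr
        have hv0 : v ≠ 0 := fun e => hu0 (by
          obtain ⟨a, ha⟩ := hr
          exact R.inj a (by rw [ha, e, map_zero]))
        obtain ⟨j, hj⟩ := cover v hv0 ((hr.q R).trans huq)
        exact ⟨j, (hmemJ u j).2 (hr.trans R ((hin j v hj).symm R)), hj⟩
      · rintro ⟨j, hj, hv⟩
        exact ((hmemJ u j).1 hj).trans R (hin j v hv)
    rw [e, Finset.card_biUnion]
    · exact Finset.sum_congr rfl fun j _ => hcard j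
    · intro i _ j _ hij
      rw [Function.onFun, Finset.disjoint_left]
      intro v hv hv'
      obtain ⟨f, hf, rfl⟩ := (hB i v).1 hv
      obtain ⟨f', hf', he⟩ := (hB j _).1 hv'
      rw [F.Φ_bij.1 he] at hf'
      exact hij ((hidx i f hf).symm.trans (hidx j f hf'))
  have h7 : ∀ u, u ≠ 0 → 7 ∣ (R.orb u).card := by
    intro u hu0
    refine R.dvd_card_of_free (by norm_num) (x := x) (hx ▸ pow_orderOf_eq_one x) _ ?_ ?_
    · intro v hv
      rw [QRep.mem_orb] at hv ⊢
      exact hv.trans R ⟨x, rfl⟩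
    · intro v hv hfix
      rw [QRep.mem_orb] at hv
      obtain ⟨a, ha⟩ := hv
      exact hu0 (R.inj a (by rw [ha, F.seven_fpf hx hfix, map_zero]))
  have e1 := horb (r 0) (hsing 0).2 (hsing 0).1
  have e2 := horb (r 1) (hsing 1).2 (hsing 1).1
  obtain ⟨s1, s2, hall, ⟨a, ha⟩, ⟨b, hb⟩⟩ := block_sums (J (r 0)) (J (r 1))
    ((hmemJ _ _).2 (QRep.Rel.refl R _)) ((hmemJ _ _).2 (QRep.Rel.refl R _))
    (Nat.mod_eq_zero_of_dvd (e1 ▸ h7 _ (hsing 0).2)) (Nat.mod_eq_zero_of_dvd (e2 ▸ h7 _ (hsing 1).2))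
    (fun e => h11 (dvd_trans (by rw [e1, e]; norm_num) (R.card_orb_dvd (r 0))))
    (fun j hj hj' => (hmemJ _ _).2 (((hmemJ _ _).1 hj).trans R (((hmemJ _ _).1 hj').symm R)))
  have hor : ∀ v, v ≠ 0 → R.q v = 0 → R.Rel (r 0) v ∨ R.Rel (r 1) v := by
    intro v hv hq
    obtain ⟨j, hj⟩ := cover v hv hq
    rcases hall j with h | h
    · exact Or.inl (((hmemJ _ _).1 h).trans R (hin j v hj))
    · exact Or.inr (((hmemJ _ _).1 h).trans R (hin j v hj))
  refine ⟨rc 0, rc 1, hrep 0, hrep 1, e1.trans s1, e2.trans s2, hor, ?_⟩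
  intro v hv hq
  have hfull : ∀ c : ZMod 3, wt (rc (cls c)) = 6 := by decide
  rcases hor v hv hq with h | h
  · exact ⟨_, hfull a, (((hmemJ _ _).1 ha).symm R).trans R h⟩
  · exact ⟨_, hfull b, (((hmemJ _ _).1 hb).symm R).trans R h⟩

/-- The two orbits, without coordinates. -/
theorem orbits (F : Frame R) {x : H} (hx : orderOf x = 7) (h11 : ¬ 11 ∣ Nat.card H) :
    ∃ u₁ u₂ : V, (R.orb u₁).card = 378 ∧ (R.orb u₂).card = 1701 ∧ R.q u₁ = 0 ∧ R.q u₂ = 0 ∧
      u₁ ≠ 0 ∧ u₂ ≠ 0 ∧ (∀ v, v ≠ 0 → R.q v = 0 → R.Rel u₁ v ∨ R.Rel u₂ v) ∧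
      ∀ v, v ≠ 0 → R.q v = 0 → ∃ φ : A6 →* H, Function.Injective φ ∧ ∀ τ, R.ρ (φ τ) v = v := by
  classical
  obtain ⟨f₁, f₂, w1, w2, c1, c2, hor, hfull⟩ := F.orbits_codes hx h11
  refine ⟨F.Φ f₁, F.Φ f₂, c1, c2, by rw [F.q_Φ, w1]; rfl, by rw [F.q_Φ, w2]; rfl,
    F.Φ_ne_zero (by omega), F.Φ_ne_zero (by omega), hor, fun v hv hq => ?_⟩
  obtain ⟨f, hf, h, hh⟩ := hfull v hv hq
  obtain ⟨φ, hφi, hφ⟩ := F.stab_A6 hf
  refine ⟨(MulAut.conj h).toMonoidHom.comp φ, (MulAut.conj h).injective.comp hφi, fun τ => ?_⟩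
  show R.ρ (h * φ τ * h⁻¹) v = v
  rw [R.mul_apply, R.mul_apply, ← hh, R.inv_apply]
  exact congrArg (R.ρ h) (hφ τ)

end Frame

end CfsgLib.FischerTwoFour
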