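import Mathlib
import Cfsg.Prelude.Def_MonsterType
import Cfsg.Agent.Lib.PGroup.Extraspecial
import Cfsg.Agent.Lib.FischerTwoFour.Orbits

/-!
The two kinds of non-central involutions of an extraspecial group of order `2^13` normal in a group `C`
with `C / Q` of shape `3.U4(3).2`.
-/

set_option autoImplicit false
set_option linter.unusedSectionVars false

universe u

namespace CfsgLib.FischerTwoFour

open scoped commutatorElement

variable {C : Type u} [Group C] [Finite C] {Q : Subgroup C}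

/-- The hypotheses on the centraliser. -/
structure Shape (Q : Subgroup C) [Q.Normal] : Prop where
  extra : Cfsg.IsExtraspecial 2 Q
  card_Q : Nat.card Q = 2 ^ 13
  selfCent : Subgroup.centralizer (Q : Set C) ≤ Q
  tower : ∃ (N M : Subgroup C) (_ : N.Normal) (_ : M.Normal),
    Q ≤ N ∧ N ≤ M ∧ Nat.card N = 3 * Nat.card Q ∧
    (∃ (K : Type) (_ : Field K) (_ : Fintype K),
      Fintype.card K = 9 ∧ Nonempty (M ⧸ N.subgroupOf M ≃* Cfsg.PSU 4 K 3)) ∧
    M.index = 2

variable [Q.Normal] (S : Shape Q)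

/-- `V = Q / Z(Q)`. -/
abbrev VQ (Q : Subgroup C) : Type u := Additive (Abelianization Q)

/-- The projection to `V`. -/
def pr (a : Q) : VQ Q := Additive.ofMul (Abelianization.of a)

open scoped Classical in
/-- The bit of a central element. -/
noncomputable def bit (a : Q) : ZMod 2 := if a = 1 then 0 else 1

theorem pr_mul (a b : Q) : pr (a * b) = pr a + pr b := by
  rw [pr, map_mul, ofMul_mul]; rfl

theorem pr_one : pr (1 : Q) = 0 := by rw [pr, map_one, ofMul_one]

theorem pr_surj (v : VQ Q) : ∃ a : Q, pr a = v := by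
  obtain ⟨a, ha⟩ := QuotientGroup.mk_surjective (Additive.toMul v)
  exact ⟨a, congrArg Additive.ofMul ha⟩

/-- Conjugation as an endomorphism of `Q`. -/
def cjQ (c : C) : Q →* Q := (MulAut.conjNormal c).toMonoidHom

theorem cjQ_val (c : C) (a : Q) : ((cjQ c a : Q) : C) = c * a * c⁻¹ := rfl

/-- The action of `C` on `V`. -/
noncomputable def rho (Q : Subgroup C) [Q.Normal] : C →* AddMonoid.End (VQ Q) where
  toFun c := (Abelianization.map (cjQ c)).toAdditive
  map_one' := by
    refine AddMonoidHom.ext fun v => ?_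
    obtain ⟨a, rfl⟩ := pr_surj v
    show Additive.ofMul (Abelianization.map (cjQ 1) (Abelianization.of a)) = pr a
    rw [Abelianization.map_of]
    exact congrArg pr (Subtype.ext (by simp [cjQ_val]))
  map_mul' c d := by
    refine AddMonoidHom.ext fun v => ?_
    obtain ⟨a, rfl⟩ := pr_surj v
    show Additive.ofMul (Abelianization.map (cjQ (c * d)) (Abelianization.of a)) =
      Additive.ofMul (Abelianization.map (cjQ c) (Abelianization.map (cjQ d) (Abelianization.of a)))
    rw [Abelianization.map_of, Abelianization.map_of, Abelianization.map_of]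
    exact congrArg pr (Subtype.ext (by simp [cjQ_val, mul_assoc]))

/-- The bilinear form. -/
noncomputable def bf (u v : VQ Q) : ZMod 2 := bit ⁅(pr_surj u).choose, (pr_surj v).choose⁆

/-- The quadratic form. -/
noncomputable def qf (u : VQ Q) : ZMod 2 := bit ((pr_surj u).choose * (pr_surj u).choose)

/-- The image in `C / Q` of the centraliser of `s`. -/
def stabImage (s : Q) : Subgroup (C ⧸ Q) :=
  (Subgroup.centralizer ({(s : C)} : Set C)).map (QuotientGroup.mk' Q)

/-- Restriction along an injective homomorphism. -/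
def QRep.pull {H H' V : Type*} [Group H] [Group H'] [AddCommGroup V] (R : QRep H V) (ι : H' →* H)
    (hι : Function.Injective ι) : QRep H' V where
  ρ := R.ρ.comp ι
  faithful := fun h hh => hι ((R.faithful (ι h) hh).trans (map_one ι).symm)
  two := R.two
  card_V := R.card_V
  q := R.q
  b := R.b
  q_add := R.q_add
  b_add := R.b_add
  nondeg := R.nondeg
  q_inv := fun h v => R.q_inv (ι h) v

namespace Shape

include S

theorem comm_eq : commutator Q = Subgroup.center Q := S.extra.1.2.2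

theorem pr_eq_iff {a b : Q} : pr a = pr b ↔ a⁻¹ * b ∈ Subgroup.center Q := by
  rw [← S.comm_eq]
  exact QuotientGroup.eq

theorem pr_eq_zero {a : Q} : pr a = 0 ↔ a ∈ Subgroup.center Q := by
  rw [← pr_one, S.pr_eq_iff, mul_one, inv_mem_iff]

theorem two_center {x y : Q} (hx : x ∈ Subgroup.center Q) (hy : y ∈ Subgroup.center Q) (hx1 : x ≠ 1)
    (hy1 : y ≠ 1) : x = y := by
  classical
  have hc : Nat.card (Subgroup.center Q) = 2 := S.extra.2
  obtain ⟨e, f, hef, huniv⟩ := Nat.card_eq_two_iff.mp hc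
  have hmem : ∀ w : Subgroup.center Q, w = e ∨ w = f := fun w => by simpa [← huniv] using Set.mem_univ w
  rcases hmem 1 with h | h <;> rcases hmem ⟨x, hx⟩ with h' | h' <;> rcases hmem ⟨y, hy⟩ with h'' | h'' <;>
    first
      | exact congrArg Subtype.val (h'.trans h''.symm)
      | exact absurd (congrArg Subtype.val (h'.trans h.symm)) hx1
      | exact absurd (congrArg Subtype.val (h''.trans h.symm)) hy1

theorem bit_mul {x y : Q} (hx : x ∈ Subgroup.center Q) (hy : y ∈ Subgroup.center Q) :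
    bit (x * y) = bit x + bit y := by
  by_cases hx1 : x = 1
  · subst hx1; rw [one_mul, show bit (1 : Q) = 0 from if_pos rfl, zero_add]
  by_cases hy1 : y = 1
  · subst hy1; rw [mul_one, show bit (1 : Q) = 0 from if_pos rfl, add_zero]
  have hxy : x = y := S.two_center hx hy hx1 hy1
  subst hxy
  have hx2 : x * x = 1 := by
    rw [← sq]; exact CfsgLib.PGroup.extraspecial_center_pow_eq_one S.extra hx
  rw [hx2, bit, bit, if_pos rfl, if_neg hx1]
  rfl

theorem comm_mem (a b : Q) : ⁅a, b⁆ ∈ Subgroup.center Q :=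
  CfsgLib.PGroup.extraspecial_comm_mem_center S.extra a b

theorem sq_mem (a : Q) : a * a ∈ Subgroup.center Q := by
  have : Fact (Nat.Prime 2) := ⟨Nat.prime_two⟩
  rw [← sq]; exact CfsgLib.PGroup.extraspecial_pow_mem_center S.extra a

theorem comm_congr_left {a a' b : Q} (h : a⁻¹ * a' ∈ Subgroup.center Q) : ⁅a', b⁆ = ⁅a, b⁆ := by
  obtain ⟨k, hk, rfl⟩ : ∃ k ∈ Subgroup.center Q, a' = a * k := ⟨_, h, (mul_inv_cancel_left a a').symm⟩
  rw [commutatorElement_def, commutatorElement_def, mul_inv_rev]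
  calc a * k * b * (k⁻¹ * a⁻¹) * b⁻¹ = a * (k * b) * k⁻¹ * a⁻¹ * b⁻¹ := by group
    _ = a * (b * k) * k⁻¹ * a⁻¹ * b⁻¹ := by rw [Subgroup.mem_center_iff.mp hk b]
    _ = a * b * a⁻¹ * b⁻¹ := by group

theorem comm_swap (a b : Q) : ⁅b, a⁆ = ⁅a, b⁆ := by
  rw [← commutatorElement_inv a b]
  refine inv_eq_of_mul_eq_one_right ?_
  rw [← sq]; exact CfsgLib.PGroup.extraspecial_comm_pow_eq_one S.extra a b

theorem comm_congr_right {a b b' : Q} (h : b⁻¹ * b' ∈ Subgroup.center Q) : ⁅a, b'⁆ = ⁅a, b⁆ := by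
  rw [← S.comm_swap a b', S.comm_congr_left h, S.comm_swap]

theorem bit_comm_mul (a b c : Q) : bit ⁅a * b, c⁆ = bit ⁅a, c⁆ + bit ⁅b, c⁆ := by
  have h := Subgroup.mem_center_iff.mp (S.comm_mem b c) a
  have e : ⁅a * b, c⁆ = ⁅b, c⁆ * ⁅a, c⁆ := by
    simp only [commutatorElement_def] at h ⊢
    calc a * b * c * (a * b)⁻¹ * c⁻¹ = (a * (b * c * b⁻¹ * c⁻¹)) * c * a⁻¹ * c⁻¹ := by group
      _ = (b * c * b⁻¹ * c⁻¹ * a) * c * a⁻¹ * c⁻¹ := by rw [h]
      _ = b * c * b⁻¹ * c⁻¹ * (a * c * a⁻¹ * c⁻¹) := by group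
  rw [e, S.bit_mul (S.comm_mem _ _) (S.comm_mem _ _), add_comm]

theorem bit_sq_mul (a b : Q) : bit (a * b * (a * b)) = bit (a * a) + bit (b * b) + bit ⁅a, b⁆ := by
  have e : a * b * (a * b) = ⁅b, a⁆ * ((a * a) * (b * b)) := by
    have h := Subgroup.mem_center_iff.mp (S.comm_mem b a) a
    simp only [commutatorElement_def] at h ⊢
    calc a * b * (a * b) = (a * (b * a * b⁻¹ * a⁻¹)) * (a * b * b) := by group
      _ = (b * a * b⁻¹ * a⁻¹ * a) * (a * b * b) := by rw [h]
      _ = b * a * b⁻¹ * a⁻¹ * (a * a * (b * b)) := by group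
  rw [e, S.bit_mul (S.comm_mem _ _) (mul_mem (S.sq_mem _) (S.sq_mem _)),
    S.bit_mul (S.sq_mem _) (S.sq_mem _), S.comm_swap a b]
  ring

theorem card_VQ : Nat.card (VQ Q) = 4096 := by
  have h := Subgroup.card_eq_card_quotient_mul_card_subgroup (commutator Q)
  rw [S.card_Q] at h
  rw [show Nat.card (commutator Q) = 2 by rw [S.comm_eq]; exact S.extra.2] at h
  show Nat.card (Q ⧸ commutator Q) = 4096
  omega

theorem cjQ_center (c : C) {x : Q} (hx : x ∈ Subgroup.center Q) : cjQ c x = x := by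
  by_cases hx1 : x = 1
  · rw [hx1, map_one]
  refine S.two_center ?_ hx ?_ hx1
  · rw [Subgroup.mem_center_iff] at hx ⊢
    intro y
    obtain ⟨y', rfl⟩ := (MulAut.conjNormal (H := Q) c).surjective y
    show cjQ c y' * cjQ c x = cjQ c x * cjQ c y'
    rw [← map_mul, hx, map_mul]
  · intro e
    exact hx1 ((MulAut.conjNormal (H := Q) c).injective (e.trans (map_one (MulAut.conjNormal (H := Q) c)).symm))

theorem rho_pr (c : C) (a : Q) : (rho Q) c (pr a) = pr (cjQ c a) :=
  congrArg Additive.ofMul (Abelianization.map_of (cjQ c) a)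

theorem ker_rho : Q ≤ (rho Q).ker := by
  intro c hc
  rw [MonoidHom.mem_ker]
  refine AddMonoidHom.ext fun v => ?_
  obtain ⟨a, rfl⟩ := pr_surj v
  refine (S.rho_pr c a).trans ?_
  show pr (cjQ c a) = pr a
  have e : cjQ c a = ⁅(⟨c, hc⟩ : Q), a⁆ * a :=
    Subtype.ext (by simp [cjQ_val, commutatorElement_def])
  rw [e, pr_mul, (S.pr_eq_zero).2 (S.comm_mem _ _), zero_add]

theorem bf_pr (a b : Q) : bf (pr a) (pr b) = bit ⁅a, b⁆ := by
  rw [bf, S.comm_congr_left (a := a), S.comm_congr_right (b := b)]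
  · exact S.pr_eq_iff.1 (pr_surj (pr b)).choose_spec.symm
  · exact S.pr_eq_iff.1 (pr_surj (pr a)).choose_spec.symm

theorem qf_pr (a : Q) : qf (pr a) = bit (a * a) := by
  rw [qf]
  have hk := S.pr_eq_iff.1 (pr_surj (pr a)).choose_spec.symm
  set a' := (pr_surj (pr a)).choose
  obtain ⟨k, hk', e⟩ : ∃ k ∈ Subgroup.center Q, a' = a * k := ⟨_, hk, (mul_inv_cancel_left a a').symm⟩
  have hc := Subgroup.mem_center_iff.mp hk'
  have hk2 : k * k = 1 := by
    rw [← sq]; exact CfsgLib.PGroup.extraspecial_center_pow_eq_one S.extra hk'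
  rw [e, show a * k * (a * k) = a * (k * a) * k by group, ← hc a,
    show a * (a * k) * k = a * a * (k * k) by group, hk2, mul_one]

theorem bf_add (u v w : VQ Q) : bf (u + v) w = bf u w + bf v w := by
  obtain ⟨a, rfl⟩ := pr_surj u
  obtain ⟨b, rfl⟩ := pr_surj v
  obtain ⟨c, rfl⟩ := pr_surj w
  rw [← pr_mul, S.bf_pr, S.bf_pr, S.bf_pr, S.bit_comm_mul]

theorem bf_nondeg (u : VQ Q) (h : ∀ v, bf u v = 0) : u = 0 := by
  obtain ⟨a, rfl⟩ := pr_surj u
  rw [S.pr_eq_zero, Subgroup.mem_center_iff]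
  intro b
  have := h (pr b)
  rw [S.bf_pr, bit] at this
  split_ifs at this with e
  · exact (commutatorElement_eq_one_iff_mul_comm.1 e).symm
  · exact absurd this one_ne_zero

theorem faithful_mem {c : C} (h : ∀ v, (rho Q) c v = v) : c ∈ Q := by
  classical
  have := Fintype.ofFinite (VQ Q)
  have htwo : ∀ v : VQ Q, (2 : ℕ) • v = 0 := fun v => by
    obtain ⟨a, rfl⟩ := pr_surj v
    rw [two_nsmul, ← pr_mul]; exact (S.pr_eq_zero).2 (S.sq_mem a)
  let δ : Q → Q := fun a => cjQ c a * a⁻¹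
  have hδc : ∀ a, δ a ∈ Subgroup.center Q := fun a => by
    rw [← S.pr_eq_zero, pr_mul, ← S.rho_pr, h, ← pr_mul, mul_inv_cancel, pr_one]
  let d : Q →* Multiplicative (ZMod 2) := MonoidHom.mk' (fun a => Multiplicative.ofAdd (bit (δ a))) fun a b => by
    have e : δ (a * b) = δ a * δ b := by
      have hk := Subgroup.mem_center_iff.mp (hδc b) a⁻¹
      show cjQ c (a * b) * (a * b)⁻¹ = cjQ c a * a⁻¹ * (cjQ c b * b⁻¹)
      rw [map_mul]
      calc cjQ c a * cjQ c b * (a * b)⁻¹ = cjQ c a * (δ b * a⁻¹) := by simp only [δ]; group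
        _ = cjQ c a * (a⁻¹ * δ b) := by rw [hk]
        _ = _ := by simp only [δ]; group
    rw [e, S.bit_mul (hδc a) (hδc b)]; rfl
  let dV : VQ Q →+ ZMod 2 := (Abelianization.lift d).toAdditive
  have dV_pr : ∀ a, dV (pr a) = bit (δ a) := fun a => congrArg Multiplicative.toAdd (Abelianization.lift_apply_of d a)
  let _ : Module (ZMod 2) (VQ Q) := AddCommGroup.zmodModule htwo
  let Ψ : VQ Q → (VQ Q →+ ZMod 2) := fun u => AddMonoidHom.mk' (bf u) fun v w => by
    obtain ⟨a, rfl⟩ := pr_surj u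
    obtain ⟨b, rfl⟩ := pr_surj v
    obtain ⟨c, rfl⟩ := pr_surj w
    rw [← pr_mul, S.bf_pr, S.bf_pr, S.bf_pr, S.comm_swap (b * c) a, S.bit_comm_mul, S.comm_swap a b,
      S.comm_swap a c]
  have hΨi : Function.Injective Ψ := fun u v huv => by
    refine sub_eq_zero.1 (S.bf_nondeg _ fun w => ?_)
    have e : bf u w = bf v w := DFunLike.congr_fun huv w
    have h2 : bf u w = bf (u - v) w + bf v w := by rw [← S.bf_add, sub_add_cancel]
    rw [e] at h2
    exact right_eq_add.mp h2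
  have hdual : Nat.card (VQ Q →+ ZMod 2) = Nat.card (VQ Q) := by
    rw [Nat.card_congr (Module.finBasis (ZMod 2) (VQ Q)).toDualEquiv.toEquiv]
    exact Nat.card_congr
      { toFun := fun f => f.toZModLinearMap 2
        invFun := fun f => f.toAddMonoidHom
        left_inv := fun f => rfl
        right_inv := fun f => rfl }
  have hΨ : Function.Bijective Ψ := by
    have : Finite (VQ Q →+ ZMod 2) := Finite.of_injective (fun f => ⇑f) DFunLike.coe_injective
    exact (Nat.bijective_iff_injective_and_card _).2 ⟨hΨi, hdual.symm⟩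
  obtain ⟨u, hu⟩ := hΨ.2 dV
  obtain ⟨w, rfl⟩ := pr_surj u
  have hsame : ∀ a : Q, cjQ c a = w * a * w⁻¹ := by
    intro a
    have e := DFunLike.congr_fun hu (pr a)
    rw [dV_pr] at e
    have e' : bit ⁅w, a⁆ = bit (δ a) := by rw [← S.bf_pr]; exact e
    have e2 : ⁅w, a⁆ = δ a := by
      simp only [bit] at e'
      split_ifs at e' with h1 h2 h2
      · rw [h1, h2]
      · exact absurd e' (by decide)
      · exact absurd e' (by decide)
      · exact S.two_center (S.comm_mem _ _) (hδc a) h1 h2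
    calc cjQ c a = δ a * a := by simp [δ]
      _ = w * a * w⁻¹ := by rw [← e2, commutatorElement_def]; group
  have hcen : (w : C)⁻¹ * c ∈ Subgroup.centralizer (Q : Set C) := by
    rw [Subgroup.mem_centralizer_iff]
    intro a ha
    have e : c * a * c⁻¹ = w * a * (w : C)⁻¹ := congrArg Subtype.val (hsame ⟨a, ha⟩)
    calc a * ((w : C)⁻¹ * c) = (w : C)⁻¹ * (w * a * (w : C)⁻¹) * c := by group
      _ = (w : C)⁻¹ * c * a := by rw [← e]; group
  have := mul_mem w.2 (S.selfCent hcen)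
  rwa [mul_inv_cancel_left] at this

/-- The representation of `C / Q`. -/
noncomputable def rep : QRep (C ⧸ Q) (VQ Q) where
  ρ := QuotientGroup.lift Q (rho Q) S.ker_rho
  faithful h hh := by
    obtain ⟨c, rfl⟩ := QuotientGroup.mk_surjective h
    exact (QuotientGroup.eq_one_iff c).2 (S.faithful_mem hh)
  two v := by
    obtain ⟨a, rfl⟩ := pr_surj v
    rw [← pr_mul]; exact (S.pr_eq_zero).2 (S.sq_mem a)
  card_V := S.card_VQ
  q := qf
  b := bf
  q_add u v := by
    obtain ⟨a, rfl⟩ := pr_surj u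
    obtain ⟨b, rfl⟩ := pr_surj v
    rw [← pr_mul, S.qf_pr, S.qf_pr, S.qf_pr, S.bf_pr, S.bit_sq_mul]
  b_add := S.bf_add
  nondeg := S.bf_nondeg
  q_inv h v := by
    obtain ⟨c, rfl⟩ := QuotientGroup.mk_surjective h
    obtain ⟨a, rfl⟩ := pr_surj v
    show qf ((rho Q) c (pr a)) = _
    rw [S.rho_pr, S.qf_pr, S.qf_pr, ← map_mul, S.cjQ_center c (S.sq_mem a)]

theorem rep_apply (c : C) (a : Q) : S.rep.ρ (QuotientGroup.mk c) (pr a) = pr (cjQ c a) := S.rho_pr c a

/-- `C / Q` has order `2 · 9797760` and contains a subgroup of order `9797760` with a monomial frame. -/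
theorem exists_mbar : Nat.card (C ⧸ Q) = 19595520 ∧
    ∃ (Mb : Type u) (_ : Group Mb) (_ : Finite Mb) (ι : Mb →* C ⧸ Q) (hι : Function.Injective ι),
      Nat.card Mb = 9797760 ∧ (∃ x : Mb, orderOf x = 7) ∧ Nonempty (Frame (S.rep.pull ι hι)) := by
  classical
  obtain ⟨N, M, hN, hM, hQN, hNM, hcardN, ⟨K, hfK, hftK, hK, ⟨φ⟩⟩, hidx⟩ := S.tower
  have : Fact (Nat.Prime 3) := ⟨Nat.prime_three⟩
  have : CharP K 3 := charP_of_card_eq_prime_pow (f := 2) (p := 3) (by rw [hK]; rfl)
  let QM : Subgroup M := Q.subgroupOf M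
  let NM : Subgroup M := N.subgroupOf M
  have hQM : Nat.card QM = Nat.card Q := Nat.card_congr (Subgroup.subgroupOfEquivOfLe (hQN.trans hNM)).toEquiv
  have hNMc : Nat.card NM = 3 * Nat.card Q := by
    rw [← hcardN]; exact Nat.card_congr (Subgroup.subgroupOfEquivOfLe hNM).toEquiv
  have hMcard : Nat.card M = 3265920 * (3 * Nat.card Q) := by
    rw [Subgroup.card_eq_card_quotient_mul_card_subgroup NM, hNMc, Nat.card_congr φ.toEquiv,
      CfsgLib.UFourThree82.card_psu hK]
  have hMbar : Nat.card (M ⧸ QM) = 9797760 := by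
    have h := Subgroup.card_eq_card_quotient_mul_card_subgroup QM
    rw [hQM, hMcard] at h
    have : 0 < Nat.card Q := Nat.card_pos
    nlinarith
  have hCcard : Nat.card (C ⧸ Q) = 19595520 := by
    have h := Subgroup.card_eq_card_quotient_mul_card_subgroup Q
    have h2 := Subgroup.card_mul_index M
    rw [hidx, hMcard] at h2
    have : 0 < Nat.card Q := Nat.card_pos
    nlinarith
  refine ⟨hCcard, ?_⟩
  let ι : M ⧸ QM →* C ⧸ Q := QuotientGroup.map QM Q M.subtype le_rfl
  have hι : Function.Injective ι := by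
    rw [injective_iff_map_eq_one]
    intro x hx
    obtain ⟨m, rfl⟩ := QuotientGroup.mk_surjective x
    exact (QuotientGroup.eq_one_iff m).2 ((QuotientGroup.eq_one_iff (m : C)).1 hx)
  let f₀ : M →* Cfsg.PSU 4 K 3 := φ.toMonoidHom.comp (QuotientGroup.mk' NM)
  have hle : QM ≤ f₀.ker := fun x hx => by
    show φ (QuotientGroup.mk' NM x) = 1
    have hx' : x ∈ NM := hQN hx
    rw [show QuotientGroup.mk' NM x = 1 from (QuotientGroup.eq_one_iff x).2 hx', map_one]
  let f : M ⧸ QM →* Cfsg.PSU 4 K 3 := QuotientGroup.lift QM f₀ hle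
  have hf : Function.Surjective f := fun y => by
    obtain ⟨z, rfl⟩ := φ.surjective y
    obtain ⟨m, rfl⟩ := QuotientGroup.mk_surjective z
    exact ⟨QuotientGroup.mk m, rfl⟩
  have hker3 : Nat.card f.ker = 3 := by
    have h := Subgroup.card_eq_card_quotient_mul_card_subgroup f.ker
    rw [hMbar, Nat.card_congr (QuotientGroup.quotientKerEquivOfSurjective f hf).toEquiv,
      CfsgLib.UFourThree82.card_psu hK] at h
    omega
  have : IsCyclic f.ker := isCyclic_of_prime_card (p := 3) hker3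
  obtain ⟨t₀, ht₀⟩ := IsCyclic.exists_generator (α := f.ker)
  let t : M ⧸ QM := t₀
  have hker : f.ker = Subgroup.zpowers t := by
    refine le_antisymm (fun x hx => ?_) ((Subgroup.zpowers_le).2 t₀.2)
    obtain ⟨n, hn⟩ := Subgroup.mem_zpowers_iff.1 (ht₀ ⟨x, hx⟩)
    exact Subgroup.mem_zpowers_iff.2 ⟨n, by simpa [t] using congrArg Subtype.val hn⟩
  have hto : orderOf t = 3 := by rw [← Nat.card_zpowers, ← hker, hker3]
  have ht3 : t ^ 3 = 1 := hto ▸ pow_orderOf_eq_one t
  have htne : t ≠ 1 := fun e => by rw [e, orderOf_one] at hto; omega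
  have htc : ∀ h, h * t = t * h := by
    let Z : Subgroup (M ⧸ QM) := Subgroup.centralizer {t}
    have hpow : ∀ g : M ⧸ QM, g * t * g⁻¹ ∈ Subgroup.zpowers t := fun g => by
      rw [← hker]; exact Subgroup.Normal.conj_mem inferInstance t (hker ▸ Subgroup.mem_zpowers t) g
    have hzc : ∀ k ∈ Z, ∀ a ∈ Subgroup.zpowers t, k * a = a * k := by
      intro k hk a ha
      obtain ⟨n, rfl⟩ := Subgroup.mem_zpowers_iff.1 ha
      exact ((show Commute k t from Subgroup.mem_centralizer_singleton_iff.1 hk).zpow_right n).eq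
    have hZn : Z.Normal := ⟨fun k hk g => by
      rw [Subgroup.mem_centralizer_singleton_iff]
      have h1 := hzc k hk (g⁻¹ * t * g⁻¹⁻¹) (hpow g⁻¹)
      calc g * k * g⁻¹ * t = g * (k * (g⁻¹ * t * g⁻¹⁻¹)) * g⁻¹ := by group
        _ = g * (g⁻¹ * t * g⁻¹⁻¹ * k) * g⁻¹ := by rw [h1]
        _ = t * (g * k * g⁻¹) := by group⟩
    have hsq : ∀ g : M ⧸ QM, g * g ∈ Z := by
      intro g
      have hg : g * t * g⁻¹ = t ∨ g * t * g⁻¹ = t⁻¹ := by
        obtain ⟨n, hn⟩ := Subgroup.mem_zpowers_iff.1 (hpow g)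
        rw [← hn, ← zpow_mod_orderOf, hto]
        rcases (by omega : n % (3 : ℕ) = 0 ∨ n % (3 : ℕ) = 1 ∨ n % (3 : ℕ) = 2) with e | e | e
        · exfalso
          rw [← zpow_mod_orderOf, hto, e, zpow_zero] at hn
          exact htne (by
            have := hn.symm
            rwa [mul_inv_eq_one, mul_eq_left] at this)
        · left; rw [e, zpow_one]
        · right
          rw [e, eq_inv_iff_mul_eq_one, ← zpow_add_one]
          rw [show ((2 : ℤ) + 1) = ((3 : ℕ) : ℤ) from rfl, zpow_natCast]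
          exact ht3
      rw [Subgroup.mem_centralizer_singleton_iff]
      have h2 : g * (g * t * g⁻¹) * g⁻¹ = t := by
        rcases hg with e | e
        · rw [e, e]
        · rw [e, ← conj_inv, e, inv_inv]
      calc g * g * t = g * (g * t * g⁻¹) * g⁻¹ * (g * g) := by group
        _ = t * (g * g) := by rw [h2]
    have : IsSimpleGroup (Cfsg.PSU 4 K 3) :=
      CfsgLib.ClassicalGroups.psu_isSimpleGroup (n := 4) (by rw [hK]; rfl) (by norm_num) (by norm_num)
    rcases (Subgroup.Normal.map hZn f hf).eq_bot_or_eq_top with h | h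
    · exfalso
      have : Fact (Nat.Prime 7) := ⟨by norm_num⟩
      obtain ⟨y, hy⟩ := exists_prime_orderOf_dvd_card' (G := Cfsg.PSU 4 K 3) 7 (by
        rw [CfsgLib.UFourThree82.card_psu hK]; norm_num)
      obtain ⟨g, rfl⟩ := hf y
      have h2 : f g ^ 2 = 1 := by
        rw [sq, ← map_mul, ← Subgroup.mem_bot, ← h]
        exact ⟨_, hsq g, rfl⟩
      have := orderOf_dvd_of_pow_eq_one h2
      rw [hy] at this
      omega
    · intro g
      obtain ⟨k, hk, hkg⟩ := (h ▸ Subgroup.mem_top (f g) : f g ∈ Z.map f)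
      have hmem : k⁻¹ * g ∈ Subgroup.zpowers t := by rw [← hker, MonoidHom.mem_ker]; simp [hkg]
      have hkt : k * t = t * k := Subgroup.mem_centralizer_singleton_iff.1 hk
      obtain ⟨n, hn⟩ := Subgroup.mem_zpowers_iff.1 hmem
      rw [show g = k * t ^ n by rw [hn, mul_inv_cancel_left], mul_assoc, ← zpow_add_one, ← mul_assoc t,
        ← hkt, mul_assoc, ← zpow_one_add, add_comm]
  obtain ⟨D⟩ := exists_mono hK f hf t ht3 htne htc hker
  obtain ⟨F⟩ := exists_frame (D := D) (R := S.rep.pull ι hι)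
  have : Fact (Nat.Prime 7) := ⟨by norm_num⟩
  exact ⟨M ⧸ QM, inferInstance, inferInstance, ι, hι, hMbar,
    exists_prime_orderOf_dvd_card' (G := M ⧸ QM) 7 (by rw [hMbar]; norm_num), ⟨F⟩⟩

/-- `C / Q` has order `2 · 9797760` and an index two subgroup with two orbits on singular vectors. -/
theorem orbit_data : Nat.card (C ⧸ Q) = 19595520 ∧
    ∀ [Fintype (VQ Q)], ∃ u₁ u₂ : VQ Q, (S.rep.orb u₁).card = 378 ∧ (S.rep.orb u₂).card = 1701 ∧
      S.rep.q u₁ = 0 ∧ S.rep.q u₂ = 0 ∧ u₁ ≠ 0 ∧ u₂ ≠ 0 ∧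
      (∀ v, v ≠ 0 → S.rep.q v = 0 → S.rep.Rel u₁ v ∨ S.rep.Rel u₂ v) ∧
      ∀ v, v ≠ 0 → S.rep.q v = 0 → ∃ φ : A6 →* C ⧸ Q, Function.Injective φ ∧ ∀ τ, S.rep.ρ (φ τ) v = v := by
  classical
  obtain ⟨hCcard, Mb, _, _, ι, hι, hMbar, ⟨x, hx⟩, ⟨F⟩⟩ := S.exists_mbar
  refine ⟨hCcard, ?_⟩
  intro _
  let R' : QRep Mb (VQ Q) := S.rep.pull ι hι
  obtain ⟨u₁, u₂, h1, h2, q1, q2, n1, n2, hcov, hA⟩ := F.orbits hx (by rw [hMbar]; norm_num)
  have hsub : ∀ u, R'.orb u ⊆ S.rep.orb u := fun u v hv => by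
    rw [QRep.mem_orb] at hv ⊢
    obtain ⟨h, hh⟩ := hv
    exact ⟨ι h, hh⟩
  have hR : ∀ {u v}, R'.Rel u v → S.rep.Rel u v := fun ⟨h, hh⟩ => ⟨ι h, hh⟩
  have hnot : ¬ S.rep.Rel u₁ u₂ := by
    intro hr
    have h12 : ¬ R'.Rel u₁ u₂ := fun h => by
      have e : R'.orb u₁ = R'.orb u₂ := Finset.ext fun v => by
        rw [QRep.mem_orb, QRep.mem_orb]
        exact ⟨fun hv => (h.symm R').trans R' hv, fun hv => h.trans R' hv⟩
      rw [e, h2] at h1
      omega
    have hd : Disjoint (R'.orb u₁) (R'.orb u₂) := by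
      rw [Finset.disjoint_left]
      intro v hv hv'
      rw [QRep.mem_orb] at hv hv'
      exact h12 (hv.trans R' (hv'.symm R'))
    have e : S.rep.orb u₁ = R'.orb u₁ ∪ R'.orb u₂ := by
      refine le_antisymm (fun v hv => ?_) (Finset.union_subset (hsub u₁) fun v hv => ?_)
      · rw [QRep.mem_orb] at hv
        have hv0 : v ≠ 0 := fun e => n1 (by
          obtain ⟨a, ha⟩ := hv
          exact S.rep.inj a (by rw [ha, e, map_zero]))
        rcases hcov v hv0 ((hv.q S.rep).trans q1) with h | h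
        · exact Finset.mem_union_left _ ((QRep.mem_orb R').2 h)
        · exact Finset.mem_union_right _ ((QRep.mem_orb R').2 h)
      · have := hsub u₂ hv
        rw [QRep.mem_orb] at this ⊢
        exact hr.trans S.rep this
    have hdv := S.rep.card_orb_dvd u₁
    rw [e, Finset.card_union_of_disjoint hd, h1, h2, hCcard] at hdv
    norm_num at hdv
  have horb : ∀ u u', (u = u₁ ∧ u' = u₂) ∨ (u = u₂ ∧ u' = u₁) → S.rep.orb u = R'.orb u := by
    intro u u' huu
    refine le_antisymm (fun v hv => ?_) (hsub u)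
    rw [QRep.mem_orb] at hv
    have hqu : R'.q u = 0 ∧ u ≠ 0 := by
      rcases huu with ⟨rfl, -⟩ | ⟨rfl, -⟩
      exacts [⟨q1, n1⟩, ⟨q2, n2⟩]
    have hv0 : v ≠ 0 := fun e => hqu.2 (by
      obtain ⟨a, ha⟩ := hv
      exact S.rep.inj a (by rw [ha, e, map_zero]))
    rcases huu with ⟨rfl, rfl⟩ | ⟨rfl, rfl⟩
    · rcases hcov v hv0 ((hv.q S.rep).trans q1) with h | h
      · exact (QRep.mem_orb R').2 h
      · exact absurd (hv.trans S.rep ((hR h).symm S.rep)) hnot
    · rcases hcov v hv0 ((hv.q S.rep).trans q2) with h | h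
      · exact absurd ((hR h).trans S.rep (hv.symm S.rep)) hnot
      · exact (QRep.mem_orb R').2 h
  refine ⟨u₁, u₂, by rw [horb u₁ u₂ (Or.inl ⟨rfl, rfl⟩), h1], by rw [horb u₂ u₁ (Or.inr ⟨rfl, rfl⟩), h2],
    q1, q2, n1, n2, fun v hv hq => (hcov v hv hq).imp hR hR, fun v hv hq => ?_⟩
  obtain ⟨ψ, hψ, hfix⟩ := hA v hv hq
  exact ⟨ι.comp ψ, hι.comp hψ, hfix⟩

end Shape

end CfsgLib.FischerTwoFour
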