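import Mathlib
import Cfsg.Agent.Lib.FischerTwoFour.Setting

/-!
Non-central involutions of `Q`: their centralisers modulo `Q` have order `51840` or `11520`, and the
order determines the conjugacy class.
-/

set_option autoImplicit false
set_option linter.unusedSectionVars false

universe u

namespace CfsgLib.FischerTwoFour

open scoped commutatorElement

variable {C : Type u} [Group C] [Finite C] {Q : Subgroup C} [Q.Normal] (S : Shape Q)

namespace QRep

variable {H V : Type*} [Group H] [Finite H] [AddCommGroup V] (R : QRep H V)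

/-- The stabiliser of a vector. -/
def stab (v : V) : Subgroup H where
  carrier := {h | R.ρ h v = v}
  one_mem' := R.one_apply v
  mul_mem' {a b} ha hb := by
    show R.ρ (a * b) v = v
    rw [R.mul_apply, hb, ha]
  inv_mem' {a} ha := by
    show R.ρ a⁻¹ v = v
    conv_lhs => rw [← ha]
    exact R.inv_apply a v

theorem card_stab_mul [Fintype V] (v : V) : Nat.card (R.stab v) * (R.orb v).card = Nat.card H := by
  classical
  let _ := R.toAction
  have h : MulAction.orbit H v = ((R.orb v : Finset V) : Set V) := by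
    ext w
    rw [Finset.mem_coe, mem_orb]
    exact Iff.rfl
  have e : R.stab v = MulAction.stabilizer H v := by
    ext a
    exact Iff.rfl
  rw [← Set.ncard_coe_finset, ← h, ← MulAction.index_stabilizer, e, Subgroup.card_mul_index]

end QRep

namespace Shape

include S

theorem exists_not_comm {s : Q} (hs : s ∉ Subgroup.center Q) : ∃ y : Q, ⁅y, s⁆ ≠ 1 := by
  by_contra h
  push Not at h
  exact hs (Subgroup.mem_center_iff.2 fun y => commutatorElement_eq_one_iff_mul_comm.1 (h y))

theorem cjQ_of_mem (y a : Q) : cjQ (y : C) a = y * a * y⁻¹ := Subtype.ext rfl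

/-- Equality modulo the centre is conjugation by `Q`. -/
theorem exists_conj_of_pr {s t : Q} (hs : s ∉ Subgroup.center Q) (h : pr t = pr s) :
    ∃ y : Q, y * s * y⁻¹ = t := by
  have hk : t * s⁻¹ ∈ Subgroup.center Q := by
    rw [← S.pr_eq_zero, pr_mul, h, ← pr_mul, mul_inv_cancel, pr_one]
  by_cases h1 : t * s⁻¹ = 1
  · exact ⟨1, by rw [mul_inv_eq_one] at h1; simp [h1]⟩
  obtain ⟨y, hy⟩ := S.exists_not_comm hs
  refine ⟨y, ?_⟩
  have := S.two_center (S.comm_mem y s) hk hy h1
  rw [commutatorElement_def] at this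
  exact mul_right_cancel this

theorem stabImage_eq {s : Q} (hs : s ∉ Subgroup.center Q) : stabImage s = S.rep.stab (pr s) := by
  ext x
  obtain ⟨c, rfl⟩ := QuotientGroup.mk_surjective x
  constructor
  · rintro ⟨d, hd, hdc⟩
    show S.rep.ρ (QuotientGroup.mk c) (pr s) = pr s
    rw [← hdc]
    show S.rep.ρ (QuotientGroup.mk d) (pr s) = pr s
    rw [S.rep_apply]
    refine congrArg pr (Subtype.ext ?_)
    rw [cjQ_val, show d * (s : C) = s * d from Subgroup.mem_centralizer_singleton_iff.1 hd]
    group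
  · intro hc
    have hc' : pr (cjQ c s) = pr s := (S.rep_apply c s).symm.trans hc
    obtain ⟨y, hy⟩ := S.exists_conj_of_pr hs hc'
    refine ⟨(y : C)⁻¹ * c, Subgroup.mem_centralizer_singleton_iff.2 ?_, ?_⟩
    · have e : (y : C) * s * (y : C)⁻¹ = c * s * c⁻¹ := congrArg Subtype.val hy
      calc (y : C)⁻¹ * c * s = (y : C)⁻¹ * (c * s * c⁻¹) * c := by group
        _ = s * ((y : C)⁻¹ * c) := by rw [← e]; group
    · show QuotientGroup.mk ((y : C)⁻¹ * c) = QuotientGroup.mk c
      rw [QuotientGroup.mk_mul, QuotientGroup.mk_inv, (QuotientGroup.eq_one_iff (y : C)).2 y.2, inv_one,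
        one_mul]

theorem q_invol {s : Q} (h : s * s = 1) : S.rep.q (pr s) = 0 := by
  show qf (pr s) = 0
  rw [S.qf_pr, h]
  exact if_pos rfl

theorem card_C : Nat.card (C ⧸ Q) = 19595520 := S.orbit_data.1

/-- The two possible orders, and a subgroup of alternating type. -/
theorem stab_cases {s : Q} (h2 : s * s = 1) (hs : s ∉ Subgroup.center Q) :
    (Nat.card (stabImage s) = 51840 ∨ Nat.card (stabImage s) = 11520) ∧
      ∃ φ : A6 →* C ⧸ Q, Function.Injective φ ∧ ∀ τ, φ τ ∈ stabImage s := by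
  classical
  have : Fintype (VQ Q) := Fintype.ofFinite _
  obtain ⟨u₁, u₂, c1, c2, -, -, -, -, hcov, hA⟩ := S.orbit_data.2
  have hv0 : pr s ≠ 0 := fun e => hs (S.pr_eq_zero.1 e)
  rw [S.stabImage_eq hs]
  obtain ⟨φ, hφ, hfix⟩ := hA (pr s) hv0 (S.q_invol h2)
  refine ⟨?_, φ, hφ, hfix⟩
  have hmul := S.rep.card_stab_mul (pr s)
  rw [S.card_C] at hmul
  have key : ∀ u, S.rep.Rel u (pr s) → S.rep.orb (pr s) = S.rep.orb u := fun u hu =>
    Finset.ext fun v => by
      rw [QRep.mem_orb, QRep.mem_orb]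
      exact ⟨fun h => hu.trans S.rep h, fun h => (hu.symm S.rep).trans S.rep h⟩
  rcases hcov (pr s) hv0 (S.q_invol h2) with h | h
  · rw [key _ h, c1] at hmul; left; omega
  · rw [key _ h, c2] at hmul; right; omega

/-- Equal orders imply conjugacy. -/
theorem conj_of_card {s t : Q} (hs2 : s * s = 1) (hs : s ∉ Subgroup.center Q) (ht2 : t * t = 1)
    (ht : t ∉ Subgroup.center Q) (h : Nat.card (stabImage s) = Nat.card (stabImage t)) :
    ∃ c : C, c * (s : C) * c⁻¹ = t := by
  classical
  have : Fintype (VQ Q) := Fintype.ofFinite _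
  obtain ⟨u₁, u₂, c1, c2, -, -, -, -, hcov, -⟩ := S.orbit_data.2
  have hs0 : pr s ≠ 0 := fun e => hs (S.pr_eq_zero.1 e)
  have ht0 : pr t ≠ 0 := fun e => ht (S.pr_eq_zero.1 e)
  rw [S.stabImage_eq hs, S.stabImage_eq ht] at h
  have hms := S.rep.card_stab_mul (pr s)
  have hmt := S.rep.card_stab_mul (pr t)
  rw [S.card_C] at hms hmt
  have key : ∀ u v, S.rep.Rel u v → (S.rep.orb v).card = (S.rep.orb u).card := fun u v hu =>
    congrArg Finset.card (Finset.ext fun w => by
      rw [QRep.mem_orb, QRep.mem_orb]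
      exact ⟨fun h => hu.trans S.rep h, fun h => (hu.symm S.rep).trans S.rep h⟩)
  have hrel : S.rep.Rel (pr s) (pr t) := by
    rcases hcov (pr s) hs0 (S.q_invol hs2) with e | e <;>
      rcases hcov (pr t) ht0 (S.q_invol ht2) with e' | e'
    · exact (e.symm S.rep).trans S.rep e'
    · rw [key _ _ e, c1] at hms; rw [key _ _ e', c2, ← h] at hmt; omega
    · rw [key _ _ e, c2] at hms; rw [key _ _ e', c1, ← h] at hmt; omega
    · exact (e.symm S.rep).trans S.rep e'
  obtain ⟨x, hx⟩ := hrel
  obtain ⟨c, rfl⟩ := QuotientGroup.mk_surjective x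
  rw [S.rep_apply] at hx
  have hcs : cjQ c s ∉ Subgroup.center Q := fun e => ht0 (by rw [← hx]; exact S.pr_eq_zero.2 e)
  obtain ⟨y, hy⟩ := S.exists_conj_of_pr hcs hx.symm
  refine ⟨(y : C) * c, ?_⟩
  have e := congrArg Subtype.val hy
  simp only [Subgroup.coe_mul, Subgroup.coe_inv, cjQ_val] at e
  rw [← e]; group

/-- Both orders occur. -/
theorem exists_both : ∃ s t : Q, s * s = 1 ∧ t * t = 1 ∧ s ∉ Subgroup.center Q ∧ t ∉ Subgroup.center Q ∧
    Nat.card (stabImage s) = 51840 ∧ Nat.card (stabImage t) = 11520 := by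
  classical
  have : Fintype (VQ Q) := Fintype.ofFinite _
  obtain ⟨u₁, u₂, c1, c2, q1, q2, n1, n2, -, -⟩ := S.orbit_data.2
  obtain ⟨s, rfl⟩ := pr_surj u₁
  obtain ⟨t, rfl⟩ := pr_surj u₂
  have h2 : ∀ {a : Q}, S.rep.q (pr a) = 0 → a * a = 1 := fun {a} ha => by
    have ha' : qf (pr a) = 0 := ha
    rw [S.qf_pr, bit] at ha'
    by_contra hne
    rw [if_neg hne] at ha'
    exact one_ne_zero ha'
  have hs : s ∉ Subgroup.center Q := fun e => n1 (S.pr_eq_zero.2 e)
  have ht : t ∉ Subgroup.center Q := fun e => n2 (S.pr_eq_zero.2 e)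
  refine ⟨s, t, h2 q1, h2 q2, hs, ht, ?_, ?_⟩
  · rw [S.stabImage_eq hs]
    have := S.rep.card_stab_mul (pr s)
    rw [S.card_C, c1] at this; omega
  · rw [S.stabImage_eq ht]
    have := S.rep.card_stab_mul (pr t)
    rw [S.card_C, c2] at this; omega

/-- The centraliser in `Q` of a non-central element has order `2^12`. -/
theorem card_centralizer {s : Q} (hs : s ∉ Subgroup.center Q) :
    Nat.card (Subgroup.centralizer ({s} : Set Q)) = 4096 := by
  classical
  let f : Q →* Multiplicative (ZMod 2) :=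
    MonoidHom.mk' (fun a => Multiplicative.ofAdd (bit ⁅a, s⁆)) fun a b => by rw [S.bit_comm_mul]; rfl
  have hf : ∀ a, f a = Multiplicative.ofAdd (bit ⁅a, s⁆) := fun a => rfl
  have hker : f.ker = Subgroup.centralizer ({s} : Set Q) := by
    ext a
    rw [MonoidHom.mem_ker, Subgroup.mem_centralizer_singleton_iff, hf, ofAdd_eq_one, bit,
      ← commutatorElement_eq_one_iff_mul_comm]
    by_cases h : ⁅a, s⁆ = 1 <;> simp [h]
  obtain ⟨y, hy⟩ := S.exists_not_comm hs
  have hsurj : Function.Surjective f := by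
    intro w
    rcases (by decide : ∀ k : ZMod 2, k = 0 ∨ k = 1) (Multiplicative.toAdd w) with e | e
    · exact ⟨1, by rw [map_one]; exact (congrArg Multiplicative.ofAdd e).symm⟩
    · refine ⟨y, ?_⟩
      rw [hf, bit, if_neg hy]
      exact (congrArg Multiplicative.ofAdd e).symm
  have h := Subgroup.card_eq_card_quotient_mul_card_subgroup f.ker
  rw [S.card_Q, Nat.card_congr (QuotientGroup.quotientKerEquivOfSurjective f hsurj).toEquiv,
    Nat.card_eq_fintype_card (α := Multiplicative (ZMod 2)), Fintype.card_multiplicative, ZMod.card,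
    hker] at h
  omega

/-- An abelian subgroup has order at most `2^7`. -/
theorem card_abelian (A : Subgroup Q) (hA : IsMulCommutative A) : Nat.card A ≤ 128 := by
  have : Fact (Nat.Prime 2) := ⟨Nat.prime_two⟩
  have h := CfsgLib.PGroup.extraspecial_abelian_card S.extra A hA
  rw [S.card_Q] at h
  nlinarith

end Shape

end CfsgLib.FischerTwoFour
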