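import Mathlib
import Cfsg.Agent.Lib.Components.FStar
import Cfsg.Agent.Lib.FischerTwoFour.Types

/-!
Conjugates of `z` in `Q` in a group of large Fischer type: the intersection `Q ∩ Q^g` is elementary of
order `2^7` and the image of `Q^g ∩ C` in `C / Q` is elementary of order `32`.
-/

set_option autoImplicit false
set_option linter.unusedSectionVars false

namespace CfsgLib.FischerTwoFour

open scoped commutatorElement

variable {G : Type*} [Group G] [Finite G] {z : G}

theorem shape_of {Q : Subgroup (Subgroup.centralizer ({z} : Set G))} [Q.Normal]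
    (hF : Cfsg.IsOfLargeFischerTypeAt z Q) : Shape Q := by
  obtain ⟨⟨-, hfit, hex, hcard, -⟩, htow⟩ := hF
  refine ⟨hex, hcard, ?_, htow⟩
  have h := CfsgLib.Components.centralizer_generalizedFitting_le
    (G := ↥(Subgroup.centralizer ({z} : Set G)))
  rwa [hfit] at h

variable {Q : Subgroup (Subgroup.centralizer ({z} : Set G))} [Q.Normal] (S : Shape Q)

/-- `z` as an element of its centraliser. -/
def zC (z : G) : Subgroup.centralizer ({z} : Set G) := ⟨z, Subgroup.mem_centralizer_singleton_iff.2 rfl⟩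

include S

theorem zC_mem : zC z ∈ Q := S.selfCent (Subgroup.mem_centralizer_iff.2 fun a _ =>
  Subtype.ext (Subgroup.mem_centralizer_singleton_iff.1 a.2))

theorem zQ_center : (⟨zC z, zC_mem S⟩ : Q) ∈ Subgroup.center Q :=
  Subgroup.mem_center_iff.2 fun a =>
    Subtype.ext (Subtype.ext (Subgroup.mem_centralizer_singleton_iff.1 (a : Subgroup.centralizer ({z} : Set G)).2))

theorem center_cases (hz : orderOf z = 2) {a : Q} (ha : a ∈ Subgroup.center Q) :
    ((a : Subgroup.centralizer ({z} : Set G)) : G) = 1 ∨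
      ((a : Subgroup.centralizer ({z} : Set G)) : G) = z := by
  by_cases h1 : a = 1
  · left; rw [h1]; rfl
  · right
    have hz1 : (⟨zC z, zC_mem S⟩ : Q) ≠ 1 := fun e => by
      have e' : z = 1 := congrArg (fun a : Q => ((a : Subgroup.centralizer ({z} : Set G)) : G)) e
      rw [e', orderOf_one] at hz
      omega
    exact congrArg (fun a : Q => ((a : Subgroup.centralizer ({z} : Set G)) : G))
      (S.two_center ha (zQ_center S) h1 hz1)

theorem not_center (hz : orderOf z = 2) {a : Q}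
    (h1 : ((a : Subgroup.centralizer ({z} : Set G)) : G) ≠ 1)
    (h2 : ((a : Subgroup.centralizer ({z} : Set G)) : G) ≠ z) : a ∉ Subgroup.center Q :=
  fun ha => (center_cases S hz ha).elim h1 h2

theorem exists_two_pow {m : ℕ} (h : m ∣ 2 ^ 13) : ∃ k, k ≤ 13 ∧ m = 2 ^ k :=
  (Nat.dvd_prime_pow Nat.prime_two).1 h

theorem sq_cases_at (hz : orderOf z = 2) (a : Q) :
    ((a * a : Q) : Subgroup.centralizer ({z} : Set G)).1 = 1 ∨
      ((a * a : Q) : Subgroup.centralizer ({z} : Set G)).1 = z :=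
  center_cases S hz (S.sq_mem a)

set_option quotPrecheck false in
/-- The centraliser of `z`. -/
local notation "CC" => Subgroup.centralizer ({z} : Set G)

set_option maxHeartbeats 1000000 in
/-- The main local statement. -/
theorem local_structure (hz : orderOf z = 2) {g : G} (s : Q)
    (hg : g * z * g⁻¹ = ((s : Subgroup.centralizer ({z} : Set G)) : G))
    (hsz : ((s : Subgroup.centralizer ({z} : Set G)) : G) ≠ z)
    (Qg : Subgroup G) (hQg : Qg = Q.map (Subgroup.centralizer ({z} : Set G)).subtype)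
    (E : Subgroup ((Subgroup.centralizer ({z} : Set G)) ⧸ Q))
    (hE : E = (((Qg.map (MulAut.conj g).toMonoidHom) ⊓ Subgroup.centralizer ({z} : Set G)).subgroupOf
      (Subgroup.centralizer ({z} : Set G))).map (QuotientGroup.mk' Q)) :
    Nat.card (stabImage s) = 11520 ∧
      Cfsg.IsElementaryAbelian 2 (Qg ⊓ Qg.map (MulAut.conj g).toMonoidHom) ∧
      Nat.card ↥(Qg ⊓ Qg.map (MulAut.conj g).toMonoidHom) = 2 ^ 7 ∧
      E ≤ stabImage s ∧ (∀ x ∈ stabImage s, ∀ y ∈ E, x * y * x⁻¹ ∈ E) ∧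
      Cfsg.IsElementaryAbelian 2 E ∧ Nat.card E = 32 ∧
      ∃ _ : (E.subgroupOf (stabImage s)).Normal,
        Nonempty (↥(stabImage s) ⧸ E.subgroupOf (stabImage s) ≃* alternatingGroup (Fin 6)) := by
  classical
  set sG : G := ((s : CC) : G) with hsG
  have hs1 : sG ≠ 1 := fun e => by
    rw [e, mul_inv_eq_one, mul_eq_left] at hg
    rw [hg, orderOf_one] at hz
    omega
  have hncs : s ∉ Subgroup.center Q := not_center S hz hs1 hsz
  have hsG2 : sG * sG = 1 := by
    rw [← hg]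
    have hzz : z * z = 1 := by rw [← sq, ← hz]; exact pow_orderOf_eq_one z
    calc g * z * g⁻¹ * (g * z * g⁻¹) = g * (z * z) * g⁻¹ := by group
      _ = 1 := by rw [hzz]; group
  have hs2 : s * s = 1 := Subtype.ext (Subtype.ext hsG2)
  obtain ⟨hcases, φ, hφ, hφs⟩ := S.stab_cases hs2 hncs
  set Qs := Qg.map (MulAut.conj g).toMonoidHom with hQs
  have memQg : ∀ x, x ∈ Qg ↔ ∃ a : Q, ((a : CC) : G) = x := by
    intro x
    rw [hQg, Subgroup.mem_map]
    exact ⟨fun ⟨c, hc, e⟩ => ⟨⟨c, hc⟩, e⟩, fun ⟨a, e⟩ => ⟨a, a.2, e⟩⟩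
  have QgC : Qg ≤ CC := fun x hx => by obtain ⟨a, rfl⟩ := (memQg x).1 hx; exact (a : CC).2
  have memQs : ∀ x, x ∈ Qs ↔ g⁻¹ * x * g ∈ Qg := by
    intro x
    rw [hQs, Subgroup.mem_map]
    refine ⟨fun ⟨y, hy, e⟩ => ?_, fun h => ⟨_, h, ?_⟩⟩
    · rw [← e, MulEquiv.coe_toMonoidHom, MulAut.conj_apply]
      simpa [mul_assoc] using hy
    · simp [mul_assoc]
  have hsqg : ∀ x ∈ Qg, x * x = 1 ∨ x * x = z := by
    intro x hx
    obtain ⟨a, rfl⟩ := (memQg x).1 hx
    exact sq_cases_at S hz a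
  have hcomg : ∀ x ∈ Qg, ∀ y ∈ Qg, x * y * x⁻¹ * y⁻¹ = 1 ∨ x * y * x⁻¹ * y⁻¹ = z := by
    intro x hx y hy
    obtain ⟨a, rfl⟩ := (memQg x).1 hx
    obtain ⟨b, rfl⟩ := (memQg y).1 hy
    exact center_cases S hz (S.comm_mem a b)
  have hback : ∀ x : G, g⁻¹ * x * g = z → x = sG := fun x e => by
    rw [← hg, ← e]; group
  have hsqs : ∀ x ∈ Qs, x * x = 1 ∨ x * x = sG := by
    intro x hx
    have e : g⁻¹ * x * g * (g⁻¹ * x * g) = g⁻¹ * (x * x) * g := by group
    rcases hsqg _ ((memQs x).1 hx) with h | h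
    · left
      rw [e] at h
      calc x * x = g * (g⁻¹ * (x * x) * g) * g⁻¹ := by group
        _ = 1 := by rw [h]; group
    · exact Or.inr (hback _ (e ▸ h))
  have hcoms : ∀ x ∈ Qs, ∀ y ∈ Qs, x * y * x⁻¹ * y⁻¹ = 1 ∨ x * y * x⁻¹ * y⁻¹ = sG := by
    intro x hx y hy
    have e : g⁻¹ * x * g * (g⁻¹ * y * g) * (g⁻¹ * x * g)⁻¹ * (g⁻¹ * y * g)⁻¹ =
        g⁻¹ * (x * y * x⁻¹ * y⁻¹) * g := by group
    rcases hcomg _ ((memQs x).1 hx) _ ((memQs y).1 hy) with h | h
    · left
      rw [e] at h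
      calc x * y * x⁻¹ * y⁻¹ = g * (g⁻¹ * (x * y * x⁻¹ * y⁻¹) * g) * g⁻¹ := by group
        _ = 1 := by rw [h]; group
    · exact Or.inr (hback _ (e ▸ h))
  have hQs_s : ∀ x ∈ Qs, x * sG = sG * x := by
    intro x hx
    have h := Subgroup.mem_centralizer_singleton_iff.1 (QgC ((memQs x).1 hx))
    rw [← hg]
    calc x * (g * z * g⁻¹) = g * ((g⁻¹ * x * g) * z) * g⁻¹ := by group
      _ = g * (z * (g⁻¹ * x * g)) * g⁻¹ := by rw [h]
      _ = g * z * g⁻¹ * x := by group
  -- the intersection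
  set R := Qg ⊓ Qs with hR
  have hRel : Cfsg.IsElementaryAbelian 2 R := by
    refine ⟨⟨⟨fun a b => Subtype.ext ?_⟩⟩, fun a ha => ?_⟩
    · rcases hcomg a a.2.1 b b.2.1 with h | h
      · exact (mul_inv_eq_iff_eq_mul.1 (mul_inv_eq_one.1 h))
      · rcases hcoms a a.2.2 b b.2.2 with h' | h'
        · exact (mul_inv_eq_iff_eq_mul.1 (mul_inv_eq_one.1 h'))
        · exact absurd (h'.symm.trans h) hsz
    · rw [sq]
      rcases hsqg a ha.1 with h | h
      · exact h
      · rcases hsqs a ha.2 with h' | h'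
        · exact h'
        · exact absurd (h'.symm.trans h) hsz
  let A : Subgroup Q := R.comap ((CC).subtype.comp Q.subtype)
  have hAc : Nat.card A = Nat.card R := by
    refine Nat.card_congr (Equiv.ofBijective (fun a => ⟨((a.1 : CC) : G), a.2⟩) ⟨?_, ?_⟩)
    · intro a b h
      have h' := congrArg Subtype.val h
      exact Subtype.ext (Subtype.ext (Subtype.ext h'))
    · rintro ⟨x, hx⟩
      obtain ⟨a, rfl⟩ := (memQg x).1 hx.1
      exact ⟨⟨a, hx⟩, rfl⟩
  have hAab : IsMulCommutative A := ⟨⟨fun a b => by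
    have h := congrArg Subtype.val (hRel.1.1.1 ⟨_, a.2⟩ ⟨_, b.2⟩)
    exact Subtype.ext (Subtype.ext (Subtype.ext h))⟩⟩
  have hA128 := S.card_abelian A hAab
  have hA64 : z ∉ Qs → Nat.card A ≤ 64 := by
    intro hzs
    let zQ : Q := ⟨zC z, zC_mem S⟩
    have hzA : zQ ∉ A := fun h => hzs h.2
    let A' : Subgroup Q := A ⊔ Subgroup.center Q
    have hA' : IsMulCommutative A' := by
      refine ⟨⟨fun a b => Subtype.ext ?_⟩⟩
      obtain ⟨a₁, ha₁, k, hk, ea⟩ := (Subgroup.mem_sup_of_normal_right (s := A) (t := Subgroup.center Q)).1 a.2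
      obtain ⟨b₁, hb₁, l, hl, eb⟩ := (Subgroup.mem_sup_of_normal_right (s := A) (t := Subgroup.center Q)).1 b.2
      have hab : a₁ * b₁ = b₁ * a₁ := congrArg Subtype.val (hAab.1.1 ⟨a₁, ha₁⟩ ⟨b₁, hb₁⟩)
      have hk' := Subgroup.mem_center_iff.1 hk
      have hl' := Subgroup.mem_center_iff.1 hl
      show (a : Q) * b = b * a
      rw [← ea, ← eb]
      calc a₁ * k * (b₁ * l) = a₁ * (k * b₁) * l := by group
        _ = a₁ * b₁ * (k * l) := by rw [← hk' b₁]; group
        _ = b₁ * a₁ * (l * k) := by rw [hab, hl' k]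
        _ = b₁ * (a₁ * l) * k := by group
        _ = b₁ * (l * a₁) * k := by rw [hl' a₁]
        _ = b₁ * l * (a₁ * k) := by group
    have hlt : A < A' := lt_of_le_of_ne le_sup_left fun e => hzA (e ▸ Subgroup.mem_sup_right (zQ_center S))
    obtain ⟨m, hm⟩ := Subgroup.card_dvd_of_le hlt.le
    have hle := S.card_abelian A' hA'
    have hm2 : 2 ≤ m := by
      by_contra hm'
      have : Nat.card A' ≤ Nat.card A := by
        rw [hm]
        calc Nat.card A * m ≤ Nat.card A * 1 := Nat.mul_le_mul_left _ (by omega)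
          _ = Nat.card A := mul_one _
      exact hlt.ne (Subgroup.eq_of_le_of_card_ge hlt.le this)
    rw [hm] at hle
    nlinarith
  -- `W` and its image
  let W : Subgroup CC := (Qs ⊓ CC).subgroupOf CC
  have hEW : E = W.map (QuotientGroup.mk' Q) := hE
  let fW : W →* CC ⧸ Q := (QuotientGroup.mk' Q).comp W.subtype
  have hWker : Nat.card fW.ker = Nat.card R := by
    refine Nat.card_congr (Equiv.ofBijective (fun w => ⟨(((w : W) : CC) : G), ?_⟩) ⟨?_, ?_⟩)
    · have hq : ((w : W) : CC) ∈ Q := (QuotientGroup.eq_one_iff _).1 w.2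
      exact ⟨(memQg _).2 ⟨⟨_, hq⟩, rfl⟩, ((w : W).2).1⟩
    · intro a b h
      have h' := congrArg Subtype.val h
      exact Subtype.ext (Subtype.ext (Subtype.ext h'))
    · rintro ⟨x, hx⟩
      obtain ⟨a, rfl⟩ := (memQg x).1 hx.1
      exact ⟨⟨⟨(a : CC), hx.2, (a : CC).2⟩, (QuotientGroup.eq_one_iff _).2 a.2⟩, rfl⟩
  have hWrange : fW.range = E := by
    rw [hEW, MonoidHom.range_comp, Subgroup.range_subtype]
  have hWcard : Nat.card W = Nat.card E * Nat.card R := by
    rw [Subgroup.card_eq_card_quotient_mul_card_subgroup fW.ker,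
      Nat.card_congr (QuotientGroup.quotientKerEquivRange fW).toEquiv, hWrange, hWker]
  -- `D` and the map to `C_s / Q_s`
  let D : Subgroup CC := Subgroup.centralizer ({(s : CC)} : Set CC)
  let fD : D →* CC ⧸ Q := (QuotientGroup.mk' Q).comp D.subtype
  have hDrange : fD.range = stabImage s := by
    rw [MonoidHom.range_comp, Subgroup.range_subtype]; rfl
  have hDker : Nat.card fD.ker = 4096 := by
    rw [← S.card_centralizer hncs]
    refine Nat.card_congr (Equiv.ofBijective (fun d => ⟨⟨((d : D) : CC), (QuotientGroup.eq_one_iff _).1 d.2⟩, ?_⟩)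
      ⟨?_, ?_⟩)
    · exact Subgroup.mem_centralizer_singleton_iff.2
        (Subtype.ext (Subgroup.mem_centralizer_singleton_iff.1 (d : D).2))
    · intro a b h
      exact Subtype.ext (Subtype.ext (congrArg (fun a : Subgroup.centralizer ({s} : Set Q) => ((a : Q) : CC)) h))
    · rintro ⟨a, ha⟩
      exact ⟨⟨⟨(a : CC), Subgroup.mem_centralizer_singleton_iff.2
        (congrArg Subtype.val (Subgroup.mem_centralizer_singleton_iff.1 ha))⟩,
        (QuotientGroup.eq_one_iff _).2 a.2⟩, rfl⟩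
  have hDcard : Nat.card D = Nat.card (stabImage s) * 4096 := by
    rw [Subgroup.card_eq_card_quotient_mul_card_subgroup fD.ker,
      Nat.card_congr (QuotientGroup.quotientKerEquivRange fD).toEquiv, hDrange, hDker]
  have hDg : ∀ d : D, g⁻¹ * ((d : CC) : G) * g ∈ CC := fun d => by
    have h : ((d : CC) : G) * sG = sG * ((d : CC) : G) :=
      congrArg Subtype.val (Subgroup.mem_centralizer_singleton_iff.1 d.2)
    refine Subgroup.mem_centralizer_singleton_iff.2 ?_
    rw [← hg] at h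
    calc g⁻¹ * ((d : CC) : G) * g * z = g⁻¹ * (((d : CC) : G) * (g * z * g⁻¹)) * g := by group
      _ = g⁻¹ * (g * z * g⁻¹ * ((d : CC) : G)) * g := by rw [h]
      _ = z * (g⁻¹ * ((d : CC) : G) * g) := by group
  let ψ₀ : D →* CC := MonoidHom.mk' (fun d => ⟨g⁻¹ * ((d : CC) : G) * g, hDg d⟩) fun a b =>
    Subtype.ext (show g⁻¹ * (((a : CC) : G) * ((b : CC) : G)) * g = g⁻¹ * ((a : CC) : G) * g * (g⁻¹ * ((b : CC) : G) * g) by
      group)
  let ψ : D →* CC ⧸ Q := (QuotientGroup.mk' Q).comp ψ₀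
  have hψker : Nat.card ψ.ker = Nat.card W := by
    refine Nat.card_congr (Equiv.ofBijective (fun d => ⟨((d : D) : CC), ?_⟩) ⟨?_, ?_⟩)
    · refine ⟨(memQs _).2 ((memQg _).2 ⟨⟨_, (QuotientGroup.eq_one_iff _).1 d.2⟩, rfl⟩), ((d : D) : CC).2⟩
    · intro a b h
      exact Subtype.ext (Subtype.ext (congrArg (fun w : W => (w : CC)) h))
    · rintro ⟨w, hw⟩
      have hwD : w ∈ D := Subgroup.mem_centralizer_singleton_iff.2 (Subtype.ext (hQs_s _ hw.1))
      refine ⟨⟨⟨w, hwD⟩, (QuotientGroup.eq_one_iff _).2 ?_⟩, rfl⟩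
      obtain ⟨a, ha⟩ := (memQg _).1 ((memQs _).1 hw.1)
      have e : ψ₀ ⟨w, hwD⟩ = (a : CC) := Subtype.ext ha.symm
      rw [e]; exact a.2
  have hψcard : ∃ k, k ∣ 19595520 ∧ Nat.card D = k * Nat.card W := by
    refine ⟨Nat.card ψ.range, S.card_C ▸ Subgroup.card_subgroup_dvd_card _, ?_⟩
    rw [Subgroup.card_eq_card_quotient_mul_card_subgroup ψ.ker,
      Nat.card_congr (QuotientGroup.quotientKerEquivRange ψ).toEquiv, hψker]
  -- `E` inside the stabiliser
  have hEX : E ≤ stabImage s := by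
    rw [hEW]
    exact Subgroup.map_mono fun w hw => Subgroup.mem_centralizer_singleton_iff.2 (Subtype.ext (hQs_s _ hw.1))
  have hnorm : ∀ x ∈ stabImage s, ∀ y ∈ E, x * y * x⁻¹ ∈ E := by
    rintro _ ⟨d, hd, rfl⟩ y hy
    rw [hEW] at hy ⊢
    obtain ⟨w, hw, rfl⟩ := hy
    refine ⟨d * w * d⁻¹, ?_, by simp⟩
    refine ⟨?_, (d * w * d⁻¹ : CC).2⟩
    show ((d : CC) : G) * (w : G) * ((d : CC) : G)⁻¹ ∈ Qs
    rw [memQs]
    obtain ⟨a, ha⟩ := (memQg _).1 ((memQs _).1 hw.1)
    have hc := hDg ⟨d, hd⟩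
    have hmem := (inferInstance : Q.Normal).conj_mem (a : CC) a.2 (⟨_, hc⟩ : CC)
    refine (memQg _).2 ⟨⟨_, hmem⟩, ?_⟩
    show g⁻¹ * ((d : CC) : G) * g * ((a : CC) : G) * (g⁻¹ * ((d : CC) : G) * g)⁻¹ = _
    rw [ha]; simp [mul_assoc]
  have hWEl : Cfsg.IsElementaryAbelian 2 E := by
    refine ⟨⟨⟨fun a b => Subtype.ext ?_⟩⟩, fun a ha => ?_⟩
    · obtain ⟨u, hu, eu⟩ := (hEW ▸ a.2 : (a : CC ⧸ Q) ∈ W.map (QuotientGroup.mk' Q))
      obtain ⟨v, hv, ev⟩ := (hEW ▸ b.2 : (b : CC ⧸ Q) ∈ W.map (QuotientGroup.mk' Q))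
      show (a : CC ⧸ Q) * b = b * a
      rw [← eu, ← ev, ← map_mul, ← map_mul]
      refine mul_inv_eq_one.1 ?_
      rw [← map_inv, ← map_mul]
      refine (QuotientGroup.eq_one_iff _).2 ?_
      have e : u * v * (v * u)⁻¹ = u * v * u⁻¹ * v⁻¹ := by group
      rw [e]
      rcases hcoms _ hu.1 _ hv.1 with h | h
      · have : u * v * u⁻¹ * v⁻¹ = 1 := Subtype.ext h
        rw [this]; exact one_mem _
      · have : u * v * u⁻¹ * v⁻¹ = (s : CC) := Subtype.ext h
        rw [this]; exact s.2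
    · rw [hEW] at ha
      obtain ⟨u, hu, rfl⟩ := ha
      rw [sq, ← map_mul]
      refine (QuotientGroup.eq_one_iff _).2 ?_
      rcases hsqs _ hu.1 with h | h
      · have : u * u = 1 := Subtype.ext h
        rw [this]; exact one_mem _
      · have : u * u = (s : CC) := Subtype.ext h
        rw [this]; exact s.2
  -- powers of two
  have hR2 : ∃ r, Nat.card R = 2 ^ r := by
    obtain ⟨r, -, hr⟩ := exists_two_pow S (S.card_Q ▸ Subgroup.card_subgroup_dvd_card A : Nat.card A ∣ 2 ^ 13)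
    exact ⟨r, hAc ▸ hr⟩
  have hW2 : ∃ w, Nat.card W = 2 ^ w := by
    let A₂ : Subgroup Q := (Qs ⊓ CC).comap ((MulAut.conj g).toMonoidHom.comp ((CC).subtype.comp Q.subtype))
    have e : Nat.card W = Nat.card A₂ := by
      refine (Nat.card_congr (Equiv.ofBijective (fun a => ⟨⟨_, a.2.2⟩, a.2⟩) ⟨?_, ?_⟩)).symm
      · intro a b h
        have := congrArg (fun w : W => ((w : CC) : G)) h
        simp only [MonoidHom.comp_apply, MulEquiv.coe_toMonoidHom] at this
        exact Subtype.ext (Subtype.ext (Subtype.ext ((MulAut.conj g).injective this)))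
      · rintro ⟨w, hw⟩
        obtain ⟨a, (ha : ((a : CC) : G) = g⁻¹ * (w : G) * g)⟩ := (memQg _).1 ((memQs _).1 hw.1)
        refine ⟨⟨a, ?_⟩, ?_⟩
        · show g * ((a : CC) : G) * g⁻¹ ∈ Qs ⊓ CC
          rw [ha, show g * (g⁻¹ * (w : G) * g) * g⁻¹ = (w : G) by group]
          exact hw
        · refine Subtype.ext (Subtype.ext ?_)
          show g * ((a : CC) : G) * g⁻¹ = _
          rw [ha]; group
    obtain ⟨w, -, hw⟩ := exists_two_pow S (S.card_Q ▸ Subgroup.card_subgroup_dvd_card A₂ : Nat.card A₂ ∣ 2 ^ 13)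
    exact ⟨w, e.trans hw⟩
  have hzcase : z ∈ Qs → Nat.card W = 4096 := by
    intro hzs
    obtain ⟨a, ha⟩ := (memQg _).1 ((memQs z).1 hzs)
    have ha1 : ((a : CC) : G) ≠ 1 := fun e => by
      rw [ha] at e
      have : z = 1 := by
        calc z = g * (g⁻¹ * z * g) * g⁻¹ := by group
          _ = 1 := by rw [e]; group
      rw [this, orderOf_one] at hz
      omega
    have haz : ((a : CC) : G) ≠ z := fun e => hsz (by rw [← hback z (ha ▸ e)])
    rw [← S.card_centralizer (not_center S hz ha1 haz)]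
    have hmemW : ∀ x : Subgroup.centralizer ({a} : Set Q),
        g * (((x : Q) : CC) : G) * g⁻¹ ∈ Qs ⊓ CC := by
      intro x
      have h : (((x : Q) : CC) : G) * (g⁻¹ * z * g) = g⁻¹ * z * g * (((x : Q) : CC) : G) := by
        rw [← ha]
        exact congrArg (fun q : Q => ((q : CC) : G)) (Subgroup.mem_centralizer_singleton_iff.1 x.2)
      refine ⟨(memQs _).2 ((memQg _).2 ⟨x, by group⟩), Subgroup.mem_centralizer_singleton_iff.2 ?_⟩
      calc g * (((x : Q) : CC) : G) * g⁻¹ * z = g * ((((x : Q) : CC) : G) * (g⁻¹ * z * g)) * g⁻¹ := by group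
        _ = g * (g⁻¹ * z * g * (((x : Q) : CC) : G)) * g⁻¹ := by rw [h]
        _ = z * (g * (((x : Q) : CC) : G) * g⁻¹) := by group
    refine (Nat.card_congr (Equiv.ofBijective
      (fun x => (⟨⟨_, (hmemW x).2⟩, hmemW x⟩ : W)) ⟨?_, ?_⟩)).symm
    · intro x y h
      have e : g * (((x : Q) : CC) : G) * g⁻¹ = g * (((y : Q) : CC) : G) * g⁻¹ :=
        congrArg (fun w : W => ((w : CC) : G)) h
      exact Subtype.ext (Subtype.ext (Subtype.ext (mul_left_cancel (mul_right_cancel e))))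
    · rintro ⟨w, hw⟩
      obtain ⟨b, (hb : ((b : CC) : G) = g⁻¹ * (w : G) * g)⟩ := (memQg _).1 ((memQs _).1 hw.1)
      refine ⟨⟨b, Subgroup.mem_centralizer_singleton_iff.2 (Subtype.ext (Subtype.ext ?_))⟩, ?_⟩
      · show ((b : CC) : G) * ((a : CC) : G) = ((a : CC) : G) * ((b : CC) : G)
        rw [ha, hb]
        have h : (w : G) * z = z * (w : G) := Subgroup.mem_centralizer_singleton_iff.1 w.2
        calc g⁻¹ * (w : G) * g * (g⁻¹ * z * g) = g⁻¹ * ((w : G) * z) * g := by group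
          _ = g⁻¹ * (z * (w : G)) * g := by rw [h]
          _ = g⁻¹ * z * g * (g⁻¹ * (w : G) * g) := by group
      · refine Subtype.ext (Subtype.ext ?_)
        show g * ((b : CC) : G) * g⁻¹ = w
        rw [hb]; group
  -- the quotient by `E`
  have hnormal : (E.subgroupOf (stabImage s)).Normal :=
    ⟨fun y hy x => hnorm x x.2 y hy⟩
  obtain ⟨r, hr⟩ := hR2
  obtain ⟨w, hw⟩ := hW2
  obtain ⟨e, he⟩ : ∃ e, Nat.card E = 2 ^ e := by
    obtain ⟨e, -, he⟩ := (Nat.dvd_prime_pow Nat.prime_two).1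
      (show Nat.card E ∣ 2 ^ w from hw ▸ hWcard ▸ Dvd.intro _ rfl)
    exact ⟨e, he⟩
  let φX : A6 →* stabImage s := φ.codRestrict _ hφs
  let θ : A6 →* ↥(stabImage s) ⧸ E.subgroupOf (stabImage s) := (QuotientGroup.mk' _).comp φX
  have hθ : Function.Injective θ := by
    have := isSimpleGroup_A6
    rw [← MonoidHom.ker_eq_bot_iff]
    refine (θ.normal_ker.eq_bot_or_eq_top).resolve_right fun htop => ?_
    let f : A6 → E := fun τ => ⟨φ τ, by
      have h : θ τ = 1 := MonoidHom.mem_ker.1 (htop ▸ Subgroup.mem_top τ)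
      exact (QuotientGroup.eq_one_iff (φX τ)).1 h⟩
    have hle : Nat.card A6 ∣ Nat.card E := by
      refine Subgroup.card_dvd_of_injective
        (MonoidHom.mk' f fun a b => Subtype.ext (map_mul φ a b)) fun a b h => hφ (congrArg Subtype.val h)
    rw [card_A6, he] at hle
    have h5 : 5 ∣ 2 ^ e := dvd_trans (by norm_num) hle
    have := (Nat.prime_five).dvd_of_dvd_pow h5
    omega
  have hidx : 360 ∣ Nat.card (↥(stabImage s) ⧸ E.subgroupOf (stabImage s)) := by
    rw [← card_A6]; exact Subgroup.card_dvd_of_injective θ hθ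
  have hXE : Nat.card (stabImage s) =
      Nat.card (↥(stabImage s) ⧸ E.subgroupOf (stabImage s)) * Nat.card E := by
    rw [Subgroup.card_eq_card_quotient_mul_card_subgroup (E.subgroupOf (stabImage s)),
      Nat.card_congr (Subgroup.subgroupOfEquivOfLe hEX).toEquiv]
  obtain ⟨i, hi⟩ := hidx
  rw [hi, he] at hXE
  obtain ⟨k, hk, hkD⟩ := hψcard
  rw [hDcard, hw] at hkD
  have hwer : 2 ^ w = 2 ^ (e + r) := by rw [← hw, hWcard, he, hr, pow_add]
  have hwe : w = e + r := Nat.pow_right_injective le_rfl hwer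
  rw [hAc, hr] at hA128 hA64
  have hrle : r ≤ 7 := (Nat.pow_le_pow_iff_right Nat.one_lt_two).1 (hA128.trans_eq (by norm_num))
  have big : ∀ {N m c : ℕ}, N * 4096 = k * 2 ^ m → m ≤ c → 2 ^ c * 512 ∣ N * 4096 → False := by
    intro N m c hN hm hdiv
    rw [hN] at hdiv
    have h1 : 2 ^ c * 512 ∣ 2 ^ c * k := hdiv.trans (by
      obtain ⟨d, rfl⟩ := Nat.exists_eq_add_of_le hm
      exact ⟨2 ^ d, by ring⟩)
    have := (Nat.dvd_of_mul_dvd_mul_left (by positivity) h1).trans hk
    norm_num at this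
  have hbound : ∀ {N c : ℕ}, Nat.card (stabImage s) = N → (∀ e i, N = 360 * i * 2 ^ e → e ≤ c) → e ≤ c :=
    fun {N c} hN h => h e i (hN.symm.trans hXE)
  have hpow : ∀ {e i m : ℕ}, m = 360 * i * 2 ^ e → 2 ^ e ∣ m / 360 := fun {e i m} h =>
    ⟨i, by rw [h, mul_assoc, Nat.mul_div_cancel_left _ (by norm_num : 0 < 360), mul_comm]⟩
  have h11520 : Nat.card (stabImage s) = 11520 := by
    refine hcases.resolve_left fun h => ?_
    have he4 : e ≤ 4 := hbound h fun e i h' => by
      by_contra hgt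
      have := (pow_dvd_pow 2 (show 5 ≤ e by omega)).trans (hpow h')
      norm_num at this
    rw [h] at hkD
    by_cases hzs : z ∈ Qs
    · have := hzcase hzs
      rw [hw] at this
      have : w = 12 := Nat.pow_right_injective le_rfl (this.trans (by norm_num))
      omega
    · have : r ≤ 6 := (Nat.pow_le_pow_iff_right Nat.one_lt_two).1 ((hA64 hzs).trans_eq (by norm_num))
      exact big hkD (show w ≤ 10 by omega) (by norm_num)
  have he5 : e ≤ 5 := hbound h11520 fun e i h' => by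
    by_contra hgt
    have := (pow_dvd_pow 2 (show 6 ≤ e by omega)).trans (hpow h')
    norm_num at this
  have hzs : z ∈ Qs := by
    by_contra hzs
    have : r ≤ 6 := (Nat.pow_le_pow_iff_right Nat.one_lt_two).1 ((hA64 hzs).trans_eq (by norm_num))
    rw [h11520] at hkD
    exact big hkD (show w ≤ 11 by omega) (by norm_num)
  have hw12 : w = 12 := Nat.pow_right_injective le_rfl (hw.symm.trans ((hzcase hzs).trans (by norm_num)))
  obtain ⟨rfl, rfl⟩ : e = 5 ∧ r = 7 := by omega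
  refine ⟨h11520, hRel, hr, hEX, hnorm, hWEl, by rw [he]; norm_num, hnormal, ?_⟩
  have hi1 : i = 1 := by rw [h11520] at hXE; omega
  have hbij : Function.Bijective θ := (Nat.bijective_iff_injective_and_card _).2 ⟨hθ, by
    rw [card_A6, hi, hi1]⟩
  exact ⟨(MulEquiv.ofBijective θ hbij).symm⟩

end CfsgLib.FischerTwoFour
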