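import Cfsg.Agent.Lib.FischerTwoFour.Split
import Cfsg.Agent.S5441

/-!
The subgroups of `G` attached to a group of large Fischer type and an element of order three of
`C(z)` generating the normal subgroup of order three modulo `Q`.
-/

set_option autoImplicit false
set_option linter.unusedSectionVars false
set_option linter.style.haveILetI false

namespace CfsgLib.FischerTwoFour

open scoped commutatorElement
open Subgroup

variable {G : Type*} [Group G] [Finite G] {z : G}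

set_option quotPrecheck false in
local notation "CC" => Subgroup.centralizer ({z} : Set G)

variable {Q : Subgroup (Subgroup.centralizer ({z} : Set G))} [Q.Normal]

/-- `Q` as a subgroup of `G`. -/
def toG : Q →* G := (CC).subtype.comp Q.subtype

theorem toG_apply (a : Q) : toG a = ((a : CC) : G) := rfl

theorem toG_inj : Function.Injective (toG (Q := Q)) := fun _ _ h => Subtype.ext (Subtype.ext h)

theorem mem_map_iff {x : G} : x ∈ Q.map (CC).subtype ↔ ∃ a : Q, toG a = x :=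
  ⟨fun ⟨c, hc, e⟩ => ⟨⟨c, hc⟩, e⟩, fun ⟨a, e⟩ => ⟨a, a.2, e⟩⟩

variable (S : Shape Q)

include S

theorem inZ_iff_center (hz : orderOf z = 2) {a : Q} :
    InZ z (toG a) ↔ a ∈ Subgroup.center Q := by
  refine ⟨fun h => ?_, fun h => center_cases S hz h⟩
  rcases h with h | h
  · rw [show a = 1 from toG_inj (h.trans (map_one _).symm)]; exact one_mem _
  · rw [show a = ⟨zC z, zC_mem S⟩ from toG_inj h]; exact zQ_center S

theorem inZ_comm_iff (hz : orderOf z = 2) {a b : Q} :
    InZ z (toG a * toG b * (toG a)⁻¹ * (toG b)⁻¹) :=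
  by
    rw [← map_inv, ← map_inv, ← map_mul, ← map_mul, ← map_mul]
    exact center_cases S hz (S.comm_mem a b)

theorem eq_mul_of_pr (hz : orderOf z = 2) {a b : Q} (h : pr a = pr b) :
    ∃ e, InZ z e ∧ toG a = e * toG b := by
  have hc : b⁻¹ * a ∈ Subgroup.center Q := S.pr_eq_iff.1 h.symm
  refine ⟨toG (b⁻¹ * a), (inZ_iff_center S hz).2 hc, ?_⟩
  rw [← map_mul, ← Subgroup.mem_center_iff.1 hc b, mul_inv_cancel_left]

theorem exists_sys (hz : orderOf z = 2) (N M : Subgroup (Subgroup.centralizer ({z} : Set G)))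
    [M.Normal] (hQN : Q ≤ N) (hNM : N ≤ M) (hidx : M.index = 2)
    (hcen : ∀ m ∈ M, ∀ n ∈ N, ⁅m, n⁆ ∈ Q)
    (hfpf : ∀ n ∈ N, n ∉ Q → ∀ v : VQ Q, rho Q n (rho Q n v) + rho Q n v + v = 0)
    (x : Subgroup.centralizer ({z} : Set G)) (hxN : x ∈ N) (hxQ : x ∉ Q) (hx3 : x ^ 3 = 1) :
    ∃ Y : Sys z, Y.Qg = Q.map (Subgroup.centralizer ({z} : Set G)).subtype ∧
      Y.M = M.map (Subgroup.centralizer ({z} : Set G)).subtype ∧ Y.ξ = (x : G) := by
  classical
  have hz1 : z ≠ 1 := fun e => by rw [e, orderOf_one] at hz; omega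
  have hrho : ∀ a : Q, rho Q x (pr a) = pr (cjQ x a) := S.rho_pr x
  have hcj : ∀ (c : CC) (a : Q), toG (cjQ c a) = (c : G) * toG a * (c : G)⁻¹ := fun c a => rfl
  have hvne : ∀ v, rho Q x v = v → v = 0 := fun v h => by
    have := hfpf x hxN hxQ v
    rwa [h, h, S.rep.two, zero_add] at this
  refine ⟨
    { Qg := Q.map (CC).subtype
      M := M.map (CC).subtype
      ξ := (x : G)
      zz := by rw [← sq, ← hz]; exact pow_orderOf_eq_one z
      z1 := hz1
      Mle := map_subtype_le M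
      QM := map_mono (hQN.trans hNM)
      zQ := ⟨zC z, zC_mem S, rfl⟩
      card_Qg := by rw [card_map_of_injective (CC).subtype_injective, S.card_Q]
      xiM := ⟨x, hNM hxN, rfl⟩
      xi3 := by rw [← SubmonoidClass.coe_pow, hx3]; rfl
      xi1 := fun e => hxQ (by rw [show x = 1 from Subtype.ext e]; exact one_mem _)
      normQ := ?_, normM := ?_, pair := ?_, comm := ?_, sq := ?_, span := ?_, abel := ?_
      card_cent := ?_, xiC := ?_, fpf := ?_, xi_fix := ?_, five := ?_ }, rfl, rfl, rfl⟩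
  · rintro c hc _ ⟨a, ha, rfl⟩
    exact ⟨⟨c, hc⟩ * a * ⟨c, hc⟩⁻¹, (inferInstance : Q.Normal).conj_mem a ha _, rfl⟩
  · rintro c hc _ ⟨a, ha, rfl⟩
    exact ⟨⟨c, hc⟩ * a * ⟨c, hc⟩⁻¹, (inferInstance : M.Normal).conj_mem a ha _, rfl⟩
  · intro a ha b hb hna hnb
    refine ⟨⟨a, ha⟩ * ⟨b, hb⟩, ?_, rfl⟩
    exact (mul_mem_iff_of_index_two hidx).2 (iff_of_false (fun h => hna ⟨_, h, rfl⟩) fun h => hnb ⟨_, h, rfl⟩)
  · intro a ha b hb
    obtain ⟨a, rfl⟩ := mem_map_iff.1 ha
    obtain ⟨b, rfl⟩ := mem_map_iff.1 hb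
    exact inZ_comm_iff S hz
  · intro a ha
    obtain ⟨a, rfl⟩ := mem_map_iff.1 ha
    exact sq_cases_at S hz a
  · intro a ha ha1 haz b hb h
    obtain ⟨a, rfl⟩ := mem_map_iff.1 ha
    obtain ⟨b, rfl⟩ := mem_map_iff.1 hb
    have hna : a ∉ Subgroup.center Q := fun e => ((inZ_iff_center S hz).2 e).elim ha1 haz
    by_cases hnb : b ∈ Subgroup.center Q
    · rcases center_cases S hz hnb with e | e
      · exact Or.inl e
      · exact Or.inr (Or.inl e)
    have hle : Subgroup.centralizer ({a} : Set Q) ≤ Subgroup.centralizer ({b} : Set Q) := fun c hc => by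
      rw [mem_centralizer_singleton_iff] at hc ⊢
      refine toG_inj ?_
      rw [map_mul, map_mul]
      exact h _ (mem_map_iff.2 ⟨c, rfl⟩) (by rw [← map_mul, hc, map_mul])
    have heq : Subgroup.centralizer ({a} : Set Q) = Subgroup.centralizer ({b} : Set Q) :=
      eq_of_le_of_card_ge hle (by rw [S.card_centralizer hna, S.card_centralizer hnb])
    have hab : a * b ∈ Subgroup.center Q := by
      refine mem_center_iff.2 fun c => commutatorElement_eq_one_iff_mul_comm.1 ?_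
      have e : ⁅c, a * b⁆ = ⁅c, a⁆ * ⁅c, b⁆ := by
        have hh := mem_center_iff.1 (S.comm_mem c b) a
        simp only [commutatorElement_def] at hh ⊢
        calc c * (a * b) * c⁻¹ * (a * b)⁻¹ = c * a * c⁻¹ * (c * b * c⁻¹ * b⁻¹) * a⁻¹ := by group
          _ = c * a * c⁻¹ * a⁻¹ * (a * (c * b * c⁻¹ * b⁻¹)) * a⁻¹ := by group
          _ = _ := by rw [hh]; group
      rw [e]
      by_cases hc : c * a = a * c
      · have hc' := mem_centralizer_singleton_iff.1 (heq ▸ mem_centralizer_singleton_iff.2 hc :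
          c ∈ Subgroup.centralizer ({b} : Set Q))
        rw [commutatorElement_eq_one_iff_mul_comm.2 hc, commutatorElement_eq_one_iff_mul_comm.2 hc',
          one_mul]
      · have hc' : ¬ c * b = b * c := fun e => hc (mem_centralizer_singleton_iff.1
          (heq.symm ▸ mem_centralizer_singleton_iff.2 e : c ∈ Subgroup.centralizer ({a} : Set Q)))
        rw [S.two_center (S.comm_mem c a) (S.comm_mem c b)
          (fun e => hc (commutatorElement_eq_one_iff_mul_comm.1 e))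
          (fun e => hc' (commutatorElement_eq_one_iff_mul_comm.1 e)), ← sq]
        exact CfsgLib.PGroup.extraspecial_center_pow_eq_one S.extra (S.comm_mem c b)
    obtain ⟨e, he, hba⟩ : ∃ e, InZ z e ∧ toG b = e * toG a := by
      refine eq_mul_of_pr S hz ?_
      have h0 : pr a + pr b = 0 := by rw [← pr_mul]; exact S.pr_eq_zero.2 hab
      exact (add_left_cancel (h0.trans (S.rep.two (pr a)).symm))
    rcases he with rfl | rfl
    · exact Or.inr (Or.inr (Or.inl (by rw [hba, one_mul])))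
    · exact Or.inr (Or.inr (Or.inr hba))
  · intro A hA hab
    let B : Subgroup Q := A.comap (toG (Q := Q))
    have hBc : Nat.card B = Nat.card A := by
      rw [← card_map_of_injective (f := toG (Q := Q)) toG_inj (K := B)]
      rw [map_comap_eq_self fun y hy => mem_map_iff.1 (hA hy)]
    rw [← hBc]
    exact S.card_abelian B ⟨⟨fun u v => Subtype.ext (toG_inj (by
      rw [Subgroup.coe_mul, Subgroup.coe_mul, map_mul, map_mul]; exact hab _ u.2 _ v.2))⟩⟩
  · intro a ha ha1 haz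
    obtain ⟨a, rfl⟩ := mem_map_iff.1 ha
    rw [← S.card_centralizer (fun e => ((inZ_iff_center S hz).2 e).elim ha1 haz : a ∉ _),
      ← card_map_of_injective (f := toG (Q := Q)) toG_inj (K := Subgroup.centralizer ({a} : Set Q))]
    congr 2
    ext w
    simp only [mem_inf, mem_centralizer_singleton_iff]
    constructor
    · rintro ⟨hw, hwa⟩
      obtain ⟨c, rfl⟩ := mem_map_iff.1 hw
      exact ⟨c, mem_centralizer_singleton_iff.2 (toG_inj (by rw [map_mul, map_mul]; exact hwa)), rfl⟩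
    · rintro ⟨c, hc, rfl⟩
      exact ⟨mem_map_iff.2 ⟨c, rfl⟩, by rw [← map_mul, mem_centralizer_singleton_iff.1 hc, map_mul]⟩
  · rintro _ ⟨m, hm, rfl⟩
    exact ⟨⁅m, x⁆, hcen m hm x hxN, rfl⟩
  · intro a ha
    obtain ⟨a, rfl⟩ := mem_map_iff.1 ha
    have hc : pr (a * cjQ x a * cjQ x (cjQ x a)) = 0 := by
      rw [pr_mul, pr_mul, ← hrho, ← hrho, ← hfpf x hxN hxQ (pr a)]
      abel
    have := (inZ_iff_center S hz).2 (S.pr_eq_zero.1 hc)
    rw [map_mul, map_mul, hcj, hcj, hcj] at this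
    have e3 : (x : G) ^ 3 = 1 := by rw [← SubmonoidClass.coe_pow, hx3]; rfl
    rwa [show (toG a * (x : G)) ^ 3 = toG a * ((x : G) * toG a * (x : G)⁻¹) *
      ((x : G) * ((x : G) * toG a * (x : G)⁻¹) * (x : G)⁻¹) * (x : G) ^ 3 by
        simp only [pow_succ, pow_zero, one_mul]; group, e3, mul_one]
  · intro a ha h
    obtain ⟨a, rfl⟩ := mem_map_iff.1 ha
    rw [← hcj, ← map_inv, ← map_mul, inZ_iff_center S hz, ← S.pr_eq_zero] at h
    refine (inZ_iff_center S hz).2 (S.pr_eq_zero.1 (hvne _ ?_))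
    rw [hrho]
    have h0 : pr a + pr a⁻¹ = 0 := by rw [← pr_mul, mul_inv_cancel, pr_one]
    rw [pr_mul] at h
    rw [add_comm] at h0
    exact add_right_cancel (b := pr a⁻¹) (h.trans (by rw [add_comm]; exact h0.symm))
  · rintro _ ⟨y, hyM, rfl⟩ hy5 hy1 s hs hss hs1 hsz hys v hv hyv hvs hvx
    obtain ⟨s, rfl⟩ := mem_map_iff.1 hs
    obtain ⟨v, rfl⟩ := mem_map_iff.1 hv
    have hns : s ∉ Subgroup.center Q := fun e => ((inZ_iff_center S hz).2 e).elim hs1 hsz
    have hs2 : s * s = 1 := toG_inj (by rw [map_mul, map_one]; exact hss)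
    have hy5' : y ^ 5 = 1 := Subtype.ext hy5
    have hyQ : y ∉ Q := fun hyQ => by
      have h1 : orderOf (⟨y, hyQ⟩ : Q) ∣ 2 ^ 13 := S.card_Q ▸ orderOf_dvd_natCard _
      rw [Subgroup.orderOf_mk] at h1
      have h2 := Nat.eq_one_of_dvd_coprimes (by norm_num : Nat.Coprime (2 ^ 13) 5) h1
        (orderOf_dvd_of_pow_eq_one hy5')
      exact hy1 (by rw [orderOf_eq_one_iff.1 h2]; rfl)
    have hbf : ∀ {a b : Q}, toG a * toG b = toG b * toG a → bf (pr a) (pr b) = 0 := fun {a b} e => by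
      rw [S.bf_pr, commutatorElement_eq_one_iff_mul_comm.2 (toG_inj (by rw [map_mul, map_mul]; exact e))]
      exact if_pos rfl
    have hρ : ∀ (c : CC) (a : Q), S.rep.ρ (QuotientGroup.mk c) (pr a) = pr (cjQ c a) := S.rep_apply
    have hfix : ∀ a : Q, InZ z ((y : G) * toG a * (y : G)⁻¹ * (toG a)⁻¹) →
        S.rep.ρ (QuotientGroup.mk y) (pr a) = pr a := fun a h => by
      rw [hρ]
      rw [← hcj, ← map_inv, ← map_mul, inZ_iff_center S hz, ← S.pr_eq_zero, pr_mul] at h
      have h0 : pr a + pr a⁻¹ = 0 := by rw [← pr_mul, mul_inv_cancel, pr_one]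
      exact add_right_cancel (h.trans h0.symm)
    rcases S.rep.five_perp (x := QuotientGroup.mk y) (t := QuotientGroup.mk x)
      (by rw [← QuotientGroup.mk_pow, hy5']; rfl) (fun e => hyQ ((QuotientGroup.eq_one_iff y).1 e))
      (by rw [← QuotientGroup.mk_pow, hx3]; rfl)
      (commutatorElement_eq_one_iff_mul_comm.1
        ((QuotientGroup.eq_one_iff ⁅y, x⁆).2 (hcen y hyM x hxN)))
      (fun w => hfpf x hxN hxQ w) (fun e => hns (S.pr_eq_zero.1 e)) (S.q_invol hs2)
      (hfix s (Or.inl (by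
        show (y : G) * toG s * (y : G)⁻¹ * (toG s)⁻¹ = 1
        rw [show (y : G) * toG s = toG s * (y : G) from hys]; group)))
      (hfix v hyv) (hbf hvs)
      (show bf (pr v) (S.rep.ρ (QuotientGroup.mk x) (pr s)) = 0 by rw [hρ]; exact hbf hvx)
      with e | e | e | e
    · exact ⟨_, (inZ_iff_center S hz).2 (S.pr_eq_zero.1 e), Or.inl rfl⟩
    · obtain ⟨e', he', h⟩ := eq_mul_of_pr S hz e
      exact ⟨e', he', Or.inr (Or.inl h)⟩
    · rw [hρ] at e
      obtain ⟨e', he', h⟩ := eq_mul_of_pr S hz e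
      exact ⟨e', he', Or.inr (Or.inr (Or.inl h))⟩
    · rw [hρ, ← pr_mul] at e
      obtain ⟨e', he', h⟩ := eq_mul_of_pr S hz e
      refine ⟨e', he', Or.inr (Or.inr (Or.inr ?_))⟩
      rw [h, map_mul]; rfl

omit S in
/-- A point for the local analysis. -/
theorem exists_pt (hF : Cfsg.IsOfLargeFischerTypeAt z Q) (Y : Sys z)
    (hQ : Y.Qg = Q.map (Subgroup.centralizer ({z} : Set G)).subtype) : Nonempty (Pt Y) := by
  classical
  have S := shape_of hF
  have hz : orderOf z = 2 := hF.1.1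
  obtain ⟨g₀, ⟨hq₀, hg₀Q⟩, hne₀⟩ := hF.1.2.2.2.2
  set a := g₀ * z * g₀⁻¹ with ha
  have haQ : a ∈ Y.Qg := hQ ▸ ⟨⟨a, hq₀⟩, hg₀Q, rfl⟩
  have hamem : ∀ {w : G}, w ∈ Y.Qg → ∃ q : Q, toG q = w := fun h => mem_map_iff.1 (hQ ▸ h)
  -- adjust by `z`
  obtain ⟨s, g, hsQ, hg, hsz, hΦ⟩ : ∃ s g : G, s ∈ Y.Qg ∧ g * z * g⁻¹ = s ∧ s ≠ z ∧ Y.Φ s = 1 := by
    rcases Y.Φ_inZ haQ with h | h
    · exact ⟨a, g₀, haQ, rfl, hne₀, h⟩
    have ha1 : a ≠ 1 := fun e => Y.z1 (conj_eq_one_iff.1 e)
    obtain ⟨q, hq⟩ := hamem haQ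
    have hnc : q ∉ Subgroup.center Q := fun e =>
      ((inZ_iff_center S hz).2 e).elim (hq ▸ ha1) (hq ▸ hne₀)
    obtain ⟨y, hy⟩ := S.exists_not_comm hnc
    refine ⟨a * z, toG y * g₀, Y.Qg.mul_mem haQ Y.zQ, ?_, ?_, ?_⟩
    · have hc : toG ⁅y, q⁆ = z := by
        rcases (inZ_iff_center S hz).2 (S.comm_mem y q) with e | e
        · exact absurd (toG_inj (e.trans (map_one _).symm)) hy
        · exact e
      rw [commutatorElement_def, map_mul, map_mul, map_mul, map_inv, map_inv, hq] at hc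
      calc toG y * g₀ * z * (toG y * g₀)⁻¹ = toG y * a * (toG y)⁻¹ := by rw [ha]; group
        _ = z * a := eq_mul_of_mul_inv_eq hc
        _ = a * z := (Y.zcomm (Y.le_cen haQ) (Or.inr rfl)).symm
    · exact fun e => ha1 (mul_eq_right.1 e)
    · have e : z * Y.sh (Y.sh a) * z⁻¹ * (Y.sh (Y.sh a))⁻¹ = 1 := by
        rw [← Y.zcomm (Y.le_cen (Y.sh_mem (Y.sh_mem haQ))) (Or.inr rfl)]; group
      rw [Y.Φ_mul haQ Y.zQ, h, Y.Φ_of_inZ (Or.inr rfl), Y.zz, one_mul, e]
  obtain ⟨sQ, hsq⟩ := hamem hsQ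
  obtain ⟨hc, hel, hR, hEX, hnorm, hEel, hE32, hnormal, ⟨ψ⟩⟩ :=
    local_structure S hz sQ (g := g) (hg.trans hsq.symm) (fun e => hsz (hsq.symm.trans e)) _ rfl _ rfl
  set E := ((((Q.map (CC).subtype)).map (MulAut.conj g).toMonoidHom ⊓ CC).subgroupOf CC).map
    (QuotientGroup.mk' Q) with hE
  haveI := hnormal
  let ι : ↥(CC ⊓ Subgroup.centralizer ({s} : Set G)) →* stabImage sQ :=
    MonoidHom.mk' (fun d => ⟨QuotientGroup.mk (⟨d, d.2.1⟩ : CC),
      ⟨⟨d, d.2.1⟩, mem_centralizer_singleton_iff.2 (Subtype.ext (by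
        show (d : G) * toG sQ = toG sQ * (d : G)
        rw [hsq]; exact mem_centralizer_singleton_iff.1 d.2.2)), rfl⟩⟩) fun a b => rfl
  let π : ↥(CC ⊓ Subgroup.centralizer ({s} : Set G)) →* A6 :=
    ψ.toMonoidHom.comp ((QuotientGroup.mk' (E.subgroupOf (stabImage sQ))).comp ι)
  have hπ1 : ∀ d, π d = 1 ↔ (ι d : CC ⧸ Q) ∈ E := fun d => by
    show ψ (QuotientGroup.mk' _ (ι d)) = 1 ↔ _
    rw [← map_one ψ, ψ.injective.eq_iff]
    exact QuotientGroup.eq_one_iff (ι d)
  have hQs : Y.Qg.map (MulAut.conj g).toMonoidHom = (Q.map (CC).subtype).map (MulAut.conj g).toMonoidHom := by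
    rw [hQ]
  exact ⟨
    { s := s
      g := g
      sQ := hsQ
      hg := hg
      sz := hsz
      Φs := hΦ
      Rsq := fun a ha => by
        rw [hQ] at ha
        have := hel.2 a ha
        rwa [sq] at this
      Rcard := by rw [hQ]; exact hR
      π := π
      π_surj := by
        refine ψ.surjective.comp ((QuotientGroup.mk'_surjective _).comp ?_)
        rintro ⟨_, c, hc, rfl⟩
        refine ⟨⟨c, c.2, mem_centralizer_singleton_iff.2 ?_⟩, rfl⟩
        have := congrArg Subtype.val (mem_centralizer_singleton_iff.1 hc)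
        rw [← hsq]
        exact this
      π_ker := fun d => ⟨14, Subtype.ext (Subtype.ext (by
        have hd : (ι (d : _) : CC ⧸ Q) ∈ E := (hπ1 _).1 d.2
        have h2 : (QuotientGroup.mk ((⟨((d : ↥(CC ⊓ Subgroup.centralizer ({s} : Set G))) : G),
            (d : ↥(CC ⊓ Subgroup.centralizer ({s} : Set G))).2.1⟩ : CC) ^ 2) : CC ⧸ Q) = 1 := by
          rw [QuotientGroup.mk_pow]
          exact hEel.2 _ hd
        have h3 := orderOf_dvd_natCard (⟨_, (QuotientGroup.eq_one_iff _).1 h2⟩ : Q)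
        rw [S.card_Q, orderOf_dvd_iff_pow_eq_one] at h3
        have h4 := congrArg (fun q : Q => ((q : CC) : G)) h3
        simp only [SubmonoidClass.coe_pow, OneMemClass.coe_one] at h4
        rw [← pow_mul, ← pow_succ'] at h4
        exact h4))⟩
      π_kill := fun d hd => (hπ1 d).2 (by
        rcases hd with h | h
        · rw [hQ] at h
          obtain ⟨q, hq⟩ := mem_map_iff.1 h
          have : (ι d : CC ⧸ Q) = 1 := (QuotientGroup.eq_one_iff _).2
            ((Subtype.ext hq : (q : CC) = ⟨(d : G), d.2.1⟩) ▸ q.2)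
          rw [this]; exact one_mem _
        · rw [hQs] at h
          exact ⟨⟨d, d.2.1⟩, ⟨h, d.2.1⟩, rfl⟩)
      trans := fun b hb hzb hbz => by
        obtain ⟨q, hq⟩ := hamem hb
        exact Cfsg.Agent.S5441.result z Q hF s b
          ⟨Y.le_cen hsQ, by
            have e : (⟨s, Y.le_cen hsQ⟩ : CC) = sQ := Subtype.ext hsq.symm
            rw [e]; exact sQ.2⟩
          ⟨Y.le_cen hb, by
            have e : (⟨b, Y.le_cen hb⟩ : CC) = q := Subtype.ext hq.symm
            rw [e]; exact q.2⟩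
          (isConj_iff.2 ⟨g, hg⟩) hzb hsz hbz }⟩

end CfsgLib.FischerTwoFour
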