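import Mathlib
import Cfsg.Agent.Lib.FischerTwoFour.Types
import Cfsg.Agent.Lib.FischerTwoFour.FourModel

/-!
The monomial model at a full vector: the elements acting as transvection-like maps on the hyperplane of
that vector form a group of order at most sixteen with patterns in one fixed multiple.
-/

set_option autoImplicit false
set_option linter.unusedSectionVars false

namespace CfsgLib.FischerTwoFour

open Four

set_option linter.unusedSimpArgs false

namespace QRep

variable {H V : Type*} [Group H] [AddCommGroup V] (R : QRep H V)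

/-- The line of `w`. -/
def line (t : H) (w : V) : AddSubgroup V := AddSubgroup.closure {w, R.ρ t w}

theorem line_fixed {t : H} {w : V} {h : H} (hc : h * t = t * h) (hw : R.ρ h w = w) {y : V}
    (hy : y ∈ R.line t w) : R.ρ h y = y := by
  induction hy using AddSubgroup.closure_induction with
  | mem x hx =>
    rcases hx with rfl | rfl
    · exact hw
    · rw [← R.mul_apply, hc, R.mul_apply, hw]
  | zero => exact map_zero _
  | add a b _ _ ha hb => rw [map_add, ha, hb]
  | neg a _ ha => rw [map_neg, ha]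

/-- The elements fixing `w` and moving vectors orthogonal to the line of `w` into that line. -/
def rad (t : H) (hc : ∀ h, h * t = t * h) (w : V) : Subgroup H where
  carrier := {h | R.ρ h w = w ∧ ∀ y, R.b y w = 0 → R.b y (R.ρ t w) = 0 → R.ρ h y + y ∈ R.line t w}
  one_mem' := ⟨R.one_apply w, fun y _ _ => by rw [R.one_apply, R.two]; exact zero_mem _⟩
  mul_mem' {a b} ha hb := ⟨by rw [R.mul_apply, hb.1, ha.1], fun y h1 h2 => by
    have e := R.line_fixed (hc a) ha.1 (hb.2 y h1 h2)
    rw [map_add] at e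
    have e' : R.ρ (a * b) y + y = (R.ρ b y + y) + (R.ρ a y + y) := by
      rw [R.mul_apply, ← e]
      calc R.ρ a (R.ρ b y) + y = R.ρ a (R.ρ b y) + (R.ρ a y + R.ρ a y) + y := by rw [R.two, add_zero]
        _ = R.ρ a (R.ρ b y) + R.ρ a y + (R.ρ a y + y) := by abel
    rw [e']
    exact add_mem (hb.2 y h1 h2) (ha.2 y h1 h2)⟩
  inv_mem' {a} ha := by
    have hf : R.ρ a⁻¹ w = w := by
      conv_lhs => rw [← ha.1]
      exact R.inv_apply a w
    refine ⟨hf, fun y h1 h2 => ?_⟩
    have e := R.line_fixed (hc a⁻¹) hf (ha.2 y h1 h2)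
    rw [map_add, R.inv_apply] at e
    rw [add_comm, e]
    exact ha.2 y h1 h2

theorem mem_rad {t : H} {hc : ∀ h, h * t = t * h} {w : V} {h : H} :
    h ∈ R.rad t hc w ↔
      R.ρ h w = w ∧ ∀ y, R.b y w = 0 → R.b y (R.ρ t w) = 0 → R.ρ h y + y ∈ R.line t w := Iff.rfl

theorem rad_conj {t : H} {hc : ∀ h, h * t = t * h} {w : V} {h : H} (hh : h ∈ R.rad t hc w) (g : H) :
    g * h * g⁻¹ ∈ R.rad t hc (R.ρ g w) := by
  refine ⟨by rw [R.mul_apply, R.inv_apply, R.mul_apply, hh.1], fun y h1 h2 => ?_⟩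
  have hy : R.ρ g (R.ρ g⁻¹ y) = y := by rw [← R.mul_apply, mul_inv_cancel, R.one_apply]
  have h1' : R.b (R.ρ g⁻¹ y) w = 0 := by rw [← R.b_inv g, hy]; exact h1
  have h2' : R.b (R.ρ g⁻¹ y) (R.ρ t w) = 0 := by
    rw [← R.b_inv g, hy, ← R.mul_apply g t, hc g, R.mul_apply]; exact h2
  have hm := hh.2 _ h1' h2'
  have e : R.ρ (g * h * g⁻¹) y + y = R.ρ g (R.ρ h (R.ρ g⁻¹ y) + R.ρ g⁻¹ y) := by
    rw [map_add, hy, R.mul_apply, R.mul_apply]
  rw [e]
  generalize R.ρ h (R.ρ g⁻¹ y) + R.ρ g⁻¹ y = u at hm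
  induction hm using AddSubgroup.closure_induction with
  | mem x hx =>
    rcases hx with rfl | rfl
    · exact AddSubgroup.subset_closure (Or.inl rfl)
    · refine AddSubgroup.subset_closure (Or.inr ?_)
      show R.ρ g (R.ρ t w) = R.ρ t (R.ρ g w)
      rw [← R.mul_apply, ← R.mul_apply, hc]
  | zero => rw [map_zero]; exact zero_mem _
  | add a b _ _ ha hb => rw [map_add]; exact add_mem ha hb
  | neg a _ ha => rw [map_neg]; exact neg_mem ha

end QRep

/-- Coordinates at a vector. -/
structure Co {H V : Type*} [Group H] [AddCommGroup V] (R : QRep H V) where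
  t : H
  t_cube : t ^ 3 = 1
  t_comm : ∀ h, h * t = t * h
  e : Vec ≃+ V
  e_om : ∀ x, R.ρ t (e x) = e (omV x)
  q_e : ∀ x, R.q (e x) = ∑ i, nz (x i)
  p : A6 →* H
  p_e : ∀ (π : A6) x, R.ρ (p π) (e x) = e (fun i => x ((π : Equiv.Perm (Fin 6)).symm i))
  wt_two : ∀ x, wtV x = 2 → ¬ R.Rel (e (cst one)) (e x)
  wt_four : ∀ x, wtV x = 4 → R.Rel (e (cst one)) (e x)
  wt_six : ∀ x, wtV x = 6 → clsV x = 0 → R.Rel (e (cst one)) (e x)

namespace Co

variable {H V : Type*} [Group H] [Finite H] [AddCommGroup V] {R : QRep H V} (K : Co R)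

/-- The base vector. -/
noncomputable def v : V := K.e (cst one)

/-- The elements of transvection type at `v`. -/
noncomputable def S : Subgroup H := R.rad K.t K.t_comm K.v

/-- The coordinates of the image. -/
noncomputable def img (h : H) (x : Vec) : Vec := K.e.symm (R.ρ h (K.e x))

theorem e_img (h : H) (x : Vec) : K.e (K.img h x) = R.ρ h (K.e x) := K.e.apply_symm_apply _

theorem img_eq {h : H} {x y : Vec} (e : R.ρ h (K.e x) = K.e y) : K.img h x = y := by
  rw [img, e, K.e.symm_apply_apply]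

theorem img_add (h : H) (x y : Vec) : K.img h (x + y) = K.img h x + K.img h y := by
  simp [img, map_add]

theorem img_mul (a b : H) (x : Vec) : K.img (a * b) x = K.img a (K.img b x) := by
  refine K.img_eq ?_
  rw [K.e_img, K.e_img, R.mul_apply]

theorem img_p (π : A6) (x : Vec) : K.img (K.p π) x = fun i => x ((π : Equiv.Perm (Fin 6)).symm i) :=
  K.img_eq (K.p_e π x)

theorem b_e (x y : Vec) : R.b (K.e x) (K.e y) = btV x y := by
  have h := R.q_add (K.e x) (K.e y)
  rw [← map_add, K.q_e, K.q_e, K.q_e] at h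
  simp only [Pi.add_apply, bt_nz, Finset.sum_add_distrib] at h
  exact (add_left_cancel h).symm

theorem img_omV (h : H) (x : Vec) : K.img h (omV x) = omV (K.img h x) := by
  refine K.img_eq ?_
  rw [← K.e_om, ← R.mul_apply, K.t_comm, R.mul_apply, ← K.e_img, K.e_om]

theorem img_mulc (h : H) (a : K4) (x : Vec) :
    K.img h (fun i => mul a (x i)) = fun i => mul a (K.img h x i) := by
  have e : ∀ y : Vec, (fun i => mul a (y i)) = (if a.1 = 1 then y else 0) + (if a.2 = 1 then omV y else 0) := by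
    intro y
    funext i
    rw [mul_eq]
    split_ifs <;> rfl
  have h0 : K.img h 0 = 0 := K.img_eq (by rw [map_zero, map_zero])
  rw [e, e, K.img_add]
  split_ifs <;> simp [h0, K.img_omV]

theorem btV_add (x y z : Vec) : btV (x + y) z = btV x z + btV y z := by
  simp only [btV, ← Finset.sum_add_distrib]
  exact Finset.sum_congr rfl fun i _ =>
    (by decide : ∀ a b c : K4, bt (a + b) c = bt a c + bt b c) _ _ _

theorem btV_comm (x y : Vec) : btV x y = btV y x :=
  Finset.sum_congr rfl fun i _ => (by decide : ∀ a b : K4, bt a b = bt b a) _ _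

theorem btV_cst (x : Vec) (a : K4) : btV x (cst a) = bt (sig x) a :=
  (map_sum (AddMonoidHom.mk' (fun c => bt c a)
    fun c d => (by decide : ∀ a b c : K4, bt (a + b) c = bt a c + bt b c) c d a) x Finset.univ).symm

theorem bt_herm_sum (x D : Vec) :
    bt (herm x D) one = btV x D ∧ bt (om (herm x D)) one = btV (omV x) D := by
  constructor
  · show AddMonoidHom.mk' (fun c => bt c one) (fun c d => (by decide : ∀ a b c : K4, bt (a + b) c = bt a c + bt b c) c d one)
      (∑ i, mul (x i) (cj (D i))) = _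
    rw [map_sum]
    exact Finset.sum_congr rfl fun i _ => (bt_herm _ _).1
  · show AddMonoidHom.mk' (fun c => bt (om c) one)
      (fun c d => (by decide : ∀ a b c : K4, bt (om (a + b)) c = bt (om a) c + bt (om b) c) c d one)
      (∑ i, mul (x i) (cj (D i))) = _
    rw [map_sum]
    exact Finset.sum_congr rfl fun i _ => (bt_herm _ _).2

theorem mem_line {x : Vec} : K.e x ∈ R.line K.t K.v ↔ ∃ a, x = cst a := by
  constructor
  · intro h
    have : ∀ y ∈ R.line K.t K.v, ∃ a, y = K.e (cst a) := by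
      intro y hy
      induction hy using AddSubgroup.closure_induction with
      | mem y hy =>
        rcases hy with rfl | rfl
        · exact ⟨one, rfl⟩
        · exact ⟨om one, by rw [v, K.e_om]; rfl⟩
      | zero => exact ⟨0, by rw [show cst 0 = (0 : Vec) from rfl, map_zero]⟩
      | add a b _ _ ha hb =>
        obtain ⟨a, rfl⟩ := ha
        obtain ⟨b, rfl⟩ := hb
        exact ⟨a + b, by rw [cst_add, map_add]⟩
      | neg a _ ha =>
        obtain ⟨a, rfl⟩ := ha
        exact ⟨a, neg_eq_of_add_eq_zero_left (R.two _)⟩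
    obtain ⟨a, ha⟩ := this _ h
    exact ⟨a, K.e.injective ha⟩
  · rintro ⟨a, rfl⟩
    have h1 : K.e (cst one) ∈ R.line K.t K.v := AddSubgroup.subset_closure (Or.inl rfl)
    have h2 : K.e (cst (om one)) ∈ R.line K.t K.v :=
      AddSubgroup.subset_closure (Or.inr (show _ = R.ρ K.t K.v by rw [v, K.e_om]; rfl))
    rcases (by decide : ∀ a : K4, a = 0 ∨ a = one ∨ a = om one ∨ a = one + om one) a with e | e | e | e <;>
      subst e
    · rw [show cst 0 = (0 : Vec) from rfl, map_zero]; exact zero_mem _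
    · exact h1
    · exact h2
    · rw [cst_add, map_add]; exact add_mem h1 h2

theorem perp_iff {x : Vec} : R.b (K.e x) K.v = 0 ∧ R.b (K.e x) (R.ρ K.t K.v) = 0 ↔ sig x = 0 := by
  rw [v, K.e_om, omV_cst, K.b_e, K.b_e, btV_cst, btV_cst]
  generalize sig x = a
  revert a
  decide

/-- The translation of an element. -/
noncomputable def D (h : H) : Vec := K.img h (one1 2 one) + one1 2 one

theorem img_two (h : H) : K.img h (one1 2 one) = one1 2 one + K.D h := by
  rw [D, add_left_comm, vec_add_self, add_zero]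

theorem sig_D {h : H} (hv : R.ρ h K.v = K.v) : sig (K.D h) = 0 := by
  have h1 := R.b_inv h (K.e (one1 2 one)) K.v
  have h2 := R.b_inv h (K.e (one1 2 one)) (R.ρ K.t K.v)
  rw [← R.mul_apply h K.t, K.t_comm, R.mul_apply, hv] at h2
  rw [hv] at h1
  rw [← K.e_img, K.img_two, map_add, R.b_add] at h1 h2
  rw [← K.perp_iff]
  exact ⟨(add_eq_left).1 h1, (add_eq_left).1 h2⟩

theorem wt_D (h : H) : wtV (one1 2 one + K.D h) % 2 = 1 := by
  have e := R.q_inv h (K.e (one1 2 one))
  rw [← K.e_img, K.img_two, K.q_e, K.q_e] at e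
  have hw : ∀ x : Vec, ∑ i, nz (x i) = (wtV x : ZMod 2) := fun x => by
    rw [wtV, ← Finset.sum_boole]
    exact Finset.sum_congr rfl fun i _ => by rw [nz]; split_ifs <;> simp_all
  rw [hw, hw, show wtV (one1 2 one) = 1 by decide] at e
  have := congrArg ZMod.val e
  rwa [ZMod.val_natCast] at this

theorem img_sum_zero {h : H} (hS : h ∈ K.S) {x : Vec} (hx : sig x = 0) :
    K.img h x = x + cst (herm x (K.D h)) := by
  have key : ∀ x : Vec, sig x = 0 → ∃ α, K.img h x = x + cst α ∧ bt α one = bt (herm x (K.D h)) one := by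
    intro x hx
    obtain ⟨h1, h2⟩ := K.perp_iff.2 hx
    have hm := hS.2 _ h1 h2
    rw [← K.e_img, ← map_add, K.mem_line] at hm
    obtain ⟨α, hα⟩ := hm
    have hi : K.img h x = x + cst α := by
      rw [← hα, add_left_comm, vec_add_self, add_zero]
    refine ⟨α, hi, ?_⟩
    have e := R.b_inv h (K.e x) (K.e (one1 2 one))
    rw [← K.e_img, ← K.e_img, hi, K.img_two, K.b_e, K.b_e, btV_comm _ (one1 2 one + _), btV_add,
      btV_comm (one1 2 one) (x + cst α), btV_add, btV_comm (K.D h), btV_add, btV_comm (cst α) (K.D h),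
      btV_cst, K.sig_D hS.1] at e
    rw [btV_comm (cst α), btV_cst, sig_single] at e
    rw [(bt_herm_sum x (K.D h)).1]
    generalize btV x (K.D h) = p, btV x (one1 2 one) = r at e ⊢
    exact (by decide : ∀ (α : K4) (p r : ZMod 2), r + bt one α + (p + bt 0 α) = r → bt α one = p) α p r e
  obtain ⟨α, hα, h1⟩ := key x hx
  obtain ⟨α', hα', h2⟩ := key (omV x) (by rw [sig_omV, hx]; rfl)
  have : α' = om α := by
    rw [K.img_omV, hα, omV_add, omV_cst] at hα'
    exact (congrFun (add_left_cancel hα') 0).symm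
  rw [this, (bt_herm_sum (omV x) _).1, ← (bt_herm_sum x _).2] at h2
  rw [hα, bt_separates _ _ h1 h2]

theorem img_S {h : H} (hS : h ∈ K.S) (x : Vec) : K.img h x = act (K.D h) x := by
  have hy : sig (x + one1 2 (sig x)) = 0 := by rw [sig_add, sig_single, add_self]
  have hσ : one1 2 (sig x) = fun i => mul (sig x) (one1 2 one i) := by
    generalize sig x = a
    funext i
    revert a i
    decide
  conv_lhs => rw [show x = (x + one1 2 (sig x)) + one1 2 (sig x) by
    rw [add_assoc, vec_add_self, add_zero]]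
  rw [K.img_add, K.img_sum_zero hS hy]
  conv_lhs => arg 2; rw [hσ, K.img_mulc, K.img_two]
  funext i
  simp only [act, Pi.add_apply, mul_add]
  rw [congrFun hσ i]
  generalize mul (sig x) (one1 2 one i) = u, mul (sig x) (K.D h i) = w, cst _ i = c, x i = y
  revert u w c y
  decide

theorem D_injective {h h' : H} (hS : h ∈ K.S) (hS' : h' ∈ K.S) (e : K.D h = K.D h') : h = h' := by
  refine inv_mul_eq_one.1 (R.faithful _ fun u => ?_)
  obtain ⟨x, rfl⟩ := K.e.surjective u
  rw [R.mul_apply, ← K.e_img h', K.img_S hS', ← e, ← K.img_S hS, K.e_img, R.inv_apply]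

theorem D_one : K.D 1 = 0 := by
  rw [D, K.img_eq (R.one_apply _), vec_add_self]

theorem D_mul {a b : H} (ha : a ∈ K.S) (hb : b ∈ K.S) :
    ∃ c, K.D (a * b) = K.D a + K.D b + cst c := by
  refine ⟨herm (K.D b) (K.D a), ?_⟩
  rw [D, K.img_mul, K.img_two b, K.img_add, K.img_two a, K.img_sum_zero ha (K.sig_D hb.1)]
  funext i
  simp only [Pi.add_apply]
  generalize one1 2 one i = u, K.D a i = w, K.D b i = y, cst _ i = c
  revert u w y c
  decide

theorem p_fix (π : A6) : R.ρ (K.p π) K.v = K.v := by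
  rw [v, K.p_e]; rfl

theorem conj_mem {h : H} (hS : h ∈ K.S) {g : H} (hg : R.ρ g K.v = K.v) : g * h * g⁻¹ ∈ K.S := by
  have := R.rad_conj hS g
  rwa [hg] at this

theorem D_conj {h : H} (hS : h ∈ K.S) (π : A6) : ∃ c, K.D (K.p π * h * (K.p π)⁻¹) =
    (fun i => K.D h ((π : Equiv.Perm (Fin 6)).symm i)) + cst c := by
  refine ⟨herm (one1 ((π : Equiv.Perm (Fin 6)).symm 2) one + one1 2 one) (K.D h), ?_⟩
  have hinv : K.img (K.p π)⁻¹ (one1 2 one) = one1 ((π : Equiv.Perm (Fin 6)).symm 2) one := by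
    rw [← map_inv, K.img_p]
    funext i
    show one1 2 one ((π : Equiv.Perm (Fin 6))⁻¹.symm i) = _
    simp only [one1, Pi.single_apply, Equiv.Perm.inv_def, Equiv.symm_symm]
    by_cases hi : i = (π : Equiv.Perm (Fin 6)).symm 2
    · rw [if_pos hi, if_pos (by rw [hi, Equiv.apply_symm_apply])]
    · rw [if_neg hi, if_neg fun e => hi (by rw [← e, Equiv.symm_apply_apply])]
  rw [D, K.img_mul, K.img_mul, hinv, K.img_S hS, K.img_p, act, sig_single]
  funext i
  simp only [Pi.add_apply, one_mul, cst]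
  have : one1 ((π : Equiv.Perm (Fin 6)).symm 2) one ((π : Equiv.Perm (Fin 6)).symm i) = one1 2 one i := by
    simp only [one1, Pi.single_apply, EmbeddingLike.apply_eq_iff_eq]
  rw [this]
  generalize one1 2 one i = u, K.D h _ = w, herm _ _ = c
  revert u w c
  decide

/-- The translations up to constants. -/
noncomputable def pats : AddSubgroup Vec where
  carrier := {x | ∃ h ∈ K.S, ∃ c, x = K.D h + cst c}
  zero_mem' := ⟨1, one_mem _, 0, by rw [K.D_one]; rfl⟩
  add_mem' {x y} := by
    rintro ⟨a, ha, c, rfl⟩ ⟨b, hb, d, rfl⟩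
    obtain ⟨f, hf⟩ := K.D_mul ha hb
    refine ⟨a * b, mul_mem ha hb, f + c + d, ?_⟩
    rw [hf, cst_add, cst_add]
    funext i
    simp only [Pi.add_apply]
    exact (by decide : ∀ (p r u w z : K4), p + w + (r + z) = p + r + u + (u + w + z)) _ _ _ _ _
  neg_mem' {x} hx := by rwa [show -x = x from neg_eq_of_add_eq_zero_left (vec_add_self x)]

theorem cst_mem (c : K4) : cst c ∈ K.pats := ⟨1, one_mem _, c, by rw [K.D_one, zero_add]⟩

theorem perm_mem {x : Vec} (hx : x ∈ K.pats) (π : A6) :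
    (fun i => x ((π : Equiv.Perm (Fin 6)).symm i)) ∈ K.pats := by
  obtain ⟨h, hh, c, rfl⟩ := hx
  obtain ⟨d, hd⟩ := K.D_conj hh π
  refine ⟨K.p π * h * (K.p π)⁻¹, K.conj_mem hh (K.p_fix π), c + d, ?_⟩
  rw [hd]
  funext i
  simp only [Pi.add_apply, cst]
  exact (by decide : ∀ (p c d : K4), p + c = p + d + (c + d)) _ _ _

set_option synthInstance.maxSize 2000 in
set_option synthInstance.maxHeartbeats 400000 in
set_option maxHeartbeats 1000000 in
/-- A nonconstant member of an invariant group gives all pairs with the same multiple. -/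
theorem pair_of_invariant (A : AddSubgroup Vec) (hc : ∀ a, cst a ∈ A)
    (hp : ∀ x ∈ A, ∀ π : A6, (fun i => x ((π : Equiv.Perm (Fin 6)).symm i)) ∈ A)
    {x : Vec} (hx : x ∈ A) {c d : Fin 6} (hcd : c ≠ d) {a b : Fin 6} (hab : a ≠ b) :
    pairV (x c + x d) a b ∈ A := by
  obtain ⟨a', b', e, f, h1, h2, h3, h4, h5, h6, ⟨ea, eb, ec, ed, fa, fb, fc, fd⟩, hcov⟩ :=
    (by decide +kernel : ∀ c d : Fin 6, c ≠ d →
      ∃ a b e f : Fin 6, a ≠ b ∧ e ≠ f ∧ a ≠ c ∧ a ≠ d ∧ b ≠ c ∧ b ≠ d ∧
        (e ≠ a ∧ e ≠ b ∧ e ≠ c ∧ e ≠ d ∧ f ≠ a ∧ f ≠ b ∧ f ≠ c ∧ f ≠ d) ∧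
        ∀ i, i = a ∨ i = b ∨ i = c ∨ i = d ∨ i = e ∨ i = f) c d hcd
  let π : A6 := ⟨Equiv.swap a' b' * Equiv.swap c d, by
    rw [Equiv.Perm.mem_alternatingGroup, map_mul, Equiv.Perm.sign_swap h1, Equiv.Perm.sign_swap hcd]; rfl⟩
  let σ : A6 := ⟨Equiv.swap c e * Equiv.swap d f, by
    rw [Equiv.Perm.mem_alternatingGroup, map_mul, Equiv.Perm.sign_swap (Ne.symm ec),
      Equiv.Perm.sign_swap (Ne.symm fd)]; rfl⟩
  have hy : x + (fun i => x ((π : Equiv.Perm (Fin 6)).symm i)) ∈ A := add_mem hx (hp x hx π)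
  have hz := add_mem (add_mem hy (hp _ hy σ)) (hc (x c + x d))
  have hfin : pairV (x c + x d) a' b' ∈ A := by
    convert hz using 1
    funext i
    have hs : ∀ j, (π : Equiv.Perm (Fin 6)).symm j = Equiv.swap c d (Equiv.swap a' b' j) := fun j => by
      rw [Equiv.symm_apply_eq]
      show j = Equiv.swap a' b' (Equiv.swap c d (Equiv.swap c d (Equiv.swap a' b' j)))
      simp
    have hs' : ∀ j, (σ : Equiv.Perm (Fin 6)).symm j = Equiv.swap d f (Equiv.swap c e j) := fun j => by
      rw [Equiv.symm_apply_eq]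
      show j = Equiv.swap c e (Equiv.swap d f (Equiv.swap d f (Equiv.swap c e j)))
      simp
    simp only [Pi.add_apply, pairV, cst, hs, hs']
    have u1 := Equiv.swap_apply_def (α := Fin 6)
    rcases hcov i with hi | hi | hi | hi | hi | hi <;> rw [hi] <;>
      simp [u1, h1, h2, h3, h4, h5, h6, hcd, ea, eb, ec, ed, fa, fb, fc, fd,
        Ne.symm h1, Ne.symm h2, Ne.symm h3, Ne.symm h4, Ne.symm h5, Ne.symm h6, Ne.symm hcd, Ne.symm ea,
        Ne.symm eb, Ne.symm ec, Ne.symm ed, Ne.symm fa, Ne.symm fb, Ne.symm fc, Ne.symm fd] <;>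
      (generalize x a' = k1, x b' = k2, x c = k3, x d = k4, x e = k5, x f = k6
       clear * -
       decide +revert)
  obtain ⟨τ, ta, tb⟩ := Frame.two_sets a' b' a b h1 hab
  convert hp _ hfin τ using 1
  funext i
  simp only [pairV, ← ta, ← tb, Equiv.symm_apply_eq]

theorem pair_mem {x : Vec} (hx : x ∈ K.pats) {c d : Fin 6} (hcd : c ≠ d) {a b : Fin 6} (hab : a ≠ b) :
    pairV (x c + x d) a b ∈ K.pats :=
  pair_of_invariant K.pats K.cst_mem (fun _ hy π => K.perm_mem hy π) hx hcd hab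

theorem forced_pair {μ : K4} :
    ∀ h ∈ K.S, ∀ γ, K.D h = pairV μ 0 1 + cst γ → μ = 0 ∧ γ = 0 ∨ (μ = (0, 1) ∨ μ = (1, 1)) ∧ γ = one := by
  intro h hh γ hD
  have ho := K.wt_D h
  rw [hD] at ho
  have himg := K.img_S hh (one1 2 one + one1 3 (0, 1))
  rw [hD] at himg
  have hrel : ∀ y, K.img h (one1 2 one + one1 3 (0, 1)) = y → R.Rel (K.e (cst one)) (K.e y) → False := by
    intro y hy hr
    refine K.wt_two _ Four.wt_two (hr.trans R (QRep.Rel.symm R ⟨h, ?_⟩))
    rw [← K.e_img, hy]
  rcases Four.forced μ γ ho with e | e | ⟨e, e'⟩ | e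
  · exact Or.inl e
  · exact (hrel _ himg (K.wt_four _ e)).elim
  · exact (hrel _ himg (K.wt_six _ e e')).elim
  · exact Or.inr e

theorem D_eq_cst {h : H} (hh : h ∈ K.S) {γ : K4} (hD : K.D h = cst γ) : h = 1 := by
  have hz : pairV 0 0 1 = (0 : Vec) := funext fun i => ite_self _
  rcases K.forced_pair (μ := 0) h hh γ (by rw [hz, zero_add]; exact hD) with ⟨-, rfl⟩ | ⟨e, -⟩
  · exact K.D_injective hh (one_mem _) (by rw [hD, K.D_one]; rfl)
  · exact absurd e (by decide)

theorem pair_cases {μ : K4} (hm : pairV μ 0 1 ∈ K.pats) : μ = 0 ∨ μ = (0, 1) ∨ μ = (1, 1) := by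
  obtain ⟨h, hh, c, hc⟩ := hm
  have hD : K.D h = pairV μ 0 1 + cst c := by rw [hc, add_assoc, vec_add_self, add_zero]
  exact (K.forced_pair h hh c hD).imp (fun e => e.1) (fun e => e.1)

/-- All translations are patterns in one multiple. -/
theorem exists_mult : ∃ μ : K4, (μ = (0, 1) ∨ μ = (1, 1)) ∧
    ∀ x ∈ K.pats, ∀ c d, x c + x d = 0 ∨ x c + x d = μ := by
  have h2 : ∀ x ∈ K.pats, ∀ c d, x c + x d = 0 ∨ x c + x d = (0, 1) ∨ x c + x d = (1, 1) := by
    intro x hx c d
    by_cases hcd : c = d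
    · subst hcd; exact Or.inl (add_self _)
    · exact K.pair_cases (K.pair_mem hx hcd (by decide : (0 : Fin 6) ≠ 1))
  by_cases hw : ∃ x ∈ K.pats, ∃ c d, x c + x d = (1, 1)
  · refine ⟨(1, 1), Or.inr rfl, fun x hx c d => ?_⟩
    rcases h2 x hx c d with e | e | e
    · exact Or.inl e
    · exfalso
      obtain ⟨y, hy, c', d', e'⟩ := hw
      have hcd : c ≠ d := fun h => by rw [h, add_self] at e; exact absurd e (by decide)
      have hcd' : c' ≠ d' := fun h => by rw [h, add_self] at e'; exact absurd e' (by decide)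
      have hab : (0 : Fin 6) ≠ 1 := by decide
      have := add_mem (K.pair_mem hx hcd hab) (K.pair_mem hy hcd' hab)
      rw [e, e', show pairV (0, 1) 0 1 + pairV (1, 1) 0 1 = pairV one 0 1 by decide] at this
      exact absurd (K.pair_cases this) (by decide)
    · exact Or.inr e
  · refine ⟨(0, 1), Or.inl rfl, fun x hx c d => ?_⟩
    rcases h2 x hx c d with e | e | e
    exacts [Or.inl e, Or.inr e, absurd ⟨x, hx, c, d, e⟩ hw]

/-- The pattern of an element. -/
noncomputable def patOf (μ : K4) (h : H) : Pat := fun i => if K.D h i + K.D h 2 = μ then 1 else 0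

/-- Every translation is a normalised pattern in one multiple, and the group has order at most sixteen. -/
theorem exists_pattern : ∃ μ : K4, (μ = (0, 1) ∨ μ = (1, 1)) ∧ Nat.card K.S ≤ 16 ∧
    ∀ h ∈ K.S, Norm (K.patOf μ h) ∧ K.D h = patV μ (K.patOf μ h) + cst (K.D h 2) := by
  obtain ⟨μ, hμ, hall⟩ := K.exists_mult
  have hμ0 : μ ≠ 0 := by rcases hμ with rfl | rfl <;> decide
  have key : ∀ h ∈ K.S, Norm (K.patOf μ h) ∧ K.D h = patV μ (K.patOf μ h) + cst (K.D h 2) := by
    intro h hh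
    have hm : K.D h ∈ K.pats := ⟨h, hh, 0, by rw [show cst 0 = (0 : Vec) from rfl, add_zero]⟩
    have hD : K.D h = patV μ (K.patOf μ h) + cst (K.D h 2) := by
      funext i
      rcases hall _ hm i 2 with e | e
      · have hP : K.patOf μ h i = 0 := if_neg (by rw [e]; exact Ne.symm hμ0)
        simp only [patV, Pi.add_apply, cst, hP, zero_ne_one, if_false, zero_add]
        exact (by decide : ∀ a b : K4, a + b = 0 → a = b) _ _ e
      · have hP : K.patOf μ h i = 1 := if_pos e
        simp only [patV, Pi.add_apply, cst, hP, if_true]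
        rw [← e, add_assoc, add_self, add_zero]
    refine ⟨⟨?_, ?_⟩, hD⟩
    · show (if K.D h 2 + K.D h 2 = μ then (1 : ZMod 2) else 0) = 0
      rw [add_self, if_neg (Ne.symm hμ0)]
    · have hs := K.sig_D hh.1
      rw [hD, sig_add, sig_cst, add_zero] at hs
      revert hs
      generalize K.patOf μ h = P
      rcases hμ with rfl | rfl <;> revert P <;> decide +kernel
  refine ⟨μ, hμ, ?_, key⟩
  let f : K.S → {P : Pat // Norm P} := fun h => ⟨K.patOf μ h, (key h h.2).1⟩
  have hf : Function.Injective f := by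
    rintro ⟨a, ha⟩ ⟨b, hb⟩ e
    have e' : K.patOf μ a = K.patOf μ b := congrArg Subtype.val e
    obtain ⟨c, hc⟩ := K.D_mul (K.S.inv_mem ha) hb
    obtain ⟨d, hd⟩ := K.D_mul (K.S.inv_mem ha) ha
    rw [inv_mul_cancel, K.D_one] at hd
    have hDa := (key a ha).2
    have hDb := (key b hb).2
    apply Subtype.ext
    refine inv_mul_eq_one.1 (K.D_eq_cst (γ := c + d + K.D a 2 + K.D b 2) (mul_mem (inv_mem ha) hb) ?_)
    rw [hc]
    funext i
    have h1 := congrFun hd i
    have h2 := congrFun hDa i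
    have h3 := congrFun hDb i
    rw [← e'] at h3
    simp only [Pi.add_apply, Pi.zero_apply, cst] at h1 h2 h3 ⊢
    generalize K.D a⁻¹ i = x1, K.D a i = x2, K.D b i = x3, patV μ (K.patOf μ a) i = x4, K.D a 2 = x5,
      K.D b 2 = x6 at h1 h2 h3 ⊢
    clear * - h1 h2 h3
    decide +kernel +revert
  refine (Nat.card_le_card_of_injective f hf).trans (le_of_eq ?_)
  rw [Nat.card_eq_fintype_card]
  decide +kernel

end Co

end CfsgLib.FischerTwoFour
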