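import Cfsg.Agent.Lib.FischerTwoFour.Orbits

/-!
The fixed space of an element of order five commuting with a fixed-point-free element `t` of order
three on the twelve-dimensional quadratic space: in the fixed space of an `x` fixing a singular
vector `s`, only the points of the `t`-line of `s` are orthogonal to that line.
-/

set_option autoImplicit false
set_option linter.unusedSectionVars false
set_option linter.style.haveILetI false

namespace CfsgLib.FischerTwoFour.QRep

variable {H V : Type*} [Group H] [Finite H] [AddCommGroup V] [Finite V] (R : QRep H V)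

theorem zmod_two_cases : ∀ k : ZMod 2, k = 0 ∨ k = 1 := by decide

set_option synthInstance.maxSize 1024 in
theorem zmod_two_span : ∀ (a c d : ZMod 2 × ZMod 2), a.1 = 1 → c.2 = 1 → d.1 + d.2 = 1 → ∀ y,
    y = 0 ∨ y = a ∨ y = c ∨ y = d ∨ y = a + c ∨ y = a + d ∨ y = c + d ∨ y = a + c + d := by
  decide +kernel

theorem five_perp {x t : H} (hx : x ^ 5 = 1) (hx1 : x ≠ 1) (ht : t ^ 3 = 1) (hxt : x * t = t * x)
    (htfpf : ∀ v, R.ρ t (R.ρ t v) + R.ρ t v + v = 0) {s : V} (hs0 : s ≠ 0) (hs : R.q s = 0)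
    (hxs : R.ρ x s = s) {v : V} (hv : R.ρ x v = v) (hvs : R.b v s = 0)
    (hvts : R.b v (R.ρ t s) = 0) :
    v = 0 ∨ v = s ∨ v = R.ρ t s ∨ v = s + R.ρ t s := by
  classical
  haveI := Fintype.ofFinite V
  obtain ⟨P, hP⟩ : ∃ P : V →+ V, ∀ v, P v = ∑ i ∈ Finset.range 5, R.ρ (x ^ i) v :=
    ⟨AddMonoidHom.mk' (fun v => ∑ i ∈ Finset.range 5, R.ρ (x ^ i) v) fun u v => by
      simp only [map_add, Finset.sum_add_distrib], fun v => rfl⟩
  have hxP : ∀ v, R.ρ x (P v) = P v := by
    intro v
    rw [hP, map_sum]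
    have e : ∀ i, R.ρ x (R.ρ (x ^ i) v) = R.ρ (x ^ (i + 1)) v := fun i => by
      rw [← R.mul_apply, ← pow_succ']
    rw [Finset.sum_congr rfl fun i _ => e i]
    simp only [Finset.sum_range_succ, Finset.sum_range_zero, zero_add, hx, pow_zero]
    abel
  have hpowfix : ∀ v, R.ρ x v = v → ∀ i, R.ρ (x ^ i) v = v := fun v hv i => by
    induction i with
    | zero => rw [pow_zero, R.one_apply]
    | succ i ih => rw [pow_succ', R.mul_apply, ih, hv]
  have hfix : ∀ v, R.ρ x v = v → P v = v := by
    intro v hv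
    rw [hP, Finset.sum_congr rfl fun i _ => hpowfix v hv i]
    simp only [Finset.sum_range_succ, Finset.sum_range_zero, zero_add, R.two]
  have hcomm : ∀ g : H, g * x = x * g → ∀ w, P (R.ρ g w) = R.ρ g (P w) := by
    intro g hg w
    rw [hP, hP, map_sum]
    refine Finset.sum_congr rfl fun i _ => ?_
    rw [← R.mul_apply, ← R.mul_apply, ((show Commute g x from hg).pow_right i).eq]
  have horth : ∀ a w, R.ρ x a = a → P w = 0 → R.b a w = 0 := by
    intro a w ha hw
    have e : ∀ i, R.b a (R.ρ (x ^ i) w) = R.b a w := fun i => by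
      induction i with
      | zero => rw [pow_zero, R.one_apply]
      | succ i ih =>
        rw [pow_succ', R.mul_apply]
        conv_lhs => rw [← ha]
        rw [R.b_inv, ih]
    have h0 : AddMonoidHom.mk' (R.b a) (R.b_add_right a) (P w) = 0 := by rw [hw, map_zero]
    rw [hP, map_sum] at h0
    simp only [AddMonoidHom.mk'_apply, e, Finset.sum_const, Finset.card_range] at h0
    generalize R.b a w = k at h0 ⊢
    revert h0; revert k; decide
  have hsplit : ∀ v, ∃ a w, R.ρ x a = a ∧ P w = 0 ∧ v = a + w := fun v =>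
    ⟨P v, v + P v, hxP v, by rw [map_add, hfix _ (hxP v), R.two], by
      rw [add_left_comm, R.two, add_zero]⟩
  have htfree : ∀ w : V, w ≠ 0 → R.ρ t w ≠ w := fun w hw0 e => hw0 (by
    have := htfpf w; rwa [e, e, R.two, zero_add] at this)
  -- the kernel
  let S : Finset V := Finset.univ.filter fun w => P w = 0 ∧ w ≠ 0
  have hmove : ∀ g : H, g * x = x * g → ∀ w ∈ S, R.ρ g w ∈ S := by
    intro g hg w hw
    obtain ⟨-, hw1, hw2⟩ := Finset.mem_filter.1 hw
    exact Finset.mem_filter.2 ⟨Finset.mem_univ _, by rw [hcomm g hg, hw1, map_zero],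
      fun e => hw2 (R.inj g (by rw [e, map_zero]))⟩
  have hdvd : ∀ T ⊆ S, (∀ w ∈ T, R.ρ x w ∈ T) → (∀ w ∈ T, R.ρ t w ∈ T) → 15 ∣ T.card := by
    intro T hT h1 h2
    have h5 : 5 ∣ T.card := R.dvd_card_of_free (by norm_num) hx T h1 fun w hw e =>
      (Finset.mem_filter.1 (hT hw)).2.2 (by rw [← hfix w e, (Finset.mem_filter.1 (hT hw)).2.1])
    have h3 : 3 ∣ T.card := R.dvd_card_of_free Nat.prime_three ht T h2 fun w hw =>
      htfree w (Finset.mem_filter.1 (hT hw)).2.2
    exact (Nat.Coprime.mul_dvd_of_dvd_of_dvd (by norm_num) h3 h5 : 3 * 5 ∣ T.card)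
  have dS := hdvd S Finset.Subset.rfl (hmove x rfl) (hmove t hxt.symm)
  -- the fixed space
  let Fx : AddSubgroup V := AddMonoidHom.eqLocus (R.ρ x) (AddMonoidHom.id V)
  have hFx : ∀ w, w ∈ Fx ↔ R.ρ x w = w := fun w => Iff.rfl
  have hcard : Nat.card Fx * (S.card + 1) = 4096 := by
    rw [← R.card_V]
    have e : P.range = Fx := by
      ext w
      exact ⟨by rintro ⟨u, rfl⟩; exact hxP u, fun hw => ⟨w, hfix w hw⟩⟩
    have h := AddSubgroup.card_eq_card_quotient_mul_card_addSubgroup P.ker
    rw [Nat.card_congr (QuotientAddGroup.quotientKerEquivRange P).toEquiv, e] at h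
    rw [h]
    congr 1
    have h1 : (Finset.univ.filter fun w : V => P w = 0) = insert 0 S := by
      ext w
      simp only [S, Finset.mem_filter, Finset.mem_univ, true_and, Finset.mem_insert]
      by_cases hw : w = 0 <;> simp [hw]
    rw [← Finset.card_insert_of_notMem (show (0 : V) ∉ S by simp [S]), ← h1,
      Nat.card_eq_fintype_card, ← Fintype.card_subtype]
    exact Fintype.card_congr (Equiv.subtypeEquivRight fun w => Iff.rfl)
  obtain ⟨k, hk, hk2⟩ := (Nat.dvd_prime_pow Nat.prime_two).1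
    (show S.card + 1 ∣ 2 ^ 12 from ⟨Nat.card Fx, by rw [mul_comm, hcard]; norm_num⟩)
  rw [hk2] at hcard
  have hk' : k = 0 ∨ k = 4 ∨ k = 8 ∨ k = 12 := by interval_cases k <;> omega
  have h16 : Nat.card Fx = 16 := by
    rcases hk' with rfl | rfl | rfl | rfl
    · exfalso
      have hS0 : S = ∅ := Finset.card_eq_zero.1 (by omega)
      refine hx1 (R.faithful x fun u => ?_)
      obtain ⟨a, w, ha, hw, rfl⟩ := hsplit u
      have : w = 0 := by
        by_contra hw0
        have : w ∈ S := Finset.mem_filter.2 ⟨Finset.mem_univ _, hw, hw0⟩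
        rw [hS0] at this; exact Finset.notMem_empty _ this
      rw [this, add_zero, ha]
    · exfalso
      have hS15 : S.card = 15 := by omega
      have memS : ∀ w, w ∈ S ↔ P w = 0 ∧ w ≠ 0 := fun w => by simp [S]
      have d := hdvd (S.filter fun w => R.q w = 0) (Finset.filter_subset _ _)
        (fun w hw => Finset.mem_filter.2 ⟨hmove x rfl w (Finset.mem_filter.1 hw).1,
          by rw [R.q_inv, (Finset.mem_filter.1 hw).2]⟩)
        (fun w hw => Finset.mem_filter.2 ⟨hmove t hxt.symm w (Finset.mem_filter.1 hw).1,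
          by rw [R.q_inv, (Finset.mem_filter.1 hw).2]⟩)
      have hle := Finset.card_filter_le S fun w => R.q w = 0
      have hcases : (S.filter fun w => R.q w = 0) = S ∨ (S.filter fun w => R.q w = 0) = ∅ := by
        rcases Nat.eq_zero_or_pos (S.filter fun w => R.q w = 0).card with h | h
        · exact Or.inr (Finset.card_eq_zero.1 h)
        · have := Nat.le_of_dvd h d
          exact Or.inl (Finset.eq_of_subset_of_card_le (Finset.filter_subset _ _) (by omega))
      obtain ⟨a, ha⟩ := Finset.card_pos.1 (show 0 < S.card by omega)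
      obtain ⟨b, hb, hba⟩ := Finset.exists_mem_ne (show 1 < S.card by omega) a
      obtain ⟨c, hc, hcn⟩ := Finset.exists_mem_notMem_of_card_lt_card
        (show ({a, b, a + b} : Finset V).card < S.card by
          have h1 := Finset.card_insert_le a ({b, a + b} : Finset V)
          have h2 := Finset.card_insert_le b ({a + b} : Finset V)
          have h3 := Finset.card_singleton (a + b)
          omega)
      simp only [Finset.mem_insert, Finset.mem_singleton, not_or] at hcn
      have neg : ∀ u : V, -u = u := fun u => neg_eq_of_add_eq_zero_left (R.two u)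
      have eq_of : ∀ u w : V, u + w = 0 → u = w := fun u w h => by
        rw [eq_neg_of_add_eq_zero_left h, neg]
      have hbc : b + c ∈ S := (memS _).2 ⟨by rw [map_add, ((memS b).1 hb).1, ((memS c).1 hc).1, add_zero],
        fun h => hcn.2.1 (eq_of _ _ h).symm⟩
      rcases hcases with h | h
      · have hq : ∀ u, P u = 0 → R.q u = 0 := fun u hu => by
          by_cases hu0 : u = 0
          · rw [hu0, R.q_zero]
          · exact (Finset.mem_filter.1 (h.symm ▸ (memS u).2 ⟨hu, hu0⟩ :
              u ∈ S.filter fun w => R.q w = 0)).2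
        refine ((memS a).1 ha).2 (R.nondeg a fun u => ?_)
        obtain ⟨f, w, hf, hw, rfl⟩ := hsplit u
        rw [R.b_add_right, R.b_comm a f, horth f a hf ((memS a).1 ha).1, zero_add]
        have e := R.q_add a w
        rw [hq _ ((memS a).1 ha).1, hq _ hw, hq (a + w) (by
          rw [map_add, ((memS a).1 ha).1, hw, add_zero]), add_zero, zero_add] at e
        exact e.symm
      · have h1 : ∀ u ∈ S, R.q u = 1 := fun u hu => (zmod_two_cases _).resolve_left fun e =>
          Finset.notMem_empty u (h ▸ Finset.mem_filter.2 ⟨hu, e⟩)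
        have hb1 : ∀ u w, u ∈ S → w ∈ S → u ≠ w → R.b u w = 1 := fun u w hu hw hne => by
          have e := R.q_add u w
          rw [h1 u hu, h1 w hw, h1 (u + w) ((memS _).2 ⟨by
            rw [map_add, ((memS u).1 hu).1, ((memS w).1 hw).1, add_zero],
            fun h => hne (eq_of _ _ h)⟩)] at e
          generalize R.b u w = k at e ⊢
          revert e; revert k; decide
        have e := R.b_add_right a b c
        rw [hb1 a (b + c) ha hbc (fun h => hcn.2.2 (by rw [h, add_right_comm, R.two, zero_add])),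
          hb1 a b ha hb (Ne.symm hba), hb1 a c ha hc (Ne.symm hcn.1)] at e
        exact absurd e (by decide)
    · omega
    · exfalso
      have h1 : Nat.card Fx = 1 := by omega
      have := AddSubgroup.eq_bot_of_card_eq Fx h1
      exact hs0 ((AddSubgroup.mem_bot).1 (this ▸ (hFx s).2 hxs))
  -- the pairing with the line of `s`
  set u := R.ρ t s with hu
  have hxu : R.ρ x u = u := by rw [hu, ← R.mul_apply, hxt, R.mul_apply, hxs]
  have hu0 : u ≠ 0 := fun e => hs0 (R.inj t (by rw [← hu, e, map_zero]))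
  have hsu0 : s + u ≠ 0 := fun e => htfree s hs0 (by
    rw [← hu, eq_neg_of_add_eq_zero_right e]; exact neg_eq_of_add_eq_zero_left (R.two s))
  have hbb : ∀ w, R.q w = 0 → R.b w w = 0 := fun w hw => by
    have e := R.q_add w w
    rwa [R.two, R.q_zero, hw, zero_add, zero_add, eq_comm] at e
  have hsu : R.b s u = 0 := by
    have h3 : s + u = R.ρ t u := by
      calc s + u = (s + u) + (R.ρ t u + u + s) := by rw [hu, htfpf, add_zero]
        _ = R.ρ t u + ((s + s) + (u + u)) := by abel
        _ = R.ρ t u := by rw [R.two, R.two, add_zero, add_zero]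
    have e := R.q_add s u
    rwa [h3, hu, R.q_inv, R.q_inv, hs, zero_add, zero_add, ← hu, eq_comm] at e
  let ψ : Fx →+ ZMod 2 × ZMod 2 := AddMonoidHom.mk' (fun w => (R.b w s, R.b w u)) fun a b =>
    Prod.ext (R.b_add _ _ _) (R.b_add _ _ _)
  have hnd : ∀ p : V, R.ρ x p = p → (∀ w, R.ρ x w = w → R.b w p = 0) → p = 0 := fun p hp h =>
    R.nondeg p fun w => by
      obtain ⟨a, w', ha, hw', rfl⟩ := hsplit w
      rw [R.b_add_right, horth p w' hp hw', add_zero, R.b_comm, h a ha]
  have hsurj : Function.Surjective ψ := by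
    obtain ⟨a, ha, ha1⟩ : ∃ a, R.ρ x a = a ∧ R.b a s = 1 := by
      by_contra hno
      push Not at hno
      exact hs0 (hnd s hxs fun w hw => (zmod_two_cases _).resolve_right (hno w hw))
    obtain ⟨c, hc, hc1⟩ : ∃ c, R.ρ x c = c ∧ R.b c u = 1 := by
      by_contra hno
      push Not at hno
      exact hu0 (hnd u hxu fun w hw => (zmod_two_cases _).resolve_right (hno w hw))
    obtain ⟨d, hd, hd1⟩ : ∃ d, R.ρ x d = d ∧ R.b d s + R.b d u = 1 := by
      by_contra hno
      push Not at hno
      exact hsu0 (hnd (s + u) (by rw [map_add, hxs, hxu]) fun w hw => by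
        rw [R.b_add_right]; exact (zmod_two_cases _).resolve_right (hno w hw))
    intro y
    rcases zmod_two_span (ψ ⟨a, ha⟩) (ψ ⟨c, hc⟩) (ψ ⟨d, hd⟩) ha1 hc1 hd1 y with
      rfl | rfl | rfl | rfl | rfl | rfl | rfl | rfl
    exacts [⟨0, map_zero ψ⟩, ⟨_, rfl⟩, ⟨_, rfl⟩, ⟨_, rfl⟩, ⟨_, map_add ψ _ _⟩, ⟨_, map_add ψ _ _⟩,
      ⟨_, map_add ψ _ _⟩, ⟨⟨a, ha⟩ + ⟨c, hc⟩ + ⟨d, hd⟩, by rw [map_add, map_add]⟩]
  have hker : Nat.card ψ.ker = 4 := by
    have h := AddSubgroup.card_eq_card_quotient_mul_card_addSubgroup ψ.ker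
    rw [h16, Nat.card_congr (QuotientAddGroup.quotientKerEquivOfSurjective ψ hsurj).toEquiv,
      Nat.card_prod, Nat.card_zmod] at h
    omega
  have hmem : ∀ (w : V) (hw : R.ρ x w = w), R.b w s = 0 → R.b w u = 0 →
      (⟨w, hw⟩ : Fx) ∈ ψ.ker := fun w hw h1 h2 => Prod.ext h1 h2
  by_contra hcon
  simp only [not_or] at hcon
  let T : Finset Fx := {0, ⟨s, hxs⟩, ⟨u, hxu⟩, ⟨s, hxs⟩ + ⟨u, hxu⟩, ⟨v, hv⟩}
  have hsu' : s ≠ u := fun e => hsu0 (by rw [← e, R.two])
  have hT : T.card = 5 := by
    simp only [T]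
    rw [Finset.card_insert_of_notMem, Finset.card_insert_of_notMem, Finset.card_insert_of_notMem,
      Finset.card_insert_of_notMem, Finset.card_singleton] <;>
    simp [Subtype.ext_iff, hs0, Ne.symm hs0, hu0, Ne.symm hu0, Ne.symm hsu0, hsu', Ne.symm hcon.1,
      Ne.symm hcon.2.1, Ne.symm hcon.2.2.1, Ne.symm hcon.2.2.2]
  have hsub : T ⊆ Finset.univ.filter fun w => w ∈ ψ.ker := by
    intro w hw
    refine Finset.mem_filter.2 ⟨Finset.mem_univ _, ?_⟩
    have hs' := hmem s hxs (hbb s hs) hsu
    have hu' := hmem u hxu (by rw [R.b_comm, hsu]) (hbb u (by rw [hu, R.q_inv, hs]))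
    simp only [T, Finset.mem_insert, Finset.mem_singleton] at hw
    rcases hw with rfl | rfl | rfl | rfl | rfl
    exacts [zero_mem _, hs', hu', add_mem hs' hu', hmem v hv hvs hvts]
  have := Finset.card_le_card hsub
  rw [hT, ← Fintype.card_subtype, ← Nat.card_eq_fintype_card] at this
  have e : Nat.card {w : Fx // w ∈ ψ.ker} = 4 := hker
  omega

end CfsgLib.FischerTwoFour.QRep
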