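import Mathlib
import Cfsg.Agent.Lib.FischerTwoFour.Orbits

/-!
Coordinates over four elements attached to a frame: the group becomes a subgroup of `GU_6(2)`.
-/

set_option autoImplicit false
set_option linter.unusedSectionVars false

namespace CfsgLib.FischerTwoFour

open CfsgLib.U43Six

namespace Frame

variable {H V : Type*} [Group H] [Finite H] [AddCommGroup V] [Fintype V] {R : QRep H V} (F : Frame R)
  {K : Type*} [Field K] [Fintype K] (D : Four K)

/-- The scalar of a code. -/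
noncomputable def val (D : Four K) : Option (ZMod 3) → K
  | none => 0
  | some j => ((D.w ^ j.val : Kˣ) : K)

omit [Finite H] [Fintype V] in
theorem val_bij : Function.Bijective (val D) := by
  classical
  refine (Fintype.bijective_iff_injective_and_card _).2 ⟨?_, by rw [D.card]; rfl⟩
  rintro (_ | a) (_ | b) h
  · rfl
  · exact absurd h.symm (Units.ne_zero _)
  · exact absurd h (Units.ne_zero _)
  · have h' : D.w ^ a.val = D.w ^ b.val := Units.ext h
    rw [pow_inj_mod, orderOf_w, Nat.mod_eq_of_lt (ZMod.val_lt a), Nat.mod_eq_of_lt (ZMod.val_lt b)] at h'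
    rw [ZMod.val_injective 3 h']

/-- The code of a scalar. -/
noncomputable def cod : K ≃ Option (ZMod 3) := (Equiv.ofBijective _ (val_bij (K := K) D)).symm

theorem cod_val (o : Option (ZMod 3)) : cod D (val D o) = o :=
  (Equiv.ofBijective _ (val_bij (K := K) D)).symm_apply_apply o

theorem val_cod (a : K) : val D (cod D a) = a :=
  (Equiv.ofBijective _ (val_bij (K := K) D)).apply_symm_apply a

theorem cod_zero : cod D (0 : K) = none := cod_val D none

theorem t_pow_eq (a b : ℕ) (h : a % 3 = b % 3) : F.t ^ a = F.t ^ b := by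
  rw [← Nat.div_add_mod a 3, ← Nat.div_add_mod b 3, pow_add, pow_add, pow_mul, pow_mul, F.t_cube,
    one_pow, one_pow, h]

theorem w_pow_eq (a b : ℕ) (h : a % 3 = b % 3) : (D.w : Kˣ) ^ a = D.w ^ b := by
  rw [pow_inj_mod, orderOf_w, h]

theorem val_succ (j : ZMod 3) : val D (some (j + 1)) = D.ω * val D (some j) := by
  show ((D.w ^ (j + 1).val : Kˣ) : K) = D.ω * ((D.w ^ j.val : Kˣ) : K)
  rw [w_pow_eq D (j + 1).val (j.val + 1) (by rw [ZMod.val_add, ZMod.val_one]; omega), pow_succ',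
    Units.val_mul, Four.w, Units.val_mk0]

theorem pt_succ (i : Fin 6) (j : ZMod 3) :
    ((F.pt i (some (j + 1))) : V) = R.ρ F.t ((F.pt i (some j)) : V) := by
  show R.ρ (F.t ^ (j + 1).val) _ = R.ρ F.t (R.ρ (F.t ^ j.val) _)
  rw [← R.mul_apply, ← pow_succ', F.t_pow_eq (j + 1).val (j.val + 1) (by rw [ZMod.val_add, ZMod.val_one]; omega)]

set_option synthInstance.maxSize 2000 in
theorem perm_three : ∀ a b c : ZMod 3, a ≠ b → c ≠ a → c ≠ b →
    (a = 0 ∧ b = 1 ∧ c = 2) ∨ (a = 0 ∧ b = 2 ∧ c = 1) ∨ (a = 1 ∧ b = 0 ∧ c = 2) ∨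
      (a = 1 ∧ b = 2 ∧ c = 0) ∨ (a = 2 ∧ b = 0 ∧ c = 1) ∨ (a = 2 ∧ b = 1 ∧ c = 0) := by
  decide

theorem sum_three {M : Type*} [AddCommGroup M] (two : ∀ m : M, m + m = 0) {g : ZMod 3 → M}
    (h : g 0 + g 1 + g 2 = 0) {a b c : ZMod 3} (hab : a ≠ b) (hc : c ≠ a ∧ c ≠ b) : g a + g b = g c := by
  have hsum : g a + g b + g c = 0 := by
    rw [← h]
    rcases perm_three a b c hab hc.1 hc.2 with ⟨rfl, rfl, rfl⟩ | ⟨rfl, rfl, rfl⟩ | ⟨rfl, rfl, rfl⟩ |
      ⟨rfl, rfl, rfl⟩ | ⟨rfl, rfl, rfl⟩ | ⟨rfl, rfl, rfl⟩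
    all_goals abel
  calc g a + g b = g a + g b + (g c + g c) := by rw [two, add_zero]
    _ = (g a + g b + g c) + g c := by abel
    _ = g c := by rw [hsum, zero_add]

theorem pt_rel (i : Fin 6) :
    ((F.pt i (some 0)) : V) + F.pt i (some 1) + F.pt i (some 2) = 0 := by
  rw [show (2 : ZMod 3) = 1 + 1 from rfl, F.pt_succ i 1, show (1 : ZMod 3) = 0 + 1 from rfl, F.pt_succ i 0,
    ← F.t_fpf ((F.pt i (some 0)) : V)]
  abel

theorem val_rel : val D (some 0) + val D (some 1) + val D (some 2) = 0 := by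
  rw [show (2 : ZMod 3) = 1 + 1 from rfl, val_succ D 1, show (1 : ZMod 3) = 0 + 1 from rfl, val_succ D 0,
    show val D (some 0) = 1 by
      show ((D.w ^ (0 : ZMod 3).val : Kˣ) : K) = 1
      rw [ZMod.val_zero, pow_zero, Units.val_one]]
  linear_combination D.root

theorem pt_add (i : Fin 6) (a b : K) :
    ((F.pt i (cod D (a + b))) : V) = F.pt i (cod D a) + F.pt i (cod D b) := by
  obtain ⟨oa, rfl⟩ := (val_bij (K := K) D).2 a
  obtain ⟨ob, rfl⟩ := (val_bij (K := K) D).2 b
  rw [cod_val, cod_val]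
  rcases oa with _ | a
  · show ((F.pt i (cod D (0 + val D ob))) : V) = 0 + (F.pt i ob : V)
    rw [zero_add, zero_add, cod_val]
  rcases ob with _ | b
  · show ((F.pt i (cod D (val D (some a) + 0))) : V) = (F.pt i (some a) : V) + 0
    rw [add_zero, add_zero, cod_val]
  by_cases hab : a = b
  · subst hab
    rw [D.add_self, cod_zero, R.two]
    rfl
  obtain ⟨c, hc⟩ : ∃ c, c ≠ a ∧ c ≠ b :=
    (by decide : ∀ a b : ZMod 3, ∃ c, c ≠ a ∧ c ≠ b) a b
  rw [sum_three (fun x => D.add_self x) (g := fun j => val D (some j)) (val_rel D) hab hc, cod_val,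
    sum_three (M := V) R.two (g := fun j => ((F.pt i (some j)) : V)) (F.pt_rel i) hab hc]

theorem pt_om (i : Fin 6) (a : K) :
    ((F.pt i (cod D (D.ω * a))) : V) = R.ρ F.t ((F.pt i (cod D a)) : V) := by
  obtain ⟨oa, rfl⟩ := (val_bij (K := K) D).2 a
  rcases oa with _ | j
  · show ((F.pt i (cod D (D.ω * 0))) : V) = R.ρ F.t ((F.pt i (cod D (val D none))) : V)
    rw [mul_zero, cod_zero, cod_val]
    exact (map_zero (R.ρ F.t)).symm
  · rw [← val_succ D j, cod_val, cod_val, F.pt_succ]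

/-- The coordinate map. -/
noncomputable def lam : (Fin 6 → K) →+ V :=
  AddMonoidHom.mk' (fun x => F.Φ fun i => cod D (x i)) fun x y => by
    simp only [Φ, ← Finset.sum_add_distrib]
    exact Finset.sum_congr rfl fun i _ => F.pt_add D i (x i) (y i)

theorem lam_apply (x : Fin 6 → K) : F.lam D x = F.Φ fun i => cod D (x i) := rfl

theorem lam_bij : Function.Bijective (F.lam D) :=
  F.Φ_bij.comp (Function.Bijective.piMap fun _ => (cod D).bijective)

theorem lam_om (x : Fin 6 → K) : F.lam D (D.ω • x) = R.ρ F.t (F.lam D x) := by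
  rw [lam_apply, lam_apply, Φ, Φ, map_sum]
  exact Finset.sum_congr rfl fun i _ => F.pt_om D i (x i)

theorem lam_val (f : Code) : F.lam D (fun i => val D (f i)) = F.Φ f := by
  rw [lam_apply]; simp only [cod_val]

theorem cube_term (a : K) [Decidable (cod D a ≠ none)] :
    a * a ^ 2 = if cod D a ≠ none then 1 else 0 := by
  by_cases h : cod D a ≠ none
  · rw [if_pos h, ← pow_succ']
    exact D.cube fun e => h (by rw [e, cod_zero])
  · rw [if_neg h]
    rw [not_not] at h
    rw [← val_cod D a, h]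
    exact zero_mul _

theorem herm_self (x : Fin 6 → K) :
    Cfsg.hermForm 6 K 2 x x = if R.q (F.lam D x) = 0 then 0 else 1 := by
  classical
  rw [lam_apply, F.q_Φ, Cfsg.hermForm, Finset.sum_congr rfl fun i _ => cube_term D (x i), Finset.sum_boole]
  show ((wt fun i => cod D (x i) : ℕ) : K) = _
  generalize (wt fun i => cod D (x i)) = n
  have : CharP K 2 := CharTwo.of_one_ne_zero_of_two_eq_zero one_ne_zero D.two
  rcases Nat.even_or_odd n with h | h
  · rw [if_pos ((ZMod.natCast_eq_zero_iff_even).2 h), CharTwo.natCast_eq_ite, if_pos h]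
  · rw [if_neg (fun e => (Nat.not_even_iff_odd.2 h) ((ZMod.natCast_eq_zero_iff_even).1 e)),
      CharTwo.natCast_eq_ite, if_neg (Nat.not_even_iff_odd.2 h)]

theorem trace_det : ∀ c c' : K, c + c ^ 2 = c' + c' ^ 2 → D.ω * c + (D.ω * c) ^ 2 = D.ω * c' + (D.ω * c') ^ 2 →
    c = c' := by
  intro c c' h1 h2
  have h3 : (D.ω - D.ω ^ 2) * (c - c') = 0 := by linear_combination h2 - D.ω ^ 2 * h1
  rw [show D.ω - D.ω ^ 2 = 1 by linear_combination -D.root + D.ω * D.two, one_mul, sub_eq_zero] at h3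
  exact h3

/-- An element of `H` in coordinates. -/
noncomputable def coMap (h : H) : (Fin 6 → K) →+ (Fin 6 → K) :=
  AddMonoidHom.mk' (fun x => (Equiv.ofBijective _ (F.lam_bij D)).symm (R.ρ h (F.lam D x))) fun x y => by
    apply (F.lam_bij D).1
    simp only [map_add, Equiv.ofBijective_apply_symm_apply (F.lam D) (F.lam_bij D)]

theorem lam_coMap (h : H) (x : Fin 6 → K) : F.lam D (F.coMap D h x) = R.ρ h (F.lam D x) :=
  Equiv.ofBijective_apply_symm_apply (F.lam D) (F.lam_bij D) _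

theorem coMap_om (h : H) (x : Fin 6 → K) : F.coMap D h (D.ω • x) = D.ω • F.coMap D h x := by
  apply (F.lam_bij D).1
  rw [lam_coMap, lam_om, lam_om, lam_coMap, ← R.mul_apply, F.t_comm, R.mul_apply]

theorem smul_cases (a : K) : a = 0 ∨ a = 1 ∨ a = D.ω ∨ a = D.ω + 1 := by
  obtain ⟨n, hn, rfl⟩ := e4_surj D a
  interval_cases n <;> simp [e4]

theorem coMap_smul (h : H) (a : K) (x : Fin 6 → K) : F.coMap D h (a • x) = a • F.coMap D h x := by
  rcases smul_cases D a with rfl | rfl | rfl | rfl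
  · rw [zero_smul, zero_smul, map_zero]
  · rw [one_smul, one_smul]
  · exact F.coMap_om D h x
  · rw [add_smul, add_smul, one_smul, one_smul, map_add, F.coMap_om]

theorem herm_conj_symm (D : Four K) (x y : Fin 6 → K) : Cfsg.hermForm 6 K 2 y x = Cfsg.hermForm 6 K 2 x y ^ 2 := by
  have : CharP K 2 := CharTwo.of_one_ne_zero_of_two_eq_zero one_ne_zero D.two
  rw [Cfsg.hermForm, Cfsg.hermForm, CharTwo.sum_sq]
  refine Finset.sum_congr rfl fun i _ => ?_
  rw [mul_pow, ← pow_mul, show 2 * 2 = 4 from rfl, D.frob]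
  ring

theorem herm_coMap (h : H) (x y : Fin 6 → K) :
    Cfsg.hermForm 6 K 2 (F.coMap D h x) (F.coMap D h y) = Cfsg.hermForm 6 K 2 x y := by
  have hself : ∀ z, Cfsg.hermForm 6 K 2 (F.coMap D h z) (F.coMap D h z) = Cfsg.hermForm 6 K 2 z z :=
    fun z => by rw [F.herm_self D, F.herm_self D, lam_coMap, R.q_inv]
  have htr : ∀ x y, Cfsg.hermForm 6 K 2 (F.coMap D h x) (F.coMap D h y) +
      Cfsg.hermForm 6 K 2 (F.coMap D h x) (F.coMap D h y) ^ 2 =
        Cfsg.hermForm 6 K 2 x y + Cfsg.hermForm 6 K 2 x y ^ 2 := by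
    intro x y
    have e := hself (x + y)
    rw [map_add] at e
    simp only [ClassicalGroups.hermForm_add_left, ClassicalGroups.hermForm_add_right (Four.card' D)] at e
    rw [hself x, hself y, herm_conj_symm D (F.coMap D h x) (F.coMap D h y), herm_conj_symm D x y] at e
    linear_combination e
  refine trace_det D _ _ (htr x y) ?_
  have e := htr (D.ω • x) y
  rw [F.coMap_om] at e
  simpa only [ClassicalGroups.hermForm_smul_left] using e

theorem exists_gu (h : H) : ∃ g : G6 K, ∀ x, act g x = F.coMap D h x := by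
  obtain ⟨g, hg⟩ := ClassicalGroups.exists_GU_of_preserving (Four.card' D)
    { toFun := F.coMap D h, map_add' := map_add _, map_smul' := F.coMap_smul D h } (F.herm_coMap D h)
  exact ⟨g, hg⟩

/-- The homomorphism into `GU_6(2)`. -/
noncomputable def gu : H →* G6 K :=
  MonoidHom.mk' (fun h => (F.exists_gu D h).choose) fun a b => by
    have hs := fun h x => (F.exists_gu D h).choose_spec x
    refine act_ext fun i => ?_
    rw [act_mul, hs, hs, hs]
    apply (F.lam_bij D).1
    rw [lam_coMap, lam_coMap, lam_coMap, R.mul_apply]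

theorem lam_gu (h : H) (x : Fin 6 → K) : F.lam D (act (F.gu D h) x) = R.ρ h (F.lam D x) := by
  rw [show act (F.gu D h) x = F.coMap D h x from (F.exists_gu D h).choose_spec x, lam_coMap]

theorem gu_injective : Function.Injective (F.gu D) := by
  intro a b hab
  refine inv_mul_eq_one.1 (R.faithful _ fun v => ?_)
  obtain ⟨x, rfl⟩ := (F.lam_bij D).2 v
  rw [R.mul_apply, ← F.lam_gu D b x, ← hab, F.lam_gu D a x, R.inv_apply]

end Frame

end CfsgLib.FischerTwoFour
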