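import Mathlib
import Cfsg.Agent.Lib.FischerTwoFour.Scalars
import Cfsg.Agent.Lib.FischerTwoFour.Types
import Cfsg.Agent.Lib.ThreeTrans.Tower.UnitaryPerp

/-!
The stabiliser of a vector of weight two acts on the four dimensional quotient; the kernel has order
at most two.
-/

set_option autoImplicit false
set_option linter.unusedSectionVars false

namespace CfsgLib.FischerTwoFour

open CfsgLib.U43Six CfsgLib.ClassicalGroups Matrix

section Vec

variable {K : Type*} [Field K] [Fintype K]

/-- The vector of weight two. -/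
def v2 : Fin 6 → K := ![1, 1, 0, 0, 0, 0]

/-- Padding with two zeros. -/
def ext6 (z : Fin 4 → K) : Fin 6 → K := ![0, 0, z 0, z 1, z 2, z 3]

/-- The last four coordinates. -/
def tl4 (x : Fin 6 → K) : Fin 4 → K := ![x 2, x 3, x 4, x 5]

theorem tl4_ext6 (z : Fin 4 → K) : tl4 (ext6 z) = z := by
  funext l; fin_cases l <;> rfl

theorem herm_v2 (D : Four K) (x : Fin 6 → K) : Cfsg.hermForm 6 K 2 x v2 = x 0 + x 1 := by
  simp [Cfsg.hermForm, v2, Fin.sum_univ_six]

theorem herm_ext (D : Four K) (z z' : Fin 4 → K) (c c' : K) :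
    Cfsg.hermForm 6 K 2 (ext6 z + c • v2) (ext6 z' + c' • v2) = Cfsg.hermForm 4 K 2 z z' := by
  simp [Cfsg.hermForm, v2, ext6, Fin.sum_univ_six, Fin.sum_univ_four]
  linear_combination c * c' ^ 2 * D.two

theorem split_perp {x : Fin 6 → K} (h : x 1 = x 0) : x = ext6 (tl4 x) + x 0 • v2 := by
  funext i; fin_cases i <;> simp [ext6, tl4, v2, h]

theorem ext6_add (z z' : Fin 4 → K) : ext6 (z + z') = ext6 z + ext6 z' := by
  funext i; fin_cases i <;> simp [ext6]

theorem ext6_smul (a : K) (z : Fin 4 → K) : ext6 (a • z) = a • ext6 z := by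
  funext i; fin_cases i <;> simp [ext6]

theorem tl4_add (x y : Fin 6 → K) : tl4 (x + y) = tl4 x + tl4 y := by
  funext l; fin_cases l <;> simp [tl4]

theorem tl4_smul (a : K) (x : Fin 6 → K) : tl4 (a • x) = a • tl4 x := by
  funext l; fin_cases l <;> simp [tl4]

end Vec

/-- A group of order `25920` that is simple has no proper subgroup of index at most eight. -/
theorem eq_top_of_index {S : Type*} [Group S] [Finite S] [IsSimpleGroup S] (hS : Nat.card S = 25920)
    (Y : Subgroup S) (hY : 25920 ≤ Nat.card Y * 6) : Y = ⊤ := by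
  classical
  by_contra hne
  have hidx : Y.index ≤ 6 := by
    have h := Y.card_mul_index
    rw [hS] at h
    by_contra hgt
    have : Nat.card Y * 7 ≤ Nat.card Y * Y.index := Nat.mul_le_mul_left _ (by omega)
    omega
  rcases (MulAction.toPermHom S (S ⧸ Y)).normal_ker.eq_bot_or_eq_top with h | h
  · have := Nat.card_le_card_of_injective _ ((MonoidHom.ker_eq_bot_iff _).1 h)
    rw [hS, Nat.card_perm, ← Subgroup.index_eq_card] at this
    have h2 : Y.index.factorial ≤ Nat.factorial 6 := Nat.factorial_le hidx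
    have h3 : Nat.factorial 6 = 720 := rfl
    omega
  · rw [← Subgroup.normalCore_eq_ker] at h
    exact hne (top_le_iff.1 (h ▸ Y.normalCore_le))

namespace Frame

variable {H V : Type*} [Group H] [Finite H] [AddCommGroup V] [Fintype V] {R : QRep H V} (F : Frame R)
  {K : Type*} [Field K] [Fintype K] (D : Four K)

theorem lam_v2 : F.lam D v2 = F.Φ ![some 0, some 0, none, none, none, none] := by
  rw [← F.lam_val D]
  congr 1
  funext i
  fin_cases i <;> simp [v2, val]

/-- The stabiliser of the vector of weight two. -/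
noncomputable def st2 : Subgroup H := R.stab (F.lam D v2)

theorem act_v2 {h : H} (hh : h ∈ F.st2 D) : act (F.gu D h) v2 = v2 :=
  (F.lam_bij D).1 ((F.lam_gu D h v2).trans hh)

theorem perp_eq {h : H} (hh : h ∈ F.st2 D) (z : Fin 4 → K) :
    act (F.gu D h) (ext6 z) 1 = act (F.gu D h) (ext6 z) 0 := by
  have e := herm_act (F.gu D h) (ext6 z) v2
  rw [F.act_v2 D hh, herm_v2 D, herm_v2 D] at e
  rw [show (ext6 z : Fin 6 → K) 0 = 0 from rfl, show (ext6 z : Fin 6 → K) 1 = 0 from rfl, add_zero] at e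
  linear_combination e - act (F.gu D h) (ext6 z) 0 * D.two

theorem exists_quot (h : F.st2 D) : ∃ g : ↥(Cfsg.GU 4 K 2), ∀ z, g.1.val *ᵥ z = tl4 (act (F.gu D h) (ext6 z)) := by
  obtain ⟨g, hg⟩ := exists_GU_of_preserving (Four.card' D)
    { toFun := fun z => tl4 (act (F.gu D h) (ext6 z))
      map_add' := fun z z' => by rw [ext6_add, act_add, tl4_add]
      map_smul' := fun a z => by rw [ext6_smul, act_smul, tl4_smul]; rfl }
    (fun z z' => by
      show Cfsg.hermForm 4 K 2 (tl4 (act (F.gu D h) (ext6 z))) (tl4 (act (F.gu D h) (ext6 z'))) = _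
      have e := herm_act (F.gu D h) (ext6 z) (ext6 z')
      rw [split_perp (F.perp_eq D h.2 z), split_perp (F.perp_eq D h.2 z'), herm_ext D] at e
      rw [e]
      have e2 := herm_ext D z z' 0 0
      rwa [zero_smul, add_zero, add_zero] at e2)
  exact ⟨g, hg⟩

/-- The action on the four dimensional quotient. -/
noncomputable def quot4 : F.st2 D →* ↥(Cfsg.GU 4 K 2) :=
  MonoidHom.mk' (fun h => (F.exists_quot D h).choose) fun a b => by
    have hs := fun h z => (F.exists_quot D h).choose_spec z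
    refine Subtype.ext (Units.ext (Matrix.ext_of_mulVec_single fun i => ?_))
    rw [hs]
    show _ = ((F.exists_quot D a).choose * (F.exists_quot D b).choose).1.val *ᵥ _
    rw [GU_mul_mulVec, hs, hs]
    show tl4 (act (F.gu D ((a : H) * b)) (ext6 _)) = _
    rw [map_mul, act_mul]
    conv_lhs => rw [split_perp (F.perp_eq D b.2 _)]
    rw [act_add, act_smul, F.act_v2 D a.2, tl4_add, tl4_smul]
    have hv : tl4 (v2 : Fin 6 → K) = 0 := by funext l; fin_cases l <;> rfl
    rw [hv, smul_zero, add_zero]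

theorem quot4_val (h : F.st2 D) (z : Fin 4 → K) :
    (F.quot4 D h).1.val *ᵥ z = tl4 (act (F.gu D h) (ext6 z)) :=
  (F.exists_quot D h).choose_spec z

theorem ker_tl {h : F.st2 D} (hk : h ∈ (F.quot4 D).ker) (z : Fin 4 → K) :
    act (F.gu D h) (ext6 z) = ext6 z + act (F.gu D h) (ext6 z) 0 • v2 := by
  have e := F.quot4_val D h z
  rw [MonoidHom.mem_ker.1 hk, GU_one_mulVec] at e
  conv_lhs => rw [split_perp (F.perp_eq D h.2 z)]
  rw [← e]

/-- The shift of a kernel element. -/
noncomputable def shift : (F.quot4 D).ker →* Multiplicative (Fin 4 → K) :=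
  MonoidHom.mk' (fun h => Multiplicative.ofAdd fun l => act (F.gu D (h : F.st2 D)) (ext6 (Pi.single l 1)) 0)
    fun a b => by
      apply Multiplicative.toAdd.injective
      funext l
      show act (F.gu D (((a : F.st2 D) : H) * ((b : F.st2 D) : H))) (ext6 (Pi.single l 1)) 0 = _ + _
      rw [map_mul, act_mul]
      conv_lhs => rw [F.ker_tl D b.2]
      rw [act_add, act_smul, F.act_v2 D (a : F.st2 D).2]
      simp [v2]

theorem shift_apply (h : (F.quot4 D).ker) (l : Fin 4) :
    Multiplicative.toAdd (F.shift D h) l = act (F.gu D (h : F.st2 D)) (ext6 (Pi.single l 1)) 0 := rfl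

theorem exists_diag (d : Fin 6 → ZMod 3) (hd : ∑ i, d i = 0) :
    ∃ h : H, ∀ x i, act (F.gu D h) x i = ((D.w ^ (d i).val : Kˣ) : K) * x i := by
  obtain ⟨h, hh⟩ := F.diag d hd
  refine ⟨h, fun x => ?_⟩
  suffices key : act (F.gu D h) x = fun i => ((D.w ^ (d i).val : Kˣ) : K) * x i from congrFun key
  apply (F.lam_bij D).1
  rw [lam_gu, lam_apply, lam_apply, Φ, Φ, map_sum]
  refine Finset.sum_congr rfl fun i _ => ?_
  obtain ⟨o, ho⟩ := (val_bij (K := K) D).2 (x i)
  rw [← ho, cod_val, hh i _ (F.pt i o).2]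
  rcases o with _ | j
  · show R.ρ _ (0 : V) = _
    rw [map_zero, show val D none = (0 : K) from rfl, mul_zero, cod_zero]
    rfl
  · rw [show ((D.w ^ (d i).val : Kˣ) : K) * val D (some j) = val D (some (d i + j)) by
      show _ * ((D.w ^ j.val : Kˣ) : K) = ((D.w ^ (d i + j).val : Kˣ) : K)
      rw [← Units.val_mul, ← pow_add, w_pow_eq D (d i + j).val ((d i).val + j.val) (by rw [ZMod.val_add]; omega)],
      cod_val]
    exact F.t_pow_add _ _ _

theorem exists_mono (τ : A6) : ∃ h : H, ∀ x i, act (F.gu D h) x ((τ : Equiv.Perm (Fin 6)) i) =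
    ((D.w ^ (F.δ τ i).val : Kˣ) : K) * x i := by
  refine ⟨F.g τ, fun x => ?_⟩
  have key : act (F.gu D (F.g τ)) x =
      fun k => ((D.w ^ (F.δ τ ((τ : Equiv.Perm (Fin 6)).symm k)).val : Kˣ) : K) *
        x ((τ : Equiv.Perm (Fin 6)).symm k) := by
    apply (F.lam_bij D).1
    rw [lam_gu, lam_apply, lam_apply, g_Φ]
    congr 1
    funext k
    rw [move]
    obtain ⟨o, ho⟩ := (val_bij (K := K) D).2 (x ((τ : Equiv.Perm (Fin 6)).symm k))
    rw [← ho, cod_val]
    rcases o with _ | j
    · rw [show val D none = (0 : K) from rfl, mul_zero, cod_zero]; rfl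
    · rw [show ((D.w ^ (F.δ τ ((τ : Equiv.Perm (Fin 6)).symm k)).val : Kˣ) : K) * val D (some j) =
          val D (some (j + F.δ τ ((τ : Equiv.Perm (Fin 6)).symm k))) by
        show _ * ((D.w ^ j.val : Kˣ) : K) = ((D.w ^ (j + F.δ τ _).val : Kˣ) : K)
        rw [← Units.val_mul, ← pow_add, w_pow_eq D (j + F.δ τ _).val
          ((F.δ τ ((τ : Equiv.Perm (Fin 6)).symm k)).val + j.val) (by rw [ZMod.val_add]; omega)],
        cod_val]
      rfl
  intro i
  rw [key]
  simp only [Equiv.symm_apply_apply]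

/-- The index of a tail coordinate. -/
def emb4 : Fin 4 → Fin 6 := ![2, 3, 4, 5]

theorem emb4_ne : ∀ l : Fin 4, emb4 l ≠ 0 ∧ emb4 l ≠ 1 := by decide

theorem emb4_inj : Function.Injective emb4 := by decide

theorem emb4_cover : ∀ i : Fin 6, i ≠ 0 → i ≠ 1 → ∃ n, emb4 n = i := by decide

theorem ext6_single (l : Fin 4) : ext6 (Pi.single l (1 : K)) = Pi.single (emb4 l) 1 := by
  funext i; fin_cases l <;> fin_cases i <;> simp [ext6, emb4]

theorem v2_val (i : Fin 6) : (v2 : Fin 6 → K) i = if (i : ℕ) < 2 then 1 else 0 := by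
  fin_cases i <;> simp [v2]

theorem ker_single (k : (F.quot4 D).ker) (l : Fin 4) :
    act (F.gu D ((k : F.st2 D) : H)) (Pi.single (emb4 l) 1) =
      Pi.single (emb4 l) 1 + Multiplicative.toAdd (F.shift D k) l • v2 := by
  rw [F.shift_apply D k l, ← ext6_single l]
  exact F.ker_tl D k.2 _

theorem conj_shift {h : H} (hh : h ∈ F.st2 D) (k : (F.quot4 D).ker) {l m : Fin 4} {u : K}
    (hu : act (F.gu D h) (Pi.single (emb4 l) 1) = u • Pi.single (emb4 m) 1) :
    ∃ k' : (F.quot4 D).ker, ((k' : F.st2 D) : H) = h * ((k : F.st2 D) : H) * h⁻¹ ∧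
      u * Multiplicative.toAdd (F.shift D k') m = Multiplicative.toAdd (F.shift D k) l := by
  let hs : F.st2 D := ⟨h, hh⟩
  have hmem : hs * (k : F.st2 D) * hs⁻¹ ∈ (F.quot4 D).ker := by
    rw [MonoidHom.mem_ker, map_mul, map_mul, MonoidHom.mem_ker.1 k.2, mul_one, map_inv, mul_inv_cancel]
  obtain ⟨k', hk'⟩ : ∃ k' : (F.quot4 D).ker, ((k' : F.st2 D) : H) = h * ((k : F.st2 D) : H) * h⁻¹ :=
    ⟨⟨_, hmem⟩, by simp only [Subgroup.coe_mul, Subgroup.coe_inv, hs]⟩
  refine ⟨k', hk', ?_⟩
  have e : act (F.gu D ((k' : F.st2 D) : H)) (act (F.gu D h) (Pi.single (emb4 l) 1)) =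
      act (F.gu D h) (act (F.gu D ((k : F.st2 D) : H)) (Pi.single (emb4 l) 1)) := by
    rw [← act_mul, ← act_mul, ← map_mul, ← map_mul, hk', inv_mul_cancel_right]
  rw [hu, act_smul, F.ker_single D k, act_add, act_smul, F.act_v2 D hh, hu, F.ker_single D k'] at e
  have e0 := congrFun e 0
  simp only [Pi.smul_apply, Pi.add_apply, smul_eq_mul, show (v2 : Fin 6 → K) 0 = 1 from rfl,
    Pi.single_eq_of_ne (emb4_ne m).1.symm, mul_zero, zero_add, mul_one] at e0
  exact e0

theorem lm_exists : ∀ l : Fin 4, ∀ m : Fin 4, ∃ m' : Fin 4, m' ≠ l ∧ m' ≠ m := by decide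

/-- A nonzero shift makes the kernel large. -/
theorem shift_surj {k₀ : (F.quot4 D).ker} (hne : F.shift D k₀ ≠ 1) : Function.Surjective (F.shift D) := by
  classical
  let S : AddSubgroup (Fin 4 → K) :=
    { carrier := {c | ∃ k, F.shift D k = Multiplicative.ofAdd c}
      zero_mem' := ⟨1, by rw [map_one]; rfl⟩
      add_mem' := by
        rintro a b ⟨k, hk⟩ ⟨k', hk'⟩
        exact ⟨k * k', by rw [map_mul, hk, hk']; rfl⟩
      neg_mem' := by
        rintro a ⟨k, hk⟩
        exact ⟨k⁻¹, by rw [map_inv, hk]; rfl⟩ }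
  have memS : ∀ {c}, c ∈ S → ∃ k, Multiplicative.toAdd (F.shift D k) = c := fun ⟨k, hk⟩ => ⟨k, by rw [hk]; rfl⟩
  -- diagonal scalings
  have hscale : ∀ (d : Fin 4 → ZMod 3), ∑ l, d l = 0 → ∀ c ∈ S,
      (fun l => ((D.w ^ (d l).val : Kˣ) : K) ^ 2 * c l) ∈ S := by
    intro d hd c hc
    obtain ⟨k, hk⟩ := memS hc
    let d6 : Fin 6 → ZMod 3 := ![0, 0, d 0, d 1, d 2, d 3]
    have hd6 : ∑ i, d6 i = 0 := by
      rw [Fin.sum_univ_four] at hd
      simp [d6, Fin.sum_univ_six, ← hd]
    obtain ⟨h, hh⟩ := F.exists_diag D d6 hd6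
    have hmem : h ∈ F.st2 D := by
      refine (F.lam_gu D h v2).symm.trans (congrArg (F.lam D) (funext fun i => ?_))
      rw [hh]
      fin_cases i <;> simp [d6, v2]
    have hde : ∀ l, d6 (emb4 l) = d l := fun l => by fin_cases l <;> rfl
    have hact : ∀ l, act (F.gu D h) (Pi.single (emb4 l) (1 : K)) =
        ((D.w ^ (d l).val : Kˣ) : K) • Pi.single (emb4 l) 1 := fun l => funext fun i => by
      rw [hh, Pi.smul_apply, smul_eq_mul]
      by_cases hi : i = emb4 l
      · subst hi; rw [hde]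
      · rw [Pi.single_eq_of_ne hi, mul_zero, mul_zero]
    obtain ⟨k', hk', -⟩ := F.conj_shift D hmem k (hact 0)
    refine ⟨k', ?_⟩
    apply Multiplicative.toAdd.injective
    funext l
    obtain ⟨k'', hk'', e⟩ := F.conj_shift D hmem k (hact l)
    have : k'' = k' := Subtype.ext (Subtype.ext (hk''.trans hk'.symm))
    subst this
    rw [toAdd_ofAdd, ← hk]
    rw [← e, ← mul_assoc, ← pow_succ, D.cube (Units.ne_zero _), one_mul]
  -- swaps
  have hswap : ∀ l m : Fin 4, l ≠ m → ∀ c ∈ S, c l ≠ 0 → ∃ c' ∈ S, c' m ≠ 0 ∧ ∀ n, n ≠ m → n ≠ l → (c n = 0 → c' n = 0) ∧ (c m = 0 → c' l = 0) := by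
    intro l m hlm c hc hcl
    obtain ⟨k, hk⟩ := memS hc
    have hne : emb4 l ≠ emb4 m := fun e => hlm (emb4_inj e)
    let τ : A6 := ⟨Equiv.swap 0 1 * Equiv.swap (emb4 l) (emb4 m), by
      rw [Equiv.Perm.mem_alternatingGroup, map_mul, Equiv.Perm.sign_swap (by decide), Equiv.Perm.sign_swap hne]
      rfl⟩
    obtain ⟨g, hg⟩ := F.exists_mono D τ
    let d : Fin 6 → ZMod 3 := Pi.single 0 (-F.δ τ 1) + Pi.single 1 (-F.δ τ 0) + Pi.single (emb4 m) (F.δ τ 0 + F.δ τ 1)
    have hd : ∑ i, d i = 0 := by simp [d, Finset.sum_add_distrib]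
    obtain ⟨e, he⟩ := F.exists_diag D d hd
    have τ0 : (τ : Equiv.Perm (Fin 6)) 0 = 1 := by
      show Equiv.swap 0 1 (Equiv.swap (emb4 l) (emb4 m) 0) = 1
      rw [Equiv.swap_apply_of_ne_of_ne ((emb4_ne l).1.symm) ((emb4_ne m).1.symm), Equiv.swap_apply_left]
    have τ1 : (τ : Equiv.Perm (Fin 6)) 1 = 0 := by
      show Equiv.swap 0 1 (Equiv.swap (emb4 l) (emb4 m) 1) = 0
      rw [Equiv.swap_apply_of_ne_of_ne ((emb4_ne l).2.symm) ((emb4_ne m).2.symm), Equiv.swap_apply_right]
    have hτn : ∀ n : Fin 4, ∃ n' : Fin 4, (τ : Equiv.Perm (Fin 6)) (emb4 n) = emb4 n' ∧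
        n' = Equiv.swap l m n := by
      intro n
      refine ⟨_, ?_, rfl⟩
      show Equiv.swap 0 1 (Equiv.swap (emb4 l) (emb4 m) (emb4 n)) = _
      rw [emb4_inj.swap_apply]
      exact Equiv.swap_apply_of_ne_of_ne (emb4_ne _).1 (emb4_ne _).2
    have hval : ∀ x i, act (F.gu D (e * g)) x ((τ : Equiv.Perm (Fin 6)) i) =
        ((D.w ^ (d ((τ : Equiv.Perm (Fin 6)) i)).val : Kˣ) : K) * (((D.w ^ (F.δ τ i).val : Kˣ) : K) * x i) := by
      intro x i
      rw [map_mul, act_mul, he, hg]
    have hw0 : ∀ a : ZMod 3, ((D.w ^ (-a).val : Kˣ) : K) * ((D.w ^ a.val : Kˣ) : K) = 1 := by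
      intro a
      rw [← Units.val_mul, ← pow_add, w_pow_eq D ((-a).val + a.val) 0 (by
        rw [← ZMod.val_add, neg_add_cancel, ZMod.val_zero]), pow_zero, Units.val_one]
    have h0m := emb4_ne m
    have hmem : e * g ∈ F.st2 D := by
      refine (F.lam_gu D _ v2).symm.trans (congrArg (F.lam D) (funext fun i => ?_))
      obtain ⟨i, rfl⟩ := (τ : Equiv.Perm (Fin 6)).surjective i
      rw [hval]
      by_cases h0 : i = 0
      · subst h0
        rw [τ0, show (v2 : Fin 6 → K) 0 = 1 from rfl, show (v2 : Fin 6 → K) 1 = 1 from rfl, mul_one]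
        rw [show d 1 = -F.δ τ 0 by simp [d, Ne.symm h0m.2], hw0]
      by_cases h1 : i = 1
      · subst h1
        rw [τ1, show (v2 : Fin 6 → K) 1 = 1 from rfl, show (v2 : Fin 6 → K) 0 = 1 from rfl, mul_one]
        rw [show d 0 = -F.δ τ 1 by simp [d, Ne.symm h0m.1], hw0]
      obtain ⟨n, rfl⟩ := emb4_cover i h0 h1
      obtain ⟨n', hn', -⟩ := hτn n
      have z1 : (v2 : Fin 6 → K) (emb4 n) = 0 := by fin_cases n <;> rfl
      have z2 : (v2 : Fin 6 → K) (emb4 n') = 0 := by fin_cases n' <;> rfl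
      rw [z1, hn', z2, mul_zero, mul_zero]
    have hact : ∀ n, ∃ u : K, u ≠ 0 ∧ act (F.gu D (e * g)) (Pi.single (emb4 n) (1 : K)) =
        u • Pi.single (emb4 (Equiv.swap l m n)) 1 := by
      intro n
      obtain ⟨n', hn', rfl⟩ := hτn n
      refine ⟨_, mul_ne_zero (Units.ne_zero (D.w ^ (d ((τ : Equiv.Perm (Fin 6)) (emb4 n))).val))
        (Units.ne_zero (D.w ^ (F.δ τ (emb4 n)).val)), funext fun i => ?_⟩
      obtain ⟨i, rfl⟩ := (τ : Equiv.Perm (Fin 6)).surjective i
      rw [hval, Pi.smul_apply, smul_eq_mul, ← hn']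
      by_cases hi : i = emb4 n
      · subst hi; rw [Pi.single_eq_same, Pi.single_eq_same, mul_one, mul_one]
      · rw [Pi.single_eq_of_ne hi, Pi.single_eq_of_ne (fun e => hi ((τ : Equiv.Perm (Fin 6)).injective e)),
          mul_zero, mul_zero, mul_zero]
    obtain ⟨u, hu, hul⟩ := hact l
    obtain ⟨k', hk', ek⟩ := F.conj_shift D hmem k hul
    rw [Equiv.swap_apply_left, hk] at ek
    refine ⟨Multiplicative.toAdd (F.shift D k'), ⟨k', rfl⟩, fun e0 => hcl (by rw [← ek, e0, mul_zero]),
      fun n hnm hnl => ⟨fun hcn => ?_, fun hcm => ?_⟩⟩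
    · obtain ⟨u', hu', hun⟩ := hact n
      obtain ⟨k'', hk'', e'⟩ := F.conj_shift D hmem k hun
      have : k'' = k' := Subtype.ext (Subtype.ext (hk''.trans hk'.symm))
      subst this
      rw [Equiv.swap_apply_of_ne_of_ne hnl hnm, hk, hcn] at e'
      exact (mul_eq_zero.1 e').resolve_left hu'
    · obtain ⟨u', hu', hun⟩ := hact m
      obtain ⟨k'', hk'', e'⟩ := F.conj_shift D hmem k hun
      have : k'' = k' := Subtype.ext (Subtype.ext (hk''.trans hk'.symm))
      subst this
      rw [Equiv.swap_apply_right, hk, hcm] at e'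
      exact (mul_eq_zero.1 e').resolve_left hu'
  have w1 : ((D.w ^ (1 : ZMod 3).val : Kˣ) : K) ^ 2 = D.ω + 1 := by
    rw [ZMod.val_one, pow_one, Four.w, Units.val_mk0]
    linear_combination D.root - (D.ω + 1) * D.two
  have w2 : ((D.w ^ (2 : ZMod 3).val : Kˣ) : K) ^ 2 = D.ω := by
    rw [show (2 : ZMod 3).val = 2 from rfl, Units.val_pow_eq_pow_val, Four.w, Units.val_mk0, ← pow_mul]
    linear_combination (D.ω ^ 2 - D.ω) * D.root
  -- pair scaling
  have hpair : ∀ l m : Fin 4, l ≠ m → ∀ c ∈ S,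
      (fun n => if n = l then (D.ω + 1) * c n else if n = m then D.ω * c n else c n) ∈ S := by
    intro l m hlm c hc
    have := hscale (Pi.single l 1 + Pi.single m 2) (by
      simp [Finset.sum_add_distrib]; decide) c hc
    convert this using 1
    funext n
    by_cases hnl : n = l
    · subst hnl
      rw [if_pos rfl, Pi.add_apply, Pi.single_eq_same, Pi.single_eq_of_ne hlm, add_zero, w1]
    · rw [if_neg hnl]
      by_cases hnm : n = m
      · subst hnm
        rw [if_pos rfl, Pi.add_apply, Pi.single_eq_same, Pi.single_eq_of_ne hnl, zero_add, w2]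
      · rw [if_neg hnm, Pi.add_apply, Pi.single_eq_of_ne hnl, Pi.single_eq_of_ne hnm, add_zero,
          ZMod.val_zero, pow_zero, Units.val_one, one_pow, one_mul]
  obtain ⟨l, hl⟩ : ∃ l, Multiplicative.toAdd (F.shift D k₀) l ≠ 0 := by
    by_contra h
    push Not at h
    exact hne (Multiplicative.toAdd.injective (funext h))
  set c := Multiplicative.toAdd (F.shift D k₀)
  have hc : c ∈ S := ⟨k₀, rfl⟩
  -- a single coordinate
  obtain ⟨m, m', hml, hm'l, hm'm⟩ : ∃ m m' : Fin 4, m ≠ l ∧ m' ≠ l ∧ m' ≠ m :=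
    (by decide : ∀ l : Fin 4, ∃ m m' : Fin 4, m ≠ l ∧ m' ≠ l ∧ m' ≠ m) l
  have hsingle : ∃ α : K, α ≠ 0 ∧ Pi.single l α ∈ S := by
    have s1 := sub_mem (hpair l m (Ne.symm hml) c hc) hc
    set c₁ := (fun n => if n = l then (D.ω + 1) * c n else if n = m then D.ω * c n else c n) - c with hc₁
    have s2 := sub_mem (hpair l m' (Ne.symm hm'l) c₁ s1) s1
    refine ⟨D.ω * (D.ω * c l), mul_ne_zero D.omega_ne (mul_ne_zero D.omega_ne hl), ?_⟩
    convert s2 using 1
    funext n
    simp only [hc₁, Pi.sub_apply]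
    by_cases hnl : n = l
    · subst hnl
      rw [Pi.single_eq_same, if_pos rfl, if_pos rfl]
      ring
    · rw [Pi.single_eq_of_ne hnl, if_neg hnl, if_neg hnl]
      by_cases hnm' : n = m'
      · subst hnm'
        rw [if_pos rfl, if_neg hm'm]
        ring
      · rw [if_neg hnm']
        ring
  obtain ⟨α, hα, hS⟩ := hsingle
  have hline : ∀ l : Fin 4, ∀ α : K, α ≠ 0 → Pi.single l α ∈ S → ∀ β : K, Pi.single l β ∈ S := by
    intro l α hα hS β
    obtain ⟨m, hml⟩ := (by decide : ∀ l : Fin 4, ∃ m, m ≠ l) l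
    have s1 : Pi.single l (D.ω * α) ∈ S := by
      have h := sub_mem (hpair l m (Ne.symm hml) _ hS) hS
      convert h using 1
      funext n
      rw [Pi.sub_apply]
      by_cases hnl : n = l
      · subst hnl; rw [Pi.single_eq_same, if_pos rfl, Pi.single_eq_same]; ring
      · simp [hnl]
    have hb : β = β / α * α := (div_mul_cancel₀ β hα).symm
    rw [hb]
    rcases smul_cases D (β / α) with e | e | e | e <;> rw [e]
    · rw [zero_mul, Pi.single_zero]; exact zero_mem _
    · rwa [one_mul]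
    · exact s1
    · rw [add_mul, one_mul, Pi.single_add]; exact add_mem s1 hS
  have hall : ∀ n : Fin 4, ∀ β : K, Pi.single n β ∈ S := by
    intro n β
    by_cases hnl : n = l
    · subst hnl; exact hline _ α hα hS β
    obtain ⟨c', hc', hc'n, hc'0⟩ := hswap l n (Ne.symm hnl) _ hS (by rw [Pi.single_eq_same]; exact hα)
    obtain ⟨o, hon, hol⟩ := lm_exists n l
    have hsupp : c' = Pi.single n (c' n) := by
      funext i
      by_cases hin : i = n
      · subst hin; rw [Pi.single_eq_same]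
      rw [Pi.single_eq_of_ne hin]
      by_cases hil : i = l
      · subst hil; exact (hc'0 o hon hol).2 (Pi.single_eq_of_ne hnl _)
      · exact (hc'0 i hin hil).1 (Pi.single_eq_of_ne hil _)
    rw [hsupp] at hc'
    exact hline n _ hc'n hc' β
  intro y
  have : Multiplicative.toAdd y ∈ S := by
    rw [← Finset.univ_sum_single (Multiplicative.toAdd y)]
    exact sum_mem fun n _ => hall n _
  exact this

/-- The kernel has order at most two unless `256` divides the order of the stabiliser. -/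
theorem ker_small (h256 : ¬ 256 ∣ Nat.card (F.st2 D)) :
    Nat.card (F.quot4 D).ker ≤ 2 ∧
      ∀ k ∈ (F.quot4 D).ker, k ≠ 1 → ∀ x, act (F.gu D (k : H)) x = x + (x 0 + x 1) • v2 := by
  classical
  have h0 : ∀ k : (F.quot4 D).ker, F.shift D k = 1 := by
    by_contra hne
    push Not at hne
    obtain ⟨k₀, hk₀⟩ := hne
    have hsurj := F.shift_surj D hk₀
    have e : Nat.card (Multiplicative (Fin 4 → K)) = 256 := by
      rw [Nat.card_eq_fintype_card, Fintype.card_multiplicative, Fintype.card_fun, Fintype.card_fin, D.card]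
      norm_num
    have hd : 256 ∣ Nat.card (F.quot4 D).ker := by
      rw [← e]
      exact Subgroup.card_dvd_of_surjective _ hsurj
    exact h256 (hd.trans (Subgroup.card_subgroup_dvd_card _))
  have hfix : ∀ (k : (F.quot4 D).ker) z, act (F.gu D (k : F.st2 D)) (ext6 z) = ext6 z := by
    intro k z
    have hb : ∀ l, act (F.gu D (k : F.st2 D)) (ext6 (Pi.single l 1)) = ext6 (Pi.single l 1) := fun l => by
      rw [F.ker_tl D k.2, ← shift_apply, h0]
      simp
    have hz : ext6 z = ∑ l, z l • ext6 (Pi.single l (1 : K)) := by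
      funext i
      fin_cases i <;> simp [ext6, Fin.sum_univ_four]
    rw [hz, act_sum]
    exact Finset.sum_congr rfl fun l _ => by rw [act_smul, hb]
  have hform : ∀ k : (F.quot4 D).ker, ∃ a : K, (a = 0 ∨ a = 1) ∧
      ∀ x, act (F.gu D (k : F.st2 D)) x = x + (a * (x 0 + x 1)) • v2 := by
    intro k
    set g := F.gu D ((k : F.st2 D) : H)
    set y := act g (Pi.single 0 (1 : K)) with hy
    have htail : ∀ l, tl4 y l = 0 := by
      intro l
      have e := herm_act g (Pi.single 0 (1 : K)) (ext6 (Pi.single l 1))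
      rw [hfix k, ext6_single] at e
      fin_cases l <;> simpa [Cfsg.hermForm, Fin.sum_univ_six, emb4, tl4, y] using e
    have e1 := herm_act g (Pi.single 0 (1 : K)) v2
    rw [F.act_v2 D (k : F.st2 D).2, herm_v2 D, herm_v2 D] at e1
    simp at e1
    have e2 := herm_act g (Pi.single 0 (1 : K)) (Pi.single 0 (1 : K))
    have hy' : ∀ i : Fin 6, 2 ≤ (i : ℕ) → y i = 0 := by
      intro i hi
      fin_cases i <;> first | exact htail 0 | exact htail 1 | exact htail 2 | exact htail 3 | simp at hi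
    simp [Cfsg.hermForm, Fin.sum_univ_six, ← hy, hy' 2 (by decide), hy' 3 (by decide),
      hy' 4 (by decide), hy' 5 (by decide)] at e2
    refine ⟨y 1, ?_, fun x => ?_⟩
    · rcases smul_cases D (y 1) with e | e | e | e
      · exact Or.inl e
      · exact Or.inr e
      · exfalso
        have h0 : y 0 = D.ω + 1 := by linear_combination e1 - e - D.ω * D.two
        rw [e, h0] at e2
        exact one_ne_zero (α := K) (by
          linear_combination (2 * D.ω + 1) * D.root - e2)
      · exfalso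
        have h0 : y 0 = D.ω := by linear_combination e1 - e - D.ω * D.two
        rw [e, h0] at e2
        exact one_ne_zero (α := K) (by
          linear_combination (2 * D.ω + 1) * D.root - e2)
    · have he0 : y = Pi.single 0 1 + y 1 • v2 := by
        funext i
        fin_cases i <;> simp [v2, hy' 2 (by decide), hy' 3 (by decide), hy' 4 (by decide), hy' 5 (by decide)]
        linear_combination e1 - y 1 * D.two
      have hx : x = (x 0 + x 1) • Pi.single 0 (1 : K) + x 1 • v2 + ext6 (tl4 x) := by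
        funext i
        fin_cases i <;> simp [v2, ext6, tl4, Matrix.vecHead, Matrix.vecTail]
        linear_combination -x 1 * D.two
      conv_lhs => rw [hx]
      rw [act_add, act_add, act_smul, act_smul, hfix k, F.act_v2 D (k : F.st2 D).2,
        show act g (Pi.single 0 (1 : K)) = Pi.single 0 1 + y 1 • v2 from he0]
      conv_rhs => arg 1; rw [hx]
      simp only [smul_add, smul_smul]
      rw [mul_comm (y 1)]
      abel
  refine ⟨?_, fun k hk hk1 x => ?_⟩
  · choose a ha hax using hform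
    have hinj : Function.Injective fun k : (F.quot4 D).ker => decide (a k = 1) := by
      intro k k' hkk
      have hak : a k = a k' := by
        rcases ha k with e | e <;> rcases ha k' with e' | e' <;> simp_all
      refine Subtype.ext (Subtype.ext (F.gu_injective D (act_ext fun i => ?_)))
      rw [hax k, hax k', hak]
    have := Nat.card_le_card_of_injective _ hinj
    simpa using this
  · obtain ⟨a, ha, hax⟩ := hform ⟨k, hk⟩
    rcases ha with rfl | rfl
    · exfalso
      apply hk1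
      refine Subtype.ext (F.gu_injective D (act_ext fun i => ?_))
      rw [OneMemClass.coe_one, map_one, act_one, hax]
      simp
    · rw [hax, one_mul]

end Frame

end CfsgLib.FischerTwoFour
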