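import Mathlib
import Cfsg.Agent.Lib.FischerTwoFour.Stab

/-!
A group of order `19595520` with a monomial frame has no fusion data at vectors with stabiliser of
order `11520`: it would contain all transvections, hence an elementary subgroup of order `512`.
-/

set_option autoImplicit false
set_option linter.unusedSectionVars false

namespace CfsgLib.FischerTwoFour

open CfsgLib.U43Six CfsgLib.ClassicalGroups Matrix

namespace QRep

variable {H V : Type*} [Group H] [AddCommGroup V] (R : QRep H V)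

/-- The vectors fixed by a subgroup. -/
def fixSpace (U : Subgroup H) : AddSubgroup V where
  carrier := {v | ∀ u ∈ U, R.ρ u v = v}
  zero_mem' := fun u _ => map_zero _
  add_mem' := fun {a b} ha hb u hu => by rw [map_add, ha u hu, hb u hu]
  neg_mem' := fun {a} ha u hu => by rw [map_neg, ha u hu]

/-- The pointwise stabiliser of a set. -/
def fixer (B : Set V) : Subgroup H where
  carrier := {h | ∀ r ∈ B, R.ρ h r = r}
  one_mem' := fun r _ => R.one_apply r
  mul_mem' {a b} ha hb r hr := by rw [R.mul_apply, hb r hr, ha r hr]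
  inv_mem' {a} ha r hr := by
    conv_lhs => rw [← ha r hr]
    exact R.inv_apply a r

/-- What the fusion of involutions gives at a vector. -/
structure Fusion (v : V) where
  B : AddSubgroup V
  card_B : Nat.card B = 64
  sing : ∀ r ∈ B, R.q r = 0
  mem : v ∈ B
  perp : ∀ a, (∀ r ∈ B, R.b r a = 0) → a ∈ B
  inv : ∀ h, R.ρ h v = v → ∀ r ∈ B, R.ρ h r ∈ B
  E : Subgroup H
  card_E : Nat.card E = 32
  le : ∀ u ∈ E, R.ρ u v = v
  norm : ∀ h, R.ρ h v = v → ∀ u ∈ E, h * u * h⁻¹ ∈ E
  diff : ∀ u ∈ E, ∀ r ∈ B, R.ρ u r = r ∨ R.ρ u r = r + v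
  pointwise : ∀ u ∈ E, (∀ r ∈ B, R.ρ u r = r) → u = 1

end QRep

theorem double_le_of_lt {V : Type*} [AddCommGroup V] [Finite V] {A B : AddSubgroup V} (h : A < B) :
    2 * Nat.card A ≤ Nat.card B := by
  obtain ⟨m, hm⟩ := AddSubgroup.card_dvd_of_le h.le
  have hm2 : 2 ≤ m := by
    by_contra hm'
    have : Nat.card B ≤ Nat.card A := by
      rw [hm]
      calc Nat.card A * m ≤ Nat.card A * 1 := Nat.mul_le_mul_left _ (by omega)
        _ = Nat.card A := mul_one _
    exact h.ne (AddSubgroup.eq_of_le_of_card_ge h.le this)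
  rw [hm, mul_comm 2]
  exact Nat.mul_le_mul_left _ hm2

namespace QRep.Fusion

variable {H V : Type*} [Group H] [Finite H] [AddCommGroup V] [Finite V] {R : QRep H V} {v : V}
  (D : R.Fusion v)

include D

theorem card_fixer_step (B' : Set V) {r : V} (hr : r ∈ D.B) :
    Nat.card ↥(D.E ⊓ R.fixer B') ≤ 2 * Nat.card ↥(D.E ⊓ R.fixer (B' ∪ {r})) := by
  classical
  have key : ∀ u ∈ D.E ⊓ R.fixer B', R.ρ u r = r → u ∈ D.E ⊓ R.fixer (B' ∪ {r}) := fun u hu e =>
    ⟨hu.1, fun w hw => hw.elim (hu.2 w) (fun hw => by rw [Set.mem_singleton_iff.1 hw]; exact e)⟩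
  by_cases hall : ∀ u ∈ D.E ⊓ R.fixer B', R.ρ u r = r
  · have := Subgroup.card_le_of_le (show D.E ⊓ R.fixer B' ≤ D.E ⊓ R.fixer (B' ∪ {r}) from
      fun u hu => key u hu (hall u hu))
    omega
  push Not at hall
  obtain ⟨u₀, hu₀, hne⟩ := hall
  have h₀ := (D.diff u₀ hu₀.1 r hr).resolve_left hne
  have hmul : ∀ u ∈ D.E ⊓ R.fixer B', R.ρ u r ≠ r → R.ρ (u₀ * u) r = r := fun u hu hne' => by
    rw [R.mul_apply, (D.diff u hu.1 r hr).resolve_left hne', map_add, h₀, D.le u₀ hu₀.1, add_assoc, R.two,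
      add_zero]
  let f : ↥(D.E ⊓ R.fixer B') → Bool × ↥(D.E ⊓ R.fixer (B' ∪ {r})) := fun u =>
    if h : R.ρ (u : H) r = r then (true, ⟨u, key _ u.2 h⟩)
    else (false, ⟨u₀ * u, key _ (mul_mem hu₀ u.2) (hmul _ u.2 h)⟩)
  have hf : Function.Injective f := by
    intro a b hab
    simp only [f] at hab
    split_ifs at hab with ha hb hb
    · exact Subtype.ext (congrArg (fun p => (p.2 : H)) hab)
    · exact absurd (congrArg Prod.fst hab) (by simp)
    · exact absurd (congrArg Prod.fst hab) (by simp)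
    · exact Subtype.ext (mul_left_cancel (congrArg (fun p => (p.2 : H)) hab))
  have := Nat.card_le_card_of_injective f hf
  rw [Nat.card_prod, show Nat.card Bool = 2 by simp] at this
  exact this

/-- Few vectors beyond fixed ones leave a nontrivial pointwise stabiliser. -/
theorem exists_fixer {P B₀ : AddSubgroup V} (hP : P ≤ B₀) (hB : B₀ ≤ D.B)
    (hfix : ∀ u ∈ D.E, ∀ r ∈ P, R.ρ u r = r) (hcard : Nat.card B₀ ≤ 16 * Nat.card P) :
    ∃ u ∈ D.E ⊓ R.fixer B₀, u ≠ 1 := by
  classical
  have key : ∀ n : ℕ, ∃ B' : AddSubgroup V, P ≤ B' ∧ B' ≤ B₀ ∧ (B' = B₀ ∨ 2 ^ n * Nat.card P ≤ Nat.card B') ∧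
      32 ≤ Nat.card ↥(D.E ⊓ R.fixer B') * 2 ^ n := by
    intro n
    induction n with
    | zero =>
      refine ⟨P, le_rfl, hP, Or.inr (by simp), ?_⟩
      rw [inf_eq_left.2 (fun u hu r hr => hfix u hu r hr), D.card_E]
      norm_num
    | succ n ih =>
      obtain ⟨B', h1, h2, h3, h4⟩ := ih
      by_cases he : B' = B₀
      · exact ⟨B', h1, h2, Or.inl he, h4.trans (Nat.mul_le_mul_left _ (Nat.pow_le_pow_right (by norm_num) (by omega)))⟩
      obtain ⟨r, hr, hr'⟩ := SetLike.exists_of_lt (lt_of_le_of_ne h2 he)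
      refine ⟨B' ⊔ AddSubgroup.zmultiples r, h1.trans le_sup_left,
        sup_le h2 (AddSubgroup.zmultiples_le.2 hr), Or.inr ?_, ?_⟩
      · have hlt : B' < B' ⊔ AddSubgroup.zmultiples r := lt_of_le_of_ne le_sup_left fun e =>
          hr' (e ▸ (le_sup_right : _ ≤ B' ⊔ AddSubgroup.zmultiples r) (AddSubgroup.mem_zmultiples r))
        have := double_le_of_lt hlt
        have h3' := h3.resolve_left he
        calc 2 ^ (n + 1) * Nat.card P = 2 * (2 ^ n * Nat.card P) := by ring
          _ ≤ _ := le_trans (Nat.mul_le_mul_left _ h3') this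
      · have hle : D.E ⊓ R.fixer ((B' : Set V) ∪ {r}) ≤ D.E ⊓ R.fixer ↑(B' ⊔ AddSubgroup.zmultiples r) := by
          rintro u ⟨hu, hu'⟩
          refine ⟨hu, fun w hw => ?_⟩
          have hs : B' ⊔ AddSubgroup.zmultiples r ≤ R.fixSpace (Subgroup.zpowers u) := by
            have hz : ∀ w, R.ρ u w = w → w ∈ R.fixSpace (Subgroup.zpowers u) := fun w hw x hx => by
              have hmem : Subgroup.zpowers u ≤ R.fixer {w} :=
                Subgroup.zpowers_le.2 fun y hy => by rw [Set.mem_singleton_iff.1 hy]; exact hw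
              exact hmem hx w rfl
            exact sup_le (fun x hx => hz x (hu' x (Or.inl hx)))
              (AddSubgroup.zmultiples_le.2 (hz r (hu' r (Or.inr rfl))))
          exact hs hw u (Subgroup.mem_zpowers u)
        have h5 := Subgroup.card_le_of_le hle
        have h6 := D.card_fixer_step B' (hB hr)
        calc 32 ≤ _ := h4
          _ ≤ 2 * Nat.card ↥(D.E ⊓ R.fixer ↑(B' ⊔ AddSubgroup.zmultiples r)) * 2 ^ n :=
              Nat.mul_le_mul_right _ (h6.trans (Nat.mul_le_mul_left _ h5))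
          _ = _ := by ring
  obtain ⟨B', h1, h2, h3, h4⟩ := key 4
  have he : B' = B₀ := h3.elim id fun h => AddSubgroup.eq_of_le_of_card_ge h2 (hcard.trans (by simpa using h))
  subst he
  by_contra hno
  push Not at hno
  have : Nat.card ↥(D.E ⊓ R.fixer (B' : Set V)) ≤ 1 :=
    Finite.card_le_one_iff_subsingleton.2 ⟨fun a b => Subtype.ext ((hno _ a.2).trans (hno _ b.2).symm)⟩
  omega

end QRep.Fusion

namespace Frame

variable {H V : Type*} [Group H] [Finite H] [AddCommGroup V] [Fintype V] {R : QRep H V} (F : Frame R)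
  {K : Type*} [Field K] [Fintype K] (D : Four K)

/-- `h` is the transvection at `v` in coordinates. -/
def IsTv (h : H) (v : Fin 6 → K) : Prop :=
  ∀ x, act (F.gu D h) x = x + Cfsg.hermForm 6 K 2 x v • v

theorem IsTv.conj {h : H} {v : Fin 6 → K} (hv : F.IsTv D h v) (a : H) :
    F.IsTv D (a * h * a⁻¹) (act (F.gu D a) v) := by
  intro x
  rw [map_mul, map_mul, map_inv, act_mul, act_mul, hv, act_add, act_smul, act_inv',
    ← herm_act (F.gu D a) (act (F.gu D a)⁻¹ x) v, act_inv']

theorem IsTv.smul {h : H} {v : Fin 6 → K} (hv : F.IsTv D h v) {c : K} (hc : c ≠ 0) :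
    F.IsTv D h (c • v) := by
  intro x
  rw [hv x, hermForm_smul_right, smul_smul]
  congr 2
  linear_combination -(Cfsg.hermForm 6 K 2 x v) * D.cube hc

theorem lam_single (k : Fin 6) (a : K) : F.lam D (Pi.single k a) = F.pt k (cod D a) := by
  rw [lam_apply, Φ, Finset.sum_eq_single k]
  · rw [Pi.single_eq_same]
  · intro j _ hj
    rw [Pi.single_eq_of_ne hj, cod_zero]
    rfl
  · simp

theorem act_of_lines {h : H} {τ : Equiv.Perm (Fin 6)}
    (hmap : ∀ i, ∀ v ∈ F.L i, R.ρ h v ∈ F.L (τ i)) :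
    ∃ c : Fin 6 → K, ∀ x i, act (F.gu D h) x (τ i) = c i * x i := by
  classical
  have h1 : ∀ i, ∃ a, act (F.gu D h) (Pi.single i (1 : K)) = Pi.single (τ i) a := by
    intro i
    have hm : R.ρ h (F.lam D (Pi.single i 1)) ∈ F.L (τ i) := by
      rw [F.lam_single D]; exact hmap i _ (F.pt i _).2
    obtain ⟨o, ho⟩ := (F.pt_bij (τ i)).2 ⟨_, hm⟩
    refine ⟨val D o, (F.lam_bij D).1 ?_⟩
    rw [F.lam_gu D, F.lam_single D (τ i), cod_val, ho]
  choose c hc using h1
  refine ⟨c, fun x i => ?_⟩
  conv_lhs => rw [vec_sum x]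
  rw [act_sum, Finset.sum_apply, Finset.sum_eq_single i]
  · rw [act_smul, hc, Pi.smul_apply, Pi.single_eq_same, smul_eq_mul, mul_comm]
  · intro j _ hj
    rw [act_smul, hc, Pi.smul_apply, Pi.single_eq_of_ne (fun e => hj (τ.injective e).symm), smul_zero]
  · simp

theorem herm_zero_of_b {x y : Fin 6 → K} (hx : R.q (F.lam D x) = 0) (hy : R.q (F.lam D y) = 0)
    (hb : R.b (F.lam D x) (F.lam D y) = 0) (hb' : R.b (F.lam D x) (R.ρ F.t (F.lam D y)) = 0) :
    Cfsg.hermForm 6 K 2 x y = 0 := by
  have htr : ∀ y, R.q (F.lam D y) = 0 → R.b (F.lam D x) (F.lam D y) = 0 →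
      Cfsg.hermForm 6 K 2 x y + Cfsg.hermForm 6 K 2 x y ^ 2 = 0 := by
    intro y hy hb
    have e := F.herm_self D (x + y)
    rw [map_add, R.q_add, hx, hy, hb, add_zero, add_zero, if_pos rfl, hermForm_add_left,
      hermForm_add_right (Four.card' D), hermForm_add_right (Four.card' D), F.herm_self D x, hx,
      F.herm_self D y, hy, if_pos rfl, herm_conj_symm D x y] at e
    linear_combination e
  have e1 := htr y hy hb
  have e2 := htr (D.ω • y) (by rw [F.lam_om, R.q_inv, hy]) (by rw [F.lam_om]; exact hb')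
  rw [hermForm_smul_right] at e2
  generalize Cfsg.hermForm 6 K 2 x y = c at e1 e2
  have h0 : c * (1 + c) = 0 := by linear_combination e1
  rcases mul_eq_zero.1 h0 with h | h
  · exact h
  · exfalso
    have hc : c = 1 := by linear_combination h - D.two
    subst hc
    exact one_ne_zero (α := K) (by
      linear_combination D.root - e2 + D.ω * D.omega_cube)

theorem val_eq_zero {o : Option (ZMod 3)} (h : val D o = 0) : o = none :=
  (val_bij (K := K) D).1 (h.trans rfl)

/-- A transvection at the vector of weight two. -/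
theorem exists_tv_two (hH : Nat.card H = 19595520)
    (horb : (R.orb (F.lam D v2)).card = 378) : ∃ h, F.IsTv D h (v2 : Fin 6 → K) := by
  classical
  have hst : Nat.card (F.st2 D) = 51840 := by
    have := R.card_stab_mul (F.lam D v2)
    rw [horb, hH] at this
    show Nat.card (R.stab (F.lam D v2)) = 51840
    omega
  obtain ⟨hk2, hk⟩ := F.ker_small D (by rw [hst]; norm_num)
  have hY : Nat.card (F.quot4 D).range ∣ 77760 := by
    have := Subgroup.card_subgroup_dvd_card (F.quot4 D).range
    rw [card_GU (Four.card' D) 4] at this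
    simpa [Finset.prod_range_succ, Nat.even_iff] using this
  have hmul : Nat.card (F.quot4 D).range * Nat.card (F.quot4 D).ker = 51840 := by
    rw [← hst, Subgroup.card_eq_card_quotient_mul_card_subgroup (F.quot4 D).ker,
      Nat.card_congr (QuotientGroup.quotientKerEquivRange (F.quot4 D)).toEquiv]
  obtain ⟨k, hk1⟩ : ∃ k : (F.quot4 D).ker, k ≠ 1 := by
    by_contra hno
    push Not at hno
    have h1 : Nat.card (F.quot4 D).ker = 1 :=
      Nat.card_eq_one_iff_unique.2 ⟨⟨fun a b => (hno a).trans (hno b).symm⟩, ⟨1⟩⟩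
    rw [h1, mul_one] at hmul
    rw [hmul] at hY
    norm_num at hY
  refine ⟨((k : F.st2 D) : H), fun x => ?_⟩
  rw [herm_v2 D, hk _ k.2 (fun e => hk1 (Subtype.ext e)) x]

/-- The vector with two ones. -/
def pair (p q : Fin 6) : Fin 6 → K := Pi.single p 1 + Pi.single q 1

theorem add_swaps (D : Four K) (z : Fin 6 → K) {a b c d : Fin 6} (hab : a ≠ b) (hcd : c ≠ d) (hca : c ≠ a)
    (hcb : c ≠ b) (hda : d ≠ a) (hdb : d ≠ b) :
    z + z ∘ (Equiv.swap a b * Equiv.swap c d : Equiv.Perm (Fin 6)).symm =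
      (z a + z b) • pair a b + (z c + z d) • pair c d := by
  funext i
  have hs : (Equiv.swap a b * Equiv.swap c d : Equiv.Perm (Fin 6)).symm i =
      Equiv.swap c d (Equiv.swap a b i) := rfl
  simp only [Pi.add_apply, Function.comp_apply, hs, Pi.smul_apply, smul_eq_mul, pair]
  by_cases h1 : i = a
  · subst h1
    simp [Equiv.swap_apply_of_ne_of_ne hcb.symm hdb.symm, hab, hca.symm, hda.symm]
  by_cases h2 : i = b
  · subst h2
    simp [Equiv.swap_apply_of_ne_of_ne hca.symm hda.symm, h1, hcb.symm, hdb.symm, add_comm]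
  rw [Equiv.swap_apply_of_ne_of_ne h1 h2]
  by_cases h3 : i = c
  · subst h3
    simp [h1, h2, hcd]
  by_cases h4 : i = d
  · subst h4
    simp [h1, h2, h3, add_comm]
  rw [Equiv.swap_apply_of_ne_of_ne h3 h4]
  simp [h1, h2, h3, h4, D.add_self]

/-- Rescaled coordinates. -/
def sc (x₀ z : Fin 6 → K) : Fin 6 → K := fun i => z i * x₀ i

set_option maxHeartbeats 1000000 in
/-- Fusion data give a transvection at a vector of weight six. -/
theorem exists_tv_six {f : Code} (hf : wt f = 6) (E : R.Fusion (F.Φ f)) :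
    ∃ h, F.IsTv D h (fun i => val D (f i)) := by
  classical
  set x₀ : Fin 6 → K := fun i => val D (f i) with hx₀
  set v := F.Φ f with hv
  have hlv : F.lam D x₀ = v := F.lam_val D f
  have hsome : ∀ i, f i ≠ none := fun i => by
    have : Finset.univ.filter (fun i => f i ≠ none) = Finset.univ :=
      Finset.eq_univ_of_card _ (by rw [← wt, hf]; rfl)
    exact Finset.filter_eq_self.1 this i (Finset.mem_univ _)
  have hx0 : ∀ i, x₀ i ≠ 0 := fun i e => hsome i (val_eq_zero D e)
  have hx3 : ∀ i, x₀ i * x₀ i ^ 2 = 1 := fun i => by rw [← pow_succ', D.cube (hx0 i)]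
  have hv0 : v ≠ 0 := F.Φ_ne_zero (by omega)
  set tv := R.ρ F.t v with htv
  have htfix : ∀ h, R.ρ h v = v → R.ρ h tv = tv := fun h e => by
    rw [htv, ← R.mul_apply, F.t_comm, R.mul_apply, e]
  -- the vectors orthogonal to `tv`
  let B₀ : AddSubgroup V := E.B ⊓ (AddMonoidHom.mk' (fun r => R.b r tv) fun a b => R.b_add a b tv).ker
  have memB₀ : ∀ r, r ∈ B₀ ↔ r ∈ E.B ∧ R.b r tv = 0 := fun r => Iff.rfl
  have hbv : ∀ r ∈ E.B, R.b r v = 0 := fun r hr => by
    have := R.q_add r v
    rw [E.sing _ (add_mem hr E.mem), E.sing r hr, E.sing v E.mem, zero_add, zero_add] at this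
    exact this.symm
  have hvB₀ : v ∈ B₀ := by
    refine (memB₀ v).2 ⟨E.mem, ?_⟩
    have h := F.t_fpf v
    have e : R.ρ F.t tv = v + tv := by
      calc R.ρ F.t tv = R.ρ F.t tv + (tv + v + (tv + v)) := by rw [R.two, add_zero]
        _ = R.ρ F.t tv + tv + v + (tv + v) := by abel
        _ = v + tv := by rw [h, zero_add, add_comm]
    have := R.q_add v tv
    rw [← e, R.q_inv, htv, R.q_inv, E.sing v E.mem, zero_add, zero_add] at this
    exact this.symm
  have hnotB : ∃ r ∈ E.B, R.b r tv ≠ 0 := by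
    by_contra hno
    push Not at hno
    have htB : tv ∈ E.B := E.perp _ hno
    let P : AddSubgroup V := AddSubgroup.closure {v, tv}
    have hPfix : ∀ u ∈ E.E, ∀ r ∈ P, R.ρ u r = r := fun u hu r hr => by
      induction hr using AddSubgroup.closure_induction with
      | mem x hx =>
        rcases hx with rfl | hx
        · exact E.le u hu
        · rw [Set.mem_singleton_iff.1 hx]; exact htfix u (E.le u hu)
      | zero => exact map_zero _
      | add a b _ _ ha hb => rw [map_add, ha, hb]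
      | neg a _ ha => rw [map_neg, ha]
    have hne : tv ≠ v := fun e => hv0 (by
      have := F.t_fpf v
      rwa [← htv, e, ← htv, e, R.two, zero_add] at this)
    have htv0 : tv ≠ 0 := fun e => hv0 (R.inj F.t (by rw [← htv, e, map_zero]))
    have hP4 : 4 ≤ Nat.card P := by
      let m : Fin 4 → P := ![0, ⟨v, AddSubgroup.subset_closure (Or.inl rfl)⟩,
        ⟨tv, AddSubgroup.subset_closure (Or.inr rfl)⟩,
        ⟨v + tv, add_mem (AddSubgroup.subset_closure (Or.inl rfl)) (AddSubgroup.subset_closure (Or.inr rfl))⟩]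
      have hvt : v + tv ≠ 0 := fun e => hne (by
        calc tv = v + v + tv := by rw [R.two, zero_add]
          _ = v := by rw [add_assoc, e, add_zero])
      have : Function.Injective m := by
        intro a b hab
        have h := congrArg Subtype.val hab
        fin_cases a <;> fin_cases b <;> first
          | rfl
          | (exfalso; simp [m, hv0, htv0, hvt, hne, Ne.symm hne, Ne.symm hvt, Ne.symm hv0, Ne.symm htv0] at h)
      simpa using Nat.card_le_card_of_injective m this
    have hPB : P ≤ E.B := (AddSubgroup.closure_le _).2 (Set.insert_subset E.mem (Set.singleton_subset_iff.2 htB))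
    obtain ⟨u, hu, hu1⟩ := E.exists_fixer hPB le_rfl hPfix (by rw [E.card_B]; omega)
    exact hu1 (E.pointwise u hu.1 fun r hr => hu.2 r hr)
  obtain ⟨r₁, hr₁, hr₁b⟩ := hnotB
  have hB₀c : 32 ≤ Nat.card B₀ ∧ Nat.card B₀ ≤ 32 := by
    have hlt : B₀ < E.B := lt_of_le_of_ne inf_le_left fun e => hr₁b ((memB₀ r₁).1 (e.symm ▸ hr₁)).2
    have h1 := double_le_of_lt hlt
    rw [E.card_B] at h1
    refine ⟨?_, by omega⟩
    let f : E.B → ZMod 2 × B₀ := fun r =>
      if h : R.b (r : V) tv = 0 then (0, ⟨r, (memB₀ _).2 ⟨r.2, h⟩⟩)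
      else (1, ⟨r + r₁, (memB₀ _).2 ⟨add_mem r.2 hr₁, by
        rw [R.b_add]
        exact (by decide : ∀ a b : ZMod 2, a ≠ 0 → b ≠ 0 → a + b = 0) _ _ h hr₁b⟩⟩)
    have hf : Function.Injective f := by
      intro a b hab
      simp only [f] at hab
      split_ifs at hab with ha hb hb
      · exact Subtype.ext (congrArg (fun p => (p.2 : V)) hab)
      · exact absurd (congrArg Prod.fst hab) (by simp)
      · exact absurd (congrArg Prod.fst hab) (by simp)
      · exact Subtype.ext (add_right_cancel (congrArg (fun p => (p.2 : V)) hab))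
    have := Nat.card_le_card_of_injective f hf
    rw [E.card_B, Nat.card_prod, Nat.card_zmod] at this
    omega
  have hP2 : 2 ≤ Nat.card (AddSubgroup.zmultiples v) := by
    have : Nontrivial (AddSubgroup.zmultiples v) := ⟨⟨0, ⟨v, AddSubgroup.mem_zmultiples v⟩, fun e => hv0 (congrArg Subtype.val e).symm⟩⟩
    exact Finite.one_lt_card
  obtain ⟨u, hu, hu1⟩ := E.exists_fixer (AddSubgroup.zmultiples_le.2 hvB₀) (inf_le_left : B₀ ≤ E.B)
    (fun u hu r hr => by
      obtain ⟨n, rfl⟩ := AddSubgroup.mem_zmultiples_iff.1 hr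
      rw [map_zsmul, E.le u hu]) (by omega)
  -- the fixed space in coordinates
  let U := E.E ⊓ R.fixer (B₀ : Set V)
  let W := R.fixSpace U
  have hB₀W : B₀ ≤ W := fun r hr u hu => hu.2 r hr
  have hWt : ∀ w ∈ W, R.ρ F.t w ∈ W := fun w hw u hu => by
    rw [← R.mul_apply, F.t_comm, R.mul_apply, hw u hu]
  let M : Submodule K (Fin 6 → K) :=
    { carrier := {z | F.lam D (sc x₀ z) ∈ W}
      zero_mem' := by
        show F.lam D (sc x₀ 0) ∈ W
        rw [show sc x₀ (0 : Fin 6 → K) = 0 from funext fun i => zero_mul _, map_zero]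
        exact zero_mem W
      add_mem' := fun {a b} ha hb => by
        show F.lam D (sc x₀ (a + b)) ∈ W
        rw [show sc x₀ (a + b) = sc x₀ a + sc x₀ b from funext fun i => add_mul _ _ _, map_add]
        exact add_mem ha hb
      smul_mem' := fun c z hz => by
        show F.lam D (sc x₀ (c • z)) ∈ W
        rw [show sc x₀ (c • z) = c • sc x₀ z from funext fun i => mul_assoc _ _ _]
        rcases smul_cases D c with rfl | rfl | rfl | rfl
        · rw [zero_smul, map_zero]; exact zero_mem W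
        · rwa [one_smul]
        · rw [F.lam_om]; exact hWt _ hz
        · rw [add_smul, one_smul, map_add, F.lam_om]; exact add_mem (hWt _ hz) hz }
  obtain ⟨φ, -, hφ⟩ := F.stab_A6_lines hf
  have hφv := fun τ => (hφ τ).2
  have hφL := fun τ => (hφ τ).1
  have hperm : ∀ (τ : A6) (z : Fin 6 → K), act (F.gu D (φ τ)) (sc x₀ z) =
      sc x₀ (z ∘ (τ : Equiv.Perm (Fin 6)).symm) := by
    intro τ z
    obtain ⟨c, hc⟩ := F.act_of_lines D (hφL τ)
    have hfx : act (F.gu D (φ τ)) x₀ = x₀ := (F.lam_bij D).1 (by rw [F.lam_gu, hlv]; exact hφv τ)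
    funext k
    obtain ⟨i, rfl⟩ := (τ : Equiv.Perm (Fin 6)).surjective k
    have e := hc x₀ i
    rw [hfx] at e
    rw [hc]
    simp only [sc, Function.comp_apply, Equiv.symm_apply_apply]
    linear_combination -(z i) * e
  have hMperm : ∀ (τ : A6) z, z ∈ M → z ∘ (τ : Equiv.Perm (Fin 6)).symm ∈ M := by
    intro τ z hz
    show F.lam D (sc x₀ (z ∘ _)) ∈ W
    rw [← hperm, F.lam_gu]
    intro u hu
    set h := φ τ
    have hh : R.ρ h v = v := hφv τ
    have hh' : R.ρ h⁻¹ v = v := by conv_lhs => rw [← hh]; exact R.inv_apply h v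
    have hconj : h⁻¹ * u * h ∈ U := by
      refine ⟨by simpa using E.norm h⁻¹ hh' u hu.1, fun r hr => ?_⟩
      obtain ⟨hrB, hrb⟩ := (memB₀ r).1 hr
      have : R.ρ h r ∈ B₀ := (memB₀ _).2 ⟨E.inv h hh r hrB, by rw [← htfix h hh, R.b_inv, hrb]⟩
      rw [R.mul_apply, R.mul_apply, hu.2 _ this, R.inv_apply]
    have e : R.ρ u (R.ρ h (F.lam D (sc x₀ z))) = R.ρ h (R.ρ (h⁻¹ * u * h) (F.lam D (sc x₀ z))) := by
      rw [← R.mul_apply, ← R.mul_apply]; congr 2; group
    rw [e, hz _ hconj]
  have hsum : ∀ r ∈ B₀, ∀ z, F.lam D (sc x₀ z) = r → ∑ i, z i = 0 := by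
    intro r hr z hz
    obtain ⟨hrB, hrb⟩ := (memB₀ r).1 hr
    have := F.herm_zero_of_b D (x := sc x₀ z) (y := x₀) (by rw [hz]; exact E.sing r hrB)
      (by rw [hlv]; exact E.sing v E.mem) (by rw [hz, hlv]; exact hbv r hrB) (by rw [hz, hlv]; exact hrb)
    rw [Cfsg.hermForm] at this
    rw [← this]
    refine Finset.sum_congr rfl fun i _ => ?_
    simp only [sc]
    rw [mul_assoc, hx3, mul_one]
  -- a nonconstant sum-zero vector
  obtain ⟨z, hzM, hz0, a, b, hab⟩ : ∃ z ∈ M, ∑ i, z i = 0 ∧ ∃ a b, z a ≠ z b := by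
    by_contra hno
    push Not at hno
    have hg : ∀ r : B₀, ∃ c : K, F.lam D (sc x₀ fun _ => c) = r := by
      intro r
      obtain ⟨x, hx⟩ := (F.lam_bij D).2 (r : V)
      have hx' : x = sc x₀ (fun i => x i / x₀ i) := funext fun i => (div_mul_cancel₀ _ (hx0 i)).symm
      rw [hx'] at hx
      have hM : (fun i => x i / x₀ i) ∈ M := by
        show F.lam D _ ∈ W
        rw [hx]; exact hB₀W r.2
      have hc := hno _ hM (hsum r r.2 _ hx)
      refine ⟨x 0 / x₀ 0, ?_⟩
      rw [← hx]
      congr 2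
      funext i
      exact hc 0 i
    choose g hg using hg
    have hgi : Function.Injective g := fun r r' e => Subtype.ext (by rw [← hg r, ← hg r', e])
    have := Nat.card_le_card_of_injective g hgi
    rw [Nat.card_eq_fintype_card (α := K), D.card] at this
    omega
  have hab' : a ≠ b := fun e => hab (by rw [e])
  obtain ⟨c, d, e, hca, hcb, hda, hdb, hea, heb, hcd, hce, hde⟩ :
      ∃ c d e : Fin 6, c ≠ a ∧ c ≠ b ∧ d ≠ a ∧ d ≠ b ∧ e ≠ a ∧ e ≠ b ∧ c ≠ d ∧ c ≠ e ∧ d ≠ e := by
    clear * - hab'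
    revert a b
    decide +kernel
  let pr2 : ∀ a b c d : Fin 6, a ≠ b → c ≠ d → A6 := fun a b c d h h' =>
    ⟨Equiv.swap a b * Equiv.swap c d, by
      rw [Equiv.Perm.mem_alternatingGroup, map_mul, Equiv.Perm.sign_swap h, Equiv.Perm.sign_swap h']; rfl⟩
  obtain ⟨p, q, hpq, hpM⟩ : ∃ p q, p ≠ q ∧ pair p q ∈ M := by
    let τ := pr2 a b c d hab' hcd
    have h1 := add_mem hzM (hMperm τ z hzM)
    rw [show (τ : Equiv.Perm (Fin 6)) = Equiv.swap a b * Equiv.swap c d from rfl,
      add_swaps D z hab' hcd hca hcb hda hdb] at h1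
    have hzab : z a + z b ≠ 0 := fun h => hab (by linear_combination h - z b * D.two)
    by_cases hcd0 : z c + z d = 0
    · rw [hcd0, zero_smul, add_zero] at h1
      have := M.smul_mem (z a + z b)⁻¹ h1
      rw [inv_smul_smul₀ hzab] at this
      exact ⟨a, b, hab', this⟩
    · let τ' := pr2 a b c e hab' hce
      have h2 := add_mem h1 (hMperm τ' _ h1)
      rw [show (τ' : Equiv.Perm (Fin 6)) = Equiv.swap a b * Equiv.swap c e from rfl,
        add_swaps D _ hab' hce hca hcb hea heb] at h2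
      simp [pair, hab', hab'.symm, hca, hca.symm, hcb, hcb.symm, hda, hda.symm, hdb, hdb.symm, hea, hea.symm,
        heb, heb.symm, hcd, hcd.symm, hce, hce.symm, hde, hde.symm, D.add_self] at h2
      rw [← smul_add] at h2
      have := M.smul_mem (z c + z d)⁻¹ h2
      rw [inv_smul_smul₀ hcd0] at this
      exact ⟨c, e, hce, this⟩
  have hpairs : ∀ r s : Fin 6, r ≠ s → pair r s ∈ M := by
    intro r s hrs
    obtain ⟨τ, h1, h2⟩ := two_sets p q r s hpq hrs
    have := hMperm τ _ hpM
    convert this using 1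
    funext i
    simp only [pair, Pi.add_apply, Function.comp_apply, Pi.single_apply, Equiv.symm_apply_eq, ← h1, ← h2]
  have hzero : ∀ z : Fin 6 → K, ∑ i, z i = 0 → z ∈ M := by
    intro z hz
    have e : z = ∑ i ∈ Finset.univ.erase 0, z i • pair i 0 := by
      funext j
      rw [Finset.sum_apply]
      by_cases hj : j = 0
      · subst hj
        rw [Finset.sum_congr rfl fun i hi => show (z i • pair i 0) 0 = z i by
          simp [pair, Pi.single_eq_of_ne (Finset.ne_of_mem_erase hi).symm]]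
        rw [← Finset.add_sum_erase _ _ (Finset.mem_univ (0 : Fin 6))] at hz
        linear_combination hz - (∑ i ∈ Finset.univ.erase 0, z i) * D.two
      · rw [Finset.sum_eq_single j]
        · simp [pair, hj]
        · intro i _ hi; simp [pair, hj, Ne.symm hi]
        · intro h; exact absurd (Finset.mem_erase.2 ⟨hj, Finset.mem_univ j⟩) h
    rw [e]
    exact sum_mem fun i hi => M.smul_mem _ (hpairs i 0 (Finset.ne_of_mem_erase hi))
  -- `u` is the transvection
  set g := F.gu D u
  have hfixz : ∀ z : Fin 6 → K, ∑ i, z i = 0 → act g (sc x₀ z) = sc x₀ z := fun z hz =>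
    (F.lam_bij D).1 ((F.lam_gu D u _).trans (hzero z hz u hu))
  have hherm : ∀ z z' : Fin 6 → K, Cfsg.hermForm 6 K 2 (sc x₀ z) (sc x₀ z') = ∑ i, z i * z' i ^ 2 := fun z z' => by
    refine Finset.sum_congr rfl fun i _ => ?_
    simp only [sc]
    linear_combination (z i * z' i ^ 2) * hx3 i
  set y := act g (sc x₀ (Pi.single 0 1)) with hy
  set η : Fin 6 → K := fun i => y i / x₀ i - (Pi.single 0 1 : Fin 6 → K) i with hη
  have hyη : y = sc x₀ (Pi.single 0 1 + η) := funext fun i => by
    simp only [sc, hη, Pi.add_apply, add_sub_cancel]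
    exact (div_mul_cancel₀ _ (hx0 i)).symm
  have hconst : ∀ i, η i = η 0 := by
    intro i
    by_cases hi : i = 0
    · rw [hi]
    have hs : ∑ j, (pair i 0 : Fin 6 → K) j = 0 := by
      simp [pair, Finset.sum_add_distrib]
      linear_combination D.two
    have h := herm_act g (sc x₀ (Pi.single 0 1)) (sc x₀ (pair i 0))
    rw [hfixz _ hs, ← hy, hyη, hherm, hherm, Finset.sum_congr rfl fun j _ => show
      (Pi.single 0 1 + η : Fin 6 → K) j * pair i 0 j ^ 2 =
        (Pi.single 0 1 : Fin 6 → K) j * pair i 0 j ^ 2 + η j * pair i 0 j ^ 2 from add_mul _ _ _,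
      Finset.sum_add_distrib, add_eq_left] at h
    have e : ∀ j, η j * pair i 0 j ^ 2 = (if j = i then η j else 0) + (if j = 0 then η j else 0) := fun j => by
      by_cases h1 : j = i
      · subst h1; simp [pair, hi]
      · by_cases h2 : j = 0
        · subst h2; simp [pair, h1]
        · simp [pair, h1, h2]
    rw [Finset.sum_congr rfl fun j _ => e j, Finset.sum_add_distrib, Finset.sum_ite_eq', Finset.sum_ite_eq',
      if_pos (Finset.mem_univ _), if_pos (Finset.mem_univ _)] at h
    linear_combination h - η 0 * D.two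
  set c := η 0
  have hyc : y = sc x₀ (Pi.single 0 1) + c • x₀ := by
    rw [hyη]
    funext i
    simp only [sc, Pi.add_apply, Pi.smul_apply, smul_eq_mul, hconst i]
    ring
  have hval : ∀ z : Fin 6 → K, act g (sc x₀ z) = sc x₀ z + (c * ∑ i, z i) • x₀ := by
    intro z
    have e : sc x₀ z = sc x₀ (z - (∑ i, z i) • Pi.single 0 1) + (∑ i, z i) • sc x₀ (Pi.single 0 1) := by
      funext i
      simp only [sc, Pi.add_apply, Pi.sub_apply, Pi.smul_apply, smul_eq_mul]
      ring
    have hs : ∑ i, (z - (∑ i, z i) • Pi.single 0 1 : Fin 6 → K) i = 0 := by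
      simp [Finset.sum_sub_distrib, ← Finset.mul_sum]
    conv_lhs => rw [e]
    rw [act_add, act_smul, hfixz _ hs, ← hy, hyc, smul_add, smul_smul, mul_comm _ c, ← add_assoc, ← e]
  have hcu : c = 1 := by
    have h := herm_act g (sc x₀ (Pi.single 0 1)) (sc x₀ (Pi.single 0 1))
    rw [← hy, hyη, hherm, hherm] at h
    simp [Fin.sum_univ_six, hconst 1, hconst 2, hconst 3, hconst 4, hconst 5, Pi.single_apply] at h
    rw [show η 0 = c from rfl] at h
    clear_value c
    rcases smul_cases D c with e | e | e | e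
    · exfalso
      refine hu1 (F.gu_injective D (act_ext fun i => ?_))
      have hx' : (Pi.single i 1 : Fin 6 → K) = sc x₀ (fun j => (Pi.single i 1 : Fin 6 → K) j / x₀ j) :=
        funext fun j => (div_mul_cancel₀ _ (hx0 j)).symm
      rw [map_one, act_one, hx', hval, e, zero_mul, zero_smul, add_zero]
    · exact e
    all_goals exfalso
    · rw [e] at h
      refine one_ne_zero (α := K) ?_
      linear_combination h - 3 * D.root - 6 * D.omega_cube - D.two
    · rw [e] at h
      refine one_ne_zero (α := K) ?_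
      linear_combination h - 21 * D.root - 6 * D.omega_cube - (3 * D.ω - 2) * D.two
  refine ⟨u, fun x => ?_⟩
  have hx' : x = sc x₀ (fun j => x j / x₀ j) := funext fun j => (div_mul_cancel₀ _ (hx0 j)).symm
  conv_lhs => rw [hx', hval, ← hx', hcu, one_mul]
  congr 2
  refine Finset.sum_congr rfl fun i _ => ?_
  rw [div_eq_iff (hx0 i)]
  linear_combination -(x i) * hx3 i

/-- The doubled vector. -/
def dbl (b : Fin 3 → K) : Fin 6 → K := ![b 0, b 0, b 1, b 1, b 2, b 2]

theorem herm_dbl (D : Four K) (b b' : Fin 3 → K) : Cfsg.hermForm 6 K 2 (dbl b) (dbl b') = 0 := by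
  simp [Cfsg.hermForm, dbl, Fin.sum_univ_six]
  linear_combination (b 0 * b' 0 ^ 2 + b 1 * b' 1 ^ 2 + b 2 * b' 2 ^ 2) * D.two

/-- Nine points spanning the hermitian forms. -/
def nine (D : Four K) : Fin 9 → Fin 3 → K :=
  ![![1, 0, 0], ![0, 1, 0], ![0, 0, 1], ![1, 1, 0], ![1, 0, 1], ![0, 1, 1], ![1, D.ω, 0], ![1, 0, D.ω],
    ![0, 1, D.ω]]

set_option maxHeartbeats 1000000 in
/-- Transvections at all isotropic points are too many. -/
theorem not_all_tv (hH : Nat.card H = 19595520)
    (hall : ∀ v : Fin 6 → K, v ≠ 0 → R.q (F.lam D v) = 0 → ∃ h, F.IsTv D h v) : False := by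
  classical
  have : CharP K 2 := CharTwo.of_one_ne_zero_of_two_eq_zero one_ne_zero D.two
  let ι : ZMod 2 →+* K := ZMod.castHom (dvd_refl 2) K
  let N : (Fin 9 → ZMod 2) → (Fin 6 → K) → Fin 6 → K := fun c x =>
    ∑ j, (ι (c j) * Cfsg.hermForm 6 K 2 x (dbl (nine D j))) • dbl (nine D j)
  have hNN : ∀ c d x, N c (N d x) = 0 := by
    intro c d x
    refine Finset.sum_eq_zero fun j _ => ?_
    have : Cfsg.hermForm 6 K 2 (N d x) (dbl (nine D j)) = 0 := by
      rw [Cfsg.hermForm]
      simp only [N, Finset.sum_apply, Pi.smul_apply, smul_eq_mul, Finset.sum_mul]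
      rw [Finset.sum_comm]
      refine Finset.sum_eq_zero fun l _ => ?_
      simp only [mul_assoc, ← Finset.mul_sum]
      have := herm_dbl D (nine D l) (nine D j)
      rw [Cfsg.hermForm] at this
      rw [this, mul_zero, mul_zero]
    rw [this, mul_zero, zero_smul]
  have hNadd : ∀ c d x, N (c + d) x = N c x + N d x := fun c d x => by
    simp only [N, ← Finset.sum_add_distrib, Pi.add_apply, map_add, add_mul, add_smul]
  have hNlin : ∀ c x y, N c (x + y) = N c x + N c y := fun c x y => by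
    simp only [N, hermForm_add_left, mul_add, add_smul, ← Finset.sum_add_distrib]
  let T : Subgroup H :=
    { carrier := {h | ∃ c, ∀ x, act (F.gu D h) x = x + N c x}
      one_mem' := ⟨0, fun x => by simp [N, act_one]⟩
      mul_mem' := by
        rintro a b ⟨c, hc⟩ ⟨d, hd⟩
        refine ⟨c + d, fun x => ?_⟩
        rw [map_mul, act_mul, hd, hc, hNlin, hNN, add_zero, hNadd]
        abel
      inv_mem' := by
        rintro a ⟨c, hc⟩
        refine ⟨c, fun x => ?_⟩
        have e : a⁻¹ = a := by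
          refine inv_eq_of_mul_eq_one_right (F.gu_injective D (act_ext fun i => ?_))
          rw [map_mul, act_mul, map_one, act_one, hc, hc, hNlin, hNN, add_zero, add_assoc,
            ← hNadd, show c + c = 0 from funext fun j => CharTwo.add_self_eq_zero _]
          simp [N]
        rw [e, hc] }
  have hnine : ∀ j, dbl (nine D j) ≠ 0 := by
    intro j h
    have h0 := congrFun h 0; have h2 := congrFun h 2; have h4 := congrFun h 4
    fin_cases j <;> simp [dbl, nine] at h0 h2 h4
  have hgen : ∀ c, ∃ h ∈ T, ∀ x, act (F.gu D h) x = x + N c x := by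
    intro c
    induction c using Pi.single_induction with
    | zero => exact ⟨1, one_mem T, fun x => by simp [N, act_one]⟩
    | add a b ha hb =>
      obtain ⟨g, hg, hga⟩ := ha
      obtain ⟨h, hh, hhb⟩ := hb
      refine ⟨g * h, mul_mem hg hh, fun x => ?_⟩
      rw [map_mul, act_mul, hhb, hga, hNlin, hNN, add_zero, hNadd]
      abel
    | single j a =>
      rcases (by decide : ∀ a : ZMod 2, a = 0 ∨ a = 1) a with rfl | rfl
      · exact ⟨1, one_mem T, fun x => by simp [N, act_one]⟩
      have hq : R.q (F.lam D (dbl (nine D j))) = 0 := by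
        have e := F.herm_self D (dbl (nine D j))
        rw [herm_dbl D] at e
        by_contra hne
        rw [if_neg hne] at e
        exact zero_ne_one e
      obtain ⟨h, hh⟩ := hall _ (hnine j) hq
      have e : ∀ x, act (F.gu D h) x = x + N (Pi.single j 1) x := fun x => by
        rw [hh x]
        simp only [N]
        rw [Finset.sum_eq_single j (fun l _ hl => by simp [Pi.single_eq_of_ne hl]) (by simp),
          Pi.single_eq_same, map_one, one_mul]
      exact ⟨h, ⟨_, e⟩, e⟩
  have hN0 : ∀ c, (∀ x, N c x = 0) → c = 0 := by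
    intro c hc
    have key : ∀ a b : ZMod 2, ∀ t : K, t = D.ω ∨ t = D.ω ^ 2 → ι a + ι b * t = 0 → a = 0 ∧ b = 0 := by
      intro a b t ht h
      rcases (by decide : ∀ a : ZMod 2, a = 0 ∨ a = 1) a with rfl | rfl <;>
        rcases (by decide : ∀ a : ZMod 2, a = 0 ∨ a = 1) b with rfl | rfl <;> simp at h ⊢
      · rcases ht with rfl | rfl
        · exact D.omega_ne h
        · exact D.omega_ne (pow_eq_zero_iff (n := 2) (by norm_num) |>.1 h)
      · exfalso
        rcases ht with rfl | rfl
        · exact D.succ_ne (by linear_combination h)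
        · exact D.omega_ne (by linear_combination D.root - h)
    have e00 := congrFun (hc (Pi.single 0 1)) 0
    have e02 := congrFun (hc (Pi.single 2 1)) 0
    have e04 := congrFun (hc (Pi.single 4 1)) 0
    have e22 := congrFun (hc (Pi.single 2 1)) 2
    have e24 := congrFun (hc (Pi.single 4 1)) 2
    have e44 := congrFun (hc (Pi.single 4 1)) 4
    simp [N, Cfsg.hermForm, dbl, nine, Fin.sum_univ_succ, Pi.single_apply, ← add_assoc] at e00 e02 e04 e22 e24 e44
    obtain ⟨c3, c6⟩ := key (c 3) (c 6) (D.ω ^ 2) (Or.inr rfl) (by linear_combination e02)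
    obtain ⟨c4, c7⟩ := key (c 4) (c 7) (D.ω ^ 2) (Or.inr rfl) (by linear_combination e04)
    obtain ⟨c5, c8⟩ := key (c 5) (c 8) (D.ω ^ 2) (Or.inr rfl) (by linear_combination e24)
    simp [c3, c4, c5, c6, c7, c8] at e00 e22 e44
    have hz : ∀ a : ZMod 2, ι a = 0 → a = 0 := fun a h => ι.injective (h.trans (map_zero ι).symm)
    funext j
    fin_cases j
    exacts [e00, e22, e44, c3, c4, c5, c6, c7, c8]
  choose f hfT hf using hgen
  have hfi : Function.Injective fun c => (⟨f c, hfT c⟩ : T) := by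
    intro c d h
    have h' : f c = f d := congrArg Subtype.val h
    have e : c + d = 0 := hN0 _ fun x => by
      have e1 := hf c x
      rw [h', hf d x, add_right_inj] at e1
      rw [hNadd, e1]
      funext i
      exact D.add_self _
    funext j
    exact CharTwo.add_eq_zero.1 (congrFun e j)
  have hfs : Function.Surjective fun c => (⟨f c, hfT c⟩ : T) := by
    rintro ⟨h, c, hc⟩
    exact ⟨c, Subtype.ext (F.gu_injective D (act_ext fun i => by rw [hf, hc]))⟩
  have hT : Nat.card T = 512 := by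
    rw [← Nat.card_congr (Equiv.ofBijective _ ⟨hfi, hfs⟩), Nat.card_fun, Nat.card_zmod, Nat.card_fin]
    norm_num
  have := Subgroup.card_subgroup_dvd_card T
  rw [hT, hH] at this
  norm_num at this

end Frame

/-- No group of order `19595520` has a frame and fusion data. -/
theorem no_frame {H V : Type*} [Group H] [Finite H] [AddCommGroup V] [Fintype V] {R : QRep H V} (F : Frame R)
    (hH : Nat.card H = 19595520)
    (hfus : ∀ v, v ≠ 0 → R.q v = 0 → Nat.card (R.stab v) = 11520 → Nonempty (R.Fusion v)) : False := by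
  classical
  have : Fact (Nat.Prime 7) := ⟨by norm_num⟩
  have : Fact (Nat.Prime 2) := ⟨Nat.prime_two⟩
  let _ : Fintype (GaloisField 2 2) := Fintype.ofFinite _
  obtain ⟨D⟩ := exists_four (F := GaloisField 2 2)
    (by rw [← Nat.card_eq_fintype_card, GaloisField.card 2 2 (by norm_num)]; norm_num)
  obtain ⟨x, hx⟩ := exists_prime_orderOf_dvd_card' (G := H) 7 (by rw [hH]; norm_num)
  obtain ⟨f₁, f₂, w1, w2, h1, h2, hcov, hfull⟩ := F.orbits_codes hx (by rw [hH]; norm_num)
  have hne₂ : F.Φ f₂ ≠ 0 := F.Φ_ne_zero (by omega)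
  have q2 : R.q (F.Φ f₂) = 0 := by rw [F.q_Φ, w2]; rfl
  obtain ⟨f, hf, hrel'⟩ := hfull _ hne₂ q2
  have hrel := hrel'.symm R
  have hr₁ : R.Rel (F.Φ f₁) (F.lam D v2) := by
    rw [F.lam_v2 D]; exact F.rel_weight (w1.trans (by decide)) (Or.inl w1)
  have horb : R.orb (F.lam D v2) = R.orb (F.Φ f₁) := Finset.ext fun v => by
    rw [QRep.mem_orb, QRep.mem_orb]
    exact ⟨fun h => hr₁.trans R h, fun h => (hr₁.symm R).trans R h⟩
  rw [← horb] at h1
  replace hcov : ∀ v, v ≠ 0 → R.q v = 0 → R.Rel (F.lam D v2) v ∨ R.Rel (F.Φ f₂) v := fun v hv hq =>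
    (hcov v hv hq).imp (fun h => (hr₁.symm R).trans R h) id
  obtain ⟨h2', ht2⟩ := F.exists_tv_two D hH h1
  have hq : R.q (F.Φ f) = 0 := (hrel.q R).trans q2
  have hst : Nat.card (R.stab (F.Φ f)) = 11520 := by
    have := R.card_stab_mul (F.Φ f)
    have e : R.orb (F.Φ f) = R.orb (F.Φ f₂) := Finset.ext fun v => by
      rw [QRep.mem_orb, QRep.mem_orb]
      exact ⟨fun h => hrel.trans R h, fun h => (hrel.symm R).trans R h⟩
    rw [e, h2, hH] at this
    omega
  obtain ⟨E⟩ := hfus _ (F.Φ_ne_zero (by omega)) hq hst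
  obtain ⟨h6, ht6⟩ := F.exists_tv_six D hf E
  refine F.not_all_tv D hH fun v hv hqv => ?_
  have hlv : F.lam D v ≠ 0 := fun e => hv ((F.lam_bij D).1 (e.trans (map_zero _).symm))
  rcases hcov _ hlv hqv with ⟨a, ha⟩ | h
  · refine ⟨a * h2' * a⁻¹, ?_⟩
    have e : act (F.gu D a) v2 = v := (F.lam_bij D).1 ((F.lam_gu D a v2).trans ha)
    rw [← e]
    exact Frame.IsTv.conj F D ht2 a
  · obtain ⟨a, ha⟩ := (hrel.symm R).trans R h
    refine ⟨a * h6 * a⁻¹, ?_⟩
    have e : act (F.gu D a) (fun i => Frame.val D (f i)) = v :=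
      (F.lam_bij D).1 (by rw [F.lam_gu, F.lam_val]; exact ha)
    rw [← e]
    exact Frame.IsTv.conj F D ht6 a

end CfsgLib.FischerTwoFour
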