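import Mathlib
import Cfsg.Agent.Lib.FischerTwoFour.Local
import Cfsg.Agent.Lib.FischerTwoFour.Transv

/-!
The fusion data at a vector of `V` coming from a conjugate of `z` in `Q`.
-/

set_option autoImplicit false
set_option linter.unusedSectionVars false

namespace CfsgLib.FischerTwoFour

open scoped commutatorElement

universe u

namespace Shape

variable {C : Type u} [Group C] [Finite C] {Q : Subgroup C} [Q.Normal] (S : Shape Q)

include S

/-- An abelian subgroup of order `2^7` is its own centraliser in `Q`. -/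
theorem mem_of_comm {A : Subgroup Q} (hA : ∀ a ∈ A, ∀ b ∈ A, a * b = b * a) (hc : 128 ≤ Nat.card A) {x : Q}
    (hx : ∀ a ∈ A, a * x = x * a) : x ∈ A := by
  let T : Set Q := insert x (A : Set Q)
  have hT : ∀ a ∈ T, ∀ b ∈ T, a * b = b * a := by
    rintro a (rfl | ha) b (rfl | hb)
    exacts [rfl, (hx b hb).symm, hx a ha, hA a ha b hb]
  have h1 : Subgroup.closure T ≤ Subgroup.centralizer T :=
    (Subgroup.closure_le _).2 fun a ha => Subgroup.mem_centralizer_iff.2 fun b hb => hT b hb a ha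
  have h2 : Subgroup.closure T ≤ Subgroup.centralizer (Subgroup.closure T : Set Q) := by
    rwa [Subgroup.centralizer_closure]
  have hab : IsMulCommutative (Subgroup.closure T) :=
    ⟨⟨fun a b => Subtype.ext (Subgroup.mem_centralizer_iff.1 (h2 b.2) a a.2)⟩⟩
  have hle : A ≤ Subgroup.closure T := fun a ha => Subgroup.subset_closure (Or.inr ha)
  have heq := Subgroup.eq_of_le_of_card_ge hle ((S.card_abelian _ hab).trans hc)
  rw [heq]
  exact Subgroup.subset_closure (Or.inl rfl)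

end Shape

variable {G : Type u} [Group G] [Finite G] {z : G} {Q : Subgroup (Subgroup.centralizer ({z} : Set G))}
  [Q.Normal] (S : Shape Q)

set_option quotPrecheck false in
/-- The centraliser of `z`. -/
local notation "CC" => Subgroup.centralizer ({z} : Set G)

set_option maxHeartbeats 1000000 in
include S in
/-- A conjugate of `z` in `Q` other than `z` gives fusion data. -/
theorem fusion_of_conj (hz : orderOf z = 2) {g : G} (s : Q) (hg : g * z * g⁻¹ = ((s : CC) : G))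
    (hsz : ((s : CC) : G) ≠ z) : Nonempty (S.rep.Fusion (pr s)) := by
  classical
  set Qg := Q.map (CC).subtype with hQg
  obtain ⟨-, hRel, hR7, hEX, hnorm, -, hE32, -⟩ := local_structure S hz s hg hsz Qg hQg _ rfl
  set Qs := Qg.map (MulAut.conj g).toMonoidHom with hQs
  set E : Subgroup (CC ⧸ Q) := ((Qs ⊓ CC).subgroupOf CC).map (QuotientGroup.mk' Q) with hE
  set sG : G := ((s : CC) : G) with hsG
  have hs1 : sG ≠ 1 := fun e => by
    rw [e, mul_inv_eq_one, mul_eq_left] at hg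
    rw [hg, orderOf_one] at hz
    omega
  have hncs : s ∉ Subgroup.center Q := not_center S hz hs1 hsz
  have hstab : stabImage s = S.rep.stab (pr s) := S.stabImage_eq hncs
  have memQg : ∀ x, x ∈ Qg ↔ ∃ a : Q, ((a : CC) : G) = x := fun x =>
    ⟨fun ⟨c, hc, e⟩ => ⟨⟨c, hc⟩, e⟩, fun ⟨a, e⟩ => ⟨a, a.2, e⟩⟩
  have memQs : ∀ x, x ∈ Qs ↔ g⁻¹ * x * g ∈ Qg := by
    intro x
    rw [hQs, Subgroup.mem_map]
    refine ⟨fun ⟨y, hy, e⟩ => ?_, fun h => ⟨_, h, ?_⟩⟩
    · rw [← e, MulEquiv.coe_toMonoidHom, MulAut.conj_apply]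
      simpa [mul_assoc] using hy
    · simp [mul_assoc]
  set R := Qg ⊓ Qs with hR
  let A : Subgroup Q := R.comap ((CC).subtype.comp Q.subtype)
  have memA : ∀ a : Q, a ∈ A ↔ ((a : CC) : G) ∈ R := fun a => Iff.rfl
  have hRQ : R ≤ ((CC).subtype.comp Q.subtype).range := fun x hx => by
    obtain ⟨a, ha⟩ := (memQg x).1 hx.1
    exact ⟨a, ha⟩
  have hinj : Function.Injective ((CC).subtype.comp Q.subtype) := fun a b h => Subtype.ext (Subtype.ext h)
  have hAc : Nat.card A = 128 := by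
    rw [show A = R.comap ((CC).subtype.comp Q.subtype) from rfl,
      ← Subgroup.card_map_of_injective hinj, Subgroup.map_comap_eq_self hRQ, hR7]
    norm_num
  have hRc : ∀ x ∈ R, ∀ y ∈ R, x * y = y * x := fun x hx y hy =>
    congrArg Subtype.val (hRel.1.1.1 ⟨x, hx⟩ ⟨y, hy⟩)
  have hR2 : ∀ x ∈ R, x * x = 1 := fun x hx => by rw [← sq]; exact hRel.2 x hx
  have hAc' : ∀ a ∈ A, ∀ b ∈ A, a * b = b * a := fun a ha b hb => Subtype.ext (Subtype.ext (hRc _ ha _ hb))
  let zQ : Q := ⟨zC z, zC_mem S⟩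
  have hzA : zQ ∈ A := S.mem_of_comm hAc' hAc.ge fun a _ => Subgroup.mem_center_iff.1 (zQ_center S) a
  have hsA : s ∈ A := by
    refine ⟨(memQg _).2 ⟨s, rfl⟩, (memQs _).2 ?_⟩
    show g⁻¹ * sG * g ∈ Qg
    rw [← hg, show g⁻¹ * (g * z * g⁻¹) * g = z by group]
    exact (memQg z).2 ⟨zQ, rfl⟩
  have hcA : Subgroup.center Q ≤ A := fun k hk => by
    rcases center_cases S hz hk with h | h
    · rw [show k = 1 from Subtype.ext (Subtype.ext h)]; exact one_mem A
    · rw [show k = zQ from Subtype.ext (Subtype.ext h)]; exact hzA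
  -- the image in `V`
  let f : Additive A →+ VQ Q := ((Abelianization.of).comp A.subtype).toAdditive
  have memf : ∀ v, v ∈ f.range ↔ ∃ r ∈ A, pr r = v := fun v =>
    ⟨fun ⟨a, ha⟩ => ⟨_, (Additive.toMul a).2, ha⟩, fun ⟨r, hr, e⟩ => ⟨Additive.ofMul ⟨r, hr⟩, e⟩⟩
  have hcard : Nat.card f.range = 64 := by
    have h := AddSubgroup.card_eq_card_quotient_mul_card_addSubgroup f.ker
    rw [Nat.card_congr (QuotientAddGroup.quotientKerEquivRange f).toEquiv,
      show Nat.card (Additive A) = 128 from hAc] at h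
    have hk : Nat.card f.ker = 2 := by
      rw [← S.extra.2]
      refine Nat.card_congr (Equiv.ofBijective
        (fun a => ⟨(Additive.toMul (a : Additive A)).val, S.pr_eq_zero.1 (AddMonoidHom.mem_ker.1 a.2)⟩) ⟨?_, ?_⟩)
      · intro a b hab
        have := congrArg Subtype.val hab
        exact Subtype.ext (Additive.toMul.injective (Subtype.ext this))
      · rintro ⟨k, hk⟩
        exact ⟨⟨Additive.ofMul ⟨k, hcA hk⟩, AddMonoidHom.mem_ker.2 (S.pr_eq_zero.2 hk)⟩, rfl⟩
    rw [hk] at h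
    omega
  have hcom0 : ∀ a b : Q, bf (pr a) (pr b) = 0 → a * b = b * a := fun a b h => by
    rw [S.bf_pr, bit] at h
    split_ifs at h with e
    · exact commutatorElement_eq_one_iff_mul_comm.1 e
    · exact absurd h one_ne_zero
  have hsq : ∀ a ∈ A, a * a = 1 := fun a ha => Subtype.ext (Subtype.ext (hR2 _ ha))
  -- commutators
  have hQz : ∀ x ∈ Qg, ∀ y ∈ Qg, x * y * x⁻¹ * y⁻¹ = 1 ∨ x * y * x⁻¹ * y⁻¹ = z := by
    intro x hx y hy
    obtain ⟨a, rfl⟩ := (memQg x).1 hx
    obtain ⟨b, rfl⟩ := (memQg y).1 hy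
    exact center_cases S hz (S.comm_mem a b)
  have hQsc : ∀ x ∈ Qs, ∀ y ∈ Qs, x * y * x⁻¹ * y⁻¹ = 1 ∨ x * y * x⁻¹ * y⁻¹ = sG := by
    intro x hx y hy
    have e : x * y * x⁻¹ * y⁻¹ = g * (g⁻¹ * x * g * (g⁻¹ * y * g) * (g⁻¹ * x * g)⁻¹ * (g⁻¹ * y * g)⁻¹) * g⁻¹ := by
      group
    rcases hQz _ ((memQs x).1 hx) _ ((memQs y).1 hy) with h | h
    · left; rw [e, h]; group
    · right; rw [e, h, hg]
  -- elements of `E`
  have hEw : ∀ u ∈ E, ∀ r ∈ A, ∃ w : CC, (w : G) ∈ Qs ∧ (QuotientGroup.mk w : CC ⧸ Q) = u ∧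
      S.rep.ρ u (pr r) = pr (cjQ w r) := by
    intro u hu r _
    obtain ⟨w, hw, rfl⟩ := hu
    exact ⟨w, hw.1, rfl, S.rep_apply w r⟩
  have hconjr : ∀ (w : CC), (w : G) ∈ Qs → ∀ r ∈ A, cjQ w r = r ∨ cjQ w r = s * r := by
    intro w hw r hr
    rcases hQsc _ hw _ hr.2 with h | h
    · exact Or.inl (Subtype.ext (Subtype.ext (mul_inv_eq_one.1 h)))
    · exact Or.inr (Subtype.ext (Subtype.ext (mul_inv_eq_iff_eq_mul.1 h)))
  refine ⟨{
    B := f.range
    card_B := hcard
    sing := fun v hv => ?_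
    mem := (memf _).2 ⟨s, hsA, rfl⟩
    perp := fun v hv => ?_
    inv := fun h hh v hv => ?_
    E := E
    card_E := by rw [hE32]
    le := fun u hu => ?_
    norm := fun h hh u hu => hnorm h (hstab ▸ hh) u hu
    diff := fun u hu v hv => ?_
    pointwise := fun u hu hp => ?_ }⟩
  · obtain ⟨r, hr, rfl⟩ := (memf v).1 hv
    exact S.q_invol (hsq r hr)
  · obtain ⟨x, rfl⟩ := pr_surj v
    exact (memf _).2 ⟨x, S.mem_of_comm hAc' hAc.ge fun a ha => hcom0 a x (hv _ ((memf _).2 ⟨a, ha, rfl⟩)), rfl⟩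
  · obtain ⟨r, hr, rfl⟩ := (memf v).1 hv
    have hh' : h ∈ stabImage s := by rw [hstab]; exact hh
    obtain ⟨d, hd, rfl⟩ := hh'
    refine (memf _).2 ⟨cjQ d r, ⟨(memQg _).2 ⟨cjQ d r, rfl⟩, (memQs _).2 ?_⟩, (S.rep_apply d r).symm⟩
    obtain ⟨a, ha⟩ := (memQg _).1 ((memQs _).1 hr.2)
    have hds : (d : G) * sG = sG * (d : G) := congrArg Subtype.val (Subgroup.mem_centralizer_singleton_iff.1 hd)
    have hd' : g⁻¹ * (d : G) * g ∈ CC := by
      refine Subgroup.mem_centralizer_singleton_iff.2 ?_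
      rw [← hg] at hds
      calc g⁻¹ * (d : G) * g * z = g⁻¹ * ((d : G) * (g * z * g⁻¹)) * g := by group
        _ = g⁻¹ * (g * z * g⁻¹ * (d : G)) * g := by rw [hds]
        _ = z * (g⁻¹ * (d : G) * g) := by group
    refine (memQg _).2 ⟨cjQ ⟨_, hd'⟩ a, ?_⟩
    show g⁻¹ * (d : G) * g * ((a : CC) : G) * (g⁻¹ * (d : G) * g)⁻¹ = g⁻¹ * ((d : G) * ((r : CC) : G) * (d : G)⁻¹) * g
    rw [ha]
    simp only [MonoidHom.coe_comp, Subgroup.coe_subtype, Function.comp_apply]
    group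
  · have h := hEX hu
    rw [hstab] at h
    exact h
  · obtain ⟨r, hr, rfl⟩ := (memf v).1 hv
    obtain ⟨w, hw, rfl, e⟩ := hEw u hu r hr
    rw [e]
    rcases hconjr w hw r hr with h | h
    · exact Or.inl (congrArg pr h)
    · right; rw [h, pr_mul, add_comm]
  · -- pointwise
    obtain ⟨w, hwE, rfl⟩ := hu
    have hw : (w : G) ∈ Qs := hwE.1
    have hcomm : ∀ r ∈ R, (w : G) * r = r * (w : G) := by
      intro r hr
      obtain ⟨a, rfl⟩ := hRQ hr
      have hfix : pr (cjQ w a) = pr a := (S.rep_apply w a).symm.trans (hp _ ((memf _).2 ⟨a, hr, rfl⟩))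
      rcases hconjr w hw a hr with h | h
      · exact mul_inv_eq_iff_eq_mul.1 (congrArg (fun q : Q => ((q : CC) : G)) h)
      · exfalso
        rw [h, pr_mul, add_eq_right, S.pr_eq_zero] at hfix
        exact hncs hfix
    -- transport to `Q`
    let k : Q →* G := (MulAut.conj g).toMonoidHom.comp ((CC).subtype.comp Q.subtype)
    let A' : Subgroup Q := R.comap k
    have hk : Function.Injective k := (MulAut.conj g).injective.comp hinj
    have hRk : R ≤ k.range := fun x hx => by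
      obtain ⟨a, ha⟩ := (memQg _).1 ((memQs x).1 hx.2)
      exact ⟨a, by show g * ((a : CC) : G) * g⁻¹ = x; rw [ha]; group⟩
    have hA'c : Nat.card A' = 128 := by
      rw [show A' = R.comap k from rfl, ← Subgroup.card_map_of_injective hk, Subgroup.map_comap_eq_self hRk, hR7]
      norm_num
    obtain ⟨y, hy⟩ := (memQg _).1 ((memQs _).1 hw)
    have hky : k y = (w : G) := by show g * ((y : CC) : G) * g⁻¹ = w; rw [hy]; group
    have hyA : y ∈ A' := S.mem_of_comm (fun a ha b hb => hk (by rw [map_mul, map_mul]; exact hRc _ ha _ hb))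
      hA'c.ge fun a ha => hk (by rw [map_mul, map_mul, hky]; exact (hcomm _ ha).symm)
    have hwR : (w : G) ∈ R := hky ▸ hyA
    obtain ⟨a, ha⟩ := (memQg _).1 hwR.1
    refine (QuotientGroup.eq_one_iff w).2 ?_
    rw [show w = (a : CC) from Subtype.ext ha.symm]
    exact a.2

/-- All vectors with the smaller stabiliser carry fusion data. -/
theorem exists_fusion (hz : orderOf z = 2) (hconj : ∃ g : G,
    (∃ hq : g * z * g⁻¹ ∈ CC, (⟨g * z * g⁻¹, hq⟩ : CC) ∈ Q) ∧ g * z * g⁻¹ ≠ z) (S : Shape Q) :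
    ∀ v, v ≠ 0 → S.rep.q v = 0 → Nat.card (S.rep.stab v) = 11520 → Nonempty (S.rep.Fusion v) := by
  intro v hv hq hc
  obtain ⟨g, ⟨hq', hqQ⟩, hne⟩ := hconj
  let s : Q := ⟨⟨_, hq'⟩, hqQ⟩
  obtain ⟨a, rfl⟩ := pr_surj v
  have ha2 : a * a = 1 := by
    have h : qf (pr a) = 0 := hq
    rw [S.qf_pr, bit] at h
    by_contra hne
    rw [if_neg hne] at h
    exact one_ne_zero h
  have han : a ∉ Subgroup.center Q := fun e => hv (S.pr_eq_zero.2 e)
  rw [← S.stabImage_eq han] at hc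
  have hs2 : s * s = 1 := by
    refine Subtype.ext (Subtype.ext ?_)
    show g * z * g⁻¹ * (g * z * g⁻¹) = 1
    have hzz : z * z = 1 := by rw [← sq, ← hz]; exact pow_orderOf_eq_one z
    calc g * z * g⁻¹ * (g * z * g⁻¹) = g * (z * z) * g⁻¹ := by group
      _ = 1 := by rw [hzz]; group
  have hsn : s ∉ Subgroup.center Q := not_center S hz (fun e => by
    have e' : g * z * g⁻¹ = 1 := e
    rw [mul_inv_eq_one, mul_eq_left] at e'
    rw [e', orderOf_one] at hz
    omega) hne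
  have hcs := (local_structure S hz s rfl hne _ rfl _ rfl).1
  obtain ⟨c, hc'⟩ := S.conj_of_card hs2 hsn ha2 han (hcs.trans hc.symm)
  have hg : ((c : G) * g) * z * ((c : G) * g)⁻¹ = ((a : CC) : G) := by
    rw [← hc']
    show _ = (c : G) * (g * z * g⁻¹) * (c : G)⁻¹
    group
  refine fusion_of_conj S hz a hg fun e => ?_
  rcases eq_or_ne ((a : CC) : G) 1 with h1 | h1
  · exact han (by rw [show a = 1 from Subtype.ext (Subtype.ext h1)]; exact one_mem _)
  · exact han (by rw [show a = ⟨zC z, zC_mem S⟩ from Subtype.ext (Subtype.ext e)]; exact zQ_center S)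

end CfsgLib.FischerTwoFour
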