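import Cfsg.Agent.Lib.FischerTwoFour.CoExists
import Cfsg.Agent.Lib.FischerTwoFour.Fusion

/-!
In large Fischer type the outer elements invert the element of order three, and the elements of
transvection type at a vector of the long orbit form a group of order sixteen.
-/

set_option autoImplicit false
set_option linter.unusedSectionVars false

universe u

namespace CfsgLib.FischerTwoFour

open Four

variable {C : Type u} [Group C] [Finite C] {Q : Subgroup C} [Q.Normal]

/-- The coordinates with their consequences. -/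
structure Geo (S : Shape Q) where
  Mb : Subgroup (C ⧸ Q)
  K : Co (S.rep.sub Mb)
  index_Mb : Mb.index = 2
  card_Mb : Nat.card Mb = 9797760
  t_order : orderOf (K.t : C ⧸ Q) = 3
  inv : ∀ y : C ⧸ Q, y ∉ Mb → y * (K.t : C ⧸ Q) * y⁻¹ = (K.t : C ⧸ Q)⁻¹
  card_S : Nat.card K.S = 16
  card_stab : Nat.card ((S.rep.sub Mb).stab K.v) = 5760
  card_stab' : Nat.card (S.rep.stab K.v) = 11520

/-- An element preserving `L` up to the base vector moves the hyperplane of the line into the line. -/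
theorem Co.moves_into_line {H V : Type*} [Group H] [Finite H] [AddCommGroup V] [Finite V] {R : QRep H V}
    {M : Subgroup H} (K : Co (R.sub M)) (L : AddSubgroup V) (hL : Nat.card L = 64) (hv : K.v ∈ L)
    (hiso : ∀ a ∈ L, ∀ b ∈ L, R.b a b = 0) (hinv : ∀ π : A6, ∀ a ∈ L, R.ρ (K.p π : H) a ∈ L)
    {h : H} (hc : h * (K.t : H) = (K.t : H) * h) (hfix : R.ρ h K.v = K.v)
    (hLh : ∀ a ∈ L, R.ρ h a + a = 0 ∨ R.ρ h a + a = K.v) (y : V) (h1 : R.b y K.v = 0)
    (h2 : R.b y (R.ρ (K.t : H) K.v) = 0) : R.ρ h y + y ∈ R.line (K.t : H) K.v := by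
  classical
  set ℓ := R.line (K.t : H) K.v
  have hline : ∀ a, K.e (cst a) ∈ ℓ := fun a => (K.mem_line).2 ⟨a, rfl⟩
  let A : AddSubgroup Vec :=
    { carrier := {x | sig x = 0 ∧ ∃ a, K.e (x + cst a) ∈ L}
      zero_mem' := ⟨sig_cst 0, 0, by rw [show cst 0 = (0 : Vec) from rfl, add_zero, map_zero]; exact zero_mem _⟩
      add_mem' := fun {x y} ⟨hx, a, ha⟩ ⟨hy, b, hb⟩ => ⟨by rw [sig_add, hx, hy, add_zero], a + b, by
        rw [cst_add, show x + y + (cst a + cst b) = (x + cst a) + (y + cst b) by abel, map_add]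
        exact add_mem ha hb⟩
      neg_mem' := fun {x} hx => by rwa [show -x = x from neg_eq_of_add_eq_zero_left (vec_add_self x)] }
  have hcA : ∀ a, cst a ∈ A := fun a => ⟨sig_cst a, a, by rw [vec_add_self, map_zero]; exact zero_mem _⟩
  have hpA : ∀ x ∈ A, ∀ π : A6, (fun i => x ((π : Equiv.Perm (Fin 6)).symm i)) ∈ A := by
    rintro x ⟨hx, a, ha⟩ π
    refine ⟨?_, a, ?_⟩
    · rw [← hx]; exact Equiv.sum_comp (π : Equiv.Perm (Fin 6)).symm x
    · have := hinv π _ ha
      rw [show R.ρ (K.p π : H) (K.e (x + cst a)) = (R.sub M).ρ (K.p π) (K.e (x + cst a)) from rfl, K.p_e] at this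
      exact this
  -- the set moved into the line
  let Gd : AddSubgroup V :=
    { carrier := {u | R.ρ h u + u ∈ ℓ}
      zero_mem' := by
        show R.ρ h 0 + 0 ∈ ℓ
        rw [map_zero, add_zero]; exact zero_mem _
      add_mem' := fun {u w} hu hw => by
        show R.ρ h (u + w) + (u + w) ∈ ℓ
        rw [map_add, add_add_add_comm]
        exact add_mem hu hw
      neg_mem' := fun {u} hu => by
        show R.ρ h (-u) + -u ∈ ℓ
        rw [map_neg, ← neg_add]
        exact neg_mem hu }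
  have hℓfix : ∀ u ∈ ℓ, R.ρ h u = u := fun u hu => R.line_fixed hc hfix hu
  have hLG : ∀ u ∈ L, u ∈ Gd := fun u hu => by
    rcases hLh u hu with e | e
    · exact (show R.ρ h u + u ∈ ℓ by rw [e]; exact zero_mem _)
    · exact (show R.ρ h u + u ∈ ℓ by rw [e]; exact AddSubgroup.subset_closure (Or.inl rfl))
  have hAG : ∀ x ∈ A, K.e x ∈ Gd := by
    rintro x ⟨-, a, ha⟩
    have h' : K.e (cst a) ∈ Gd := by
      show R.ρ h _ + _ ∈ ℓ
      rw [hℓfix _ (hline a), R.two]; exact zero_mem _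
    have := add_mem (hLG _ ha) h'
    rwa [← map_add, add_assoc, vec_add_self, add_zero] at this
  have hGt : ∀ u ∈ Gd, R.ρ (K.t : H) u ∈ Gd := by
    intro u hu
    show R.ρ h (R.ρ (K.t : H) u) + R.ρ (K.t : H) u ∈ ℓ
    rw [← R.mul_apply, hc, R.mul_apply, ← map_add]
    obtain ⟨z, hz⟩ := K.e.surjective (R.ρ h u + u)
    have hu' : K.e z ∈ ℓ := hz ▸ hu
    obtain ⟨a, rfl⟩ := K.mem_line.1 hu'
    rw [← hz, show R.ρ (K.t : H) (K.e (cst a)) = (R.sub M).ρ K.t (K.e (cst a)) from rfl, K.e_om, omV_cst]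
    exact hline _
  -- a nonconstant member
  obtain ⟨x, hxA, c, d, hcd⟩ : ∃ x ∈ A, ∃ c d, x c + x d ≠ 0 := by
    by_contra hno
    push Not at hno
    let β : L →+ ZMod 2 :=
      AddMonoidHom.mk' (fun u => R.b (u : V) (R.ρ (K.t : H) K.v)) fun u w => R.b_add _ _ _
    have hker : Nat.card β.ker ≤ 4 := by
      let f : β.ker → K4 := fun u => K.e.symm ((u : L) : V) 0
      refine (Nat.card_le_card_of_injective f ?_).trans (le_of_eq (by rw [Nat.card_eq_fintype_card]; rfl))
      intro u w e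
      have hcst : ∀ u : β.ker, K.e.symm ((u : L) : V) = cst (K.e.symm ((u : L) : V) 0) := by
        intro u
        have hA : K.e.symm ((u : L) : V) ∈ A := by
          refine ⟨?_, 0, by rw [show cst 0 = (0 : Vec) from rfl, add_zero, K.e.apply_symm_apply]; exact (u : L).2⟩
          rw [← K.perp_iff, K.e.apply_symm_apply]
          exact ⟨hiso _ (u : L).2 _ hv, u.2⟩
        funext i
        exact (by decide : ∀ p q : K4, p + q = 0 → p = q) _ _ (hno _ hA i 0)
      refine Subtype.ext (Subtype.ext (K.e.symm.injective ?_))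
      rw [hcst u, hcst w]
      exact congrArg cst e
    have h' := AddSubgroup.card_eq_card_quotient_mul_card_addSubgroup β.ker
    have hq : Nat.card (L ⧸ β.ker) ≤ 2 := by
      refine (Nat.card_le_card_of_injective (QuotientAddGroup.kerLift β)
        (QuotientAddGroup.kerLift_injective β)).trans ?_
      rw [Nat.card_zmod]
    rw [hL] at h'
    have := Nat.mul_le_mul hq hker
    omega
  have hcd' : c ≠ d := fun e => hcd (by rw [e, Four.add_self])
  have hpairs : ∀ (a : K4) (i j : Fin 6), i ≠ j → K.e (pairV a i j) ∈ Gd := by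
    intro a i j hij
    have h0 := hAG _ (Co.pair_of_invariant A hcA hpA hxA hcd' hij)
    set q := x c + x d
    have hom : ∀ p, K.e (pairV p i j) ∈ Gd → K.e (pairV (om p) i j) ∈ Gd := fun p hp => by
      have := hGt _ hp
      rwa [show R.ρ (K.t : H) (K.e (pairV p i j)) = (R.sub M).ρ K.t (K.e (pairV p i j)) from rfl, K.e_om,
        show omV (pairV p i j) = pairV (om p) i j from funext fun k => by
          simp only [omV, pairV]; split_ifs <;> rfl] at this
    rcases (by decide : ∀ a q : K4, q ≠ 0 → a = 0 ∨ a = q ∨ a = om q ∨ a = om (om q)) a q hcd with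
      e | e | e | e <;> subst e
    · rw [show pairV 0 i j = (0 : Vec) from funext fun k => ite_self _, map_zero]; exact zero_mem _
    · exact h0
    · exact hom _ h0
    · exact hom _ (hom _ h0)
  obtain ⟨w, rfl⟩ := K.e.surjective y
  have hw : sig w = 0 := K.perp_iff.1 ⟨h1, h2⟩
  have hdec : w = pairV (w 0) 0 2 + pairV (w 1) 1 2 + pairV (w 3) 3 2 + pairV (w 4) 4 2 + pairV (w 5) 5 2 := by
    funext k
    simp only [sig, Fin.sum_univ_six] at hw
    fin_cases k <;> simp [pairV]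
    exact (by decide +kernel : ∀ a b c d e f : K4, a + b + c + d + e + f = 0 → c = a + b + d + e + f)
      _ _ _ _ _ _ hw
  show K.e w ∈ Gd
  rw [hdec, map_add, map_add, map_add, map_add]
  exact add_mem (add_mem (add_mem (add_mem (hpairs _ _ _ (by decide)) (hpairs _ _ _ (by decide)))
    (hpairs _ _ _ (by decide))) (hpairs _ _ _ (by decide))) (hpairs _ _ _ (by decide))

/-- From the data of the intersection with a conjugate, the coordinates with their consequences. -/
theorem Shape.exists_geo (S : Shape Q) (w : VQ Q) (hw : Nat.card (S.rep.stab w) = 11520) (hwq : S.rep.q w = 0)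
    (hw0 : w ≠ 0) (E : Subgroup (C ⧸ Q)) (hE : Nat.card E = 32) (hEw : E ≤ S.rep.stab w)
    (L : AddSubgroup (VQ Q)) (hL : Nat.card L = 64) (hwL : w ∈ L) (hiso : ∀ a ∈ L, ∀ b ∈ L, S.rep.b a b = 0)
    (hinv : ∀ h ∈ S.rep.stab w, ∀ a ∈ L, S.rep.ρ h a ∈ L)
    (hEL : ∀ h ∈ E, ∀ a ∈ L, S.rep.ρ h a + a = 0 ∨ S.rep.ρ h a + a = w) : Nonempty (Geo S) := by
  classical
  have : Fintype (VQ Q) := Fintype.ofFinite _
  obtain ⟨Mb, hidx, hMb, K, horb, horb2, hto, hnorm⟩ := S.exists_co inferInstance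
  have hC := S.card_C
  obtain ⟨u₁, u₂, c1, c2, -, -, n1, n2, hcov, -⟩ := S.orbit_data.2
  have horbC : ∀ {a b}, S.rep.Rel a b → S.rep.orb b = S.rep.orb a := fun {a b} h => Finset.ext fun v => by
    rw [QRep.mem_orb, QRep.mem_orb]
    exact ⟨fun h' => h.trans S.rep h', fun h' => (h.symm S.rep).trans S.rep h'⟩
  have hsub : ∀ a, (S.rep.sub Mb).orb a ⊆ S.rep.orb a := fun a b hb => by
    rw [QRep.mem_orb] at hb ⊢
    obtain ⟨g, hg⟩ := hb
    exact ⟨g, hg⟩
  have hv0 : K.v ≠ 0 := fun e => by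
    have : cst one = (0 : Vec) := K.e.injective (e.trans (map_zero _).symm)
    exact absurd (congrFun this 0) (by decide)
  have hvq : S.rep.q K.v = 0 := by
    show (S.rep.sub Mb).q K.v = 0
    rw [Co.v, K.q_e]; rfl
  have hvcard : (S.rep.orb K.v).card = 1701 := by
    have hle : 1701 ≤ (S.rep.orb K.v).card := horb ▸ Finset.card_le_card (hsub _)
    rcases hcov _ hv0 hvq with h | h
    · rw [horbC h, c1] at hle; omega
    · rw [horbC h, c2]
  have hwcard : (S.rep.orb w).card = 1701 := by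
    have h := S.rep.card_stab_mul w
    rw [hw, hC] at h
    omega
  obtain ⟨g, hg⟩ : S.rep.Rel w K.v := by
    rcases hcov _ hv0 hvq with h | h
    · rw [horbC h, c1] at hvcard; omega
    · rcases hcov _ hw0 hwq with h' | h'
      · rw [horbC h', c1] at hwcard; omega
      · exact (h'.symm S.rep).trans S.rep h
  have hginv : S.rep.ρ g⁻¹ K.v = w := by rw [← hg, S.rep.inv_apply]
  -- transport
  let E' : Subgroup (C ⧸ Q) := E.map (MulAut.conj g).toMonoidHom
  have hE' : Nat.card E' = 32 := by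
    rw [← hE]
    exact (Nat.card_congr (Subgroup.equivMapOfInjective _ _ (MulAut.conj g).injective).toEquiv).symm
  let gh : VQ Q →+ VQ Q := AddMonoidHom.mk' (fun u => S.rep.ρ g u) (map_add _)
  let L' : AddSubgroup (VQ Q) := L.map gh
  have hL' : Nat.card L' = 64 := by
    rw [← hL]
    exact (Nat.card_congr (AddSubgroup.equivMapOfInjective L gh (fun a b e => S.rep.inj g e)).toEquiv).symm
  have hvL' : K.v ∈ L' := ⟨w, hwL, hg⟩
  have hiso' : ∀ a ∈ L', ∀ b ∈ L', S.rep.b a b = 0 := by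
    rintro _ ⟨a, ha, rfl⟩ _ ⟨b, hb, rfl⟩
    show S.rep.b (S.rep.ρ g a) (S.rep.ρ g b) = 0
    rw [S.rep.b_inv]; exact hiso a ha b hb
  have hinv' : ∀ π : A6, ∀ a ∈ L', S.rep.ρ (K.p π : C ⧸ Q) a ∈ L' := by
    rintro π _ ⟨a, ha, rfl⟩
    have hst : g⁻¹ * (K.p π : C ⧸ Q) * g ∈ S.rep.stab w := by
      show S.rep.ρ _ w = w
      rw [S.rep.mul_apply, S.rep.mul_apply, hg]
      have := K.p_fix π
      rw [QRep.sub_apply] at this
      rw [this, hginv]
    refine ⟨_, hinv _ hst a ha, ?_⟩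
    show S.rep.ρ g (S.rep.ρ (g⁻¹ * (K.p π : C ⧸ Q) * g) a) = S.rep.ρ (K.p π : C ⧸ Q) (S.rep.ρ g a)
    rw [← S.rep.mul_apply, ← S.rep.mul_apply]
    congr 2
    group
  have hEfix : ∀ h ∈ E', S.rep.ρ h K.v = K.v ∧ ∀ a ∈ L', S.rep.ρ h a + a = 0 ∨ S.rep.ρ h a + a = K.v := by
    rintro _ ⟨h, hh, rfl⟩
    have hhw : S.rep.ρ h w = w := hEw hh
    refine ⟨?_, ?_⟩
    · show S.rep.ρ (g * h * g⁻¹) K.v = K.v
      rw [S.rep.mul_apply, S.rep.mul_apply, hginv, hhw, hg]
    · rintro _ ⟨a, ha, rfl⟩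
      have e : S.rep.ρ (g * h * g⁻¹) (S.rep.ρ g a) + S.rep.ρ g a = S.rep.ρ g (S.rep.ρ h a + a) := by
        rw [map_add, ← S.rep.mul_apply (g * h * g⁻¹) g, show g * h * g⁻¹ * g = g * h by group, S.rep.mul_apply]
      show S.rep.ρ (g * h * g⁻¹) (S.rep.ρ g a) + S.rep.ρ g a = 0 ∨
        S.rep.ρ (g * h * g⁻¹) (S.rep.ρ g a) + S.rep.ρ g a = K.v
      rw [e]
      exact (hEL h hh a ha).imp (fun e => by rw [e, map_zero]) (fun e => by rw [e, hg])
  have hmove : ∀ h ∈ E', h * (K.t : C ⧸ Q) = (K.t : C ⧸ Q) * h → ∀ y, S.rep.b y K.v = 0 →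
      S.rep.b y (S.rep.ρ (K.t : C ⧸ Q) K.v) = 0 → S.rep.ρ h y + y ∈ S.rep.line (K.t : C ⧸ Q) K.v :=
    fun h hh hc => K.moves_into_line L' hL' hvL' hiso' hinv' hc (hEfix h hh).1 (hEfix h hh).2
  have ht3 : (K.t : C ⧸ Q) ^ 3 = 1 := congrArg Subtype.val K.t_cube
  have hconj : ∀ y : C ⧸ Q, y * (K.t : C ⧸ Q) * y⁻¹ = K.t ∨ y * (K.t : C ⧸ Q) * y⁻¹ = (K.t : C ⧸ Q)⁻¹ := by
    intro y
    obtain ⟨n, hn⟩ := Subgroup.mem_zpowers_iff.1 (hnorm y)
    rw [← hn, ← zpow_mod_orderOf, hto]
    rcases (by omega : n % (3 : ℕ) = 0 ∨ n % (3 : ℕ) = 1 ∨ n % (3 : ℕ) = 2) with e | e | e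
    · exfalso
      rw [← zpow_mod_orderOf, hto, e, zpow_zero] at hn
      have h1 : (K.t : C ⧸ Q) = 1 := by
        have := hn.symm
        rwa [mul_inv_eq_one, mul_eq_left] at this
      rw [h1, orderOf_one] at hto
      omega
    · left; rw [e, zpow_one]
    · right
      rw [e, eq_inv_iff_mul_eq_one, ← zpow_add_one, show ((2 : ℤ) + 1) = ((3 : ℕ) : ℤ) from rfl, zpow_natCast]
      exact ht3
  have hinvert : ∀ y : C ⧸ Q, y ∉ Mb → y * (K.t : C ⧸ Q) * y⁻¹ = (K.t : C ⧸ Q)⁻¹ := by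
    intro y hy
    refine (hconj y).resolve_left fun hcy => ?_
    have hall : ∀ u : C ⧸ Q, u * (K.t : C ⧸ Q) = (K.t : C ⧸ Q) * u := by
      intro u
      have hyc : y * (K.t : C ⧸ Q) = (K.t : C ⧸ Q) * y := mul_inv_eq_iff_eq_mul.1 hcy
      by_cases hu : u ∈ Mb
      · exact congrArg Subtype.val (K.t_comm ⟨u, hu⟩)
      · have hm : y⁻¹ * u ∈ Mb := (Subgroup.mul_mem_iff_of_index_two hidx).2 (iff_of_false (by simpa using hy) hu)
        have h := congrArg Subtype.val (K.t_comm ⟨_, hm⟩)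
        simp only [Subgroup.coe_mul] at h
        calc u * (K.t : C ⧸ Q) = y * (y⁻¹ * u * (K.t : C ⧸ Q)) := by group
          _ = y * (K.t : C ⧸ Q) * (y⁻¹ * u) := by rw [h, mul_assoc y]
          _ = (K.t : C ⧸ Q) * u := by rw [hyc]; group
    let K' : Co S.rep :=
      { t := (K.t : C ⧸ Q)
        t_cube := ht3
        t_comm := hall
        e := K.e
        e_om := K.e_om
        q_e := K.q_e
        p := Mb.subtype.comp K.p
        p_e := K.p_e
        wt_two := fun x hx hr => by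
          have hdisj : Disjoint ((S.rep.sub Mb).orb K.v) ((S.rep.sub Mb).orb (K.e x)) := by
            rw [Finset.disjoint_left]
            intro a ha ha'
            rw [QRep.mem_orb] at ha ha'
            exact K.wt_two x hx (ha.trans _ (ha'.symm _))
          have hun : (S.rep.sub Mb).orb K.v ∪ (S.rep.sub Mb).orb (K.e x) ⊆ S.rep.orb K.v :=
            Finset.union_subset (hsub _) (horbC hr ▸ hsub _)
          have := Finset.card_le_card hun
          rw [Finset.card_union_of_disjoint hdisj, horb, horb2 x hx, hvcard] at this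
          omega
        wt_four := fun x hx => let ⟨a, ha⟩ := K.wt_four x hx; ⟨a, ha⟩
        wt_six := fun x hx hc => let ⟨a, ha⟩ := K.wt_six x hx hc; ⟨a, ha⟩ }
    have hle : E' ≤ K'.S := fun h hh => ⟨(hEfix h hh).1, hmove h hh (hall h)⟩
    obtain ⟨μ, -, hcard, -⟩ := K'.exists_pattern
    have := Nat.le_of_dvd Nat.card_pos (Subgroup.card_dvd_of_le hle)
    omega
  have hcardS : Nat.card K.S = 16 := by
    obtain ⟨μ, -, hcard, -⟩ := K.exists_pattern
    refine le_antisymm hcard ?_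
    let Em : Subgroup Mb := E'.subgroupOf Mb
    have hle : Em ≤ K.S := fun h hh =>
      ⟨(hEfix _ hh).1, hmove _ hh (congrArg Subtype.val (K.t_comm h))⟩
    have h2 : 16 ≤ Nat.card Em := by
      have hi : Em.index ≠ 0 := Subgroup.index_ne_zero_of_finite
      have : Mb.Normal := Subgroup.normal_of_index_eq_two hidx
      have hrel : (E' ⊓ Mb).relIndex E' ≤ 2 := by
        rw [Subgroup.inf_relIndex_left]
        exact (Nat.le_of_dvd (by norm_num) (hidx ▸ Subgroup.relIndex_dvd_index_of_normal Mb E')).trans le_rfl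
      have hm := Subgroup.card_mul_index ((E' ⊓ Mb).subgroupOf E')
      rw [Nat.card_congr (Subgroup.subgroupOfEquivOfLe (inf_le_left : E' ⊓ Mb ≤ E')).toEquiv, hE'] at hm
      have hEm : Nat.card Em = Nat.card ↥(E' ⊓ Mb) := by
        show Nat.card (E'.subgroupOf Mb) = _
        rw [← Subgroup.inf_subgroupOf_right E' Mb]
        exact Nat.card_congr (Subgroup.subgroupOfEquivOfLe inf_le_right).toEquiv
      rw [hEm]
      have hx : ((E' ⊓ Mb).subgroupOf E').index ≤ 2 := hrel
      nlinarith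
    exact h2.trans (Nat.le_of_dvd Nat.card_pos (Subgroup.card_dvd_of_le hle))
  refine ⟨⟨Mb, K, hidx, hMb, hto, hinvert, hcardS, ?_, ?_⟩⟩
  · have h := (S.rep.sub Mb).card_stab_mul K.v
    rw [horb, hMb] at h
    omega
  · have h := S.rep.card_stab_mul K.v
    rw [hvcard, hC] at h
    omega

/-- From fusion data at the vectors of the long orbit. -/
theorem Shape.geo_of_fusion (S : Shape Q)
    (hfus : ∀ v, v ≠ 0 → S.rep.q v = 0 → Nat.card (S.rep.stab v) = 11520 → Nonempty (S.rep.Fusion v)) :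
    Nonempty (Geo S) := by
  classical
  have : Fintype (VQ Q) := Fintype.ofFinite _
  obtain ⟨u₁, u₂, -, c2, -, q2, -, n2, -, -⟩ := S.orbit_data.2
  have hst : Nat.card (S.rep.stab u₂) = 11520 := by
    have h := S.rep.card_stab_mul u₂
    rw [c2, S.card_C] at h
    omega
  obtain ⟨D⟩ := hfus u₂ n2 q2 hst
  refine S.exists_geo u₂ hst q2 n2 D.E D.card_E D.le D.B D.card_B D.mem (fun a ha b hb => ?_) D.inv
    fun h hh a ha => ?_
  · have e := S.rep.q_add a b
    rw [D.sing _ (add_mem ha hb), D.sing _ ha, D.sing _ hb, zero_add, zero_add] at e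
    exact e.symm
  · rcases D.diff h hh a ha with e | e
    · exact Or.inl (by rw [e]; exact S.rep.two a)
    · exact Or.inr (by rw [e, add_comm a, add_assoc, S.rep.two, add_zero])

end CfsgLib.FischerTwoFour
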