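import Cfsg.Agent.Lib.FischerTwoFour.Bound

/-!
Lifts in the centraliser of an element of order three: those of elements of transvection type, and of the
subgroup fixing the flat vectors of the base pairing, are commuting involutions.
-/

set_option autoImplicit false
set_option linter.unusedSectionVars false

universe u

namespace CfsgLib.FischerTwoFour

open Four
open scoped commutatorElement

namespace Four

/-- The transport of a normalised pattern by a permutation. -/
def moveP (π : Equiv.Perm (Fin 6)) (P : Pat) : Pat := fun i => P (π.symm i) + P (π.symm 2)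

theorem norm_orbit : ∀ P : Pat, Norm P → P ≠ 0 → ∃ π : Equiv.Perm (Fin 6), Equiv.Perm.sign π = 1 ∧
    ∀ i, (![1, 1, 0, 0, 0, 0] : Pat) i = P (π.symm i) + P (π.symm 2) := by
  decide +kernel

theorem split_flat : ∀ a : Fin 6, ∀ P ∈ annFlat base, ∃ g : Pat, Norm g ∧
    ∀ i, P i = g i + (g (dtr base a i) + g (dtr base a 2)) := by
  decide +kernel

/-- The weight four vector moved only along itself by a double transposition of the base pairing. -/
def offPair (a : Fin 6) : Vec := fun i => if i = a ∨ i = pairing base a then 0 else one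

theorem offPair_wt : ∀ a, wtV (offPair a) = 4 := by decide +kernel

set_option synthInstance.maxSize 1000 in
theorem offPair_rad : ∀ a i, offPair a (dtr base a i) = offPair a i := by decide +kernel

theorem offPair_line : ∀ a : Fin 6, ∀ y : Vec, btV y (offPair a) = 0 → btV y (omV (offPair a)) = 0 →
    ∃ c : K4, ∀ i, y (dtr base a i) + y i = mul c (offPair a i) := by
  intro a y h1 h2
  obtain ⟨b, d, hb, hd, hbd, hsum⟩ : ∃ b d : Fin 6, offPair a b = one ∧ offPair a d = one ∧ (d ≠ b ∧ d ≠ pairing base b) ∧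
      ∀ z : Vec, btV z (offPair a) = bt (z b + z (pairing base b) + (z d + z (pairing base d))) one ∧
        btV z (omV (offPair a)) = bt (z b + z (pairing base b) + (z d + z (pairing base d))) (om one) := by
    fin_cases a
    all_goals first
      | (refine ⟨2, 4, by decide, by decide, by decide, fun z => ?_⟩
         simp [btV, offPair, omV, pairing_base, Fin.sum_univ_six, bt, one, om]
         constructor <;> abel)
      | (refine ⟨0, 4, by decide, by decide, by decide, fun z => ?_⟩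
         simp [btV, offPair, omV, pairing_base, Fin.sum_univ_six, bt, one, om]
         constructor <;> abel)
      | (refine ⟨0, 2, by decide, by decide, by decide, fun z => ?_⟩
         simp [btV, offPair, omV, pairing_base, Fin.sum_univ_six, bt, one, om]
         constructor <;> abel)
  rw [(hsum y).1] at h1
  rw [(hsum y).2] at h2
  have hz : y b + y (pairing base b) = y d + y (pairing base d) :=
    (by decide +kernel : ∀ p q : K4, bt (p + q) one = 0 → bt (p + q) (om one) = 0 → p = q) _ _ h1 h2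
  refine ⟨y b + y (pairing base b), fun i => ?_⟩
  have hcases : (offPair a i = 0 ∧ dtr base a i = i) ∨ (offPair a i = one ∧
      ((i = b ∧ dtr base a i = pairing base b) ∨ (i = pairing base b ∧ dtr base a i = b) ∨
        (i = d ∧ dtr base a i = pairing base d) ∨ (i = pairing base d ∧ dtr base a i = d))) := by
    revert hb hd hbd
    clear * -
    revert a b d i
    decide +kernel
  rcases hcases with ⟨e, e'⟩ | ⟨e, ⟨e1, e2⟩ | ⟨e1, e2⟩ | ⟨e1, e2⟩ | ⟨e1, e2⟩⟩ <;> rw [e]
  · rw [e', Four.add_self, Four.mul_zero]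
  all_goals rw [Four.mul_one, e2, e1]
  · exact add_comm _ _
  · rw [hz]; exact add_comm _ _
  · exact hz.symm

end Four

variable {C : Type u} [Group C] [Finite C] {Q : Subgroup C} [Q.Normal] {S : Shape Q} (G : Geo S)

namespace Shape

variable (S)

include S

theorem center_comm {a : Q} (ha : a ∈ Subgroup.center Q) (c : C) : c * (a : C) = (a : C) * c := by
  have h := congrArg Subtype.val (S.cjQ_center c ha)
  rw [cjQ_val] at h
  exact mul_inv_eq_iff_eq_mul.1 h

theorem center_sq {a : Q} (ha : a ∈ Subgroup.center Q) : (a : C) * a = 1 := by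
  have h := CfsgLib.PGroup.extraspecial_center_pow_eq_one S.extra ha
  rw [sq] at h
  exact congrArg Subtype.val h

end Shape

namespace Geo

/-- An element of order three over `t`. -/
structure Lift where
  x : C
  cube : x * x * x = 1
  mkx : QuotientGroup.mk x = (G.K.t : C ⧸ Q)

theorem exists_lift : Nonempty G.Lift := by
  obtain ⟨c, hc⟩ := QuotientGroup.mk_surjective (G.K.t : C ⧸ Q)
  refine ⟨⟨c ^ (2 ^ 14), ?_, ?_⟩⟩
  · have h3 : c ^ 3 ∈ Q := (QuotientGroup.eq_one_iff _).1 (by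
      rw [QuotientGroup.mk_pow, hc]; exact congrArg Subtype.val G.K.t_cube)
    have h := pow_card_eq_one' (x := (⟨c ^ 3, h3⟩ : Q))
    rw [S.card_Q] at h
    have h' : (c ^ 3) ^ (2 ^ 13) = 1 := congrArg Subtype.val h
    rw [← pow_three' (c ^ (2 ^ 14)), ← pow_mul, show 2 ^ 14 * 3 = 3 * 2 ^ 13 * 2 by norm_num, pow_mul, pow_mul,
      h', one_pow]
  · rw [QuotientGroup.mk_pow, hc]
    have h3 : (G.K.t : C ⧸ Q) ^ 3 = 1 := congrArg Subtype.val G.K.t_cube
    rw [show (2 : ℕ) ^ 14 = 3 * 5461 + 1 by norm_num, pow_add, pow_mul, h3, one_pow, pow_one, _root_.one_mul]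

theorem eq_zero_of_t {u : VQ Q} (h : S.rep.ρ (G.K.t : C ⧸ Q) u = u) : u = 0 := by
  obtain ⟨y, rfl⟩ := G.K.e.surjective u
  rw [show S.rep.ρ (G.K.t : C ⧸ Q) (G.K.e y) = (S.rep.sub G.Mb).ρ G.K.t (G.K.e y) from rfl, G.K.e_om] at h
  rw [show y = 0 from funext fun i =>
    (by decide : ∀ c : K4, om c = c → c = 0) _ (congrFun (G.K.e.injective h) i), map_zero]

variable {G} (X : G.Lift)

namespace Lift

theorem cent_Q {q : Q} (h : X.x * (q : C) = (q : C) * X.x) : q ∈ Subgroup.center Q := by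
  refine S.pr_eq_zero.1 (G.eq_zero_of_t ?_)
  rw [← X.mkx, S.rep_apply]
  refine congrArg pr (Subtype.ext ?_)
  rw [cjQ_val, h, mul_inv_cancel_right]

theorem exists_cent {m : C ⧸ Q} (hm : m ∈ G.Mb) : ∃ k, k * X.x = X.x * k ∧ QuotientGroup.mk k = m := by
  classical
  have : Fact (Nat.Prime 3) := ⟨Nat.prime_three⟩
  obtain ⟨c, rfl⟩ := QuotientGroup.mk_surjective m
  set τ := (G.K.t : C ⧸ Q)
  let P0 : Subgroup C := (Subgroup.zpowers τ).comap (QuotientGroup.mk' Q)
  have hx0 : X.x ∈ P0 := by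
    show QuotientGroup.mk' Q X.x ∈ Subgroup.zpowers τ
    rw [show QuotientGroup.mk' Q X.x = τ from X.mkx]
    exact Subgroup.mem_zpowers τ
  have hconj : (QuotientGroup.mk (c * X.x * c⁻¹) : C ⧸ Q) = τ := by
    rw [QuotientGroup.mk_mul, QuotientGroup.mk_mul, QuotientGroup.mk_inv, X.mkx,
      show (QuotientGroup.mk c : C ⧸ Q) * τ = τ * QuotientGroup.mk c from
        congrArg Subtype.val (G.K.t_comm ⟨_, hm⟩), mul_inv_cancel_right]
  have hx1 : c * X.x * c⁻¹ ∈ P0 := by
    show QuotientGroup.mk' Q (c * X.x * c⁻¹) ∈ Subgroup.zpowers τ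
    rw [show QuotientGroup.mk' Q (c * X.x * c⁻¹) = τ from hconj]
    exact Subgroup.mem_zpowers τ
  have hord : ∀ {y : C}, y * y * y = 1 → QuotientGroup.mk y = τ → orderOf y = 3 := fun {y} h e => by
    refine orderOf_eq_prime (by rw [pow_three']; exact h) fun h1 => ?_
    have ht := G.t_order
    rw [show (G.K.t : C ⧸ Q) = τ from rfl, ← e, h1, QuotientGroup.mk_one, orderOf_one] at ht
    omega
  have hcard : Nat.card P0 = 3 * 2 ^ 13 := by
    let g : P0 →* Subgroup.zpowers τ :=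
      ((QuotientGroup.mk' Q).comp P0.subtype).codRestrict _ fun p => p.2
    have hg : Function.Surjective g := by
      rintro ⟨y, hy⟩
      obtain ⟨d, rfl⟩ := QuotientGroup.mk'_surjective Q y
      exact ⟨⟨d, hy⟩, rfl⟩
    rw [Subgroup.card_eq_card_quotient_mul_card_subgroup g.ker,
      Nat.card_congr (QuotientGroup.quotientKerEquivOfSurjective g hg).toEquiv, Nat.card_zpowers,
      show orderOf τ = 3 from G.t_order]
    congr 1
    rw [← S.card_Q]
    have hk : g.ker = Q.subgroupOf P0 := by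
      ext p
      rw [MonoidHom.mem_ker, Subgroup.mem_subgroupOf, ← QuotientGroup.eq_one_iff (N := Q)]
      exact ⟨fun e => congrArg Subtype.val e, fun e => Subtype.ext e⟩
    rw [hk]
    refine Nat.card_congr (Subgroup.subgroupOfEquivOfLe fun q hq => ?_).toEquiv
    show QuotientGroup.mk' Q q ∈ Subgroup.zpowers τ
    rw [show QuotientGroup.mk' Q q = 1 from (QuotientGroup.eq_one_iff q).2 hq]
    exact one_mem _
  have hsyl : ∀ {y : C} (hy : y ∈ P0), y * y * y = 1 → QuotientGroup.mk y = τ →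
      ∃ P : Sylow 3 P0, (P : Subgroup P0) = Subgroup.zpowers ⟨y, hy⟩ := fun {y} hy h e => by
    refine ⟨Sylow.ofCard (Subgroup.zpowers ⟨y, hy⟩) ?_, Sylow.coe_ofCard _ _⟩
    rw [Nat.card_zpowers, Subgroup.orderOf_mk, hord h e, hcard,
      Nat.factorization_mul (by norm_num) (by norm_num), Nat.Prime.factorization_pow Nat.prime_two,
      Finsupp.add_apply, Finsupp.single_eq_of_ne (by norm_num), Nat.Prime.factorization_self Nat.prime_three]
    norm_num
  have hcube : c * X.x * c⁻¹ * (c * X.x * c⁻¹) * (c * X.x * c⁻¹) = 1 := by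
    calc _ = c * (X.x * X.x * X.x) * c⁻¹ := by group
      _ = 1 := by rw [X.cube]; group
  obtain ⟨P, hP⟩ := hsyl hx0 X.cube X.mkx
  obtain ⟨P', hP'⟩ := hsyl hx1 hcube hconj
  obtain ⟨g, hg⟩ := MulAction.exists_smul_eq P0 P P'
  have hmem : MulAut.conj g • (⟨X.x, hx0⟩ : P0) ∈ (P' : Subgroup P0) := by
    rw [← hg, Sylow.coe_subgroup_smul]
    exact Subgroup.smul_mem_pointwise_smul _ _ _ (hP ▸ Subgroup.mem_zpowers _)
  rw [hP'] at hmem
  obtain ⟨i, hi⟩ := Subgroup.mem_zpowers_iff.1 hmem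
  have hgτ : (QuotientGroup.mk (g : C) : C ⧸ Q) ∈ Subgroup.zpowers τ := g.2
  obtain ⟨j, hj⟩ := Subgroup.mem_zpowers_iff.1 hgτ
  have hconjg : (g : C) * X.x * (g : C)⁻¹ = (c * X.x * c⁻¹) ^ i := (congrArg Subtype.val hi).symm
  have hi1 : (c * X.x * c⁻¹) ^ i = c * X.x * c⁻¹ := by
    have e : (QuotientGroup.mk ((g : C) * X.x * (g : C)⁻¹) : C ⧸ Q) = τ := by
      rw [QuotientGroup.mk_mul, QuotientGroup.mk_mul, QuotientGroup.mk_inv, X.mkx, ← hj,
        ← zpow_neg, ← zpow_add_one, ← zpow_add, show j + 1 + -j = 1 by ring, zpow_one]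
    rw [hconjg, QuotientGroup.mk_zpow, hconj] at e
    have h1 : τ ^ (i - 1) = 1 := by rw [zpow_sub, e, zpow_one, mul_inv_cancel]
    have h3 := orderOf_dvd_iff_zpow_eq_one.2 h1
    rw [show orderOf τ = 3 from G.t_order] at h3
    rw [← hord hcube hconj] at h3
    have := orderOf_dvd_iff_zpow_eq_one.1 h3
    rwa [zpow_sub, zpow_one, mul_inv_eq_one] at this
  rw [hi1] at hconjg
  refine ⟨X.x ^ j * (g : C)⁻¹ * c, ?_, ?_⟩
  · have h1 : (g : C)⁻¹ * c * X.x = X.x * ((g : C)⁻¹ * c) := by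
      calc (g : C)⁻¹ * c * X.x = (g : C)⁻¹ * (c * X.x * c⁻¹) * c := by group
        _ = X.x * ((g : C)⁻¹ * c) := by rw [← hconjg]; group
    calc X.x ^ j * (g : C)⁻¹ * c * X.x = X.x ^ j * (X.x * ((g : C)⁻¹ * c)) := by rw [← h1]; group
      _ = X.x * (X.x ^ j * (g : C)⁻¹ * c) := by group
  · rw [QuotientGroup.mk_mul, QuotientGroup.mk_mul, QuotientGroup.mk_zpow, QuotientGroup.mk_inv, X.mkx, ← hj,
      mul_inv_cancel, _root_.one_mul]

theorem uniq {k k' : C} (hk : k * X.x = X.x * k) (hk' : k' * X.x = X.x * k')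
    (e : (QuotientGroup.mk k : C ⧸ Q) = QuotientGroup.mk k') :
    ∃ a ∈ Subgroup.center Q, k' = k * (a : C) := by
  have hq : k⁻¹ * k' ∈ Q := QuotientGroup.eq.1 e
  refine ⟨⟨_, hq⟩, X.cent_Q ?_, (mul_inv_cancel_left k k').symm⟩
  exact (((show Commute k X.x from hk).inv_left).mul_left hk').eq.symm

/-- The lifts of `h` square to one. -/
def Sq (h : C ⧸ Q) : Prop := ∀ k, k * X.x = X.x * k → QuotientGroup.mk k = h → k * k = 1

theorem sq_of_one {h : C ⧸ Q} {k : C} (hk : k * X.x = X.x * k) (hh : QuotientGroup.mk k = h)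
    (h2 : k * k = 1) : X.Sq h := by
  intro k' hk' hh'
  obtain ⟨a, ha, rfl⟩ := X.uniq hk hk' (hh.trans hh'.symm)
  calc k * (a : C) * (k * (a : C)) = k * ((a : C) * k) * a := by group
    _ = k * k * ((a : C) * a) := by rw [← S.center_comm ha k]; group
    _ = 1 := by rw [h2, S.center_sq ha, _root_.one_mul]

theorem sq_conj {h : C ⧸ Q} (hS : X.Sq h) {m : C ⧸ Q} (hm : m ∈ G.Mb) : X.Sq (m * h * m⁻¹) := by
  intro k hk hh
  obtain ⟨n, hn, rfl⟩ := X.exists_cent hm
  have h1 : n⁻¹ * k * n * X.x = X.x * (n⁻¹ * k * n) :=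
    ((((show Commute n X.x from hn).inv_left).mul_left hk).mul_left hn).eq
  have h2 : (QuotientGroup.mk (n⁻¹ * k * n) : C ⧸ Q) = h := by
    rw [QuotientGroup.mk_mul, QuotientGroup.mk_mul, QuotientGroup.mk_inv, hh]; group
  calc k * k = n * (n⁻¹ * k * n * (n⁻¹ * k * n)) * n⁻¹ := by group
    _ = 1 := by rw [hS _ h1 h2]; group

theorem comm_of_sq {k k' : C} (hk : k * X.x = X.x * k) (hk' : k' * X.x = X.x * k')
    (h1 : X.Sq (QuotientGroup.mk k)) (h2 : X.Sq (QuotientGroup.mk k'))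
    (h3 : X.Sq (QuotientGroup.mk k * QuotientGroup.mk k')) : k * k' = k' * k := by
  have a := h1 k hk rfl
  have b := h2 k' hk' rfl
  have c := h3 (k * k') ((show Commute k X.x from hk).mul_left hk').eq rfl
  calc k * k' = k * k' * ((k * k') * (k * k'))⁻¹ := by rw [c]; group
    _ = k'⁻¹ * k⁻¹ := by group
    _ = k' * k := by rw [inv_eq_of_mul_eq_one_right a, inv_eq_of_mul_eq_one_right b]

theorem sq_cases {k : C} (hk : k * X.x = X.x * k) (h : (QuotientGroup.mk k : C ⧸ Q) * QuotientGroup.mk k = 1) :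
    ∃ a ∈ Subgroup.center Q, k * k = (a : C) := by
  obtain ⟨a, ha, e⟩ := X.uniq (k := 1) (k' := k * k) (by rw [_root_.one_mul, _root_.mul_one])
    ((show Commute k X.x from hk).mul_left hk).eq (by rw [QuotientGroup.mk_one, QuotientGroup.mk_mul, h])
  exact ⟨a, ha, by rw [e, _root_.one_mul]⟩

theorem comm_cases {k k' : C} (hk : k * X.x = X.x * k) (hk' : k' * X.x = X.x * k')
    (h : (QuotientGroup.mk k : C ⧸ Q) * QuotientGroup.mk k' = QuotientGroup.mk k' * QuotientGroup.mk k) :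
    ∃ a ∈ Subgroup.center Q, k * k' = k' * k * (a : C) := by
  exact X.uniq ((show Commute k' X.x from hk').mul_left hk).eq ((show Commute k X.x from hk).mul_left hk').eq
    (by rw [QuotientGroup.mk_mul, QuotientGroup.mk_mul, h])

theorem commutes_pre {k : C} (hk : k * X.x = X.x * k) (L : Subgroup Q)
    (hLx : ∀ q ∈ L, cjQ X.x q ∈ L)
    (hfix : ∀ q ∈ L, S.rep.ρ (QuotientGroup.mk k) (pr q) = pr q) {q : Q} (hq : q ∈ L) :
    k * (q : C) = (q : C) * k := by
  let δ : Q → Q := fun a => cjQ k a * a⁻¹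
  have hδ : ∀ a ∈ L, δ a ∈ Subgroup.center Q := fun a ha => by
    rw [← S.pr_eq_zero, pr_mul, ← S.rep_apply, hfix a ha, ← pr_mul, mul_inv_cancel, pr_one]
  have hmul : ∀ a ∈ L, ∀ b ∈ L, δ (a * b) = δ a * δ b := fun a _ b hb => by
    have h := Subgroup.mem_center_iff.1 (hδ b hb) a⁻¹
    show cjQ k (a * b) * (a * b)⁻¹ = cjQ k a * a⁻¹ * (cjQ k b * b⁻¹)
    rw [map_mul]
    calc cjQ k a * cjQ k b * (a * b)⁻¹ = cjQ k a * (δ b * a⁻¹) := by simp only [δ]; group
      _ = cjQ k a * (a⁻¹ * δ b) := by rw [h]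
      _ = _ := by simp only [δ]; group
  have hxk : ∀ a : Q, cjQ k (cjQ X.x a) = cjQ X.x (cjQ k a) := fun a => Subtype.ext (by
    simp only [cjQ_val]
    calc k * (X.x * a * X.x⁻¹) * k⁻¹ = (k * X.x) * a * (k * X.x)⁻¹ := by group
      _ = (X.x * k) * a * (X.x * k)⁻¹ := by rw [hk]
      _ = _ := by group)
  have hx : ∀ a ∈ L, δ (cjQ X.x a) = δ a := fun a ha => by
    have : δ (cjQ X.x a) = cjQ X.x (δ a) := by simp only [δ, map_mul, map_inv, hxk]
    rw [this, S.cjQ_center X.x (hδ a ha)]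
  set q1 := cjQ X.x q
  set q2 := cjQ X.x q1
  have hz : q * q1 * q2 ∈ Subgroup.center Q := by
    rw [← S.pr_eq_zero, pr_mul, pr_mul]
    obtain ⟨y, hy⟩ := G.K.e.surjective (pr q)
    have e1 : pr q1 = G.K.e (omV y) := by
      rw [← S.rep_apply, X.mkx, ← hy]
      exact G.K.e_om y
    have e2 : pr q2 = G.K.e (omV (omV y)) := by
      rw [← S.rep_apply, X.mkx, e1]
      exact G.K.e_om _
    rw [← hy, e1, e2, ← map_add, ← map_add]
    refine (congrArg G.K.e (funext fun i => ?_)).trans (map_zero G.K.e)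
    exact (by decide : ∀ c : K4, c + om c + om (om c) = 0) _
  have hδz : δ (q * q1 * q2) = 1 := by
    show cjQ k _ * _⁻¹ = 1
    rw [S.cjQ_center k hz, mul_inv_cancel]
  rw [hmul _ (mul_mem hq (hLx q hq)) _ (hLx _ (hLx q hq)), hmul _ hq _ (hLx q hq), hx _ (hLx q hq), hx _ hq] at hδz
  have h2 : δ q * δ q = 1 := by
    have := CfsgLib.PGroup.extraspecial_center_pow_eq_one S.extra (hδ q hq)
    rwa [sq] at this
  rw [h2, _root_.one_mul] at hδz
  have h := congrArg Subtype.val hδz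
  simp only [δ, Subgroup.coe_mul, Subgroup.coe_inv, cjQ_val, Subgroup.coe_one] at h
  exact mul_inv_eq_iff_eq_mul.1 (mul_inv_eq_one.1 h)

end Lift

/-- The image in `C / Q` of an element of `M / Q`. -/
abbrev up (m : G.Mb) : C ⧸ Q := (m : C ⧸ Q)

theorem patOf_one {μ : K4} (hμ : μ ≠ 0) : G.K.patOf μ (1 : G.Mb) = 0 := by
  funext i
  show (if _ then (1 : ZMod 2) else 0) = 0
  rw [G.K.D_one, if_neg]
  simpa using Ne.symm hμ

theorem exists_pat {μ : K4} (hμ : μ ≠ 0)
    (hall : ∀ h ∈ G.K.S, Norm (G.K.patOf μ h) ∧ G.K.D h = patV μ (G.K.patOf μ h) + cst (G.K.D h 2))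
    {P : Pat} (hP : Norm P) : ∃ h ∈ G.K.S, G.K.patOf μ h = P := by
  let f : G.K.S → {P : Pat // Norm P} := fun h => ⟨_, (hall h h.2).1⟩
  have hf : Function.Injective f := fun a b e => by
    have e' : G.K.patOf μ (a : G.Mb) = G.K.patOf μ (b : G.Mb) := congrArg Subtype.val e
    have h1 := G.K.patOf_mul hμ hall (inv_mem a.2) a.2
    rw [inv_mul_cancel, patOf_one hμ] at h1
    refine Subtype.ext (inv_mul_eq_one.1 (G.K.eq_one_of_patOf hall (mul_mem (inv_mem a.2) b.2) ?_))
    rw [G.K.patOf_mul hμ hall (inv_mem a.2) b.2, ← e', ← h1]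
  obtain ⟨⟨h, hh⟩, e⟩ := ((Nat.bijective_iff_injective_and_card f).2 ⟨hf, by
    rw [G.card_S, Nat.card_eq_fintype_card]; decide +kernel⟩).2 ⟨P, hP⟩
  exact ⟨h, hh, congrArg Subtype.val e⟩

theorem patOf_conj {μ : K4} (hμ : μ ≠ 0)
    (hall : ∀ h ∈ G.K.S, Norm (G.K.patOf μ h) ∧ G.K.D h = patV μ (G.K.patOf μ h) + cst (G.K.D h 2))
    {h : G.Mb} (hh : h ∈ G.K.S) (π : A6) :
    G.K.patOf μ (G.K.p π * h * (G.K.p π)⁻¹) = moveP (π : Equiv.Perm (Fin 6)) (G.K.patOf μ h) := by
  obtain ⟨c, hc⟩ := G.K.D_conj hh π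
  funext i
  have hsum : ∀ a b : Fin 6, (if G.K.D h a + G.K.D h b = μ then (1 : ZMod 2) else 0) =
      G.K.patOf μ h a + G.K.patOf μ h b := by
    intro a b
    rw [(hall h hh).2]
    simp only [patV, Pi.add_apply, cst]
    exact (by decide +kernel : ∀ (μ g : K4) (p r : ZMod 2), μ ≠ 0 →
      (if (if p = 1 then μ else 0) + g + ((if r = 1 then μ else 0) + g) = μ then (1 : ZMod 2) else 0) = p + r)
      μ _ _ _ hμ
  show (if G.K.D (G.K.p π * h * (G.K.p π)⁻¹) i + G.K.D (G.K.p π * h * (G.K.p π)⁻¹) 2 = μ then (1 : ZMod 2) else 0) = _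
  refine Eq.trans (congrArg (fun u : K4 => if u = μ then (1 : ZMod 2) else 0) ?_)
    (hsum ((π : Equiv.Perm (Fin 6)).symm i) ((π : Equiv.Perm (Fin 6)).symm 2))
  rw [hc]
  exact (by decide : ∀ u w c : K4, u + c + (w + c) = u + w) _ _ _

theorem S_commute {a b : G.Mb} (ha : a ∈ G.K.S) (hb : b ∈ G.K.S) : a * b = b * a ∧ a * a = 1 := by
  obtain ⟨μ, hμ, -, hall⟩ := G.K.exists_pattern
  have hμ0 : μ ≠ 0 := by rcases hμ with rfl | rfl <;> decide
  have h1 : ∀ u ∈ G.K.S, u * u = 1 := fun u hu => G.K.eq_one_of_patOf hall (mul_mem hu hu) (by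
    rw [G.K.patOf_mul hμ0 hall hu hu]
    funext i
    exact (by decide : ∀ p : ZMod 2, p + p = 0) _)
  refine ⟨?_, h1 a ha⟩
  calc a * b = (a * b) * ((a * b) * (a * b))⁻¹ := by rw [h1 _ (mul_mem ha hb)]; group
    _ = b⁻¹ * a⁻¹ := by group
    _ = b * a := by rw [inv_eq_of_mul_eq_one_right (h1 a ha), inv_eq_of_mul_eq_one_right (h1 b hb)]

/-- Every element of transvection type at `v` lifts to an involution. -/
theorem sq_S {h : G.Mb} (hh : h ∈ G.K.S) : X.Sq (up h) := by
  classical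
  obtain ⟨μ, hμ, -, hall⟩ := G.K.exists_pattern
  have hμ0 : μ ≠ 0 := by rcases hμ with rfl | rfl <;> decide
  have inj : ∀ {a b : G.Mb}, a ∈ G.K.S → b ∈ G.K.S → G.K.patOf μ a = G.K.patOf μ b → a = b := by
    intro a b ha hb e
    have h1 := G.K.patOf_mul hμ0 hall (inv_mem ha) ha
    rw [inv_mul_cancel, patOf_one hμ0] at h1
    refine inv_mul_eq_one.1 (G.K.eq_one_of_patOf hall (mul_mem (inv_mem ha) hb) ?_)
    rw [G.K.patOf_mul hμ0 hall (inv_mem ha) hb, ← e, ← h1]
  have hone : X.Sq (up (1 : G.Mb)) :=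
    X.sq_of_one (k := 1) (by rw [_root_.one_mul, _root_.mul_one]) rfl (_root_.one_mul 1)
  by_contra hbad
  -- all non-identity elements fail
  have hall' : ∀ b ∈ G.K.S, b ≠ 1 → ¬ X.Sq (up b) := by
    intro b hb hb1 hgood
    apply hbad
    by_cases h1 : h = 1
    · subst h1; exact hone
    have hne : ∀ {u : G.Mb}, u ∈ G.K.S → u ≠ 1 → G.K.patOf μ u ≠ 0 := fun hu hu1 e =>
      hu1 (G.K.eq_one_of_patOf hall hu e)
    obtain ⟨π, hπ, eπ⟩ := norm_orbit _ (hall b hb).1 (hne hb hb1)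
    obtain ⟨σ, hσ, eσ⟩ := norm_orbit _ (hall h hh).1 (hne hh h1)
    let π' : A6 := ⟨π, Equiv.Perm.mem_alternatingGroup.2 hπ⟩
    let σ' : A6 := ⟨σ, Equiv.Perm.mem_alternatingGroup.2 hσ⟩
    have e : G.K.p π' * b * (G.K.p π')⁻¹ = G.K.p σ' * h * (G.K.p σ')⁻¹ := by
      refine inj (G.K.conj_mem hb (G.K.p_fix π')) (G.K.conj_mem hh (G.K.p_fix σ')) ?_
      rw [patOf_conj hμ0 hall hb, patOf_conj hμ0 hall hh]
      funext i
      exact (eπ i).symm.trans (eσ i)
    have h2 := X.sq_conj (X.sq_conj hgood (G.K.p π').2) (inv_mem (G.K.p σ').2)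
    have e' : up h = (up (G.K.p σ'))⁻¹ * (up (G.K.p π') * up b * (up (G.K.p π'))⁻¹) * ((up (G.K.p σ'))⁻¹)⁻¹ := by
      have e2 := congrArg (fun m : G.Mb => (m : C ⧸ Q)) e
      simp only [Subgroup.coe_mul, Subgroup.coe_inv] at e2
      show (h : C ⧸ Q) = _
      rw [show up (G.K.p π') * up b * (up (G.K.p π'))⁻¹ = _ from e2]
      group
    rw [e']
    exact h2
  -- lifts and the commutator
  have hlift : ∀ a : G.Mb, ∃ k, k * X.x = X.x * k ∧ QuotientGroup.mk k = up a := fun a => X.exists_cent a.2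
  choose ℓ hℓ hℓm using hlift
  have hsq : ∀ a ∈ G.K.S, a ≠ 1 → ∃ z ∈ Subgroup.center Q, ℓ a * ℓ a = (z : C) ∧ (z : C) ≠ 1 := by
    intro a ha ha1
    obtain ⟨z, hz, e⟩ := X.sq_cases (hℓ a) (by
      rw [hℓm, ← Subgroup.coe_mul, (S_commute ha ha).2]; rfl)
    exact ⟨z, hz, e, fun e1 => hall' a ha ha1 (X.sq_of_one (hℓ a) (hℓm a) (e.trans e1))⟩
  have hcomm : ∀ a ∈ G.K.S, ∀ b ∈ G.K.S, a ≠ 1 → b ≠ 1 → a * b ≠ 1 → ℓ a * ℓ b ≠ ℓ b * ℓ a := by
    intro a ha b hb ha1 hb1 hab e
    obtain ⟨za, hza, ea, na⟩ := hsq a ha ha1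
    obtain ⟨zb, hzb, eb, nb⟩ := hsq b hb hb1
    refine hall' _ (mul_mem ha hb) hab (X.sq_of_one (k := ℓ a * ℓ b)
      ((show Commute (ℓ a) X.x from hℓ a).mul_left (hℓ b)).eq (by rw [QuotientGroup.mk_mul, hℓm, hℓm]; rfl) ?_)
    calc ℓ a * ℓ b * (ℓ a * ℓ b) = ℓ a * (ℓ b * ℓ a) * ℓ b := by group
      _ = (ℓ a * ℓ a) * (ℓ b * ℓ b) := by rw [← e]; group
      _ = 1 := by
        rw [ea, eb, show za = zb from S.two_center hza hzb (fun h => na (by rw [h]; rfl))
          (fun h => nb (by rw [h]; rfl))]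
        exact S.center_sq hzb
  obtain ⟨a, ha, ea⟩ := exists_pat hμ0 hall (P := ![1, 1, 0, 0, 0, 0]) (by decide)
  obtain ⟨b, hb, eb⟩ := exists_pat hμ0 hall (P := ![0, 1, 0, 1, 0, 0]) (by decide)
  obtain ⟨d, hd, ed⟩ := exists_pat hμ0 hall (P := ![0, 0, 0, 0, 1, 1]) (by decide)
  have nz : ∀ {u : G.Mb}, G.K.patOf μ u ≠ 0 → u ≠ 1 := fun hu e => hu (e ▸ patOf_one hμ0)
  have na : a ≠ 1 := nz (by rw [ea]; decide)
  have nb : b ≠ 1 := nz (by rw [eb]; decide)
  have nd : d ≠ 1 := nz (by rw [ed]; decide)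
  have nab : a * b ≠ 1 := nz (by rw [G.K.patOf_mul hμ0 hall ha hb, ea, eb]; decide)
  have nad : a * d ≠ 1 := nz (by rw [G.K.patOf_mul hμ0 hall ha hd, ea, ed]; decide)
  have nbd : b * d ≠ 1 := nz (by rw [G.K.patOf_mul hμ0 hall hb hd, eb, ed]; decide)
  have nabd : a * (b * d) ≠ 1 := nz (by
    rw [G.K.patOf_mul hμ0 hall ha (mul_mem hb hd), G.K.patOf_mul hμ0 hall hb hd, ea, eb, ed]; decide)
  have comm1 : ∀ {p q : G.Mb}, p ∈ G.K.S → q ∈ G.K.S → ∃ c ∈ Subgroup.center Q, ℓ p * ℓ q = ℓ q * ℓ p * (c : C) := by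
    intro p q hp hq
    exact X.comm_cases (hℓ p) (hℓ q) (by rw [hℓm, hℓm, ← Subgroup.coe_mul, (S_commute hp hq).1]; rfl)
  obtain ⟨z1, hz1, e1⟩ := comm1 ha hb
  obtain ⟨z2, hz2, e2⟩ := comm1 ha hd
  obtain ⟨w, hw, ew⟩ := X.uniq (k := ℓ b * ℓ d) ((show Commute (ℓ b) X.x from hℓ b).mul_left (hℓ d)).eq
    (hℓ (b * d)) (by rw [QuotientGroup.mk_mul, hℓm, hℓm, hℓm]; rfl)
  have n1 : z1 ≠ 1 := fun e => hcomm a ha b hb na nb nab (by rw [e1, e]; simp)
  have n2 : z2 ≠ 1 := fun e => hcomm a ha d hd na nd nad (by rw [e2, e]; simp)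
  refine hcomm a ha (b * d) (mul_mem hb hd) na nbd nabd ?_
  have h12 : z1 = z2 := S.two_center hz1 hz2 n1 n2
  rw [ew]
  calc ℓ a * (ℓ b * ℓ d * (w : C)) = (ℓ a * ℓ b) * ℓ d * (w : C) := by group
    _ = ℓ b * ℓ a * ((z1 : C) * ℓ d) * (w : C) := by rw [e1]; group
    _ = ℓ b * (ℓ a * ℓ d) * (z1 : C) * (w : C) := by rw [← S.center_comm hz1 (ℓ d)]; group
    _ = ℓ b * ℓ d * (ℓ a * ((z2 : C) * (z1 : C))) * (w : C) := by rw [e2]; group
    _ = ℓ b * ℓ d * ((ℓ a) * (w : C)) := by rw [h12, S.center_sq hz2]; group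
    _ = ℓ b * ℓ d * (w : C) * ℓ a := by rw [S.center_comm hw (ℓ a)]; group

theorem fix_flat {μ : K4} (hμ : μ ≠ 0)
    (hall : ∀ h ∈ G.K.S, Norm (G.K.patOf μ h) ∧ G.K.D h = patV μ (G.K.patOf μ h) + cst (G.K.D h 2))
    {s : G.Mb} (hs : s ∈ G.K.S) (hP : G.K.patOf μ s ∈ annFlat base) : up s ∈ G.flatStab base := by
  refine ⟨s.2, fun x hx => ?_⟩
  obtain ⟨-, -, hann⟩ := Finset.mem_filter.1 hP
  have h := G.K.e_img s x
  rw [G.K.img_sum_zero hs hx.sum_zero] at h
  suffices herm x (G.K.D s) = 0 by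
    rw [this, show cst 0 = (0 : Vec) from rfl, add_zero] at h
    exact h.symm
  set P := G.K.patOf μ s
  have hd1 := hann _ (flat_bits.1 hx).1
  have hd2 := hann _ (flat_bits.1 hx).2
  have hzero : ∑ i, (if P i = 1 then x i else 0) = 0 := by
    refine Prod.ext ?_ ?_
    · rw [Prod.fst_sum]
      refine Eq.trans (Finset.sum_congr rfl fun i _ => ?_) hd1
      rcases (by decide : ∀ p : ZMod 2, p = 0 ∨ p = 1) (P i) with e | e <;> simp [e, bits]
    · rw [Prod.snd_sum]
      refine Eq.trans (Finset.sum_congr rfl fun i _ => ?_) hd2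
      rcases (by decide : ∀ p : ZMod 2, p = 0 ∨ p = 1) (P i) with e | e <;> simp [e, bits]
  have hherm : herm x (G.K.D s) =
      mul (∑ i, if P i = 1 then x i else 0) (cj μ) + mul (sig x) (cj (G.K.D s 2)) := by
    show ∑ i, mul (x i) (cj (G.K.D s i)) = AddMonoidHom.mk' (fun c => mul c (cj μ)) (fun a b => Four.add_mul a b _)
      (∑ i, if P i = 1 then x i else 0) +
      AddMonoidHom.mk' (fun c => mul c (cj (G.K.D s 2))) (fun a b => Four.add_mul a b _) (∑ i, x i)
    rw [map_sum, map_sum, ← Finset.sum_add_distrib]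
    refine Finset.sum_congr rfl fun i _ => ?_
    conv_lhs => rw [(hall s hs).2]
    simp only [patV, Pi.add_apply, cst, AddMonoidHom.mk'_apply]
    split_ifs
    · exact (by decide +kernel : ∀ a m c : K4, mul a (cj (m + c)) = mul a (cj m) + mul a (cj c)) _ _ _
    · rw [zero_add, Four.zero_mul, zero_add]
  rw [hherm, hzero, hx.sum_zero, Four.zero_mul, Four.zero_mul, add_zero]

theorem p_flat {j : Fin 15} {π : A6} (hπ : FixPairs j π) : up (G.K.p π) ∈ G.flatStab j := by
  refine ⟨(G.K.p π).2, fun x hx => ?_⟩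
  have h := G.K.p_e π x
  rw [QRep.sub_apply] at h
  rw [h]
  refine congrArg G.K.e (funext fun i => ?_)
  exact Prod.ext (flat_of_fixPairs hπ (flat_bits.1 hx).1 i) (flat_of_fixPairs hπ (flat_bits.1 hx).2 i)

/-- The lifts of the subgroup fixing the flat vectors of the base pairing are commuting involutions. -/
theorem sq_flat {h : C ⧸ Q} (hh : h ∈ G.flatStab base) : X.Sq h := by
  classical
  obtain ⟨μ, hμ, -, hall⟩ := G.K.exists_pattern
  have hμ0 : μ ≠ 0 := by rcases hμ with rfl | rfl <;> decide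
  have sqp : ∀ π : A6, FixPairs base π → X.Sq (up (G.K.p π)) := by
    intro π hπ
    rcases fixPairs_cases hπ with rfl | ⟨a, rfl⟩
    · rw [map_one]; exact X.sq_of_one (k := 1) (by rw [_root_.one_mul, _root_.mul_one]) rfl (_root_.one_mul 1)
    · have hsymm : ∀ k, (dA base a : Equiv.Perm (Fin 6)).symm k = dtr base a k := fun k => rfl
      obtain ⟨m, hm⟩ := G.K.wt_four _ (offPair_wt a)
      have hrad : G.K.p (dA base a) ∈ (S.rep.sub G.Mb).rad G.K.t G.K.t_comm (G.K.e (offPair a)) := by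
        refine ⟨?_, fun y h1 h2 => ?_⟩
        · rw [G.K.p_e]
          exact congrArg G.K.e (funext fun k => offPair_rad a k)
        · obtain ⟨z, rfl⟩ := G.K.e.surjective y
          rw [G.K.b_e] at h1
          rw [G.K.e_om, G.K.b_e] at h2
          obtain ⟨c, hc⟩ := offPair_line a z h1 h2
          rw [G.K.p_e, ← map_add]
          have e : (fun i => z ((dA base a : Equiv.Perm (Fin 6)).symm i)) + z = fun i => mul c (offPair a i) :=
            funext fun i => hc i
          rw [e]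
          have h0 : G.K.e (offPair a) ∈ (S.rep.sub G.Mb).line G.K.t (G.K.e (offPair a)) :=
            AddSubgroup.subset_closure (Or.inl rfl)
          have h1' : G.K.e (omV (offPair a)) ∈ (S.rep.sub G.Mb).line G.K.t (G.K.e (offPair a)) :=
            AddSubgroup.subset_closure (Or.inr (G.K.e_om _).symm)
          rw [show (fun i => mul c (offPair a i)) =
            (if c.1 = 1 then offPair a else 0) + (if c.2 = 1 then omV (offPair a) else 0) from funext fun i => by
              rw [Four.mul_eq]; split_ifs <;> rfl, map_add]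
          refine add_mem ?_ ?_ <;> split_ifs <;> first | assumption | (rw [map_zero]; exact zero_mem _)
      have hback := (S.rep.sub G.Mb).rad_conj hrad m⁻¹
      rw [show (S.rep.sub G.Mb).ρ m⁻¹ (G.K.e (offPair a)) = G.K.v by
        rw [← hm]; exact (S.rep.sub G.Mb).inv_apply m _] at hback
      have := X.sq_conj (sq_S X hback) m.2
      simp only [up, Subgroup.coe_mul, Subgroup.coe_inv] at this ⊢
      convert this using 1
      group
  -- a permutation commutes with the patterns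
  have hcommup : ∀ π : A6, FixPairs base π → ∀ s ∈ G.K.S, G.K.patOf μ s ∈ annFlat base →
      ∀ k k', k * X.x = X.x * k → QuotientGroup.mk k = up (G.K.p π) →
        k' * X.x = X.x * k' → QuotientGroup.mk k' = up s → k * k' = k' * k := by
    intro π hπ s hs hP k k' hk hkm hk' hk'm
    rcases fixPairs_cases hπ with rfl | ⟨a, rfl⟩
    · obtain ⟨z, hz, rfl⟩ := X.uniq (k := 1) (by rw [_root_.one_mul, _root_.mul_one]) hk
        (by rw [hkm, map_one, QuotientGroup.mk_one]; rfl)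
      rw [_root_.one_mul]; exact (S.center_comm hz k').symm
    · obtain ⟨g, hg, hgP⟩ := split_flat a _ hP
      obtain ⟨sg, hsg, esg⟩ := exists_pat hμ0 hall hg
      set π := dA base a
      have hsg' := G.K.conj_mem hsg (G.K.p_fix π)
      have hdec : s = sg * (G.K.p π * sg * (G.K.p π)⁻¹) := by
        have h1 := G.K.patOf_mul hμ0 hall (inv_mem hs) hs
        rw [inv_mul_cancel, patOf_one hμ0] at h1
        refine inv_mul_eq_one.1 (G.K.eq_one_of_patOf hall (mul_mem (inv_mem hs) (mul_mem hsg hsg')) ?_)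
        rw [G.K.patOf_mul hμ0 hall (inv_mem hs) (mul_mem hsg hsg'), G.K.patOf_mul hμ0 hall hsg hsg',
          patOf_conj hμ0 hall hsg, esg, show g + moveP (π : Equiv.Perm (Fin 6)) g = G.K.patOf μ s from
            funext fun i => (hgP i).symm, ← h1]
      obtain ⟨kg, hkg, hkgm⟩ := X.exists_cent sg.2
      have hk2 := sqp π hπ k hk hkm
      have hc1 : k * kg * k * X.x = X.x * (k * kg * k) :=
        (((show Commute k X.x from hk).mul_left hkg).mul_left hk).eq
      have hpi2 : (G.K.p π)⁻¹ = G.K.p π := by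
        refine inv_eq_of_mul_eq_one_right ?_
        rw [← map_mul, show π * π = 1 from ?_, map_one]
        refine Subtype.ext (Equiv.ext fun i => ?_)
        exact (dperm base a).left_inv i
      have hm1 : (QuotientGroup.mk (k * kg * k) : C ⧸ Q) = up (G.K.p π * sg * (G.K.p π)⁻¹) := by
        rw [QuotientGroup.mk_mul, QuotientGroup.mk_mul, hkm, hkgm, hpi2]; rfl
      have hab : kg * (k * kg * k) = k * kg * k * kg :=
        X.comm_of_sq hkg hc1 (hkgm ▸ sq_S X hsg) (hm1 ▸ sq_S X hsg') (by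
          rw [hkgm, hm1]; exact sq_S X (mul_mem hsg hsg'))
      obtain ⟨z, hz, rfl⟩ := X.uniq (k := kg * (k * kg * k)) ((show Commute kg X.x from hkg).mul_left hc1).eq hk'
        (by rw [QuotientGroup.mk_mul, hkgm, hm1, hk'm, ← Subgroup.coe_mul, ← hdec])
      calc k * (kg * (k * kg * k) * (z : C)) = k * kg * k * kg * (k * (z : C)) := by group
        _ = kg * (k * kg * k) * ((z : C) * k) := by rw [← hab, S.center_comm hz k]
        _ = kg * (k * kg * k) * (z : C) * k := by group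
  -- the decomposition
  have hdecomp : ∃ s ∈ G.K.S, G.K.patOf μ s ∈ annFlat base ∧ ∃ π : A6, FixPairs base π ∧
      h = up s * up (G.K.p π) := by
    let A' : Finset A6 := insert 1 ((firstPt base).image (dA base))
    have hA' : ∀ π ∈ A', FixPairs base π := fun π hπ => by
      rcases Finset.mem_insert.1 hπ with rfl | hπ
      · exact fun i => Or.inl rfl
      · obtain ⟨a, -, rfl⟩ := Finset.mem_image.1 hπ
        exact fixPairs_dA base a
    have hcardA' : A'.card = 4 := by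
      rw [Finset.card_insert_of_notMem, Finset.card_image_of_injOn]
      · decide +kernel
      · intro a ha b hb e
        exact (by decide +kernel : ∀ a ∈ firstPt base, ∀ b ∈ firstPt base, (∀ i, dtr base a i = dtr base b i) → a = b)
          a ha b hb fun i => congrArg (fun π : A6 => (π : Equiv.Perm (Fin 6)) i) e
      · intro hmem
        obtain ⟨a, -, e⟩ := Finset.mem_image.1 hmem
        have := fun i => congrArg (fun π : A6 => (π : Equiv.Perm (Fin 6)) i) e
        exact (by decide +kernel : ∀ a, ¬ ∀ i, dtr base a i = i) a this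
    choose sP hsP hsPe using fun P : annFlat base => exists_pat hμ0 hall (Finset.mem_filter.1 P.2).2.1
    let f : annFlat base × A' → G.flatStab base := fun q => ⟨up (sP q.1) * up (G.K.p q.2.1),
      mul_mem (fix_flat hμ0 hall (hsP q.1) (by rw [hsPe]; exact q.1.2)) (p_flat (hA' _ q.2.2))⟩
    have hf : Function.Injective f := by
      rintro ⟨P, π⟩ ⟨P', π'⟩ e
      have e' : sP P * G.K.p π.1 = sP P' * G.K.p π'.1 := by
        have e0 : up (sP P) * up (G.K.p π.1) = up (sP P') * up (G.K.p π'.1) := congrArg Subtype.val e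
        exact Subtype.ext e0
      obtain rfl : π = π' := Subtype.ext (G.K.decomp_unique (hsP P) (hsP P') e')
      obtain rfl : P = P' := Subtype.ext (by rw [← hsPe P, ← hsPe P', mul_right_cancel e'])
      rfl
    have hge : 16 ≤ Nat.card (G.flatStab base) := by
      refine le_trans (le_of_eq ?_) (Nat.card_le_card_of_injective f hf)
      rw [Nat.card_prod, Nat.card_eq_fintype_card, Fintype.card_coe, card_annFlat, Nat.card_eq_fintype_card,
        Fintype.card_coe, hcardA']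
    obtain ⟨⟨P, π⟩, e⟩ := ((Nat.bijective_iff_injective_and_card f).2 ⟨hf, le_antisymm
      (Nat.card_le_card_of_injective f hf) (by
        refine (G.card_flatStab_le base).trans (le_of_eq ?_)
        rw [Nat.card_prod, Nat.card_eq_fintype_card, Fintype.card_coe, card_annFlat, Nat.card_eq_fintype_card,
          Fintype.card_coe, hcardA'])⟩).2 ⟨h, hh⟩
    exact ⟨sP P, hsP P, by rw [hsPe]; exact P.2, π.1, hA' _ π.2, (congrArg Subtype.val e).symm⟩
  obtain ⟨s, hs, hP, π, hπ, rfl⟩ := hdecomp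
  obtain ⟨k', hk', hk'm⟩ := X.exists_cent s.2
  obtain ⟨k, hk, hkm⟩ := X.exists_cent (G.K.p π).2
  refine X.sq_of_one (k := k' * k) ((show Commute k' X.x from hk').mul_left hk).eq
    (by rw [QuotientGroup.mk_mul, hk'm, hkm]) ?_
  have hc := hcommup π hπ s hs hP k k' hk hkm hk' hk'm
  calc k' * k * (k' * k) = k' * (k * k') * k := by group
    _ = (k' * k') * (k * k) := by rw [hc]; group
    _ = 1 := by rw [sq_S X hs k' hk' hk'm, sqp π hπ k hk hkm, _root_.one_mul]

end Geo

end CfsgLib.FischerTwoFour
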