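import Cfsg.Agent.Lib.FischerTwoFour.Lifts
import Cfsg.Prelude.Def_Transfer

/-!
The unique largest elementary abelian subgroup of a Sylow `2`-subgroup of `C`.
-/

set_option autoImplicit false
set_option linter.unusedSectionVars false

universe u

namespace CfsgLib.FischerTwoFour

open Four

theorem Four.dperm_apart_eight : ∀ j j' : Fin 15, j ≠ j' → ∃ a b, (dperm j a * dperm j' b) ^ 8 ≠ 1 := by
  decide +kernel

theorem Four.flat_nz : ∀ j : Fin 15, ∀ P : Pat, ∀ R : Pat, Flat j P → Flat j R →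
    ∑ i, (if P i = 0 ∧ R i = 0 then (0 : ZMod 2) else 1) = 0 := by
  decide +kernel

theorem Four.flat_dot : ∀ j : Fin 15, ∀ P : Pat, ∀ R : Pat, Flat j P → Flat j R → dot P R = 0 := by
  decide +kernel

variable {C : Type u} [Group C] [Finite C] {Q : Subgroup C} [Q.Normal] {S : Shape Q} (G : Geo S)

namespace Geo

/-- The flat vectors in `V`. -/
noncomputable def flatV (j : Fin 15) : AddSubgroup (VQ Q) where
  carrier := {u | ∃ x, IsFlat j x ∧ G.K.e x = u}
  zero_mem' := ⟨0, fun _ => rfl, map_zero _⟩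
  add_mem' := by
    rintro _ _ ⟨x, hx, rfl⟩ ⟨y, hy, rfl⟩
    exact ⟨x + y, fun i => by simp only [Pi.add_apply, hx i, hy i], map_add _ _ _⟩
  neg_mem' := by
    rintro _ ⟨x, hx, rfl⟩
    exact ⟨-x, fun i => by simp only [Pi.neg_apply, hx i], map_neg _ _⟩

theorem card_flatV (j : Fin 15) : Nat.card (G.flatV j) = 64 := by
  rw [← card_flat j]
  exact (Nat.card_congr (Equiv.ofBijective (fun x : {x : Vec // IsFlat j x} => (⟨G.K.e x.1, x.1, x.2, rfl⟩ : G.flatV j))
    ⟨fun a b e => Subtype.ext (G.K.e.injective (congrArg Subtype.val e)),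
      fun ⟨u, x, hx, e⟩ => ⟨⟨x, hx⟩, Subtype.ext e⟩⟩)).symm

/-- Its preimage in `Q`. -/
noncomputable def flatPre (j : Fin 15) : Subgroup Q where
  carrier := {q | pr q ∈ G.flatV j}
  one_mem' := by
    show pr (1 : Q) ∈ G.flatV j
    rw [pr_one]; exact zero_mem _
  mul_mem' {a b} ha hb := by
    show pr (a * b) ∈ G.flatV j
    rw [pr_mul]; exact add_mem ha hb
  inv_mem' {a} ha := by
    show pr a⁻¹ ∈ G.flatV j
    have h : pr a⁻¹ = -pr a := eq_neg_of_add_eq_zero_left (by rw [← pr_mul, inv_mul_cancel, pr_one])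
    rw [h]; exact neg_mem ha

theorem card_flatPre (j : Fin 15) : Nat.card (G.flatPre j) = 128 := by
  let f : G.flatPre j →* Multiplicative (G.flatV j) :=
    MonoidHom.mk' (fun q => Multiplicative.ofAdd ⟨pr q.1, q.2⟩) fun a b =>
      congrArg Multiplicative.ofAdd (Subtype.ext (pr_mul a.1 b.1))
  have hf : Function.Surjective f := by
    rintro ⟨u, hu⟩
    obtain ⟨q, rfl⟩ := pr_surj u
    exact ⟨⟨q, hu⟩, rfl⟩
  have hc : Subgroup.center Q ≤ G.flatPre j := fun q hq => by
    show pr q ∈ G.flatV j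
    rw [S.pr_eq_zero.2 hq]; exact zero_mem _
  have hk : f.ker = (Subgroup.center Q).subgroupOf (G.flatPre j) := by
    ext q
    rw [MonoidHom.mem_ker, Subgroup.mem_subgroupOf, ← S.pr_eq_zero]
    exact ⟨fun e => congrArg (fun u => ((Multiplicative.toAdd u : G.flatV j) : VQ Q)) e,
      fun e => congrArg Multiplicative.ofAdd (Subtype.ext e)⟩
  have h := Subgroup.card_eq_card_quotient_mul_card_subgroup f.ker
  rw [Nat.card_congr (QuotientGroup.quotientKerEquivOfSurjective f hf).toEquiv, hk,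
    Nat.card_congr (Subgroup.subgroupOfEquivOfLe hc).toEquiv,
    show Nat.card (Subgroup.center Q) = 2 from S.extra.2,
    show Nat.card (Multiplicative (G.flatV j)) = 64 from (Nat.card_congr Multiplicative.toAdd).trans (G.card_flatV j)] at h
  omega

theorem flatPre_sq {j : Fin 15} {a : Q} (ha : a ∈ G.flatPre j) : a * a = 1 := by
  obtain ⟨x, hx, e⟩ := ha
  have h : qf (pr a) = 0 := by
    show (S.rep.sub G.Mb).q (pr a) = 0
    rw [← e, G.K.q_e]
    obtain ⟨h1, h2⟩ := flat_bits.1 hx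
    rw [← flat_nz j _ _ h1 h2]
    refine Finset.sum_congr rfl fun i _ => ?_
    rw [nz]
    refine if_congr ⟨fun e => ⟨congrArg Prod.fst e, congrArg Prod.snd e⟩, fun e => Prod.ext e.1 e.2⟩ rfl rfl
  rw [S.qf_pr, bit] at h
  by_contra hne
  rw [if_neg hne] at h
  exact one_ne_zero h

theorem flatPre_comm {j : Fin 15} {a b : Q} (ha : a ∈ G.flatPre j) (hb : b ∈ G.flatPre j) : a * b = b * a := by
  calc a * b = a * b * ((a * b) * (a * b))⁻¹ := by rw [G.flatPre_sq (mul_mem ha hb)]; group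
    _ = b⁻¹ * a⁻¹ := by group
    _ = b * a := by
      rw [inv_eq_of_mul_eq_one_right (G.flatPre_sq ha), inv_eq_of_mul_eq_one_right (G.flatPre_sq hb)]

theorem flatPre_fix {j : Fin 15} {h : C ⧸ Q} (hh : h ∈ G.flatStab j) {a : Q} (ha : a ∈ G.flatPre j) :
    S.rep.ρ h (pr a) = pr a := by
  obtain ⟨x, hx, e⟩ := ha
  rw [← e, hh.2 x hx]

/-- The image of a subgroup of `C` in `C / Q` times its part in `Q`. -/
theorem card_split (B : Subgroup C) :
    Nat.card B = Nat.card (B.map (QuotientGroup.mk' Q)) * Nat.card (B.subgroupOf Q) := by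
  let f := (QuotientGroup.mk' Q).comp B.subtype
  have hr : f.range = B.map (QuotientGroup.mk' Q) := by rw [MonoidHom.range_comp, Subgroup.range_subtype]
  have hk : f.ker = Q.subgroupOf B := by ext b; simp [f, Subgroup.mem_subgroupOf]
  rw [Subgroup.card_eq_card_quotient_mul_card_subgroup f.ker,
    Nat.card_congr (QuotientGroup.quotientKerEquivRange f).toEquiv, hr, hk]
  congr 1
  exact Nat.card_congr
    { toFun := fun x => ⟨⟨(x : B), x.2⟩, x.1.2⟩
      invFun := fun x => ⟨⟨((x : Q) : C), x.2⟩, x.1.2⟩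
      left_inv := fun x => rfl
      right_inv := fun x => rfl }

include G in
/-- An elementary abelian subgroup of order `2^11`. -/
theorem exists_elem : ∃ A : Subgroup C, Cfsg.IsElementaryAbelian 2 A ∧ Nat.card A = 2048 := by
  obtain ⟨X⟩ := G.exists_lift
  let L := G.flatPre base
  have hLx : ∀ q ∈ L, cjQ X.x q ∈ L := by
    rintro q ⟨x, hx, e⟩
    refine ⟨omV x, fun i => congrArg om (hx i), ?_⟩
    rw [← S.rep_apply, X.mkx, ← e]
    exact (G.K.e_om x).symm
  let gens : Set C := {c | (∃ q ∈ L, (q : C) = c) ∨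
    (c * X.x = X.x * c ∧ (QuotientGroup.mk c : C ⧸ Q) ∈ G.flatStab base)}
  have hsq : ∀ c ∈ gens, c * c = 1 := by
    rintro c (⟨q, hq, rfl⟩ | ⟨hc, hcm⟩)
    · exact congrArg Subtype.val (G.flatPre_sq hq)
    · exact sq_flat X hcm c hc rfl
  have hcomm : ∀ a ∈ gens, ∀ b ∈ gens, a * b = b * a := by
    rintro a (⟨q, hq, rfl⟩ | ⟨ha, ham⟩) b (⟨q', hq', rfl⟩ | ⟨hb, hbm⟩)
    · exact congrArg Subtype.val (G.flatPre_comm hq hq')
    · exact (X.commutes_pre hb L hLx (fun q hq => G.flatPre_fix hbm hq) hq).symm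
    · exact X.commutes_pre ha L hLx (fun q hq => G.flatPre_fix ham hq) hq'
    · exact X.comm_of_sq ha hb (sq_flat X ham) (sq_flat X hbm) (sq_flat X (mul_mem ham hbm))
  let A := Subgroup.closure gens
  have h1 : A ≤ Subgroup.centralizer gens :=
    (Subgroup.closure_le _).2 fun a ha => Subgroup.mem_centralizer_iff.2 fun b hb => hcomm b hb a ha
  have h2 : A ≤ Subgroup.centralizer (A : Set C) := by
    show A ≤ Subgroup.centralizer (Subgroup.closure gens : Set C)
    rwa [Subgroup.centralizer_closure]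
  have hab : ∀ a ∈ A, ∀ b ∈ A, a * b = b * a := fun a ha b hb =>
    (Subgroup.mem_centralizer_iff.1 (h2 ha) b hb).symm
  have hA2 : ∀ a ∈ A, a * a = 1 := by
    intro a ha
    induction ha using Subgroup.closure_induction with
    | mem c hc => exact hsq c hc
    | one => exact one_mul 1
    | mul a b ha hb iha ihb =>
      calc a * b * (a * b) = a * (b * a) * b := by group
        _ = a * (a * b) * b := by rw [hab a ha b hb]
        _ = (a * a) * (b * b) := by group
        _ = 1 := by rw [iha, ihb, _root_.one_mul]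
    | inv a _ iha => rw [← mul_inv_rev, iha, inv_one]
  refine ⟨A, ⟨⟨⟨fun a b => Subtype.ext (hab a a.2 b b.2)⟩⟩, fun a ha => by rw [sq]; exact hA2 a ha⟩, ?_⟩
  have hQ : A.subgroupOf Q = L := by
    refine le_antisymm (fun q hq => ?_) fun q hq => Subgroup.subset_closure (Or.inl ⟨q, hq, rfl⟩)
    exact S.mem_of_comm (fun a ha b hb => G.flatPre_comm ha hb) (G.card_flatPre base).ge
      fun a ha => Subtype.ext (hab _ (Subgroup.subset_closure (Or.inl ⟨a, ha, rfl⟩)) _ hq)
  have hmap : A.map (QuotientGroup.mk' Q) = G.flatStab base := by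
    refine le_antisymm ?_ fun h hh => ?_
    · rw [MonoidHom.map_closure, Subgroup.closure_le]
      rintro _ ⟨c, hc, rfl⟩
      rcases hc with ⟨q, -, rfl⟩ | ⟨-, hc⟩
      · rw [show QuotientGroup.mk' Q (q : C) = 1 from (QuotientGroup.eq_one_iff _).2 q.2]
        exact one_mem _
      · exact hc
    · obtain ⟨k, hk, rfl⟩ := X.exists_cent hh.1
      exact ⟨k, Subgroup.subset_closure (Or.inr ⟨hk, hh⟩), rfl⟩
  have h16 : Nat.card (G.flatStab base) = 16 := by
    obtain ⟨μ, hμ, -, hall⟩ := G.K.exists_pattern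
    have hμ0 : μ ≠ 0 := by rcases hμ with rfl | rfl <;> decide
    refine le_antisymm (G.card_flatStab_le base) ?_
    let A' : Finset A6 := insert 1 ((firstPt base).image (dA base))
    have hA' : ∀ π ∈ A', FixPairs base π := fun π hπ => by
      rcases Finset.mem_insert.1 hπ with rfl | hπ
      · exact fun i => Or.inl rfl
      · obtain ⟨a, -, rfl⟩ := Finset.mem_image.1 hπ
        exact fixPairs_dA base a
    have hcardA' : A'.card = 4 := by
      rw [Finset.card_insert_of_notMem, Finset.card_image_of_injOn]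
      · decide +kernel
      · intro a ha b hb e
        exact (by decide +kernel : ∀ a ∈ firstPt base, ∀ b ∈ firstPt base, (∀ i, dtr base a i = dtr base b i) → a = b)
          a ha b hb fun i => congrArg (fun π : A6 => (π : Equiv.Perm (Fin 6)) i) e
      · intro hmem
        obtain ⟨a, -, e⟩ := Finset.mem_image.1 hmem
        exact (by decide +kernel : ∀ a, ¬ ∀ i, dtr base a i = i) a
          (fun i => congrArg (fun π : A6 => (π : Equiv.Perm (Fin 6)) i) e)
    choose sP hsP hsPe using fun P : annFlat base => exists_pat (G := G) hμ0 hall (Finset.mem_filter.1 P.2).2.1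
    let f : annFlat base × A' → G.flatStab base := fun q => ⟨up (sP q.1) * up (G.K.p q.2.1),
      mul_mem (fix_flat hμ0 hall (hsP q.1) (by rw [hsPe]; exact q.1.2)) (p_flat (hA' _ q.2.2))⟩
    have hf : Function.Injective f := by
      rintro ⟨P, π⟩ ⟨P', π'⟩ e
      have e' : sP P * G.K.p π.1 = sP P' * G.K.p π'.1 := by
        have e0 : up (sP P) * up (G.K.p π.1) = up (sP P') * up (G.K.p π'.1) := congrArg Subtype.val e
        exact Subtype.ext e0
      obtain rfl : π = π' := Subtype.ext (G.K.decomp_unique (hsP P) (hsP P') e')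
      obtain rfl : P = P' := Subtype.ext (by rw [← hsPe P, ← hsPe P', mul_right_cancel e'])
      rfl
    refine le_trans (le_of_eq ?_) (Nat.card_le_card_of_injective f hf)
    rw [Nat.card_prod, Nat.card_eq_fintype_card, Fintype.card_coe, card_annFlat, Nat.card_eq_fintype_card,
      Fintype.card_coe, hcardA']
  rw [card_split (Q := Q) A, hmap, hQ, h16, G.card_flatPre]

/-- Elementary subgroups over the stabiliser of `v`. -/
theorem elem_le (B : Subgroup C) (hB : Cfsg.IsElementaryAbelian 2 B)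
    (hBv : B ≤ (S.rep.stab G.K.v).comap (QuotientGroup.mk' Q)) :
    Nat.card B ≤ 2048 ∧ (Nat.card B = 2048 → ∃ j, B.map (QuotientGroup.mk' Q) = G.flatStab j ∧
      Nat.card (B.map (QuotientGroup.mk' Q)) = 16 ∧ B.subgroupOf Q = G.flatPre j) := by
  classical
  have : Fintype (VQ Q) := Fintype.ofFinite _
  have hB2 : ∀ b ∈ B, b * b = 1 := fun b hb => by rw [← sq]; exact hB.2 b hb
  have hBc : ∀ a ∈ B, ∀ b ∈ B, a * b = b * a := fun a ha b hb => congrArg Subtype.val (hB.1.1.1 ⟨a, ha⟩ ⟨b, hb⟩)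
  set Bb := B.map (QuotientGroup.mk' Q)
  set BQ := B.subgroupOf Q
  let D : Subgroup Q := BQ ⊔ Subgroup.center Q
  have hD : ∀ d ∈ D, ∃ b ∈ BQ, ∃ c ∈ Subgroup.center Q, d = b * c := fun d hd => by
    obtain ⟨b, hb, c, hc, e⟩ := (Subgroup.mem_sup_of_normal_right (s := BQ) (t := Subgroup.center Q)).1 hd
    exact ⟨b, hb, c, hc, e.symm⟩
  have hDab : IsMulCommutative D := by
    refine ⟨⟨fun a b => Subtype.ext ?_⟩⟩
    obtain ⟨a₁, ha₁, k, hk, ea⟩ := hD a a.2
    obtain ⟨b₁, hb₁, l, hl, eb⟩ := hD b b.2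
    have hab : a₁ * b₁ = b₁ * a₁ := Subtype.ext (hBc _ ha₁ _ hb₁)
    have hk' := Subgroup.mem_center_iff.1 hk
    have hl' := Subgroup.mem_center_iff.1 hl
    show (a : Q) * b = b * a
    rw [ea, eb]
    calc a₁ * k * (b₁ * l) = a₁ * (k * b₁) * l := by group
      _ = a₁ * b₁ * (k * l) := by rw [← hk' b₁]; group
      _ = b₁ * a₁ * (l * k) := by rw [hab, hl' k]
      _ = b₁ * (a₁ * l) * k := by group
      _ = b₁ * (l * a₁) * k := by rw [hl' a₁]
      _ = b₁ * l * (a₁ * k) := by group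
  let L : AddSubgroup (VQ Q) :=
    { carrier := {u | ∃ d ∈ D, pr d = u}
      zero_mem' := ⟨1, one_mem _, pr_one⟩
      add_mem' := by rintro _ _ ⟨a, ha, rfl⟩ ⟨b, hb, rfl⟩; exact ⟨a * b, mul_mem ha hb, pr_mul a b⟩
      neg_mem' := by
        rintro _ ⟨a, ha, rfl⟩
        exact ⟨a⁻¹, inv_mem ha, eq_neg_of_add_eq_zero_left (by rw [← pr_mul, inv_mul_cancel, pr_one])⟩ }
  have hDL : Nat.card D = 2 * Nat.card L := by
    let f : D →* Multiplicative L :=
      MonoidHom.mk' (fun d => Multiplicative.ofAdd ⟨pr d.1, d.1, d.2, rfl⟩) fun a b =>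
        congrArg Multiplicative.ofAdd (Subtype.ext (pr_mul a.1 b.1))
    have hf : Function.Surjective f := by
      rintro ⟨u, d, hd, rfl⟩
      exact ⟨⟨d, hd⟩, rfl⟩
    have hk : f.ker = (Subgroup.center Q).subgroupOf D := by
      ext q
      rw [MonoidHom.mem_ker, Subgroup.mem_subgroupOf, ← S.pr_eq_zero]
      exact ⟨fun e => congrArg (fun u => ((Multiplicative.toAdd u : L) : VQ Q)) e,
        fun e => congrArg Multiplicative.ofAdd (Subtype.ext e)⟩
    rw [Subgroup.card_eq_card_quotient_mul_card_subgroup f.ker,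
      Nat.card_congr (QuotientGroup.quotientKerEquivOfSurjective f hf).toEquiv, hk,
      Nat.card_congr (Subgroup.subgroupOfEquivOfLe (le_sup_right : Subgroup.center Q ≤ D)).toEquiv,
      show Nat.card (Subgroup.center Q) = 2 from S.extra.2, Nat.card_congr Multiplicative.toAdd, _root_.mul_comm]
  have hL64 : Nat.card L ≤ 64 := by
    have := S.card_abelian D hDab
    omega
  have hiso : ∀ a ∈ L, ∀ b ∈ L, S.rep.b a b = 0 := by
    rintro _ ⟨a, ha, rfl⟩ _ ⟨b, hb, rfl⟩
    show bf (pr a) (pr b) = 0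
    rw [S.bf_pr, bit, if_pos]
    exact commutatorElement_eq_one_iff_mul_comm.2 (congrArg Subtype.val (hDab.1.1 ⟨a, ha⟩ ⟨b, hb⟩))
  have hfix : ∀ h ∈ Bb, ∀ u ∈ L, S.rep.ρ h u = u := by
    rintro _ ⟨c, hc, rfl⟩ _ ⟨d, hd, rfl⟩
    obtain ⟨b, hb, k, hk, rfl⟩ := hD d hd
    show S.rep.ρ (QuotientGroup.mk c) (pr (b * k)) = pr (b * k)
    rw [pr_mul, S.pr_eq_zero.2 hk, add_zero, S.rep_apply]
    refine congrArg pr (Subtype.ext ?_)
    show c * (b : C) * c⁻¹ = (b : C)
    have e : c * (b : C) = (b : C) * c := hBc c hc _ hb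
    rw [e, mul_inv_cancel_right]
  have hBb2 : ∀ h ∈ Bb, h * h = 1 := by
    rintro _ ⟨c, hc, rfl⟩
    rw [← map_mul, hB2 c hc, map_one]
  have hBbv : ∀ h ∈ Bb, S.rep.ρ h G.K.v = G.K.v := by
    rintro _ ⟨c, hc, rfl⟩
    exact hBv hc
  obtain ⟨hle, heq⟩ := G.elementary_bound Bb hBb2 hBbv L hL64 hiso hfix
  have hBQD : Nat.card BQ ≤ Nat.card D := Nat.le_of_dvd Nat.card_pos (Subgroup.card_dvd_of_le le_sup_left)
  have hBcard : Nat.card B = Nat.card Bb * Nat.card BQ := card_split B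
  refine ⟨?_, fun h2048 => ?_⟩
  · rw [hBcard]
    calc Nat.card Bb * Nat.card BQ ≤ Nat.card Bb * (2 * Nat.card L) := Nat.mul_le_mul_left _ (hBQD.trans hDL.le)
      _ ≤ 2048 := by nlinarith
  · have hprod : Nat.card Bb * Nat.card L = 1024 := by
      refine le_antisymm hle ?_
      have : Nat.card Bb * Nat.card BQ ≤ Nat.card Bb * (2 * Nat.card L) :=
        Nat.mul_le_mul_left _ (hBQD.trans hDL.le)
      rw [← hBcard, h2048] at this
      nlinarith
    obtain ⟨j, hj, h16, hLj⟩ := heq hprod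
    refine ⟨j, hj, h16, ?_⟩
    rw [hBcard, h16] at h2048
    have hle' : BQ ≤ G.flatPre j := fun q hq => (hLj _).1 ⟨q, Subgroup.mem_sup_left hq, rfl⟩
    exact Subgroup.eq_of_le_of_card_ge hle' (by rw [G.card_flatPre]; omega)

/-- Two largest ones generating a `2`-group coincide. -/
theorem elem_unique {P : Subgroup C} (hP : IsPGroup 2 P) (hPv : P ≤ (S.rep.stab G.K.v).comap (QuotientGroup.mk' Q))
    {B B' : Subgroup C} (hB : Cfsg.IsElementaryAbelian 2 B) (hB' : Cfsg.IsElementaryAbelian 2 B')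
    (hBP : B ≤ P) (hB'P : B' ≤ P) (hc : Nat.card B = 2048) (hc' : Nat.card B' = 2048) : B = B' := by
  classical
  obtain ⟨j, hj, h16, hQ⟩ := (G.elem_le B hB (hBP.trans hPv)).2 hc
  obtain ⟨j', hj', -, hQ'⟩ := (G.elem_le B' hB' (hB'P.trans hPv)).2 hc'
  have hjj : j = j' := by
    by_contra hne
    obtain ⟨a, b, hab⟩ := dperm_apart_eight j j' hne
    have ha : up (G.K.p (dA j a)) ∈ G.flatStab j := p_flat (fixPairs_dA j a)
    have hb : up (G.K.p (dA j' b)) ∈ G.flatStab j' := p_flat (fixPairs_dA j' b)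
    rw [← hj] at ha
    rw [← hj'] at hb
    obtain ⟨c, hcB, ec⟩ := ha
    obtain ⟨d, hdB, ed⟩ := hb
    obtain ⟨n, hn⟩ := hP ⟨c * d, mul_mem (hBP hcB) (hB'P hdB)⟩
    have hn' : (c * d) ^ (2 ^ n) = 1 := congrArg Subtype.val hn
    have h1 : G.K.p ((dA j a * dA j' b) ^ (2 ^ n)) = 1 := by
      apply Subtype.ext
      rw [map_pow, map_mul, Subgroup.coe_pow, Subgroup.coe_mul]
      have := congrArg (QuotientGroup.mk' Q) hn'
      rw [map_pow, map_mul, map_one, ec, ed] at this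
      exact this
    have h2 : (dA j a * dA j' b) ^ (2 ^ n) = 1 := G.K.p_injective (h1.trans (map_one _).symm)
    obtain ⟨k, hk, hord⟩ := (Nat.dvd_prime_pow Nat.prime_two).1 (orderOf_dvd_of_pow_eq_one h2)
    have hdvd : orderOf (dA j a * dA j' b) ∣ 360 := card_A6 ▸ orderOf_dvd_natCard _
    have hk3 : k ≤ 3 := by
      by_contra hk3
      push Not at hk3
      have h16 : 2 ^ 4 ∣ 360 := (pow_dvd_pow 2 hk3).trans (hord ▸ hdvd)
      norm_num at h16
    refine hab ?_
    have h8 : (dA j a * dA j' b) ^ 8 = 1 :=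
      orderOf_dvd_iff_pow_eq_one.1 (hord ▸ (show 2 ^ k ∣ 8 from (pow_dvd_pow 2 hk3).trans (by norm_num)))
    have h9 := congrArg Subtype.val h8
    rw [SubmonoidClass.coe_pow, Subgroup.coe_mul, OneMemClass.coe_one] at h9
    exact h9
  subst hjj
  let U : Subgroup C := Subgroup.centralizer (((G.flatPre j).map Q.subtype : Subgroup C) : Set C) ⊓
    (G.flatStab j).comap (QuotientGroup.mk' Q)
  have hU : Nat.card U ≤ 2048 := by
    have hUQ : U.subgroupOf Q ≤ G.flatPre j := fun q hq =>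
      S.mem_of_comm (fun a ha b hb => G.flatPre_comm ha hb) (G.card_flatPre j).ge
        fun a ha => Subtype.ext (Subgroup.mem_centralizer_iff.1 hq.1 _ ⟨a, ha, rfl⟩)
    have hUb : U.map (QuotientGroup.mk' Q) ≤ G.flatStab j := by
      rintro _ ⟨c, hc, rfl⟩; exact hc.2
    rw [card_split (Q := Q) U]
    exact le_trans (Nat.mul_le_mul ((Nat.le_of_dvd Nat.card_pos (Subgroup.card_dvd_of_le hUb)).trans
      (G.card_flatStab_le j)) ((Nat.le_of_dvd Nat.card_pos (Subgroup.card_dvd_of_le hUQ)).trans (G.card_flatPre j).le))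
      (by norm_num)
  have hin : ∀ B : Subgroup C, Cfsg.IsElementaryAbelian 2 B → B.map (QuotientGroup.mk' Q) = G.flatStab j →
      B.subgroupOf Q = G.flatPre j → B ≤ U := by
    intro B hB h1 h2 c hc
    refine ⟨Subgroup.mem_centralizer_iff.2 ?_, by rw [← h1]; exact ⟨c, hc, rfl⟩⟩
    rintro _ ⟨q, hq, rfl⟩
    rw [← h2] at hq
    exact congrArg Subtype.val (hB.1.1.1 ⟨(q : C), hq⟩ ⟨c, hc⟩)
  have e1 := Subgroup.eq_of_le_of_card_ge (hin B hB hj hQ) (hc.symm ▸ hU)
  have e2 := Subgroup.eq_of_le_of_card_ge (hin B' hB' hj' hQ') (hc'.symm ▸ hU)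
  exact e1.trans e2.symm

include G in
/-- In every Sylow `2`-subgroup of `C` there is exactly one largest elementary abelian subgroup. -/
theorem sylow_max (T : Sylow 2 C) :
    ∃ A : Subgroup ↥(T : Subgroup C), Cfsg.maxElementaryAbelianSubgroups 2 ↥(T : Subgroup C) = {A} ∧
      Nat.card A = 2 ^ 11 ∧ Nat.card ↥(A.map (T : Subgroup C).subtype ⊓ Q) = 2 ^ 7 ∧
      Nat.card ↥((A.map (T : Subgroup C).subtype).map (QuotientGroup.mk' Q)) = 16 := by
  classical
  have : Fact (Nat.Prime 2) := ⟨Nat.prime_two⟩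
  -- move the image of `T` into the stabiliser
  let T₁ : Sylow 2 (C ⧸ Q) := T.mapSurjective (QuotientGroup.mk'_surjective Q)
  obtain ⟨P⟩ : Nonempty (Sylow 2 (S.rep.stab G.K.v)) := inferInstance
  have hfac : ∀ m, ¬ 2 ∣ m → 0 < m → (2 ^ 8 * m).factorization 2 = 8 := fun m h hm => by
    rw [Nat.factorization_mul (by norm_num) hm.ne', Nat.Prime.factorization_pow Nat.prime_two,
      Finsupp.add_apply, Finsupp.single_eq_same, Nat.factorization_eq_zero_of_not_dvd h]
  have hPcard : Nat.card P = 2 ^ 8 := by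
    rw [Sylow.card_eq_multiplicity, G.card_stab', show (11520 : ℕ) = 2 ^ 8 * 45 by norm_num,
      hfac 45 (by norm_num) (by norm_num)]
  let P₁ : Sylow 2 (C ⧸ Q) := Sylow.ofCard ((P : Subgroup (S.rep.stab G.K.v)).map (S.rep.stab G.K.v).subtype) (by
    rw [Nat.card_congr (Subgroup.equivMapOfInjective _ _ Subtype.val_injective).toEquiv.symm, hPcard, S.card_C,
      show (19595520 : ℕ) = 2 ^ 8 * 76545 by norm_num, hfac 76545 (by norm_num) (by norm_num)])
  obtain ⟨g, hg⟩ := MulAction.exists_smul_eq (C ⧸ Q) T₁ P₁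
  obtain ⟨c, rfl⟩ := QuotientGroup.mk_surjective g
  let φ : C →* C := (MulAut.conj c).toMonoidHom
  have hφ : Function.Injective φ := (MulAut.conj c).injective
  have hTv : (T : Subgroup C).map φ ≤ (S.rep.stab G.K.v).comap (QuotientGroup.mk' Q) := by
    rintro _ ⟨x, hx, rfl⟩
    have h1 : MulAut.conj (QuotientGroup.mk c : C ⧸ Q) • (QuotientGroup.mk' Q x) ∈ (P₁ : Subgroup (C ⧸ Q)) := by
      rw [← hg, Sylow.coe_subgroup_smul]
      exact Subgroup.smul_mem_pointwise_smul _ _ _ ⟨x, hx, rfl⟩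
    rw [show (P₁ : Subgroup (C ⧸ Q)) = _ from Sylow.coe_ofCard _ _] at h1
    obtain ⟨p, -, e⟩ := h1
    show QuotientGroup.mk' Q (c * x * c⁻¹) ∈ S.rep.stab G.K.v
    rw [show QuotientGroup.mk' Q (c * x * c⁻¹) = (p : C ⧸ Q) from by rw [map_mul, map_mul, map_inv]; exact e.symm]
    exact p.2
  have hT2 : IsPGroup 2 ((T : Subgroup C).map φ) := T.isPGroup'.map φ
  have himg : ∀ B : Subgroup ↥(T : Subgroup C), Cfsg.IsElementaryAbelian 2 B →
      Cfsg.IsElementaryAbelian 2 ((B.map (T : Subgroup C).subtype).map φ) ∧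
      Nat.card ((B.map (T : Subgroup C).subtype).map φ) = Nat.card B ∧
      (B.map (T : Subgroup C).subtype).map φ ≤ (T : Subgroup C).map φ := by
    intro B hB
    refine ⟨⟨⟨⟨?_⟩⟩, ?_⟩, ?_, Subgroup.map_mono (Subgroup.map_subtype_le B)⟩
    · rintro ⟨_, _, ⟨a, ha, rfl⟩, rfl⟩ ⟨_, _, ⟨b, hb, rfl⟩, rfl⟩
      apply Subtype.ext
      show φ _ * φ _ = φ _ * φ _
      rw [← map_mul, ← map_mul, ← map_mul, ← map_mul,
        show a * b = b * a from congrArg Subtype.val (hB.1.1.1 ⟨a, ha⟩ ⟨b, hb⟩)]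
    · rintro _ ⟨_, ⟨a, ha, rfl⟩, rfl⟩
      rw [← map_pow, ← map_pow, hB.2 a ha, map_one, map_one]
    · rw [← Nat.card_congr (Subgroup.equivMapOfInjective _ _ hφ).toEquiv,
        ← Nat.card_congr (Subgroup.equivMapOfInjective _ _ Subtype.val_injective).toEquiv]
  -- existence
  obtain ⟨A₀, hA₀, hc₀⟩ := G.exists_elem
  have hA₀2 : IsPGroup 2 A₀ := IsPGroup.of_card (n := 11) (by rw [hc₀]; norm_num)
  obtain ⟨T₂, hT₂⟩ := hA₀2.exists_le_sylow
  obtain ⟨d, hd⟩ := MulAction.exists_smul_eq C T₂ T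
  let A : Subgroup ↥(T : Subgroup C) := (A₀.map (MulAut.conj d).toMonoidHom).subgroupOf (T : Subgroup C)
  have hAT : A₀.map (MulAut.conj d).toMonoidHom ≤ (T : Subgroup C) := by
    rw [← hd, Sylow.coe_subgroup_smul]
    rintro _ ⟨x, hx, rfl⟩
    exact Subgroup.smul_mem_pointwise_smul x (MulAut.conj d) (T₂ : Subgroup C) (hT₂ hx)
  have hAc : Nat.card A = 2048 := by
    rw [Nat.card_congr (Subgroup.subgroupOfEquivOfLe hAT).toEquiv,
      ← Nat.card_congr (Subgroup.equivMapOfInjective _ _ (MulAut.conj d).injective).toEquiv, hc₀]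
  have hAe : Cfsg.IsElementaryAbelian 2 A := by
    refine ⟨⟨⟨fun a b => ?_⟩⟩, fun a ha => ?_⟩
    · obtain ⟨x, hx, ex⟩ := a.2
      obtain ⟨y, hy, ey⟩ := b.2
      have h : x * y = y * x := congrArg Subtype.val (hA₀.1.1.1 ⟨x, hx⟩ ⟨y, hy⟩)
      apply Subtype.ext; apply Subtype.ext
      show ((a : ↥(T : Subgroup C)) : C) * ((b : ↥(T : Subgroup C)) : C) = _ * _
      rw [show ((a : ↥(T : Subgroup C)) : C) = _ from ex.symm, show ((b : ↥(T : Subgroup C)) : C) = _ from ey.symm,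
        ← map_mul, ← map_mul, h]
    · obtain ⟨x, hx, ex⟩ := ha
      apply Subtype.ext
      show (a : C) ^ 2 = 1
      rw [show (a : C) = _ from ex.symm, ← map_pow, hA₀.2 x hx, map_one]
  have hmax : ∀ B : Subgroup ↥(T : Subgroup C), Cfsg.IsElementaryAbelian 2 B → Nat.card B ≤ 2048 := fun B hB => by
    obtain ⟨h1, h2, h3⟩ := himg B hB
    rw [← h2]; exact (G.elem_le _ h1 (h3.trans hTv)).1
  refine ⟨A, ?_, by rw [hAc]; norm_num, ?_⟩
  · ext B
    rw [Set.mem_singleton_iff]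
    constructor
    · rintro ⟨hB, hBmax⟩
      have hBc : Nat.card B = 2048 := le_antisymm (hmax B hB) (hAc ▸ hBmax A hAe)
      obtain ⟨h1, h2, h3⟩ := himg B hB
      obtain ⟨k1, k2, k3⟩ := himg A hAe
      exact Subgroup.map_injective Subtype.val_injective (Subgroup.map_injective hφ
        (G.elem_unique hT2 hTv h1 k1 h3 k3 (h2.trans hBc) (k2.trans hAc)))
    · rintro rfl
      exact ⟨hAe, fun B hB => hAc ▸ hmax B hB⟩
  obtain ⟨k1, k2, k3⟩ := himg A hAe
  obtain ⟨j, -, h16, hQ⟩ := (G.elem_le _ k1 (k3.trans hTv)).2 (k2.trans hAc)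
  set A' := A.map (T : Subgroup C).subtype
  have hI : Nat.card ↥(A' ⊓ Q) = Nat.card ((A'.map φ).subgroupOf Q) := by
    have hQφ : Q.map φ = Q := by
      ext y
      refine ⟨fun ⟨x, hx, e⟩ => e ▸ (inferInstance : Q.Normal).conj_mem x hx c, fun hy =>
        ⟨c⁻¹ * y * c, by simpa using (inferInstance : Q.Normal).conj_mem y hy c⁻¹, ?_⟩⟩
      show c * (c⁻¹ * y * c) * c⁻¹ = y
      group
    rw [← Subgroup.inf_subgroupOf_right, Nat.card_congr (Subgroup.subgroupOfEquivOfLe inf_le_right).toEquiv,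
      Nat.card_congr (Subgroup.equivMapOfInjective (A' ⊓ Q) _ hφ).toEquiv, Subgroup.map_inf _ _ _ hφ, hQφ]
  refine ⟨by rw [hI, hQ, G.card_flatPre]; norm_num, ?_⟩
  rw [← h16, Nat.card_congr (Subgroup.equivMapOfInjective (A'.map (QuotientGroup.mk' Q))
    (MulAut.conj (QuotientGroup.mk c : C ⧸ Q)).toMonoidHom (MulAut.conj (QuotientGroup.mk c : C ⧸ Q)).injective).toEquiv,
    Subgroup.map_map, Subgroup.map_map]
  congr 3
  ext x
  simp [φ, A']

end Geo

end CfsgLib.FischerTwoFour
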