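import Mathlib
import Cfsg.Agent.Lib.FischerTwoFour.Fusion

/-!
Elements outside the subgroup of index two invert the scalar element of order three.
-/

set_option autoImplicit false
set_option linter.unusedSectionVars false

namespace CfsgLib.FischerTwoFour

open CfsgLib.U43Six

namespace Frame

variable {H V : Type*} [Group H] [Finite H] [AddCommGroup V] [Fintype V] {R : QRep H V} (F : Frame R)
  {K : Type*} [Field K] [Fintype K] (D : Four K)

theorem act_t (x : Fin 6 → K) : act (F.gu D F.t) x = D.ω • x :=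
  (F.lam_bij D).1 (by rw [F.lam_gu D, F.lam_om D])

theorem t_ne_one : F.t ≠ 1 := by
  intro h
  have e := F.t_fpf (F.e 0 : V)
  rw [h, R.one_apply, R.one_apply, R.two, zero_add] at e
  exact F.e_ne 0 e

/-- The centre consists of the powers of `t`. -/
theorem central_cases {a : H} (ha : ∀ h, a * h = h * a) : a = 1 ∨ a = F.t ∨ a = F.t ^ 2 := by
  classical
  have : Fact (Nat.Prime 2) := ⟨Nat.prime_two⟩
  let _ : Fintype (GaloisField 2 2) := Fintype.ofFinite _
  obtain ⟨D⟩ := exists_four (F := GaloisField 2 2)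
    (by rw [← Nat.card_eq_fintype_card, GaloisField.card 2 2 (by norm_num)]; norm_num)
  set g := F.gu D a with hg
  have hcomm : ∀ h x, act g (act (F.gu D h) x) = act (F.gu D h) (act g x) := fun h x => by
    rw [← act_mul, ← act_mul, ← map_mul, ← map_mul, ha]
  have hdiag : ∀ i j : Fin 6, j ≠ i → act g (Pi.single i 1) j = 0 := by
    intro i j hji
    obtain ⟨k, hki, hkj⟩ := (by decide : ∀ i j : Fin 6, ∃ k, k ≠ i ∧ k ≠ j) i j
    let d : Fin 6 → ZMod 3 := Pi.single i 1 + Pi.single k 2
    have hd : ∑ l, d l = 0 := by simp [d, Finset.sum_add_distrib]; decide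
    obtain ⟨h, hh⟩ := F.exists_diag D d hd
    have hi : act (F.gu D h) (Pi.single i 1) = D.ω • Pi.single i 1 := funext fun l => by
      rw [hh]
      by_cases hl : l = i
      · subst hl; simp [d, Pi.single_eq_of_ne hki.symm, Four.w, ZMod.val_one]
      · simp [hl]
    have e := congrFun (hcomm h (Pi.single i 1)) j
    rw [hi, act_smul, Pi.smul_apply, smul_eq_mul, hh] at e
    simp [d, Pi.single_eq_of_ne hji, Pi.single_eq_of_ne hkj.symm] at e
    have e' : (D.ω - 1) * act g (Pi.single i 1) j = 0 := by linear_combination e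
    exact (mul_eq_zero.1 e').resolve_left (sub_ne_zero.2 D.omega_ne_one)
  set c : Fin 6 → GaloisField 2 2 := fun i => act g (Pi.single i 1) i with hc
  have hact : ∀ x i, act g x i = c i * x i := by
    intro x i
    conv_lhs => rw [vec_sum x]
    rw [act_sum, Finset.sum_apply, Finset.sum_eq_single i]
    · rw [act_smul, Pi.smul_apply, smul_eq_mul, mul_comm]
    · intro j _ hj; rw [act_smul, Pi.smul_apply, hdiag j i (Ne.symm hj), smul_zero]
    · simp
  have hconst : ∀ i, i ≠ 0 → c i = c 0 := by
    intro i hi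
    obtain ⟨τ, h1, -⟩ := two_sets 0 i i 0 (Ne.symm hi) hi
    obtain ⟨c', hc'⟩ := F.act_of_lines D (F.g_maps τ)
    have hne : c' 0 ≠ 0 := by
      intro e
      have h0 : act (F.gu D (F.g τ)) (Pi.single 0 (1 : GaloisField 2 2)) = 0 := funext fun k => by
        obtain ⟨l, rfl⟩ := (τ : Equiv.Perm (Fin 6)).surjective k
        rw [hc']
        by_cases hl : l = 0
        · subst hl; rw [e, zero_mul]; rfl
        · rw [Pi.single_eq_of_ne hl, mul_zero]; rfl
      exact one_ne_zero (α := GaloisField 2 2) (by
        have := congrFun (act_inj _ (h0.trans (act_zero _).symm)) 0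
        simpa using this)
    have e := congrFun (hcomm (F.g τ) (Pi.single 0 1)) ((τ : Equiv.Perm (Fin 6)) 0)
    rw [hact, hc', hc', hact, Pi.single_eq_same, h1] at e
    have e' : (c i - c 0) * c' 0 = 0 := by linear_combination e
    exact sub_eq_zero.1 ((mul_eq_zero.1 e').resolve_right hne)
  have hall : ∀ x, act g x = c 0 • x := fun x => funext fun i => by
    rw [hact, Pi.smul_apply, smul_eq_mul]
    by_cases hi : i = 0
    · rw [hi]
    · rw [hconst i hi]
  have heq : ∀ b : H, (∀ x, act (F.gu D b) x = c 0 • x) → a = b := fun b hb =>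
    F.gu_injective D (act_ext fun i => by rw [← hg, hall, hb])
  rcases smul_cases D (c 0) with e | e | e | e
  · exfalso
    have := act_inj g (x := Pi.single 0 1) (y := 0) (by rw [hall, e, zero_smul, act_zero])
    simpa using congrFun this 0
  · exact Or.inl (heq 1 fun x => by rw [e, one_smul, map_one, act_one])
  · exact Or.inr (Or.inl (heq _ fun x => by rw [e, F.act_t D]))
  · refine Or.inr (Or.inr (heq _ fun x => ?_))
    rw [e, sq, map_mul, act_mul, F.act_t D, F.act_t D, smul_smul]
    congr 1
    linear_combination D.root - (D.ω + 1) * D.two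

end Frame

variable {C : Type*} [Group C] [Finite C] {Q : Subgroup C} [Q.Normal]

namespace Shape

variable (S : Shape Q) {Mb : Type*} [Group Mb] [Finite Mb] {ι : Mb →* C ⧸ Q} {hι : Function.Injective ι}

include S

/-- Only elements of the subgroup of index two commute with `t`. -/
theorem mem_range_of_comm [Fintype (VQ Q)] (hMb : Nat.card Mb = 9797760) (hι' : Function.Injective ι)
    (F : Frame (S.rep.pull ι hι))
    (hfus : ∀ v, v ≠ 0 → S.rep.q v = 0 → Nat.card (S.rep.stab v) = 11520 → Nonempty (S.rep.Fusion v))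
    {x : C ⧸ Q} (hx : x * ι F.t = ι F.t * x) : x ∈ ι.range := by
  classical
  by_contra hxr
  have hidx : ι.range.index = 2 := by
    have h := ι.range.card_mul_index
    rw [S.card_C, ← Nat.card_congr (MonoidHom.ofInjective hι').toEquiv, hMb] at h
    omega
  have hc : ∀ y : C ⧸ Q, y * ι F.t = ι F.t * y := by
    intro y
    by_cases hy : y ∈ ι.range
    · obtain ⟨m, rfl⟩ := hy
      rw [← map_mul, ← map_mul, F.t_comm]
    · have hm : x⁻¹ * y ∈ ι.range :=
        (Subgroup.mul_mem_iff_of_index_two hidx).2 (iff_of_false (fun h => hxr (inv_mem_iff.1 h)) hy)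
      obtain ⟨m, hm⟩ := hm
      rw [show y = x * ι m by rw [hm, mul_inv_cancel_left], mul_assoc, ← map_mul, F.t_comm, map_mul,
        ← mul_assoc, hx, mul_assoc]
  let F' : Frame S.rep :=
    { t := ι F.t
      t_cube := by rw [← map_pow, F.t_cube, map_one]
      t_comm := hc
      t_fpf := F.t_fpf
      L := F.L
      card_L := F.card_L
      stable := F.stable
      orth := F.orth
      q_one := F.q_one
      bij := F.bij
      diag := fun d hd => by
        obtain ⟨h, hh⟩ := F.diag d hd
        refine ⟨ι h, fun i v hv => ?_⟩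
        rw [← map_pow]
        exact hh i v hv
      g := fun π => ι (F.g π)
      g_mul := fun π σ => by
        obtain ⟨n, hn⟩ := F.g_mul π σ
        exact ⟨n, by rw [hn, map_mul, map_mul, map_pow]⟩
      g_maps := F.g_maps }
  exact no_frame F' S.card_C hfus

/-- The elements outside the subgroup of index two invert `t`. -/
theorem conj_t [Fintype (VQ Q)] (hMb : Nat.card Mb = 9797760) (hι' : Function.Injective ι)
    (F : Frame (S.rep.pull ι hι))
    (hfus : ∀ v, v ≠ 0 → S.rep.q v = 0 → Nat.card (S.rep.stab v) = 11520 → Nonempty (S.rep.Fusion v))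
    {x : C ⧸ Q} (hx : x ∉ ι.range) : x * ι F.t * x⁻¹ = ι (F.t ^ 2) := by
  classical
  have hidx : ι.range.index = 2 := by
    have h := ι.range.card_mul_index
    rw [S.card_C, ← Nat.card_congr (MonoidHom.ofInjective hι').toEquiv, hMb] at h
    omega
  have hn : ι.range.Normal := Subgroup.normal_of_index_eq_two hidx
  obtain ⟨a, ha⟩ := hn.conj_mem (ι F.t) ⟨F.t, rfl⟩ x
  have hcen : ∀ m, a * m = m * a := by
    intro m
    apply hι'
    obtain ⟨n, hn'⟩ := hn.conj_mem (ι m) ⟨m, rfl⟩ x⁻¹
    have h1 : ι F.t * ι n = ι n * ι F.t := by rw [← map_mul, ← map_mul, F.t_comm]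
    rw [hn'] at h1
    rw [map_mul, map_mul, ha]
    calc x * ι F.t * x⁻¹ * ι m = x * (ι F.t * (x⁻¹ * ι m * x⁻¹⁻¹)) * x⁻¹ := by group
      _ = x * (x⁻¹ * ι m * x⁻¹⁻¹ * ι F.t) * x⁻¹ := by rw [h1]
      _ = ι m * (x * ι F.t * x⁻¹) := by group
  rcases F.central_cases hcen with h | h | h
  · exfalso
    rw [h, map_one, eq_comm, mul_inv_eq_one, mul_eq_left] at ha
    exact F.t_ne_one (hι' (by rw [map_one]; exact ha))
  · exfalso
    rw [h] at ha
    exact hx (S.mem_range_of_comm hMb hι' F hfus (mul_inv_eq_iff_eq_mul.1 ha.symm))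
  · rw [← ha, h]

end Shape

end CfsgLib.FischerTwoFour
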