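import Mathlib
import Cfsg.Agent.Lib.FischerTwoFour.Outer
import Cfsg.Agent.Lib.ThreeTrans.MinusSix

/-!
The stabiliser of a vector in the orbit of length `378` is the orthogonal group of minus type in
dimension six over two elements.
-/

set_option autoImplicit false
set_option linter.unusedSectionVars false

namespace CfsgLib.FischerTwoFour

open CfsgLib.U43Six CfsgLib.ClassicalGroups Matrix

/-- The kernel of the determinant on `GU` is `SU`. -/
def kerDetEquiv {F : Type*} [Field F] [Fintype F] (n q : ℕ) :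
    (GeneralLinearGroup.det.comp (Cfsg.GU n F q).subtype).ker ≃* Cfsg.SU n F q where
  toFun g := ⟨⟨g.1.1.val, congrArg Units.val (show GeneralLinearGroup.det g.1.1 = 1 from g.2)⟩,
    mem_SU_iff.2 (mem_GU_iff.1 g.1.2)⟩
  invFun s := ⟨⟨s.1.toGL, mem_SU_iff_toGL.1 s.2⟩, Units.ext s.1.prop⟩
  left_inv g := Subtype.ext (Subtype.ext (Units.ext rfl))
  right_inv s := rfl
  map_mul' a b := rfl

/-- A large subgroup of `GU_4(2)` is `SU_4(2)` or all of it. -/
theorem large_GU {F : Type*} [Field F] [Fintype F] (hF : Fintype.card F = 2 ^ 2)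
    (Y : Subgroup (Cfsg.GU 4 F 2)) (hY : 25920 ≤ Nat.card Y * 2) :
    25920 ≤ Nat.card Y ∧ (Nat.card Y = 25920 → Nonempty (Y ≃* Cfsg.PSU 4 F 2)) := by
  classical
  set ψ := GeneralLinearGroup.det.comp (Cfsg.GU 4 F 2).subtype
  have hz : Subgroup.center (Cfsg.SU 4 F 2) = ⊥ :=
    (Subgroup.eq_bot_iff_forall _).2 fun z hz => CfsgLib.ThreeTrans.USix.center_four hF z hz
  let e : Cfsg.SU 4 F 2 ≃* Cfsg.PSU 4 F 2 :=
    ((QuotientGroup.quotientMulEquivOfEq hz).trans QuotientGroup.quotientBot).symm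
  have hsu : Nat.card (Cfsg.SU 4 F 2) = 25920 := by
    rw [Nat.card_congr e.toEquiv, CfsgLib.ThreeTrans.USix.card_psu_four hF]
  have : IsSimpleGroup (Cfsg.PSU 4 F 2) := psu_isSimpleGroup hF (by norm_num) (by norm_num)
  have : IsSimpleGroup (Cfsg.SU 4 F 2) := e.isSimpleGroup
  let ψY : Y →* Fˣ := ψ.comp Y.subtype
  have h3 : Nat.card ψY.range ≤ 3 := by
    refine (Subgroup.card_le_card_group _).trans ?_
    rw [Nat.card_units, Nat.card_eq_fintype_card, hF]
    norm_num
  have hmul : Nat.card Y = Nat.card ψY.range * Nat.card ψY.ker := by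
    rw [Subgroup.card_eq_card_quotient_mul_card_subgroup ψY.ker,
      Nat.card_congr (QuotientGroup.quotientKerEquivRange ψY).toEquiv]
  let j : ψY.ker →* Cfsg.SU 4 F 2 := (kerDetEquiv 4 2).toMonoidHom.comp
    ((Y.subtype.comp ψY.ker.subtype).codRestrict ψ.ker fun y => y.2)
  have hj : Function.Injective j := fun a b h => by
    have h' := congrArg Subtype.val ((kerDetEquiv (F := F) 4 2).injective h)
    exact Subtype.ext (Subtype.ext h')
  have hjc : Nat.card j.range = Nat.card ψY.ker := Nat.card_congr (MonoidHom.ofInjective hj).toEquiv.symm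
  have htop : j.range = ⊤ := eq_top_of_index hsu _ (by rw [hjc]; nlinarith)
  have hker : Nat.card ψY.ker = 25920 := by rw [← hjc, htop, Subgroup.card_top, hsu]
  refine ⟨?_, fun h => ?_⟩
  · rw [hmul, hker]
    exact Nat.le_mul_of_pos_left _ Nat.card_pos
  · have hk : ψY.ker = ⊤ := Subgroup.eq_top_of_card_eq _ (hker.trans h.symm)
    exact ⟨(Subgroup.topEquiv.symm.trans (MulEquiv.subgroupCongr hk.symm)).trans
      ((MulEquiv.ofBijective j ⟨hj, MonoidHom.range_eq_top.1 htop⟩).trans e)⟩

namespace Frame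

variable {H V : Type*} [Group H] [Finite H] [AddCommGroup V] [Fintype V] {R : QRep H V} (F : Frame R)
  {K : Type*} [Field K] [Fintype K] (D : Four K)

/-- The stabiliser in a group with one orbit of length `378` is `PSU_4(2)`. -/
theorem st2_equiv (hst : Nat.card (F.st2 D) = 25920) : Nonempty (F.st2 D ≃* Cfsg.PSU 4 K 2) := by
  obtain ⟨hk2, -⟩ := F.ker_small D (by rw [hst]; norm_num)
  have hmul : Nat.card (F.quot4 D).range * Nat.card (F.quot4 D).ker = 25920 := by
    rw [← hst, Subgroup.card_eq_card_quotient_mul_card_subgroup (F.quot4 D).ker,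
      Nat.card_congr (QuotientGroup.quotientKerEquivRange (F.quot4 D)).toEquiv]
  obtain ⟨h1, h2⟩ := large_GU (Four.card' D) (F.quot4 D).range (by nlinarith)
  have hpos : 0 < Nat.card (F.quot4 D).ker := Nat.card_pos
  have hk1 : Nat.card (F.quot4 D).ker = 1 := by nlinarith
  rw [hk1, mul_one] at hmul
  obtain ⟨e⟩ := h2 hmul
  exact ⟨(MonoidHom.ofInjective
    ((MonoidHom.ker_eq_bot_iff _).1 (Subgroup.card_eq_one.1 hk1))).trans e⟩

end Frame

variable {C : Type*} [Group C] [Finite C] {Q : Subgroup C} [Q.Normal] (S : Shape Q)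

theorem stab_conj {H V : Type*} [Group H] [Finite H] [AddCommGroup V] (R : QRep H V) (a : H) (u : V) :
    Nonempty (R.stab (R.ρ a u) ≃* R.stab u) := by
  have h : R.stab (R.ρ a u) = (R.stab u).map (MulAut.conj a).toMonoidHom := by
    ext y
    constructor
    · intro hy
      refine ⟨a⁻¹ * y * a, ?_, by simp [mul_assoc]⟩
      show R.ρ (a⁻¹ * y * a) u = u
      rw [R.mul_apply, R.mul_apply, show R.ρ y (R.ρ a u) = R.ρ a u from hy, R.inv_apply]
    · rintro ⟨m, hm, rfl⟩
      show R.ρ (a * m * a⁻¹) (R.ρ a u) = R.ρ a u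
      rw [R.mul_apply, R.mul_apply, R.inv_apply, show R.ρ m u = u from hm]
  exact ⟨(MulEquiv.subgroupCongr h).trans ((MulAut.conj a).subgroupMap (R.stab u)).symm⟩

include S in
set_option maxHeartbeats 1000000 in
/-- The larger stabiliser. -/
theorem Shape.stab_minus
    (hfus : ∀ v, v ≠ 0 → S.rep.q v = 0 → Nat.card (S.rep.stab v) = 11520 → Nonempty (S.rep.Fusion v))
    {v : VQ Q} (hv : v ≠ 0) (hq : S.rep.q v = 0) (hc : Nat.card (S.rep.stab v) = 51840) :
    Nonempty (S.rep.stab v ≃* Cfsg.isometryGroup (ZMod 2) (Cfsg.quadFormMinus 2 (ZMod 2) 1 1)) := by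
  classical
  have : Fintype (VQ Q) := Fintype.ofFinite _
  have : Fact (Nat.Prime 2) := ⟨Nat.prime_two⟩
  let _ : Fintype (GaloisField 2 2) := Fintype.ofFinite _
  obtain ⟨D⟩ := exists_four (F := GaloisField 2 2)
    (by rw [← Nat.card_eq_fintype_card, GaloisField.card 2 2 (by norm_num)]; norm_num)
  obtain ⟨hC, Mb, _, _, ι, hι, hMb, ⟨x₇, hx₇⟩, ⟨F⟩⟩ := S.exists_mbar
  obtain ⟨f₁, f₂, w1, -, h1, h2, hcov, -⟩ := F.orbits_codes hx₇ (by rw [hMb]; norm_num)
  have hr₁ : (S.rep.pull ι hι).Rel (F.Φ f₁) (F.lam D v2) := by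
    rw [F.lam_v2 D]; exact F.rel_weight (w1.trans (by decide)) (Or.inl w1)
  have horb : (S.rep.pull ι hι).orb (F.lam D v2) = (S.rep.pull ι hι).orb (F.Φ f₁) := Finset.ext fun v => by
    rw [QRep.mem_orb, QRep.mem_orb]
    exact ⟨fun h => hr₁.trans _ h, fun h => (hr₁.symm _).trans _ h⟩
  rw [← horb] at h1
  replace hcov : ∀ v, v ≠ 0 → (S.rep.pull ι hι).q v = 0 →
      (S.rep.pull ι hι).Rel (F.lam D v2) v ∨ (S.rep.pull ι hι).Rel (F.Φ f₂) v := fun v hv hq =>
    (hcov v hv hq).imp (fun h => (hr₁.symm _).trans _ h) id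
  have horbv : (S.rep.orb v).card = 378 := by
    have := S.rep.card_stab_mul v
    rw [hc, hC] at this
    omega
  set u := F.lam D v2 with hu
  obtain ⟨a, ha⟩ : (S.rep.pull ι hι).Rel u v := by
    refine (hcov v hv hq).resolve_right fun h => ?_
    have hsub : (S.rep.pull ι hι).orb (F.Φ f₂) ⊆ S.rep.orb v := fun w hw => by
      rw [QRep.mem_orb] at hw ⊢
      obtain ⟨b, hb⟩ := hw
      obtain ⟨c, hc'⟩ := h
      exact (QRep.Rel.symm S.rep ⟨ι c, hc'⟩).trans S.rep ⟨ι b, hb⟩
    have := Finset.card_le_card hsub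
    rw [h2, horbv] at this
    omega
  have ha' : S.rep.ρ (ι a) u = v := ha
  subst ha'
  obtain ⟨e₀⟩ := stab_conj S.rep (ι a) u
  set X := S.rep.stab u with hX
  have hXc : Nat.card X = 51840 := by rw [← Nat.card_congr e₀.toEquiv, hc]
  have hst : Nat.card (F.st2 D) = 25920 := by
    have := (S.rep.pull ι hι).card_stab_mul u
    rw [h1, hMb] at this
    show Nat.card ((S.rep.pull ι hι).stab u) = 25920
    omega
  obtain ⟨e₁⟩ := F.st2_equiv D hst
  let N : Subgroup X := ι.range.subgroupOf X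
  let k : F.st2 D →* N :=
    { toFun := fun m => ⟨⟨ι (m : Mb), m.2⟩, ⟨(m : Mb), rfl⟩⟩
      map_one' := Subtype.ext (Subtype.ext (map_one ι))
      map_mul' := fun m m' => Subtype.ext (Subtype.ext (map_mul ι (m : Mb) (m' : Mb))) }
  have hk : Function.Bijective k := by
    refine ⟨fun m m' h => Subtype.ext (hι (congrArg (fun n : N => ((n : X) : C ⧸ Q)) h)), ?_⟩
    rintro ⟨⟨y, hy⟩, hyr⟩
    obtain ⟨m, hm⟩ := (hyr : y ∈ ι.range)
    exact ⟨⟨m, show S.rep.ρ (ι m) u = u by rw [hm]; exact hy⟩, Subtype.ext (Subtype.ext hm)⟩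
  let e₂ : N ≃* Cfsg.PSU 4 (GaloisField 2 2) 2 := (MulEquiv.ofBijective k hk).symm.trans e₁
  have hF : Fintype.card (GaloisField 2 2) = 2 ^ 2 := Four.card' D
  have hidx : ι.range.index = 2 := by
    have h := ι.range.card_mul_index
    rw [hC, ← Nat.card_congr (MonoidHom.ofInjective hι).toEquiv, hMb] at h
    omega
  have : ι.range.Normal := Subgroup.normal_of_index_eq_two hidx
  have : N.Normal := inferInstanceAs (ι.range.subgroupOf X).Normal
  let Ψ : X →* MulAut N := MulAut.conjNormal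
  have hinj : Function.Injective Ψ := by
    refine (injective_iff_map_eq_one Ψ).2 fun y hy => ?_
    have hfix : ∀ m : N, y * (m : X) = (m : X) * y := fun m => by
      have h : y * (m : X) * y⁻¹ = m := by rw [← MulAut.conjNormal_apply, hy]; rfl
      exact mul_inv_eq_iff_eq_mul.1 h
    by_cases hyN : y ∈ N
    · have hcen : e₂ ⟨y, hyN⟩ ∈ Subgroup.center (Cfsg.PSU 4 (GaloisField 2 2) 2) := by
        rw [Subgroup.mem_center_iff]
        intro p
        obtain ⟨m, rfl⟩ := e₂.surjective p
        rw [← map_mul, ← map_mul]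
        exact congrArg e₂ (Subtype.ext (hfix m).symm)
      have hsimple : IsSimpleGroup (Cfsg.PSU 4 (GaloisField 2 2) 2) :=
        psu_isSimpleGroup hF (by norm_num) (by norm_num)
      rcases (inferInstance : (Subgroup.center (Cfsg.PSU 4 (GaloisField 2 2) 2)).Normal).eq_bot_or_eq_top with
        h | h
      · rw [h, Subgroup.mem_bot] at hcen
        exact congrArg Subtype.val (e₂.injective (hcen.trans (map_one e₂).symm))
      · exfalso
        have hz : Subgroup.center (Cfsg.SU 4 (GaloisField 2 2) 2) = ⊥ :=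
          (Subgroup.eq_bot_iff_forall _).2 fun z hz => CfsgLib.ThreeTrans.USix.center_four hF z hz
        let e : Cfsg.SU 4 (GaloisField 2 2) 2 ≃* Cfsg.PSU 4 (GaloisField 2 2) 2 :=
          ((QuotientGroup.quotientMulEquivOfEq hz).trans QuotientGroup.quotientBot).symm
        have hbot : (⊤ : Subgroup (Cfsg.SU 4 (GaloisField 2 2) 2)) ≤ ⊥ := fun a _ => by
          rw [← hz, Subgroup.mem_center_iff]
          intro b
          apply e.injective
          rw [map_mul, map_mul]
          exact Subgroup.mem_center_iff.1 (h ▸ Subgroup.mem_top (e a)) (e b)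
        have hcard := CfsgLib.ThreeTrans.USix.card_psu_four hF
        rw [← Nat.card_congr e.toEquiv, ← Subgroup.card_top, le_antisymm hbot bot_le,
          Subgroup.card_bot] at hcard
        omega
    · exfalso
      have hxr : (y : C ⧸ Q) ∉ ι.range := hyN
      have hinv := S.conj_t hMb hι F hfus hxr
      obtain ⟨h, hh⟩ := F.exists_diag D ![0, 0, 1, 1, 1, 0] (by decide)
      have hmem : h ∈ F.st2 D := by
        refine (F.lam_gu D h v2).symm.trans (congrArg (F.lam D) (funext fun i => ?_))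
        rw [hh]
        fin_cases i <;> simp [v2]
      have hcy : (y : C ⧸ Q) * ι h = ι h * y := congrArg Subtype.val (hfix (k ⟨h, hmem⟩))
      let w : Fin 6 → GaloisField 2 2 := Pi.single 2 1
      obtain ⟨y', hy'⟩ := (F.lam_bij D).2 (S.rep.ρ (y : C ⧸ Q) (F.lam D w))
      have hw : act (F.gu D h) w = D.ω • w := funext fun i => by
        rw [hh]
        fin_cases i <;> simp [w, Four.w, ZMod.val_one]
      have e : act (F.gu D h) y' = D.ω • (D.ω • y') := by
        refine (F.lam_bij D).1 ?_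
        rw [F.lam_gu, F.lam_om, F.lam_om]
        show S.rep.ρ (ι h) (F.lam D y') = S.rep.ρ (ι F.t) (S.rep.ρ (ι F.t) (F.lam D y'))
        rw [← S.rep.mul_apply (ι F.t), ← map_mul ι, ← sq, hy', ← S.rep.mul_apply, ← hcy, S.rep.mul_apply,
          show S.rep.ρ (ι h) (F.lam D w) = F.lam D (D.ω • w) by rw [← hw, F.lam_gu]; rfl,
          F.lam_om]
        show S.rep.ρ (y : C ⧸ Q) (S.rep.ρ (ι F.t) (F.lam D w)) = _
        rw [← S.rep.mul_apply, ← S.rep.mul_apply, ← hinv, inv_mul_cancel_right]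
      have hy0 : y' = 0 := funext fun i => by
        have ei := congrFun e i
        rw [hh, Pi.smul_apply, Pi.smul_apply, smul_eq_mul, smul_eq_mul] at ei
        have key : ∀ c : GaloisField 2 2, c = 1 ∨ c = D.ω → c * y' i = D.ω * (D.ω * y' i) → y' i = 0 := by
          intro c hc' hceq
          have h' : (c - D.ω ^ 2) * y' i = 0 := by linear_combination hceq
          refine (mul_eq_zero.1 h').resolve_left fun h0 => ?_
          rcases hc' with rfl | rfl
          · exact D.omega_ne (by linear_combination h0 + D.root - D.two)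
          · exact one_ne_zero (α := GaloisField 2 2) (by linear_combination h0 + D.root - D.ω * D.two)
        fin_cases i <;> refine key _ ?_ ei <;> simp [Four.w, ZMod.val_one]
      rw [hy0, map_zero, eq_comm] at hy'
      have := S.rep.inj _ (hy'.trans (map_zero (S.rep.ρ (y : C ⧸ Q))).symm)
      have hw0 := congrFun ((F.lam_bij D).1 (this.trans (map_zero (F.lam D)).symm)) 2
      simp [w] at hw0
  have : Finite (MulAut N) := Finite.of_injective (fun f => (f : N → N)) DFunLike.coe_injective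
  have hbij : Function.Bijective Ψ := (Nat.bijective_iff_injective_and_card Ψ).2 ⟨hinj, by
    rw [hXc, Nat.card_congr (MulAut.congr e₂).toEquiv, CfsgLib.ThreeTrans.MinusSix.card_mulAut_psu_four hF]⟩
  obtain ⟨e₃⟩ := CfsgLib.ThreeTrans.MinusSix.minusSix_equiv_mulAut hF
  exact ⟨(e₀.trans ((MulEquiv.ofBijective Ψ hbij).trans (MulAut.congr e₂))).trans e₃.symm⟩

end CfsgLib.FischerTwoFour
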