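import Mathlib
import Cfsg.Agent.Lib.FischerTwoFour.Small
import Cfsg.Agent.Lib.FischerTwoFour.Lines

/-!
Coordinates around a singular vector fixed by an alternating group permuting six lines, and the
invariant subgroups between the point spanned by the vector and its orthogonal space.
-/

set_option autoImplicit false

namespace CfsgLib.FischerTwoFour

/-- The field with four elements as an additive group. -/
abbrev F4 : Type := ZMod 2 × ZMod 2

/-- Multiplication by a generator. -/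
def om4 (a : F4) : F4 := (a.2, a.1 + a.2)

/-- The alternating form of the norm. -/
def bl4 (a b : F4) : ZMod 2 := a.1 * b.2 + a.2 * b.1

/-- Codes. -/
abbrev Code4 : Type := Fin 6 → F4

/-- The code with `x` at two places. -/
def pair4 (x : F4) (i j : Fin 6) : Code4 := fun k => if k = i ∨ k = j then x else 0

/-- The action on codes. -/
def mv4 (τ : A6) (c : Code4) : Code4 := fun k => c ((τ : Equiv.Perm (Fin 6)).symm k)

/-- The form on codes. -/
def bc4 (c d : Code4) : ZMod 2 := ∑ i, bl4 (c i) (d i)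

theorem add_self4 : ∀ a : F4, a + a = 0 := by decide

theorem bl4_facts : ∀ a b : F4, bl4 a a = 0 ∧ bl4 a b = bl4 b a ∧ bl4 a 0 = 0 ∧
    (a ≠ 0 → b ≠ 0 → a ≠ b → bl4 a b = 1) ∧ (a ≠ 0 → om4 a ≠ a) ∧ om4 (om4 a) = a + om4 a := by
  decide

theorem cycle_three {a b c : Fin 6} (hab : a ≠ b) (hbc : b ≠ c) (hac : a ≠ c) :
    ∃ τ : A6, (τ : Equiv.Perm (Fin 6)) a = b ∧ (τ : Equiv.Perm (Fin 6)) b = c ∧
      (τ : Equiv.Perm (Fin 6)) c = a ∧
      ∀ k, k ≠ a → k ≠ b → k ≠ c → (τ : Equiv.Perm (Fin 6)) k = k := by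
  refine ⟨⟨Equiv.swap a b * Equiv.swap b c, ?_⟩, ?_, ?_, ?_, ?_⟩
  · rw [Equiv.Perm.mem_alternatingGroup, map_mul, Equiv.Perm.sign_swap hab, Equiv.Perm.sign_swap hbc]
    rfl
  · show Equiv.swap a b (Equiv.swap b c a) = b
    rw [Equiv.swap_apply_of_ne_of_ne hab hac, Equiv.swap_apply_left]
  · show Equiv.swap a b (Equiv.swap b c b) = c
    rw [Equiv.swap_apply_left, Equiv.swap_apply_of_ne_of_ne hac.symm hbc.symm]
  · show Equiv.swap a b (Equiv.swap b c c) = a
    rw [Equiv.swap_apply_right, Equiv.swap_apply_right]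
  · intro k h1 h2 h3
    show Equiv.swap a b (Equiv.swap b c k) = k
    rw [Equiv.swap_apply_of_ne_of_ne h2 h3, Equiv.swap_apply_of_ne_of_ne h1 h2]

theorem double_swap {a b d e : Fin 6} (hab : a ≠ b) (hde : d ≠ e) (hda : d ≠ a) (hdb : d ≠ b) (hea : e ≠ a)
    (heb : e ≠ b) :
    ∃ τ : A6, (τ : Equiv.Perm (Fin 6)) a = b ∧ (τ : Equiv.Perm (Fin 6)) b = a ∧
      (τ : Equiv.Perm (Fin 6)) d = e ∧ (τ : Equiv.Perm (Fin 6)) e = d ∧
      ∀ k, k ≠ a → k ≠ b → k ≠ d → k ≠ e → (τ : Equiv.Perm (Fin 6)) k = k := by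
  refine ⟨⟨Equiv.swap a b * Equiv.swap d e, ?_⟩, ?_, ?_, ?_, ?_, ?_⟩
  · rw [Equiv.Perm.mem_alternatingGroup, map_mul, Equiv.Perm.sign_swap hab, Equiv.Perm.sign_swap hde]
    rfl
  · show Equiv.swap a b (Equiv.swap d e a) = b
    rw [Equiv.swap_apply_of_ne_of_ne hda.symm hea.symm, Equiv.swap_apply_left]
  · show Equiv.swap a b (Equiv.swap d e b) = a
    rw [Equiv.swap_apply_of_ne_of_ne hdb.symm heb.symm, Equiv.swap_apply_right]
  · show Equiv.swap a b (Equiv.swap d e d) = e
    rw [Equiv.swap_apply_left, Equiv.swap_apply_of_ne_of_ne hea heb]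
  · show Equiv.swap a b (Equiv.swap d e e) = d
    rw [Equiv.swap_apply_right, Equiv.swap_apply_of_ne_of_ne hda hdb]
  · intro k h1 h2 h3 h4
    show Equiv.swap a b (Equiv.swap d e k) = k
    rw [Equiv.swap_apply_of_ne_of_ne h3 h4, Equiv.swap_apply_of_ne_of_ne h1 h2]

theorem two_others : ∀ a b c : Fin 6, ∃ d e : Fin 6, d ≠ e ∧ d ≠ a ∧ d ≠ b ∧ d ≠ c ∧ e ≠ a ∧ e ≠ b ∧ e ≠ c := by
  decide

theorem one_other : ∀ a b : Fin 6, ∃ d : Fin 6, d ≠ a ∧ d ≠ b := by decide

theorem mv4_at {τ : A6} {i j : Fin 6} (h : (τ : Equiv.Perm (Fin 6)) i = j) (c : Code4) : mv4 τ c j = c i := by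
  rw [mv4, ← h, Equiv.symm_apply_apply]

/-- The differences of a code of an invariant subgroup occur in pairs. -/
theorem pair_of_mem (U : AddSubgroup Code4) (hU : ∀ τ c, c ∈ U → mv4 τ c ∈ U) {c : Code4} (hc : c ∈ U)
    (b d : Fin 6) (i j : Fin 6) (hij : i ≠ j) : pair4 (c b + c d) i j ∈ U := by
  have hzero : pair4 0 i j = 0 := funext fun k => by simp [pair4]
  by_cases hbd : b = d
  · rw [hbd, add_self4, hzero]; exact zero_mem _
  obtain ⟨a, hab, had⟩ := one_other b d
  obtain ⟨x, y, hxy, hxa, hxb, hxd, hya, hyb, hyd⟩ := two_others a b d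
  obtain ⟨τ, t1, t2, t3, t4⟩ := cycle_three hab hbd had
  obtain ⟨σ, s1, s2, s3, s4, s5⟩ := double_swap hab hxy hxa hxb hya hyb
  set y₁ := c + mv4 τ c with hy₁
  have hy₁U : y₁ ∈ U := add_mem hc (hU τ c hc)
  have hz : y₁ + mv4 σ y₁ ∈ U := add_mem hy₁U (hU σ _ hy₁U)
  have e : y₁ + mv4 σ y₁ = pair4 (c b + c d) a b := by
    have hout : ∀ k, k ≠ a → k ≠ b → k ≠ d → y₁ k = 0 := fun k h1 h2 h3 => by
      rw [hy₁, Pi.add_apply, mv4_at (t4 k h1 h2 h3) c, add_self4]
    have hA : y₁ a = c a + c d := by rw [hy₁, Pi.add_apply, mv4_at t3 c]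
    have hB : y₁ b = c b + c a := by rw [hy₁, Pi.add_apply, mv4_at t1 c]
    have hsum : c a + c d + (c b + c a) = c b + c d := by
      calc c a + c d + (c b + c a) = (c b + c d) + (c a + c a) := by abel
        _ = c b + c d := by rw [add_self4, add_zero]
    funext k
    by_cases hka : k = a
    · subst hka
      rw [Pi.add_apply, mv4_at s2 y₁, hA, hB, hsum, pair4, if_pos (Or.inl rfl)]
    by_cases hkb : k = b
    · subst hkb
      rw [Pi.add_apply, mv4_at s1 y₁, hA, hB, add_comm, hsum, pair4, if_pos (Or.inr rfl)]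
    rw [Pi.add_apply, pair4, if_neg (by tauto)]
    by_cases hkx : k = x
    · subst hkx
      rw [mv4_at s4 y₁, hout k hka hkb hxd, hout y hya hyb hyd, add_zero]
    by_cases hky : k = y
    · subst hky
      rw [mv4_at s3 y₁, hout k hka hkb hyd, hout x hxa hxb hxd, add_zero]
    rw [mv4_at (s5 k hka hkb hkx hky) y₁, add_self4]
  rw [e] at hz
  -- move the pair
  have move : ∀ {p q r s : Fin 6} (π : A6), (π : Equiv.Perm (Fin 6)) p = r → (π : Equiv.Perm (Fin 6)) q = s →
      ∀ z : F4, mv4 π (pair4 z p q) = pair4 z r s := by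
    intro p q r s π h1 h2 z
    funext k
    simp only [mv4, pair4, Equiv.symm_apply_eq, h1, h2]
  obtain ⟨π, hπ1, hπ2⟩ : ∃ π : A6, (π : Equiv.Perm (Fin 6)) a = i ∧ (π : Equiv.Perm (Fin 6)) b = j := by
    revert hab hij
    clear * - a b i j
    revert a b i j
    decide +kernel
  rw [← move π hπ1 hπ2]
  exact hU π _ hz

/-- The possible differences. -/
def diffSet (U : AddSubgroup Code4) : Set F4 := {x | pair4 x 0 1 ∈ U}

theorem diff_mem (U : AddSubgroup Code4) (hU : ∀ τ c, c ∈ U → mv4 τ c ∈ U) {c : Code4} (hc : c ∈ U)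
    (b d : Fin 6) : c b + c d ∈ diffSet U := pair_of_mem U hU hc b d 0 1 (by decide)

theorem pair_mem (U : AddSubgroup Code4) (hU : ∀ τ c, c ∈ U → mv4 τ c ∈ U) {x : F4} (hx : x ∈ diffSet U)
    {i j : Fin 6} (hij : i ≠ j) : pair4 x i j ∈ U := by
  have h := pair_of_mem U hU hx 0 2 i j hij
  simp only [pair4, if_neg (by decide : ¬ ((2 : Fin 6) = 0 ∨ (2 : Fin 6) = 1)), add_zero] at h
  exact h

/-- Codes of sum zero with values among the differences. -/
theorem mem_of_pairs (U : AddSubgroup Code4) (hU : ∀ τ c, c ∈ U → mv4 τ c ∈ U) {c : Code4}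
    (hsum : ∑ i, c i = 0) (h : ∀ i, c i ∈ diffSet U) : c ∈ U := by
  have e : c = ∑ i ∈ Finset.univ.erase (0 : Fin 6), pair4 (c i) 0 i := by
    funext k
    rw [Finset.sum_apply]
    by_cases hk : k = 0
    · subst hk
      have h1 : ∀ i ∈ Finset.univ.erase (0 : Fin 6), pair4 (c i) 0 i 0 = c i := fun i _ => by
        simp [pair4]
      rw [Finset.sum_congr rfl h1]
      have hs := Finset.add_sum_erase Finset.univ c (Finset.mem_univ (0 : Fin 6))
      rw [hsum] at hs
      calc c 0 = c 0 + 0 := (add_zero _).symm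
        _ = c 0 + ((c 0 + ∑ i ∈ Finset.univ.erase (0 : Fin 6), c i)) := by rw [hs]
        _ = _ := by rw [← add_assoc, add_self4, zero_add]
    · have h1 : ∀ i ∈ Finset.univ.erase (0 : Fin 6),
          pair4 (c i) 0 i k = if k = i then c k else 0 := fun i _ => by
        by_cases hki : k = i
        · subst hki; simp [pair4]
        · simp [pair4, hk, hki]
      rw [Finset.sum_congr rfl h1, Finset.sum_ite_eq, if_pos (Finset.mem_erase.2 ⟨hk, Finset.mem_univ _⟩)]
  rw [e]
  exact sum_mem fun i hi => pair_mem U hU (h i) (Finset.mem_erase.1 hi).1.symm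

/-- Membership in an invariant subgroup containing the constants. -/
theorem mem_of_diff (U : AddSubgroup Code4) (hU : ∀ τ c, c ∈ U → mv4 τ c ∈ U)
    (hconst : ∀ x : F4, (fun _ => x) ∈ U) {c : Code4} (hsum : ∑ i, c i = 0)
    (h : ∀ i, c i + c 0 ∈ diffSet U) : c ∈ U := by
  have e : c = (fun i => c i + c 0) + fun _ => c 0 := funext fun i => by
    rw [Pi.add_apply, add_assoc, add_self4, add_zero]
  rw [e]
  refine add_mem (mem_of_pairs U hU ?_ h) (hconst _)
  rw [Finset.sum_add_distrib, hsum, Finset.sum_const, Finset.card_univ, Fintype.card_fin]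
  exact (by decide : ∀ a : F4, 0 + (6 : ℕ) • a = 0) (c 0)

theorem bc4_pair_pair (x y : F4) : bc4 (pair4 x 0 1) (pair4 y 1 2) = bl4 x y := by
  rw [bc4, Finset.sum_eq_single (1 : Fin 6)]
  · rfl
  · intro i _ hi
    rcases (by decide : ∀ i : Fin 6, i ≠ 1 → ¬ (i = 0 ∨ i = 1) ∨ ¬ (i = 1 ∨ i = 2)) i hi with h | h
    · simp only [pair4, if_neg h]; rw [(bl4_facts _ _).2.1, (bl4_facts _ 0).2.2.1]
    · simp only [pair4, if_neg h]; rw [(bl4_facts _ 0).2.2.1]
  · intro h; exact absurd (Finset.mem_univ _) h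

/-- Two differences of a totally isotropic invariant subgroup are dependent. -/
theorem diff_unique (U : AddSubgroup Code4) (hU : ∀ τ c, c ∈ U → mv4 τ c ∈ U)
    (hiso : ∀ c ∈ U, ∀ d ∈ U, bc4 c d = 0) {x y : F4} (hx : x ∈ diffSet U) (hy : y ∈ diffSet U) (hx0 : x ≠ 0)
    (hy0 : y ≠ 0) : x = y := by
  by_contra hne
  have h := hiso _ (pair_mem U hU hx (i := 0) (j := 1) (by decide)) _
    (pair_mem U hU hy (i := 1) (j := 2) (by decide))
  rw [bc4_pair_pair, (bl4_facts x y).2.2.2.1 hx0 hy0 hne] at h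
  exact one_ne_zero h

/-- The quadratic form on codes. -/
def qc4 (c : Code4) : ZMod 2 := ∑ i, if c i = 0 then 0 else 1

/-- The code with `x` at the first place. -/
def single4 (x : F4) : Code4 := fun i => if i = 0 then x else 0

theorem qc4_single : qc4 (single4 (1, 0)) = 1 := by decide

theorem diff_add (U : AddSubgroup Code4) {x y : F4} (hx : x ∈ diffSet U) (hy : y ∈ diffSet U) :
    x + y ∈ diffSet U := by
  show pair4 (x + y) 0 1 ∈ U
  have e : pair4 (x + y) 0 1 = pair4 x 0 1 + pair4 y 0 1 := funext fun k => by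
    simp only [pair4, Pi.add_apply]; split <;> simp
  rw [e]; exact add_mem hx hy

theorem diff_zero (U : AddSubgroup Code4) : (0 : F4) ∈ diffSet U := by
  show pair4 0 0 1 ∈ U
  rw [show pair4 0 0 1 = (0 : Code4) from funext fun k => by simp [pair4]]
  exact zero_mem _

theorem const_of_diff (U : AddSubgroup Code4) (hU : ∀ τ c, c ∈ U → mv4 τ c ∈ U) {x : F4}
    (hx : x ∈ diffSet U) : (fun _ => x) ∈ U := by
  have e : (fun _ => x : Code4) = pair4 x 0 1 + pair4 x 2 3 + pair4 x 4 5 := funext fun k => by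
    exact (by decide : ∀ (x : F4) (k : Fin 6), x = (pair4 x 0 1 + pair4 x 2 3 + pair4 x 4 5) k) x k
  rw [e]
  exact add_mem (add_mem (pair_mem U hU hx (by decide)) (pair_mem U hU hx (by decide)))
    (pair_mem U hU hx (by decide))

/-- The second constant lies in `W`, or `W` is exceptional. -/
theorem second_const (W : AddSubgroup Code4) (hW : ∀ τ c, c ∈ W → mv4 τ c ∈ W) (hcard : Nat.card W = 64)
    (hq : ∀ c ∈ W, qc4 c = 0) (hv : (fun _ => (1, 0)) ∈ W) :
    (fun _ => ((0, 1) : F4)) ∈ W ∨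
      ((∀ i j : Fin 6, i ≠ j → pair4 (1, 0) i j ∈ W) ∧ (fun _ => ((0, 1) : F4)) + single4 (1, 0) ∈ W) := by
  by_cases hbig : ∃ x ∈ diffSet W, x ≠ 0 ∧ x ≠ (1, 0)
  · obtain ⟨x, hx, h0, h1⟩ := hbig
    have hc := const_of_diff W hW hx
    rcases (by decide : ∀ x : F4, x ≠ 0 → x ≠ (1, 0) → x = (0, 1) ∨ x + (1, 0) = (0, 1)) x h0 h1 with e | e
    · exact Or.inl (e ▸ hc)
    · left; rw [← e]; exact add_mem hc hv
  push Not at hbig
  have hd : ∀ c ∈ W, ∀ i, (c i).2 = (c 0).2 := fun c hc i => by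
    by_cases h0 : c i + c 0 = 0
    · exact (by decide : ∀ a b : F4, a + b = 0 → a.2 = b.2) _ _ h0
    · exact (by decide : ∀ a b : F4, a + b = (1, 0) → a.2 = b.2) _ _ (hbig _ (diff_mem W hW hc i 0) h0)
  have h10 : ((1, 0) : F4) ∈ diffSet W := by
    by_contra hno
    have hall : ∀ c ∈ W, ∀ i, c i + c 0 = 0 := fun c hc i => by
      by_contra h0
      exact hno (hbig _ (diff_mem W hW hc i 0) h0 ▸ diff_mem W hW hc i 0)
    have : Function.Injective (fun c : W => (c : Code4) 0) := fun c d h => Subtype.ext (funext fun i => by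
      have h1 := hall c c.2 i
      have h2 := hall d d.2 i
      simp only at h
      rw [h] at h1
      exact add_right_cancel (h1.trans h2.symm))
    have := Nat.card_le_card_of_injective _ this
    rw [hcard, Nat.card_eq_fintype_card] at this
    simp [F4] at this
  obtain ⟨c, hc, hc1⟩ : ∃ c ∈ W, (c 0).2 = 1 := by
    by_contra hno
    push Not at hno
    let f : W → Fin 6 → ZMod 2 := fun c i => ((c : Code4) i).1
    have hf : Function.Injective f := fun c d h => Subtype.ext (funext fun i => Prod.ext (congrFun h i) (by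
      rw [hd c c.2, hd d d.2]
      exact ((by decide : ∀ a : ZMod 2, a ≠ 1 → a = 0) _ (hno c c.2)).trans
        ((by decide : ∀ a : ZMod 2, a ≠ 1 → a = 0) _ (hno d d.2)).symm))
    obtain ⟨c, hc⟩ := ((Nat.bijective_iff_injective_and_card f).2 ⟨hf, by
      rw [hcard, Nat.card_eq_fintype_card]; simp⟩).2 (fun i => if i = 0 then 1 else 0)
    have e : (c : Code4) = single4 (1, 0) := funext fun i => by
      refine Prod.ext ?_ ?_
      · rw [show ((c : Code4) i).1 = _ from congrFun hc i]; simp only [single4]; split <;> rfl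
      · rw [hd c c.2, (by decide : ∀ a : ZMod 2, a ≠ 1 → a = 0) _ (hno c c.2)]
        simp only [single4]; split <;> rfl
    have := hq c c.2
    rw [e, qc4_single] at this
    exact one_ne_zero this
  have hall : ∀ i, c i + (0, 1) ∈ diffSet W := fun i => by
    rcases (by decide : ∀ a : F4, a.2 = 1 → a + (0, 1) = 0 ∨ a + (0, 1) = (1, 0)) (c i)
      ((hd c hc i).trans hc1) with e | e <;> rw [e]
    exacts [diff_zero W, h10]
  let ε : F4 := ∑ i, (c i + (0, 1))
  have hε : ε = 0 ∨ ε = (1, 0) := by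
    have h2 : ∀ s : Finset (Fin 6), (∑ i ∈ s, (c i + (0, 1))).2 = 0 := by
      intro s
      rw [Prod.snd_sum]
      exact Finset.sum_eq_zero fun i _ => by
        show (c i).2 + 1 = 0
        rw [(hd c hc i).trans hc1]; rfl
    exact (by decide : ∀ a : F4, a.2 = 0 → a = 0 ∨ a = (1, 0)) _ (h2 _)
  rcases hε with he | he
  · left
    have hr : (fun i => c i + (0, 1)) ∈ W := mem_of_pairs W hW he hall
    have := add_mem hr hc
    rwa [show (fun i => c i + (0, 1)) + c = fun _ => ((0, 1) : F4) from funext fun i => by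
      rw [Pi.add_apply, add_right_comm, add_self4, zero_add]] at this
  · right
    refine ⟨fun i j hij => pair_mem W hW h10 hij, ?_⟩
    have hr : (fun i => c i + (0, 1)) + single4 (1, 0) ∈ W := by
      refine mem_of_pairs W hW ?_ fun i => ?_
      · show ∑ i, (c i + (0, 1) + single4 (1, 0) i) = 0
        rw [Finset.sum_add_distrib, show ∑ i, (c i + ((0, 1) : F4)) = (1, 0) from he]
        simp only [single4, Finset.sum_ite_eq', Finset.mem_univ, if_true]
        exact add_self4 _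
      · show c i + (0, 1) + single4 (1, 0) i ∈ diffSet W
        refine diff_add W (hall i) ?_
        simp only [single4]
        split
        exacts [h10, diff_zero W]
    have := add_mem hr hc
    rwa [show (fun i => c i + (0, 1)) + single4 (1, 0) + c = (fun _ => ((0, 1) : F4)) + single4 (1, 0) from
      funext fun i => by
        simp only [Pi.add_apply]
        calc c i + (0, 1) + single4 (1, 0) i + c i = (0, 1) + single4 (1, 0) i + (c i + c i) := by abel
          _ = _ := by rw [add_self4, add_zero]] at this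

theorem bc4_const (c : Code4) (x : F4) : bc4 c (fun _ => x) = bl4 (∑ i, c i) x := by
  simp only [bc4, bl4, Prod.fst_sum, Prod.snd_sum, Finset.sum_mul, Finset.sum_add_distrib]

/-- The shape of `W`. -/
theorem struct4 (W : AddSubgroup Code4) (hW : ∀ τ c, c ∈ W → mv4 τ c ∈ W) (hcard : Nat.card W = 64)
    (hiso : ∀ c ∈ W, ∀ d ∈ W, bc4 c d = 0) (hconst : ∀ x : F4, (fun _ => x) ∈ W) :
    ∃ a : F4, a ≠ 0 ∧ diffSet W = {0, a} ∧
      ∀ c, c ∈ W ↔ ∑ i, c i = 0 ∧ ∀ i, c i + c 0 = 0 ∨ c i + c 0 = a := by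
  obtain ⟨a, ha, ha0⟩ : ∃ a ∈ diffSet W, a ≠ 0 := by
    by_contra hno
    push Not at hno
    have : Function.Injective (fun c : W => (c : Code4) 0) := fun c d h => Subtype.ext (funext fun i => by
      have h1 := hno _ (diff_mem W hW c.2 i 0)
      have h2 := hno _ (diff_mem W hW d.2 i 0)
      simp only at h
      rw [h] at h1
      exact add_right_cancel (h1.trans h2.symm))
    have := Nat.card_le_card_of_injective _ this
    rw [hcard, Nat.card_eq_fintype_card] at this
    simp [F4] at this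
  have hset : diffSet W = {0, a} := Set.ext fun x => by
    refine ⟨fun hx => ?_, fun hx => ?_⟩
    · by_cases h0 : x = 0
      · exact Or.inl h0
      · exact Or.inr (diff_unique W hW hiso hx ha h0 ha0)
    · rcases hx with rfl | rfl
      exacts [diff_zero W, ha]
  refine ⟨a, ha0, hset, fun c => ⟨fun hc => ⟨?_, fun i => ?_⟩, fun h => ?_⟩⟩
  · have h1 := hiso c hc _ (hconst (1, 0))
    have h2 := hiso c hc _ (hconst (0, 1))
    rw [bc4_const] at h1 h2
    exact (by decide : ∀ s : F4, bl4 s (1, 0) = 0 → bl4 s (0, 1) = 0 → s = 0) _ h1 h2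
  · have := diff_mem W hW hc i 0
    rw [hset] at this
    exact this
  · exact mem_of_diff W hW hconst h.1 fun i => by rw [hset]; exact h.2 i

/-- `W` meets its translate in the constants. -/
theorem inter4 {W : AddSubgroup Code4} {a : F4} (ha : a ≠ 0)
    (h : ∀ c, c ∈ W ↔ ∑ i, c i = 0 ∧ ∀ i, c i + c 0 = 0 ∨ c i + c 0 = a) {c d : Code4} (hc : c ∈ W)
    (hd : d ∈ W) (e : ∀ i, c i = om4 (d i)) (i : Fin 6) : c i = c 0 := by
  have h1 := ((h c).1 hc).2 i
  have h2 := ((h d).1 hd).2 i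
  rw [e i, e 0] at h1 ⊢
  exact (by decide : ∀ a x y : F4, a ≠ 0 → (om4 x + om4 y = 0 ∨ om4 x + om4 y = a) →
    (x + y = 0 ∨ x + y = a) → om4 x = om4 y) a (d i) (d 0) ha h1 h2

/-- Nothing outside `W` is fixed modulo `W`. -/
theorem fixed4 {W : AddSubgroup Code4} {a : F4}
    (h : ∀ c, c ∈ W ↔ ∑ i, c i = 0 ∧ ∀ i, c i + c 0 = 0 ∨ c i + c 0 = a) {c : Code4} (hsum : ∑ i, c i = 0)
    (hc : ∀ τ, c + mv4 τ c ∈ W) : c ∈ W := by
  refine (h c).2 ⟨hsum, fun i => ?_⟩
  by_cases hi : i = 0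
  · left; rw [hi, add_self4]
  obtain ⟨m, hm1, hm2⟩ := one_other i 0
  obtain ⟨k, _, _, hk1, hk2, hk3, -⟩ := two_others i 0 m
  obtain ⟨τ, t1, t2, t3, t4⟩ := cycle_three (Ne.symm hi) hm1.symm hm2.symm
  have h1 := ((h _).1 (hc τ)).2 i
  have h2 := ((h _).1 (hc τ)).2 k
  simp only [Pi.add_apply] at h1 h2
  rw [mv4_at t1 c] at h1
  rw [mv4_at (t4 k hk2 hk1 hk3) c, add_self4] at h2
  rw [mv4_at t3 c] at h1 h2
  exact (by decide : ∀ a x y z : F4, (x + y + (y + z) = 0 ∨ x + y + (y + z) = a) →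
    (0 + (y + z) = 0 ∨ 0 + (y + z) = a) → x + y = 0 ∨ x + y = a) a (c i) (c 0) (c m) h1 h2

/-- Invariant subgroups between `W` and the sum zero codes. -/
theorem between4 {W : AddSubgroup Code4} (U : AddSubgroup Code4) (hU : ∀ τ c, c ∈ U → mv4 τ c ∈ U)
    (hconst : ∀ x : F4, (fun _ => x) ∈ W) {a : F4} (ha : a ≠ 0) (hset : diffSet W = {0, a})
    (h : ∀ c, c ∈ W ↔ ∑ i, c i = 0 ∧ ∀ i, c i + c 0 = 0 ∨ c i + c 0 = a) (hWU : W ≤ U)
    (hsum : ∀ c ∈ U, ∑ i, c i = 0) : U = W ∨ ∀ c : Code4, ∑ i, c i = 0 → c ∈ U := by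
  by_cases hall : ∀ c ∈ U, ∀ i, c i + c 0 = 0 ∨ c i + c 0 = a
  · exact Or.inl (le_antisymm (fun c hc => (h c).2 ⟨hsum c hc, hall c hc⟩) hWU)
  right
  push Not at hall
  obtain ⟨c, hc, i, h0, h1⟩ := hall
  have hx : c i + c 0 ∈ diffSet U := diff_mem U hU hc i 0
  have haU : a ∈ diffSet U := hWU (by
    have : a ∈ diffSet W := by rw [hset]; exact Or.inr rfl
    exact this)
  intro d hd
  refine mem_of_diff U hU (fun x => hWU (hconst x)) hd fun j => ?_
  rcases (by decide : ∀ x a y : F4, x ≠ 0 → x ≠ a → a ≠ 0 → y = 0 ∨ y = a ∨ y = x ∨ y = x + a)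
    (c i + c 0) a (d j + d 0) h0 h1 ha with e | e | e | e <;> rw [e]
  exacts [diff_zero U, haU, hx, diff_add U hx haU]

/-- Codes moved by at most the constants are constant. -/
theorem const_fixed4 {c : Code4} (hc : ∀ τ, ∃ x : F4, ∀ i, c i + mv4 τ c i = x) (i : Fin 6) : c i = c 0 := by
  by_cases hi : i = 0
  · rw [hi]
  obtain ⟨m, hm1, hm2⟩ := one_other i 0
  obtain ⟨k, _, _, hk1, hk2, hk3, -⟩ := two_others i 0 m
  obtain ⟨τ, t1, t2, t3, t4⟩ := cycle_three (Ne.symm hi) hm1.symm hm2.symm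
  obtain ⟨x, hx⟩ := hc τ
  have h1 := hx i
  have h2 := hx k
  rw [mv4_at t1 c] at h1
  rw [mv4_at (t4 k hk2 hk1 hk3) c, add_self4] at h2
  rw [← h2] at h1
  exact (by decide : ∀ a b : F4, a + b = 0 → a = b) _ _ h1

end CfsgLib.FischerTwoFour
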