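import Mathlib
import Cfsg.Agent.Lib.FischerTwoFour.PlaneModel

/-!
Coordinates of a quadratic space around a vector fixed by a monomial alternating group.
-/

set_option autoImplicit false
set_option linter.unusedSectionVars false

namespace CfsgLib.FischerTwoFour

variable {H V : Type*} [Group H] [AddCommGroup V]

/-- Six lines, an element of order three and an alternating group permuting a basis with sum `v`. -/
structure Coord (R : QRep H V) (v : V) where
  t : H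
  t_cube : t ^ 3 = 1
  t_norm : ∀ h, h * t * h⁻¹ = t ∨ h * t * h⁻¹ = t⁻¹
  t_fpf : ∀ w, R.ρ t (R.ρ t w) + R.ρ t w + w = 0
  L : Fin 6 → AddSubgroup V
  card_L : ∀ i, Nat.card (L i) = 4
  stable : ∀ i, ∀ w ∈ L i, R.ρ t w ∈ L i
  orth : ∀ i j, i ≠ j → ∀ x ∈ L i, ∀ y ∈ L j, R.b x y = 0
  q_one : ∀ i, ∀ w ∈ L i, w ≠ 0 → R.q w = 1
  bij : Function.Bijective (fun f : (∀ i, L i) => ∑ i, (f i : V))
  e : Fin 6 → V
  e_mem : ∀ i, e i ∈ L i
  e_ne : ∀ i, e i ≠ 0
  e_sum : ∑ i, e i = v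
  φ : A6 →* H
  φ_t : ∀ τ, φ τ * t = t * φ τ
  φ_e : ∀ (τ : A6) i, R.ρ (φ τ) (e i) = e ((τ : Equiv.Perm (Fin 6)) i)

variable {R : QRep H V} {v : V}

namespace Coord

variable (K : Coord R v)

theorem val_add_smul (x : V) (p q : ZMod 2) (h2 : x + x = 0) : (p + q).val • x = p.val • x + q.val • x := by
  rcases (by decide : ∀ p : ZMod 2, p = 0 ∨ p = 1) p with rfl | rfl <;>
    rcases (by decide : ∀ p : ZMod 2, p = 0 ∨ p = 1) q with rfl | rfl
  · simp
  · simp
  · simp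
  · rw [show (1 + 1 : ZMod 2).val = 0 from rfl, show (1 : ZMod 2).val = 1 from rfl, one_nsmul, zero_nsmul, h2]

/-- A point of a line. -/
def pt (i : Fin 6) : F4 →+ V :=
  AddMonoidHom.mk' (fun a => a.1.val • K.e i + a.2.val • R.ρ K.t (K.e i)) fun a b => by
    simp only [Prod.fst_add, Prod.snd_add]
    rw [val_add_smul _ _ _ (R.two _), val_add_smul _ _ _ (R.two _)]
    abel

theorem pt_apply (i : Fin 6) (a : F4) : K.pt i a = a.1.val • K.e i + a.2.val • R.ρ K.t (K.e i) := rfl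

theorem pt_vals (i : Fin 6) : K.pt i 0 = 0 ∧ K.pt i (1, 0) = K.e i ∧ K.pt i (0, 1) = R.ρ K.t (K.e i) ∧
    K.pt i (1, 1) = R.ρ K.t (R.ρ K.t (K.e i)) := by
  refine ⟨map_zero _, ?_, ?_, ?_⟩ <;> rw [pt_apply]
  · rw [show ((1, 0) : F4).1.val = 1 from rfl, show ((1, 0) : F4).2.val = 0 from rfl]; simp
  · rw [show ((0, 1) : F4).1.val = 0 from rfl, show ((0, 1) : F4).2.val = 1 from rfl]; simp
  · simp only [show ((1, 1) : F4).1.val = 1 from rfl, one_nsmul]
    have h := K.t_fpf (K.e i)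
    rw [add_assoc] at h
    rw [add_comm, eq_neg_of_add_eq_zero_left h]
    exact (neg_eq_of_add_eq_zero_left (R.two _)).symm

theorem T_pt (i : Fin 6) (a : F4) : R.ρ K.t (K.pt i a) = K.pt i (om4 a) := by
  obtain ⟨h0, h10, h01, h11⟩ := K.pt_vals i
  rcases (by decide : ∀ a : F4, a = 0 ∨ a = (1, 0) ∨ a = (0, 1) ∨ a = (1, 1)) a with rfl | rfl | rfl | rfl
  · rw [show om4 0 = 0 from rfl, h0, map_zero]
  · rw [h10, show om4 (1, 0) = (0, 1) from rfl, h01]
  · rw [h01, show om4 (0, 1) = (1, 1) from rfl, h11]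
  · rw [h11, show om4 (1, 1) = (1, 0) from rfl, h10, ← R.mul_apply, ← R.mul_apply,
      ← pow_two, ← pow_succ, K.t_cube, R.one_apply]

theorem pt_mem (i : Fin 6) (a : F4) : K.pt i a ∈ K.L i :=
  add_mem (AddSubgroup.nsmul_mem _ (K.e_mem i) _) (AddSubgroup.nsmul_mem _ (K.stable i _ (K.e_mem i)) _)

theorem pt_injective (i : Fin 6) : Function.Injective (K.pt i) := by
  obtain ⟨-, h10, h01, h11⟩ := K.pt_vals i
  rw [injective_iff_map_eq_zero]
  intro a ha
  have hT : R.ρ K.t (K.e i) ≠ 0 := fun e => K.e_ne i (R.inj K.t (e.trans (map_zero _).symm))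
  rcases (by decide : ∀ a : F4, a = 0 ∨ a = (1, 0) ∨ a = (0, 1) ∨ a = (1, 1)) a with rfl | rfl | rfl | rfl
  · rfl
  · exact absurd (h10.symm.trans ha) (K.e_ne i)
  · exact absurd (h01.symm.trans ha) hT
  · exact absurd (R.inj K.t ((h11.symm.trans ha).trans (map_zero _).symm)) hT

/-- The coordinate map. -/
def ψ : Code4 →+ V :=
  AddMonoidHom.mk' (fun c => ∑ i, K.pt i (c i)) fun c d => by
    simp only [Pi.add_apply, map_add, Finset.sum_add_distrib]

theorem ψ_apply (c : Code4) : K.ψ c = ∑ i, K.pt i (c i) := rfl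

theorem ψ_bij [Finite V] : Function.Bijective K.ψ := by
  have h1 : ∀ i, Function.Bijective (fun a : F4 => (⟨K.pt i a, K.pt_mem i a⟩ : K.L i)) := fun i =>
    (Nat.bijective_iff_injective_and_card _).2
      ⟨fun a b h => K.pt_injective i (congrArg Subtype.val h), by
        rw [K.card_L, Nat.card_eq_fintype_card]; rfl⟩
  exact K.bij.comp (Function.Bijective.piMap h1)

theorem T_ψ (c : Code4) : R.ρ K.t (K.ψ c) = K.ψ fun i => om4 (c i) := by
  rw [ψ_apply, ψ_apply, map_sum]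
  exact Finset.sum_congr rfl fun i _ => K.T_pt i _

theorem φ_ψ (τ : A6) (c : Code4) : R.ρ (K.φ τ) (K.ψ c) = K.ψ (mv4 τ c) := by
  rw [ψ_apply, ψ_apply, map_sum,
    ← Equiv.sum_comp (τ : Equiv.Perm (Fin 6)) (fun k => K.pt k (mv4 τ c k))]
  refine Finset.sum_congr rfl fun i _ => ?_
  rw [mv4_at rfl c]
  rw [pt_apply, pt_apply]
  rw [map_add, map_nsmul, map_nsmul, K.φ_e, ← R.mul_apply, K.φ_t, R.mul_apply, K.φ_e]

theorem q_ψ (c : Code4) : R.q (K.ψ c) = qc4 c := by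
  rw [ψ_apply, R.q_sum]
  · refine Finset.sum_congr rfl fun i _ => ?_
    by_cases hi : c i = 0
    · rw [if_pos hi, hi, map_zero, R.q_zero]
    · rw [if_neg hi]
      exact K.q_one i _ (K.pt_mem i _) fun h => hi (K.pt_injective i (h.trans (map_zero _).symm))
  · intro i _ j _ hij
    exact K.orth i j hij _ (K.pt_mem i _) _ (K.pt_mem j _)

theorem b_ψ (c d : Code4) : R.b (K.ψ c) (K.ψ d) = bc4 c d := by
  have h := R.q_add (K.ψ c) (K.ψ d)
  rw [← map_add, K.q_ψ, K.q_ψ, K.q_ψ] at h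
  have key : qc4 (c + d) = qc4 c + qc4 d + bc4 c d := by
    simp only [qc4, bc4, ← Finset.sum_add_distrib]
    refine Finset.sum_congr rfl fun i _ => ?_
    exact (by decide : ∀ a b : F4, (if a + b = 0 then (0 : ZMod 2) else 1) =
      ((if a = 0 then 0 else 1) + (if b = 0 then 0 else 1)) + bl4 a b) (c i) (d i)
  rw [key] at h
  exact (add_left_cancel h).symm

theorem ψ_one : K.ψ (fun _ => (1, 0)) = v :=
  (Finset.sum_congr rfl fun i _ => (K.pt_vals i).2.1).trans K.e_sum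

theorem ψ_tv : K.ψ (fun _ => (0, 1)) = R.ρ K.t v :=
  ((congrArg (R.ρ K.t) K.ψ_one.symm).trans (K.T_ψ _)).symm

theorem φ_v (τ : A6) : R.ρ (K.φ τ) v = v :=
  ((congrArg (R.ρ (K.φ τ)) K.ψ_one.symm).trans (K.φ_ψ τ _)).trans K.ψ_one

/-- The codes of a subgroup. -/
def codes (U : AddSubgroup V) : AddSubgroup Code4 := U.comap K.ψ

theorem mem_codes {U : AddSubgroup V} {c : Code4} : c ∈ K.codes U ↔ K.ψ c ∈ U := Iff.rfl

theorem codes_inv {U : AddSubgroup V} (hU : ∀ τ, ∀ x ∈ U, R.ρ (K.φ τ) x ∈ U) :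
    ∀ τ c, c ∈ K.codes U → mv4 τ c ∈ K.codes U := fun τ c hc => by
  rw [K.mem_codes, ← K.φ_ψ]; exact hU τ _ hc

theorem card_codes [Finite V] (U : AddSubgroup V) : Nat.card (K.codes U) = Nat.card U := by
  refine Nat.card_congr (Equiv.ofBijective (fun c => ⟨K.ψ c, c.2⟩) ⟨fun c d h => ?_, fun x => ?_⟩)
  · exact Subtype.ext (K.ψ_bij.1 (congrArg Subtype.val h))
  · obtain ⟨c, hc⟩ := K.ψ_bij.2 x
    exact ⟨⟨c, show K.ψ c ∈ U from hc ▸ x.2⟩, Subtype.ext hc⟩

/-- The image of `v` under `t` lies in `W`. -/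
theorem tv_mem [Finite V] [Finite H] (W : AddSubgroup V) (hcard : Nat.card W = 64)
    (hW : ∀ τ, ∀ x ∈ W, R.ρ (K.φ τ) x ∈ W) (hq : ∀ x ∈ W, R.q x = 0) (hv : v ∈ W) (S : Set H)
    (hS : ∀ h ∈ S, h * K.t = K.t * h ∧ R.ρ h v = v ∧ ∀ x ∈ W, R.ρ h x + x = 0 ∨ R.ρ h x + x = v)
    (hS2 : 2 < S.ncard) : R.ρ K.t v ∈ W := by
  have h := second_const (K.codes W) (K.codes_inv hW) (by rw [K.card_codes, hcard])
    (fun c hc => by rw [← K.q_ψ]; exact hq _ hc) (show K.ψ _ ∈ W from K.ψ_one.symm ▸ hv)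
  rcases h with h | ⟨hpair, hex⟩
  · rw [← K.ψ_tv]; exact h
  exfalso
  set w₀ : V := K.ψ (fun _ => (0, 1)) + K.e 0 with hw₀
  have hsingle : ∀ (i : Fin 6) (x : F4), K.ψ (fun k => if k = i then x else 0) = K.pt i x := fun i x => by
    rw [ψ_apply, Finset.sum_eq_single i]
    · rw [if_pos rfl]
    · intro k _ hk; rw [if_neg hk, map_zero]
    · intro hi; exact absurd (Finset.mem_univ i) hi
  have he : ∀ i, K.e i = K.ψ (fun k => if k = i then (1, 0) else 0) := fun i => by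
    rw [hsingle]; exact (K.pt_vals i).2.1.symm
  have hw₀W : w₀ ∈ W := by
    have : K.ψ ((fun _ => ((0, 1) : F4)) + single4 (1, 0)) ∈ W := hex
    rw [map_add] at this
    rw [hw₀, he 0]; exact this
  have hW1 : ∀ i, i ≠ 0 → K.e i + K.e 0 ∈ W := fun i hi => by
    have hp : K.ψ (pair4 (1, 0) i 0) ∈ W := hpair i 0 hi
    convert hp using 1
    rw [he i, he 0, ← map_add]
    refine congrArg K.ψ (funext fun k => ?_)
    simp only [Pi.add_apply, pair4]
    by_cases h1 : k = i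
    · subst h1; simp [hi]
    · simp [h1]
  let IsE : H → V → Prop := fun h p => ∀ i, R.ρ h (K.e i) = K.e i + p
  have hfix : ∀ x y : V, x + y = 0 → x = y := fun x y h => by
    rw [eq_neg_of_add_eq_zero_left h]; exact neg_eq_of_add_eq_zero_left (R.two y)
  have key : ∀ h ∈ S, ∃ p : V, (p = 0 ∨ p = v) ∧ IsE h p := by
    intro h hh
    obtain ⟨hc, hv', hW'⟩ := hS h hh
    have mv : ∀ x ∈ W, ∃ p : V, (p = 0 ∨ p = v) ∧ R.ρ h x = x + p := fun x hx => by
      rcases hW' x hx with e | e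
      · exact ⟨0, Or.inl rfl, by rw [add_zero]; exact hfix _ _ e⟩
      · exact ⟨v, Or.inr rfl, by rw [← e, add_comm (R.ρ h x), ← add_assoc, R.two, zero_add]⟩
    have hT : ∀ x, R.ρ h (R.ρ K.t x) = R.ρ K.t (R.ρ h x) := fun x => by
      rw [← R.mul_apply, hc, R.mul_apply]
    have htv : R.ρ h (K.ψ fun _ => (0, 1)) = K.ψ fun _ => (0, 1) := by rw [K.ψ_tv, hT, hv']
    obtain ⟨p₀, hp₀, e₀⟩ := mv w₀ hw₀W
    rw [hw₀, map_add, htv, add_assoc] at e₀
    have e0 : R.ρ h (K.e 0) = K.e 0 + p₀ := add_left_cancel e₀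
    have each : ∀ i, ∃ p, (p = 0 ∨ p = v) ∧ R.ρ h (K.e i) = K.e i + p := by
      intro i
      by_cases hi : i = 0
      · subst hi; exact ⟨p₀, hp₀, e0⟩
      obtain ⟨p, hp, e⟩ := mv _ (hW1 i hi)
      refine ⟨p + p₀, ?_, ?_⟩
      · rcases hp with rfl | rfl <;> rcases hp₀ with rfl | rfl
        exacts [Or.inl (add_zero _), Or.inr (zero_add _), Or.inr (add_zero _), Or.inl (R.two _)]
      · rw [map_add, e0] at e
        have e' := congrArg (· + (K.e 0 + p₀)) e
        simp only [add_assoc, R.two, add_zero] at e'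
        rw [e', show K.e 0 + (p + (K.e 0 + p₀)) = (K.e 0 + K.e 0) + (p + p₀) by abel, R.two, zero_add]
    choose p hp hpe using each
    refine ⟨p 0, hp 0, fun i => ?_⟩
    by_cases hi : i = 0
    · rw [hi, hpe 0]
    suffices hpp : p i = p 0 by rw [hpe i, hpp]
    have hb := R.b_inv h (K.e i) (R.ρ K.t (K.e 0))
    rw [hT, hpe i, hpe 0, map_add, R.b_add, R.b_add_right, R.b_add_right,
      K.orth i 0 hi _ (K.e_mem i) _ (K.stable 0 _ (K.e_mem 0)), zero_add] at hb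
    have hbv : R.b (K.e i) (R.ρ K.t v) = 1 := by
      rw [he i, ← K.ψ_tv, K.b_ψ, bc4_const, Finset.sum_ite_eq', if_pos (Finset.mem_univ i)]; rfl
    have hvb : R.b v (R.ρ K.t (K.e 0)) = 1 := by
      rw [← (K.pt_vals 0).2.2.1, ← hsingle]
      refine (congrArg (fun w => R.b w _) K.ψ_one.symm).trans ?_
      rw [K.b_ψ, bc4]
      decide
    have hvv : R.b v (R.ρ K.t v) = 0 := by
      rw [← K.ψ_tv]
      refine (congrArg (fun w => R.b w _) K.ψ_one.symm).trans ?_
      rw [K.b_ψ]; decide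
    rcases hp i with e1 | e1 <;> rcases hp 0 with e2 | e2 <;> rw [e1, e2] at hb ⊢
    · simp only [map_zero, R.b_zero_left, R.b_zero_right, add_zero, zero_add, hbv, hvb] at hb
      exact absurd hb one_ne_zero
    · simp only [map_zero, R.b_zero_left, R.b_zero_right, add_zero, zero_add, hbv, hvb] at hb
      exact absurd hb one_ne_zero
  choose! pf hpf hpe using key
  have hinj : Set.InjOn pf S := by
    intro a ha b hb hab
    refine (inv_mul_eq_one.1 (R.faithful _ fun x => ?_))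
    obtain ⟨c, rfl⟩ := K.ψ_bij.2 x
    have hag : R.ρ a (K.ψ c) = R.ρ b (K.ψ c) := by
      rw [ψ_apply, map_sum, map_sum]
      refine Finset.sum_congr rfl fun i _ => ?_
      rw [pt_apply]
      have ee : R.ρ a (K.e i) = R.ρ b (K.e i) := by rw [hpe a ha i, hpe b hb i, hab]
      rw [map_add, map_add, map_nsmul, map_nsmul, map_nsmul, map_nsmul, ← R.mul_apply, (hS a ha).1,
        R.mul_apply, ← R.mul_apply b K.t, (hS b hb).1, R.mul_apply, ee]
    rw [R.mul_apply, ← hag, R.inv_apply]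
  have hle := Set.ncard_le_ncard_of_injOn pf (t := ({0, v} : Set V))
    (fun a ha => by rcases hpf a ha with e | e <;> rw [e] <;> simp) hinj (Set.toFinite _)
  have := Set.ncard_insert_le (0 : V) ({v} : Set V)
  rw [Set.ncard_singleton] at this
  omega

end Coord

end CfsgLib.FischerTwoFour
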