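import Mathlib
import Cfsg.Agent.Lib.FischerTwoFour.Types
import Cfsg.Agent.Lib.FischerTwoFour.PlaneCoord

/-!
Coordinates around the image of a conjugate of `z` in `Q / Z(Q)`.
-/

set_option autoImplicit false
set_option linter.unusedSectionVars false

universe u

namespace CfsgLib.FischerTwoFour

namespace Frame

variable {H V : Type*} [Group H] [Finite H] [AddCommGroup V] [Fintype V] {R : QRep H V} (F : Frame R)

/-- A full vector is fixed by a copy of the alternating group permuting its components. -/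
theorem stab_monomial {f : Code} (hf : wt f = 6) :
    ∃ φ : A6 →* H, ∀ τ i, R.ρ (φ τ) ((F.pt i (f i) : F.L i) : V) =
      ((F.pt ((τ : Equiv.Perm (Fin 6)) i) (f ((τ : Equiv.Perm (Fin 6)) i)) : F.L _) : V) := by
  classical
  let P : A6 → H → Prop := fun τ h =>
    (∀ i, ∀ v ∈ F.L i, R.ρ h v ∈ F.L ((τ : Equiv.Perm (Fin 6)) i)) ∧
      R.ρ h (F.Φ f) = F.Φ f
  have hsome : ∀ i, f i ≠ none := fun i => by
    have : Finset.univ.filter (fun i => f i ≠ none) = Finset.univ :=
      Finset.eq_univ_of_card _ (by rw [← wt, hf]; rfl)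
    exact Finset.filter_eq_self.1 this i (Finset.mem_univ _)
  have hex : ∀ τ, ∃ h, P τ h := by
    intro τ
    have hmove : wt (F.move τ f) = 6 := by
      rw [wt, Finset.filter_true_of_mem (fun k _ => ?_)]; rfl
      obtain ⟨i, rfl⟩ := (τ : Equiv.Perm (Fin 6)).surjective k
      exact fun e => hsome i ((F.move_none τ f i).1 e)
    have hcl : cl (F.move τ f) = cl f := by
      rw [cl, ← Equiv.sum_comp (τ : Equiv.Perm (Fin 6))]
      have : ∀ i, (F.move τ f ((τ : Equiv.Perm (Fin 6)) i)).getD 0 = (f i).getD 0 + F.δ τ i := by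
        intro i
        obtain ⟨j, hj⟩ := Option.ne_none_iff_exists'.1 (hsome i)
        rw [move, Equiv.symm_apply_apply, hj]; rfl
      rw [Finset.sum_congr rfl fun i _ => this i, Finset.sum_add_distrib, F.δ_sum, add_zero]; rfl
    choose a ha using fun i => Option.ne_none_iff_exists'.1 (hsome i)
    choose b hb using fun i => Option.ne_none_iff_exists'.1
      (show F.move τ f i ≠ none from fun e => by
        obtain ⟨k, rfl⟩ := (τ : Equiv.Perm (Fin 6)).surjective i
        exact hsome k ((F.move_none τ f k).1 e))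
    have hd : ∑ i, (a i - b i) = 0 := by
      have e1 : cl f = ∑ i, a i := Finset.sum_congr rfl fun i _ => by rw [ha]; rfl
      have e2 : cl (F.move τ f) = ∑ i, b i := Finset.sum_congr rfl fun i _ => by rw [hb]; rfl
      rw [Finset.sum_sub_distrib, ← e1, ← e2, hcl, sub_self]
    obtain ⟨h, hh⟩ := F.diag _ hd
    refine ⟨h * F.g τ, fun i v hv => ?_, ?_⟩
    · rw [R.mul_apply, hh _ _ (F.g_maps τ i v hv)]
      exact F.stable_pow _ (F.g_maps τ i v hv) _
    · rw [R.mul_apply, F.g_Φ, Φ, map_sum, Φ]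
      refine Finset.sum_congr rfl fun i _ => ?_
      rw [hh i _ (F.pt i _).2, hb, ha]
      show R.ρ _ (R.ρ (F.t ^ (b i).val) _) = R.ρ (F.t ^ (a i).val) _
      rw [F.t_pow_add, sub_add_cancel]
  have hcomp : ∀ {τ : A6} {h}, P τ h → ∀ i,
      R.ρ h ((F.pt i (f i) : F.L i) : V) = ((F.pt ((τ : Equiv.Perm (Fin 6)) i) (f ((τ : Equiv.Perm (Fin 6)) i)) : F.L _) : V) := by
    intro τ h hP i
    obtain ⟨hm, hv⟩ := hP
    let G1 : ∀ k, F.L k := fun k => ⟨R.ρ h ((F.pt ((τ : Equiv.Perm (Fin 6)).symm k)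
        (f ((τ : Equiv.Perm (Fin 6)).symm k)) : F.L _) : V), by
      have := hm _ _ (F.pt ((τ : Equiv.Perm (Fin 6)).symm k) (f ((τ : Equiv.Perm (Fin 6)).symm k))).2
      rwa [Equiv.apply_symm_apply] at this⟩
    have hG : (∑ k, (G1 k : V)) = ∑ k, ((F.pt k (f k) : F.L k) : V) := by
      rw [← Φ, ← hv, Φ, map_sum]
      exact Equiv.sum_comp (τ : Equiv.Perm (Fin 6)).symm
        (fun i => R.ρ h ((F.pt i (f i) : F.L i) : V))
    have := congrArg Subtype.val (congrFun (F.bij.1 (a₁ := G1) (a₂ := fun k => F.pt k (f k)) hG)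
      ((τ : Equiv.Perm (Fin 6)) i))
    simp only [G1] at this
    rwa [Equiv.symm_apply_apply] at this
  have huniq : ∀ τ h h', P τ h → P τ h' → h = h' := by
    intro τ h h' hP hP'
    have hagree : ∀ v, R.ρ h v = R.ρ h' v := by
      intro v
      obtain ⟨c, rfl⟩ := F.bij.2 v
      rw [map_sum, map_sum]
      refine Finset.sum_congr rfl fun i _ => ?_
      obtain ⟨o, ho⟩ := (F.pt_bij i).2 (c i)
      rw [← ho]
      obtain ⟨j, hj⟩ := Option.ne_none_iff_exists'.1 (hsome i)
      rcases o with _ | k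
      · show R.ρ h 0 = R.ρ h' 0
        rw [map_zero, map_zero]
      · have e1 := hcomp hP i
        have e2 := hcomp hP' i
        rw [hj] at e1 e2
        have hk : ((F.pt i (some k) : F.L i) : V) = R.ρ (F.t ^ (k - j).val) ((F.pt i (some j) : F.L i) : V) := by
          show R.ρ (F.t ^ k.val) _ = R.ρ _ (R.ρ (F.t ^ j.val) _)
          rw [F.t_pow_add, sub_add_cancel]
        rw [hk, ← R.mul_apply, ← R.mul_apply,
          ((show Commute h F.t from F.t_comm _).pow_right _).eq,
          ((show Commute h' F.t from F.t_comm _).pow_right _).eq, R.mul_apply, R.mul_apply, e1, e2]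
    exact inv_mul_eq_one.1 (R.faithful _ fun v => by rw [R.mul_apply, ← hagree, R.inv_apply])
  choose s hs using hex
  refine ⟨MonoidHom.mk' s fun π σ => huniq (π * σ) _ _ (hs _) ⟨fun i v hv => ?_, ?_⟩,
    fun τ i => hcomp (hs τ) i⟩
  · rw [R.mul_apply]; exact (hs π).1 _ _ ((hs σ).1 i v hv)
  · rw [R.mul_apply, (hs σ).2, (hs π).2]

end Frame

/-- Codes of even weight at most four. -/
theorem small_codes_count : (Finset.univ.filter fun f : Code => wt f = 2 ∨ wt f = 4).card ≤ 1350 := by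
  rw [Finset.filter_or]
  refine (Finset.card_union_le _ _).trans ?_
  rw [counts.1, counts.2.1]

namespace Shape

variable {C : Type u} [Group C] [Finite C] {Q : Subgroup C} [Q.Normal] (S : Shape Q)

include S

/-- Coordinates exist around a vector with stabiliser of order `11520`. -/
theorem exists_coord {v : VQ Q} (hv : v ≠ 0) (hq : S.rep.q v = 0) (hst : Nat.card (S.rep.stab v) = 11520) :
    Nonempty (Coord S.rep v) := by
  classical
  let _ : Fintype (VQ Q) := Fintype.ofFinite _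
  obtain ⟨N, M, hN, hM, hQN, hNM, hcardN, ⟨K, hfK, hftK, hK, ⟨φ⟩⟩, hidx⟩ := S.tower
  have : Fact (Nat.Prime 3) := ⟨Nat.prime_three⟩
  have : CharP K 3 := charP_of_card_eq_prime_pow (f := 2) (p := 3) (by rw [hK]; rfl)
  let QM : Subgroup M := Q.subgroupOf M
  let NM : Subgroup M := N.subgroupOf M
  have hQM : Nat.card QM = Nat.card Q := Nat.card_congr (Subgroup.subgroupOfEquivOfLe (hQN.trans hNM)).toEquiv
  have hNMc : Nat.card NM = 3 * Nat.card Q := by
    rw [← hcardN]; exact Nat.card_congr (Subgroup.subgroupOfEquivOfLe hNM).toEquiv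
  have hMcard : Nat.card M = 3265920 * (3 * Nat.card Q) := by
    rw [Subgroup.card_eq_card_quotient_mul_card_subgroup NM, hNMc, Nat.card_congr φ.toEquiv,
      CfsgLib.UFourThree82.card_psu hK]
  have hMbar : Nat.card (M ⧸ QM) = 9797760 := by
    have h := Subgroup.card_eq_card_quotient_mul_card_subgroup QM
    rw [hQM, hMcard] at h
    have : 0 < Nat.card Q := Nat.card_pos
    nlinarith
  have hCcard : Nat.card (C ⧸ Q) = 19595520 := by
    have h := Subgroup.card_eq_card_quotient_mul_card_subgroup Q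
    have h2 := Subgroup.card_mul_index M
    rw [hidx, hMcard] at h2
    have : 0 < Nat.card Q := Nat.card_pos
    nlinarith
  let ι : M ⧸ QM →* C ⧸ Q := QuotientGroup.map QM Q M.subtype le_rfl
  have hι : Function.Injective ι := by
    rw [injective_iff_map_eq_one]
    intro x hx
    obtain ⟨m, rfl⟩ := QuotientGroup.mk_surjective x
    exact (QuotientGroup.eq_one_iff m).2 ((QuotientGroup.eq_one_iff (m : C)).1 hx)
  let f₀ : M →* Cfsg.PSU 4 K 3 := φ.toMonoidHom.comp (QuotientGroup.mk' NM)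
  have hle : QM ≤ f₀.ker := fun x hx => by
    show φ (QuotientGroup.mk' NM x) = 1
    have hx' : x ∈ NM := hQN hx
    rw [show QuotientGroup.mk' NM x = 1 from (QuotientGroup.eq_one_iff x).2 hx', map_one]
  let f : M ⧸ QM →* Cfsg.PSU 4 K 3 := QuotientGroup.lift QM f₀ hle
  have hf : Function.Surjective f := fun y => by
    obtain ⟨z, rfl⟩ := φ.surjective y
    obtain ⟨m, rfl⟩ := QuotientGroup.mk_surjective z
    exact ⟨QuotientGroup.mk m, rfl⟩
  have hf' : Function.Surjective f := hf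
  have hker3 : Nat.card f.ker = 3 := by
    have h := Subgroup.card_eq_card_quotient_mul_card_subgroup f.ker
    rw [hMbar, Nat.card_congr (QuotientGroup.quotientKerEquivOfSurjective f hf).toEquiv,
      CfsgLib.UFourThree82.card_psu hK] at h
    omega
  have : IsCyclic f.ker := isCyclic_of_prime_card (p := 3) hker3
  obtain ⟨t₀, ht₀⟩ := IsCyclic.exists_generator (α := f.ker)
  let t : M ⧸ QM := t₀
  have hker : f.ker = Subgroup.zpowers t := by
    refine le_antisymm (fun x hx => ?_) ((Subgroup.zpowers_le).2 t₀.2)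
    obtain ⟨n, hn⟩ := Subgroup.mem_zpowers_iff.1 (ht₀ ⟨x, hx⟩)
    exact Subgroup.mem_zpowers_iff.2 ⟨n, by simpa [t] using congrArg Subtype.val hn⟩
  have hto : orderOf t = 3 := by rw [← Nat.card_zpowers, ← hker, hker3]
  have ht3 : t ^ 3 = 1 := hto ▸ pow_orderOf_eq_one t
  have htne : t ≠ 1 := fun e => by rw [e, orderOf_one] at hto; omega
  have htc : ∀ h, h * t = t * h := by
    let Z : Subgroup (M ⧸ QM) := Subgroup.centralizer {t}
    have hpow : ∀ g : M ⧸ QM, g * t * g⁻¹ ∈ Subgroup.zpowers t := fun g => by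
      rw [← hker]; exact Subgroup.Normal.conj_mem inferInstance t (hker ▸ Subgroup.mem_zpowers t) g
    have hzc : ∀ k ∈ Z, ∀ a ∈ Subgroup.zpowers t, k * a = a * k := by
      intro k hk a ha
      obtain ⟨n, rfl⟩ := Subgroup.mem_zpowers_iff.1 ha
      exact ((show Commute k t from Subgroup.mem_centralizer_singleton_iff.1 hk).zpow_right n).eq
    have hZn : Z.Normal := ⟨fun k hk g => by
      rw [Subgroup.mem_centralizer_singleton_iff]
      have h1 := hzc k hk (g⁻¹ * t * g⁻¹⁻¹) (hpow g⁻¹)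
      calc g * k * g⁻¹ * t = g * (k * (g⁻¹ * t * g⁻¹⁻¹)) * g⁻¹ := by group
        _ = g * (g⁻¹ * t * g⁻¹⁻¹ * k) * g⁻¹ := by rw [h1]
        _ = t * (g * k * g⁻¹) := by group⟩
    have hsq : ∀ g : M ⧸ QM, g * g ∈ Z := by
      intro g
      have hg : g * t * g⁻¹ = t ∨ g * t * g⁻¹ = t⁻¹ := by
        obtain ⟨n, hn⟩ := Subgroup.mem_zpowers_iff.1 (hpow g)
        rw [← hn, ← zpow_mod_orderOf, hto]
        rcases (by omega : n % (3 : ℕ) = 0 ∨ n % (3 : ℕ) = 1 ∨ n % (3 : ℕ) = 2) with e | e | e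
        · exfalso
          rw [← zpow_mod_orderOf, hto, e, zpow_zero] at hn
          exact htne (by
            have := hn.symm
            rwa [mul_inv_eq_one, mul_eq_left] at this)
        · left; rw [e, zpow_one]
        · right
          rw [e, eq_inv_iff_mul_eq_one, ← zpow_add_one]
          rw [show ((2 : ℤ) + 1) = ((3 : ℕ) : ℤ) from rfl, zpow_natCast]
          exact ht3
      rw [Subgroup.mem_centralizer_singleton_iff]
      have h2 : g * (g * t * g⁻¹) * g⁻¹ = t := by
        rcases hg with e | e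
        · rw [e, e]
        · rw [e, ← conj_inv, e, inv_inv]
      calc g * g * t = g * (g * t * g⁻¹) * g⁻¹ * (g * g) := by group
        _ = t * (g * g) := by rw [h2]
    have : IsSimpleGroup (Cfsg.PSU 4 K 3) :=
      CfsgLib.ClassicalGroups.psu_isSimpleGroup (n := 4) (by rw [hK]; rfl) (by norm_num) (by norm_num)
    rcases (Subgroup.Normal.map hZn f hf).eq_bot_or_eq_top with h | h
    · exfalso
      have : Fact (Nat.Prime 7) := ⟨by norm_num⟩
      obtain ⟨y, hy⟩ := exists_prime_orderOf_dvd_card' (G := Cfsg.PSU 4 K 3) 7 (by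
        rw [CfsgLib.UFourThree82.card_psu hK]; norm_num)
      obtain ⟨g, rfl⟩ := hf y
      have h2 : f g ^ 2 = 1 := by
        rw [sq, ← map_mul, ← Subgroup.mem_bot, ← h]
        exact ⟨_, hsq g, rfl⟩
      have := orderOf_dvd_of_pow_eq_one h2
      rw [hy] at this
      omega
    · intro g
      obtain ⟨k, hk, hkg⟩ := (h ▸ Subgroup.mem_top (f g) : f g ∈ Z.map f)
      have hmem : k⁻¹ * g ∈ Subgroup.zpowers t := by rw [← hker, MonoidHom.mem_ker]; simp [hkg]
      have hkt : k * t = t * k := Subgroup.mem_centralizer_singleton_iff.1 hk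
      obtain ⟨n, hn⟩ := Subgroup.mem_zpowers_iff.1 hmem
      rw [show g = k * t ^ n by rw [hn, mul_inv_cancel_left], mul_assoc, ← zpow_add_one, ← mul_assoc t,
        ← hkt, mul_assoc, ← zpow_one_add, add_comm]
  obtain ⟨D⟩ := exists_mono hK f hf t ht3 htne htc hker
  let R' : QRep (M ⧸ QM) (VQ Q) :=
    { ρ := S.rep.ρ.comp ι
      faithful := fun h hh => hι ((S.rep.faithful (ι h) hh).trans (map_one ι).symm)
      two := S.rep.two
      card_V := S.rep.card_V
      q := S.rep.q
      b := S.rep.b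
      q_add := S.rep.q_add
      b_add := S.rep.b_add
      nondeg := S.rep.nondeg
      q_inv := fun h v => S.rep.q_inv (ι h) v }
  obtain ⟨F⟩ := exists_frame (D := D) (R := R')
  -- `v` meets a vector of full weight
  have horb : (S.rep.orb v).card = 1701 := by
    have := S.rep.card_stab_mul v
    rw [hst, hCcard] at this
    omega
  obtain ⟨c₀, hc₀, h, hh⟩ : ∃ f : Code, wt f = 6 ∧ S.rep.Rel (F.Φ f) v := by
    by_contra hno
    have hsub : S.rep.orb v ⊆ (Finset.univ.filter fun f : Code => wt f = 2 ∨ wt f = 4).image F.Φ := by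
      intro w hw
      rw [QRep.mem_orb] at hw
      obtain ⟨f, rfl⟩ := F.Φ_bij.2 w
      refine Finset.mem_image.2 ⟨f, Finset.mem_filter.2 ⟨Finset.mem_univ _, ?_⟩, rfl⟩
      have h0 : F.Φ f ≠ 0 := fun e => hv (by
        obtain ⟨a, ha⟩ := hw
        exact S.rep.inj a (by rw [ha, e, map_zero]))
      have hq' : R'.q (F.Φ f) = 0 := (hw.q S.rep).trans hq
      rw [F.q_Φ, ZMod.natCast_eq_zero_iff_even] at hq'
      obtain ⟨m, hm⟩ := hq'
      have hle : wt f ≤ 6 := (Finset.card_le_univ _).trans_eq rfl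
      have hne : wt f ≠ 0 := fun e => h0 (by
        have : f = fun _ => none := funext fun i => by
          by_contra hi
          exact Finset.notMem_empty i (Finset.card_eq_zero.1 e ▸ Finset.mem_filter.2 ⟨Finset.mem_univ i, hi⟩)
        rw [this, F.Φ_zero])
      rcases (by omega : wt f = 2 ∨ wt f = 4 ∨ wt f = 6) with e | e | e
      · exact Or.inl e
      · exact Or.inr e
      · exact absurd ⟨f, e, hw.symm S.rep⟩ hno
    have := ((Finset.card_le_card hsub).trans Finset.card_image_le).trans small_codes_count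
    omega
  obtain ⟨ψ₀, hψ₀⟩ := F.stab_monomial hc₀
  have hcomm : ∀ k : M ⧸ QM, ι k * ι F.t = ι F.t * ι k := fun k => by rw [← map_mul, ← map_mul, F.t_comm]
  -- `ι F.t` generates the normal subgroup `N / Q`
  let NQ : Subgroup (C ⧸ Q) := N.map (QuotientGroup.mk' Q)
  have hNQn : NQ.Normal := Subgroup.Normal.map hN _ (QuotientGroup.mk'_surjective Q)
  have htne' : F.t ≠ 1 := by
    intro e
    have : Nontrivial (VQ Q) := Finite.one_lt_card_iff_nontrivial.1 (by rw [S.card_VQ]; norm_num)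
    obtain ⟨w, hw⟩ := _root_.exists_ne (0 : VQ Q)
    have := F.t_fpf w
    rw [e, R'.one_apply, R'.one_apply, R'.two, zero_add] at this
    exact hw this
  have hNQ3 : Nat.card NQ = 3 := by
    have h1 := Subgroup.card_eq_card_quotient_mul_card_subgroup ((QuotientGroup.mk' Q).comp N.subtype).ker
    rw [hcardN, Nat.card_congr (QuotientGroup.quotientKerEquivRange _).toEquiv, MonoidHom.range_comp,
      Subgroup.range_subtype] at h1
    have h2 : Nat.card ((QuotientGroup.mk' Q).comp N.subtype).ker = Nat.card Q := by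
      refine Eq.trans ?_ (Nat.card_congr (Subgroup.subgroupOfEquivOfLe hQN).toEquiv)
      exact congrArg (fun K : Subgroup N => Nat.card K) (by
        ext x; exact QuotientGroup.eq_one_iff (x : C))
    rw [h2] at h1
    exact (Nat.eq_of_mul_eq_mul_right Nat.card_pos h1).symm
  -- the image of the centre of `M / Q`
  have htk : F.t ∈ f₀.ker.map (QuotientGroup.mk' QM) → ι F.t ∈ NQ := by
    rintro ⟨m, hm, e⟩
    rw [← e]
    refine ⟨(m : C), ?_, rfl⟩
    have : QuotientGroup.mk' NM m = 1 := φ.injective (by rw [map_one]; exact hm)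
    exact (QuotientGroup.eq_one_iff m).1 this
  have htN : ι F.t ∈ NQ := by
    refine htk ?_
    obtain ⟨m, hm⟩ := QuotientGroup.mk_surjective F.t
    refine ⟨m, ?_, hm⟩
    show f (QuotientGroup.mk m) = 1
    rw [hm]
    have hcen : f F.t ∈ Subgroup.center (Cfsg.PSU 4 K 3) := Subgroup.mem_center_iff.2 fun y => by
      obtain ⟨x, rfl⟩ := hf' y
      rw [← map_mul, ← map_mul, F.t_comm]
    have : IsSimpleGroup (Cfsg.PSU 4 K 3) :=
      CfsgLib.ClassicalGroups.psu_isSimpleGroup (n := 4) (by rw [hK]; rfl) (by norm_num) (by norm_num)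
    rcases (Subgroup.center (Cfsg.PSU 4 K 3)).normal_of_characteristic.eq_bot_or_eq_top with e | e
    · rw [e] at hcen; exact hcen
    · exfalso
      have h3 : f F.t ^ 3 = 1 := by rw [← map_pow, F.t_cube, map_one]
      have hcomm' : ∀ a b : Cfsg.PSU 4 K 3, a * b = b * a := fun a b =>
        (Subgroup.mem_center_iff.1 (e ▸ Subgroup.mem_top a) b).symm
      have hpr : (Nat.card (Cfsg.PSU 4 K 3)).Prime := by
        let _ : CommGroup (Cfsg.PSU 4 K 3) := { (inferInstance : Group (Cfsg.PSU 4 K 3)) with mul_comm := hcomm' }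
        exact IsSimpleGroup.prime_card
      rw [CfsgLib.UFourThree82.card_psu hK] at hpr
      norm_num at hpr
  have hιt : orderOf (ι F.t) = 3 := by
    rw [orderOf_injective ι hι]; exact orderOf_eq_prime F.t_cube htne'
  have hNQt : NQ = Subgroup.zpowers (ι F.t) :=
    (Subgroup.eq_of_le_of_card_ge (Subgroup.zpowers_le.2 htN) (by rw [hNQ3, Nat.card_zpowers, hιt])).symm
  have tnorm : ∀ k : C ⧸ Q, k * ι F.t * k⁻¹ = ι F.t ∨ k * ι F.t * k⁻¹ = (ι F.t)⁻¹ := by
    intro k
    have hmem : k * ι F.t * k⁻¹ ∈ Subgroup.zpowers (ι F.t) := hNQt ▸ hNQn.conj_mem _ htN k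
    obtain ⟨n, hn : ι F.t ^ n = _⟩ := Subgroup.mem_zpowers_iff.1 hmem
    rw [← hn, ← zpow_mod_orderOf, hιt]
    rcases (by omega : n % (3 : ℕ) = 0 ∨ n % (3 : ℕ) = 1 ∨ n % (3 : ℕ) = 2) with e | e | e
    · exfalso
      rw [← zpow_mod_orderOf, hιt, e, zpow_zero] at hn
      have : ι F.t = 1 := by
        have h' := hn.symm
        rwa [mul_inv_eq_one, mul_eq_left] at h'
      rw [this, orderOf_one] at hιt
      omega
    · left; rw [e, zpow_one]
    · right
      rw [e, eq_inv_iff_mul_eq_one, ← zpow_add_one, show ((2 : ℤ) + 1) = ((3 : ℕ) : ℤ) from rfl, zpow_natCast,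
        ← map_pow, F.t_cube, map_one]
  have hinv : ∀ x, S.rep.ρ h (S.rep.ρ h⁻¹ x) = x := fun x => by
    rw [← S.rep.mul_apply, mul_inv_cancel, S.rep.one_apply]
  have htc : h * (h⁻¹ * ι F.t * h) * h⁻¹ = ι F.t := by group
  -- transport to `v`
  let e₀ : Fin 6 → VQ Q := fun i => ((F.pt i (c₀ i) : F.L i) : VQ Q)
  have hne : ∀ i, e₀ i ≠ 0 := fun i => by
    have hs : c₀ i ≠ none := by
      have : Finset.univ.filter (fun i => c₀ i ≠ none) = Finset.univ :=
        Finset.eq_univ_of_card _ (by rw [← wt, hc₀]; rfl)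
      exact Finset.filter_eq_self.1 this i (Finset.mem_univ _)
    intro e
    exact hs ((F.pt_bij i).1 (a₂ := none) (Subtype.ext e))
  let Lh : Fin 6 → AddSubgroup (VQ Q) := fun i => (F.L i).map (S.rep.ρ h)
  have hLh : ∀ i, Function.Bijective (fun x : F.L i =>
      (⟨S.rep.ρ h x, AddSubgroup.mem_map_of_mem _ x.2⟩ : Lh i)) := fun i =>
    ⟨fun a b e => Subtype.ext (S.rep.inj h (congrArg Subtype.val e)), by
      rintro ⟨y, x, hx, rfl⟩; exact ⟨⟨x, hx⟩, rfl⟩⟩
  refine ⟨{
    t := h * ι F.t * h⁻¹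
    t_cube := by rw [conj_pow, ← map_pow, F.t_cube, map_one, mul_one, mul_inv_cancel]
    t_norm := fun k => ?_
    t_fpf := fun w => ?_
    L := Lh
    card_L := fun i => by rw [← Nat.card_eq_of_bijective _ (hLh i)]; exact F.card_L i
    stable := ?_
    orth := ?_
    q_one := ?_
    bij := ?_
    e := fun i => S.rep.ρ h (e₀ i)
    e_mem := fun i => AddSubgroup.mem_map_of_mem _ (F.pt i (c₀ i)).2
    e_ne := fun i e => hne i (S.rep.inj h (e.trans (map_zero _).symm))
    e_sum := by rw [← map_sum]; exact hh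
    φ := (MulAut.conj h).toMonoidHom.comp (ι.comp ψ₀)
    φ_t := fun τ => ?_
    φ_e := fun τ i => ?_ }⟩
  · rcases tnorm (h⁻¹ * k * h) with e | e
    · left
      calc k * (h * ι F.t * h⁻¹) * k⁻¹ = h * ((h⁻¹ * k * h) * ι F.t * (h⁻¹ * k * h)⁻¹) * h⁻¹ := by group
        _ = h * ι F.t * h⁻¹ := by rw [e]
    · right
      calc k * (h * ι F.t * h⁻¹) * k⁻¹ = h * ((h⁻¹ * k * h) * ι F.t * (h⁻¹ * k * h)⁻¹) * h⁻¹ := by group
        _ = (h * ι F.t * h⁻¹)⁻¹ := by rw [e]; group
  · obtain ⟨w', rfl⟩ : ∃ w', S.rep.ρ h w' = w := ⟨_, hinv w⟩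
    simp only [S.rep.mul_apply, S.rep.inv_apply]
    rw [← map_add, ← map_add]
    exact (congrArg (S.rep.ρ h) (F.t_fpf w')).trans (map_zero _)
  · rintro i _ ⟨x, hx, rfl⟩
    show S.rep.ρ (h * ι F.t * h⁻¹) (S.rep.ρ h x) ∈ Lh i
    rw [S.rep.mul_apply, S.rep.mul_apply, S.rep.inv_apply]
    exact AddSubgroup.mem_map_of_mem _ (F.stable i x hx)
  · rintro i j hij _ ⟨x, hx, rfl⟩ _ ⟨y, hy, rfl⟩
    exact (S.rep.b_inv h x y).trans (F.orth i j hij x hx y hy)
  · rintro i _ ⟨x, hx, rfl⟩ hne'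
    exact (S.rep.q_inv h x).trans (F.q_one i x hx fun e => hne' (by rw [e]; exact map_zero _))
  · have hb1 : Function.Bijective (fun x : VQ Q => S.rep.ρ h x) :=
      ⟨fun a b e => S.rep.inj h e, fun y => ⟨_, hinv y⟩⟩
    have hp := Function.Bijective.piMap hLh
    refine (Function.Bijective.of_comp_iff _ hp).1 ?_
    have : (fun g : (∀ i, Lh i) => ∑ i, (g i : VQ Q)) ∘ Pi.map (fun i (x : F.L i) =>
        (⟨S.rep.ρ h x, AddSubgroup.mem_map_of_mem _ x.2⟩ : Lh i)) =
        (fun x : VQ Q => S.rep.ρ h x) ∘ fun g : (∀ i, F.L i) => ∑ i, (g i : VQ Q) := funext fun g => by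
      simp only [Function.comp_apply, Pi.map_apply, map_sum]
    rw [this]
    exact hb1.comp F.bij
  · show h * ι (ψ₀ τ) * h⁻¹ * (h * ι F.t * h⁻¹) = h * ι F.t * h⁻¹ * (h * ι (ψ₀ τ) * h⁻¹)
    calc _ = h * (ι (ψ₀ τ) * ι F.t) * h⁻¹ := by group
      _ = h * (ι F.t * ι (ψ₀ τ)) * h⁻¹ := by rw [hcomm]
      _ = _ := by group
  · show S.rep.ρ (h * ι (ψ₀ τ) * h⁻¹) (S.rep.ρ h (e₀ i)) = S.rep.ρ h (e₀ _)
    rw [S.rep.mul_apply, S.rep.mul_apply, S.rep.inv_apply]
    exact congrArg (S.rep.ρ h) (hψ₀ τ i)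

end Shape

end CfsgLib.FischerTwoFour
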