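import Mathlib
import Cfsg.Agent.Lib.FischerTwoFour.Local
import Cfsg.Agent.Lib.FischerTwoFour.PlaneExists

/-!
The subgroup of order eight attached to a conjugate of `z` in `Q`.
-/

set_option autoImplicit false
set_option linter.unusedSectionVars false

namespace CfsgLib.FischerTwoFour

open scoped commutatorElement

variable {G : Type*} [Group G] {z : G}

set_option quotPrecheck false in
/-- The centraliser of `z`. -/
local notation "CC" => Subgroup.centralizer ({z} : Set G)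

/-- The underlying element. -/
def gv {Q : Subgroup (Subgroup.centralizer ({z} : Set G))} (a : Q) : G := ((a : CC) : G)

theorem gv_mul {Q : Subgroup CC} (a b : Q) : gv (a * b) = gv a * gv b := rfl

theorem gv_one {Q : Subgroup CC} : gv (1 : Q) = 1 := rfl

theorem gv_inv {Q : Subgroup CC} (a : Q) : gv a⁻¹ = (gv a)⁻¹ := rfl

theorem gv_inj {Q : Subgroup CC} {a b : Q} (h : gv a = gv b) : a = b := Subtype.ext (Subtype.ext h)

theorem gv_cjQ {Q : Subgroup CC} [Q.Normal] (c : CC) (a : Q) :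
    gv (cjQ c a) = (c : G) * gv a * (c : G)⁻¹ := rfl

variable (Q : Subgroup (Subgroup.centralizer ({z} : Set G)))

/-- `Q` as a subgroup of the whole group. -/
def QQ : Subgroup G := Q.map (Subgroup.centralizer ({z} : Set G)).subtype

/-- The conjugate of `Q` by `g`. -/
def tw (g : G) : Subgroup G := (QQ Q).map (MulAut.conj g).toMonoidHom

/-- Second commutators of elements centralising `z` and `g z g⁻¹`. -/
def dcom (z g : G) : Set G :=
  {y | ∃ a b c d : G,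
    a ∈ Subgroup.centralizer ({z} : Set G) ⊓ Subgroup.centralizer ({g * z * g⁻¹} : Set G) ∧
    b ∈ Subgroup.centralizer ({z} : Set G) ⊓ Subgroup.centralizer ({g * z * g⁻¹} : Set G) ∧
    c ∈ Subgroup.centralizer ({z} : Set G) ⊓ Subgroup.centralizer ({g * z * g⁻¹} : Set G) ∧
    d ∈ Subgroup.centralizer ({z} : Set G) ⊓ Subgroup.centralizer ({g * z * g⁻¹} : Set G) ∧
    y = ⁅⁅a, b⁆, ⁅c, d⁆⁆}

/-- The plane through `z` and `g z g⁻¹`. -/
def Pl (g : G) : Subgroup G := QQ Q ⊓ tw Q g ⊓ Subgroup.centralizer (dcom z g)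

variable {Q}

theorem mem_QQ {x : G} : x ∈ QQ Q ↔ ∃ a : Q, gv a = x :=
  ⟨fun ⟨c, hc, e⟩ => ⟨⟨c, hc⟩, e⟩, fun ⟨a, e⟩ => ⟨a, a.2, e⟩⟩

theorem gv_mem (a : Q) : gv a ∈ QQ Q := mem_QQ.2 ⟨a, rfl⟩

theorem QQ_le : QQ Q ≤ CC := fun x hx => by obtain ⟨a, rfl⟩ := mem_QQ.1 hx; exact (a : CC).2

theorem mem_tw {g x : G} : x ∈ tw Q g ↔ g⁻¹ * x * g ∈ QQ Q := by
  rw [tw, Subgroup.mem_map]
  refine ⟨fun ⟨y, hy, e⟩ => ?_, fun h => ⟨_, h, ?_⟩⟩
  · rw [← e, MulEquiv.coe_toMonoidHom, MulAut.conj_apply]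
    simpa [mul_assoc] using hy
  · simp [mul_assoc]

theorem QQ_conj [Q.Normal] {c x : G} (hc : c ∈ CC) : c⁻¹ * x * c ∈ QQ Q ↔ x ∈ QQ Q := by
  constructor
  · intro h
    obtain ⟨a, ha⟩ := mem_QQ.1 h
    refine mem_QQ.2 ⟨cjQ ⟨c, hc⟩ a, ?_⟩
    rw [gv_cjQ, ha]; group
  · intro h
    obtain ⟨a, rfl⟩ := mem_QQ.1 h
    refine mem_QQ.2 ⟨cjQ ⟨c, hc⟩⁻¹ a, ?_⟩
    rw [gv_cjQ]; simp

theorem mem_pair_iff {a x : G} :
    x ∈ CC ⊓ Subgroup.centralizer ({a} : Set G) ↔ x * z = z * x ∧ x * a = a * x := by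
  rw [Subgroup.mem_inf, Subgroup.mem_centralizer_singleton_iff, Subgroup.mem_centralizer_singleton_iff]

theorem conj_commute {k x y : G} (h : x * y = y * x) :
    k * x * k⁻¹ * (k * y * k⁻¹) = k * y * k⁻¹ * (k * x * k⁻¹) := by
  calc k * x * k⁻¹ * (k * y * k⁻¹) = k * (x * y) * k⁻¹ := by group
    _ = k * (y * x) * k⁻¹ := by rw [h]
    _ = _ := by group

theorem conj_comm4 (k a b c d : G) : k * ⁅⁅a, b⁆, ⁅c, d⁆⁆ * k⁻¹ =
    ⁅⁅k * a * k⁻¹, k * b * k⁻¹⁆, ⁅k * c * k⁻¹, k * d * k⁻¹⁆⁆ := by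
  have h : ∀ p q : G, k * ⁅p, q⁆ * k⁻¹ = ⁅k * p * k⁻¹, k * q * k⁻¹⁆ := fun p q => by
    simp only [commutatorElement_def]; group
  rw [h, h, h]

theorem conj_mem_centralizer {k x : G} {A B : Set G} (h : ∀ y ∈ B, k⁻¹ * y * k ∈ A)
    (hx : x ∈ Subgroup.centralizer A) : k * x * k⁻¹ ∈ Subgroup.centralizer B := by
  refine Subgroup.mem_centralizer_iff.2 fun y hy => ?_
  have e := conj_commute (k := k) (Subgroup.mem_centralizer_iff.1 hx _ (h y hy))
  rwa [show k * (k⁻¹ * y * k) * k⁻¹ = y by group] at e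

theorem dcom_map {k g g' : G} (hd : ∀ a : G, a * z = z * a → a * (g * z * g⁻¹) = g * z * g⁻¹ * a →
    k * a * k⁻¹ ∈ CC ⊓ Subgroup.centralizer ({g' * z * g'⁻¹} : Set G)) :
    ∀ y ∈ dcom z g, k * y * k⁻¹ ∈ dcom z g' := by
  rintro _ ⟨a, b, c, d, ha, hb, hc, hd', rfl⟩
  rw [mem_pair_iff] at ha hb hc hd'
  exact ⟨_, _, _, _, hd a ha.1 ha.2, hd b hb.1 hb.2, hd c hc.1 hc.2, hd d hd'.1 hd'.2, conj_comm4 k a b c d⟩

theorem conj_z {c : G} (hc : c ∈ CC) : c * z * c⁻¹ = z := by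
  rw [Subgroup.mem_centralizer_singleton_iff.1 hc]; group

theorem tw_right [Q.Normal] {g c : G} (hc : c ∈ CC) : tw Q (g * c) = tw Q g := by
  ext x
  rw [mem_tw, mem_tw, show (g * c)⁻¹ * x * (g * c) = c⁻¹ * (g⁻¹ * x * g) * c by group, QQ_conj hc]

theorem point_right {g c : G} (hc : c ∈ CC) : g * c * z * (g * c)⁻¹ = g * z * g⁻¹ := by
  calc g * c * z * (g * c)⁻¹ = g * (c * z * c⁻¹) * g⁻¹ := by group
    _ = _ := by rw [conj_z hc]

theorem Pl_right [Q.Normal] {g c : G} (hc : c ∈ CC) : Pl Q (g * c) = Pl Q g := by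
  rw [Pl, Pl, tw_right hc]
  congr 2
  rw [dcom, dcom, point_right hc]

theorem same_point {g g' : G} (h : g' * z * g'⁻¹ = g * z * g⁻¹) : g⁻¹ * g' ∈ CC := by
  refine Subgroup.mem_centralizer_singleton_iff.2 ?_
  calc g⁻¹ * g' * z = g⁻¹ * (g' * z * g'⁻¹) * g' := by group
    _ = g⁻¹ * (g * z * g⁻¹) * g' := by rw [h]
    _ = z * (g⁻¹ * g') := by group

theorem tw_point [Q.Normal] {g g' : G} (h : g' * z * g'⁻¹ = g * z * g⁻¹) : tw Q g' = tw Q g := by
  rw [← tw_right (g := g) (same_point h), mul_inv_cancel_left]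

theorem Pl_point [Q.Normal] {g g' : G} (h : g' * z * g'⁻¹ = g * z * g⁻¹) : Pl Q g' = Pl Q g := by
  rw [← Pl_right (g := g) (same_point h), mul_inv_cancel_left]

theorem mem_tw_left {c g x : G} : x ∈ tw Q (c * g) ↔ c⁻¹ * x * c ∈ tw Q g := by
  rw [mem_tw, mem_tw, show (c * g)⁻¹ * x * (c * g) = g⁻¹ * (c⁻¹ * x * c) * g by group]

theorem tw_norm [Q.Normal] {g d x : G} (hd : d * (g * z * g⁻¹) = g * z * g⁻¹ * d) :
    d⁻¹ * x * d ∈ tw Q g ↔ x ∈ tw Q g := by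
  rw [← mem_tw_left, tw_point (g := g) (g' := d * g)]
  calc d * g * z * (d * g)⁻¹ = d * (g * z * g⁻¹) * d⁻¹ := by group
    _ = _ := by rw [hd]; group

theorem Pl_left [Q.Normal] {c g x : G} (hc : c ∈ CC) (hx : x ∈ Pl Q g) :
    c * x * c⁻¹ ∈ Pl Q (c * g) := by
  obtain ⟨h12, h3⟩ := Subgroup.mem_inf.1 hx
  obtain ⟨h1, h2⟩ := Subgroup.mem_inf.1 h12
  refine Subgroup.mem_inf.2 ⟨Subgroup.mem_inf.2 ⟨?_, ?_⟩, conj_mem_centralizer (fun y hy => ?_) h3⟩
  · have := (QQ_conj (Q := Q) (x := c * x * c⁻¹) hc).1 (by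
      rwa [show c⁻¹ * (c * x * c⁻¹) * c = x by group])
    exact this
  · rw [mem_tw_left, show c⁻¹ * (c * x * c⁻¹) * c = x by group]; exact h2
  · have key := dcom_map (z := z) (k := c⁻¹) (g := c * g) (g' := g) (fun a ha ha' => ?_) y hy
    · rwa [inv_inv] at key
    rw [inv_inv, mem_pair_iff]
    have e1 := conj_commute (k := c⁻¹) ha
    rw [inv_inv, show c⁻¹ * z * c = z by
      have := conj_z (inv_mem hc); rwa [inv_inv] at this] at e1
    have e2 := conj_commute (k := c⁻¹) ha'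
    rw [inv_inv, show c⁻¹ * (c * g * z * (c * g)⁻¹) * c = g * z * g⁻¹ by group] at e2
    exact ⟨e1, e2⟩

theorem Pl_swap [Q.Normal] {g x : G} (hx : x ∈ Pl Q g⁻¹) : g * x * g⁻¹ ∈ Pl Q g := by
  obtain ⟨h12, h3⟩ := Subgroup.mem_inf.1 hx
  obtain ⟨h1, h2⟩ := Subgroup.mem_inf.1 h12
  refine Subgroup.mem_inf.2 ⟨Subgroup.mem_inf.2 ⟨?_, ?_⟩, conj_mem_centralizer (fun y hy => ?_) h3⟩
  · rw [mem_tw, inv_inv] at h2
    exact h2
  · rw [mem_tw, show g⁻¹ * (g * x * g⁻¹) * g = x by group]; exact h1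
  · have key := dcom_map (z := z) (k := g⁻¹) (g := g) (g' := g⁻¹) (fun a ha ha' => ?_) y hy
    · rwa [inv_inv] at key
    rw [inv_inv, mem_pair_iff]
    have e1 := conj_commute (k := g⁻¹) ha
    rw [inv_inv] at e1
    have e2 := conj_commute (k := g⁻¹) ha'
    rw [inv_inv, show g⁻¹ * (g * z * g⁻¹) * g = z by group] at e2
    exact ⟨e2, e1⟩

variable [Q.Normal] [Finite G] (S : Shape Q)

/-- Coordinates and the subgroups at a conjugate of `z` in `Q`. -/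
structure Line (g : G) where
  s : Q
  hs : gv s = g * z * g⁻¹
  ncs : s ∉ Subgroup.center Q
  hstab : Nat.card (stabImage s) = 11520
  K : Coord S.rep (pr s)
  W : AddSubgroup Code4
  W_inv : ∀ τ c, c ∈ W → mv4 τ c ∈ W
  W_card : Nat.card W = 64
  W_iso : ∀ c ∈ W, ∀ d ∈ W, bc4 c d = 0
  W_const : ∀ x : F4, (fun _ => x) ∈ W
  mem_tw' : ∀ a : Q, gv a ∈ tw Q g ↔ ∃ c ∈ W, pr a = K.ψ c
  mem_Pl : ∀ a : Q, gv a ∈ Pl Q g ↔ ∃ x : F4, pr a = K.ψ fun _ => x
  lift : ∀ τ, ∃ d : CC, (d : G) * gv s = gv s * d ∧ QuotientGroup.mk d = K.φ τ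

include S in
theorem cases_center {a : Q} (hz : orderOf z = 2) (h : pr a = 0) : gv a = 1 ∨ gv a = z :=
  center_cases S hz (S.pr_eq_zero.1 h)

include S in
theorem z_mem_QQ : z ∈ QQ Q := mem_QQ.2 ⟨⟨zC z, zC_mem S⟩, rfl⟩

include S in
theorem QQ_comm (hz : orderOf z = 2) {x y : G} (hx : x ∈ QQ Q) (hy : y ∈ QQ Q) : ⁅x, y⁆ = 1 ∨ ⁅x, y⁆ = z := by
  obtain ⟨a, rfl⟩ := mem_QQ.1 hx
  obtain ⟨b, rfl⟩ := mem_QQ.1 hy
  exact center_cases S hz (S.comm_mem a b)

include S in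
theorem tw_comm (hz : orderOf z = 2) {g x y : G} (hx : x ∈ tw Q g) (hy : y ∈ tw Q g) :
    ⁅x, y⁆ = 1 ∨ ⁅x, y⁆ = g * z * g⁻¹ := by
  have e : ⁅x, y⁆ = g * ⁅g⁻¹ * x * g, g⁻¹ * y * g⁆ * g⁻¹ := by simp only [commutatorElement_def]; group
  rcases QQ_comm S hz (mem_tw.1 hx) (mem_tw.1 hy) with h | h <;> rw [e, h]
  · left; group
  · right; rfl

theorem A6_gen (P : Subgroup A6) (h : ∀ a b c d : A6, ⁅⁅a, b⁆, ⁅c, d⁆⁆ ∈ P) : P = ⊤ := by
  have := isSimpleGroup_A6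
  let Sc : Set A6 := {y | ∃ a b c d : A6, y = ⁅⁅a, b⁆, ⁅c, d⁆⁆}
  have hn : (Subgroup.normalClosure Sc) ≤ P := by
    rw [Subgroup.normalClosure, Subgroup.closure_le]
    intro y hy
    obtain ⟨w, ⟨a, b, c, d, rfl⟩, hw⟩ := Group.mem_conjugatesOfSet_iff.1 hy
    obtain ⟨k, rfl⟩ := isConj_iff.1 hw
    rw [conj_comm4]
    exact h _ _ _ _
  refine top_le_iff.1 (le_trans ?_ hn)
  rcases Subgroup.normalClosure_normal.eq_bot_or_eq_top (H := Subgroup.normalClosure Sc) with e | e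
  · exfalso
    have hcomm : ∀ a b c d : A6, ⁅⁅a, b⁆, ⁅c, d⁆⁆ = 1 := fun a b c d => by
      rw [← Subgroup.mem_bot, ← e]
      exact Subgroup.subset_normalClosure ⟨a, b, c, d, rfl⟩
    have hab : ∀ a b : A6, ⁅a, b⁆ = 1 := fun a b => by
      rcases (commutator A6).normal_of_characteristic.eq_bot_or_eq_top with e' | e'
      · rw [← Subgroup.mem_bot, ← e', commutator_def]
        exact Subgroup.commutator_mem_commutator (Subgroup.mem_top _) (Subgroup.mem_top _)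
      · let gens : Set A6 := {y | ∃ p q : A6, y = ⁅p, q⁆}
        have htop : Subgroup.closure gens = ⊤ := top_le_iff.1 (e' ▸ by
          rw [commutator_def, Subgroup.commutator_le]
          exact fun p _ q _ => Subgroup.subset_closure ⟨p, q, rfl⟩)
        have h1 : gens ⊆ Subgroup.centralizer gens := by
          rintro _ ⟨p, q, rfl⟩
          refine Subgroup.mem_centralizer_iff.2 ?_
          rintro _ ⟨p', q', rfl⟩
          exact commutatorElement_eq_one_iff_mul_comm.1 (hcomm p' q' p q)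
        have h2 : (⊤ : Subgroup A6) ≤ Subgroup.centralizer gens := htop ▸ (Subgroup.closure_le _).2 h1
        have h3 : Subgroup.closure gens ≤ Subgroup.centralizer (⊤ : Subgroup A6) :=
          (Subgroup.closure_le _).2 fun y hy => Subgroup.mem_centralizer_iff.2 fun x _ =>
            (Subgroup.mem_centralizer_iff.1 (h2 (Subgroup.mem_top x)) y hy).symm
        exact commutatorElement_eq_one_iff_mul_comm.2
          (Subgroup.mem_centralizer_iff.1 (h3 (htop ▸ Subgroup.mem_top b)) a (Subgroup.mem_top a))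
    obtain ⟨τ, t1, t2, -, t4⟩ := cycle_three (a := (0 : Fin 6)) (b := 1) (c := 2) (by decide) (by decide) (by decide)
    obtain ⟨σ, s1, -, -, s4⟩ := cycle_three (a := (1 : Fin 6)) (b := 3) (c := 4) (by decide) (by decide) (by decide)
    have := congrArg (fun r : A6 => (r : Equiv.Perm (Fin 6)) 1)
      (commutatorElement_eq_one_iff_mul_comm.1 (hab τ σ))
    simp only [Subgroup.coe_mul, Equiv.Perm.mul_apply, t2, s1] at this
    rw [t4 3 (by decide) (by decide) (by decide), s4 2 (by decide) (by decide) (by decide)] at this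
    exact absurd this (by decide)
  · rw [e]

/-- If two elements move `x` by at most the central involution, their commutator fixes `x`. -/
theorem comm_fix {x w P R : G} (hw : w * w = 1) (xw : x * w = w * x) (Pw : P * w = w * P) (Rw : R * w = w * R)
    (hP : P * x * P⁻¹ = x ∨ P * x * P⁻¹ = x * w) (hR : R * x * R⁻¹ = x ∨ R * x * R⁻¹ = x * w) :
    ⁅P, R⁆ * x = x * ⁅P, R⁆ := by
  let W : Subgroup G := Subgroup.zpowers w
  have step : ∀ A : G, A * w = w * A → (A * x * A⁻¹ = x ∨ A * x * A⁻¹ = x * w) →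
      ∃ p : G, (p = 1 ∨ p = w) ∧ ∀ r, (r = 1 ∨ r = w) →
        A * (x * r) * A⁻¹ = x * (p * r) ∧ A⁻¹ * (x * r) * A = x * (p * r) := by
    intro A Aw hA
    have hr : ∀ r, (r = 1 ∨ r = w) → A * r * A⁻¹ = r ∧ A⁻¹ * r * A = r := by
      rintro r (rfl | rfl)
      · simp
      · exact ⟨by rw [Aw]; group, by rw [mul_assoc, ← Aw]; group⟩
    rcases hA with e | e
    · refine ⟨1, Or.inl rfl, fun r hr' => ⟨?_, ?_⟩⟩
      · calc A * (x * r) * A⁻¹ = A * x * A⁻¹ * (A * r * A⁻¹) := by group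
          _ = _ := by rw [e, (hr r hr').1, one_mul]
      · have e' : A⁻¹ * x * A = x := by
          calc A⁻¹ * x * A = A⁻¹ * (A * x * A⁻¹) * A := by rw [e]
            _ = x := by group
        calc A⁻¹ * (x * r) * A = A⁻¹ * x * A * (A⁻¹ * r * A) := by group
          _ = _ := by rw [e', (hr r hr').2, one_mul]
    · refine ⟨w, Or.inr rfl, fun r hr' => ⟨?_, ?_⟩⟩
      · calc A * (x * r) * A⁻¹ = A * x * A⁻¹ * (A * r * A⁻¹) := by group
          _ = _ := by rw [e, (hr r hr').1, mul_assoc]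
      · have e' : A⁻¹ * x * A = x * w := by
          calc A⁻¹ * x * A = A⁻¹ * (x * w * w) * A := by rw [mul_assoc x, hw, mul_one]
            _ = A⁻¹ * (A * x * A⁻¹ * w) * A := by rw [e]
            _ = x * (A⁻¹ * w * A) := by group
            _ = x * w := by rw [(hr w (Or.inr rfl)).2]
        calc A⁻¹ * (x * r) * A = A⁻¹ * x * A * (A⁻¹ * r * A) := by group
          _ = _ := by rw [e', (hr r hr').2, mul_assoc]
  obtain ⟨p, hp, sp⟩ := step P Pw hP
  obtain ⟨q, hq, sq'⟩ := step R Rw hR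
  have cl : ∀ a b : G, (a = 1 ∨ a = w) → (b = 1 ∨ b = w) → (a * b = 1 ∨ a * b = w) := by
    rintro a b (rfl | rfl) (rfl | rfl) <;> simp [hw]
  have e : ⁅P, R⁆ * x * ⁅P, R⁆⁻¹ = x := by
    calc ⁅P, R⁆ * x * ⁅P, R⁆⁻¹ = P * (R * (P⁻¹ * (R⁻¹ * (x * 1) * R) * P) * R⁻¹) * P⁻¹ := by
          simp only [commutatorElement_def]; group
      _ = P * (R * (P⁻¹ * (x * (q * 1)) * P) * R⁻¹) * P⁻¹ := by rw [(sq' 1 (Or.inl rfl)).2]
      _ = P * (R * (x * (p * (q * 1))) * R⁻¹) * P⁻¹ := by rw [(sp _ (cl _ _ hq (Or.inl rfl))).2]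
      _ = P * (x * (q * (p * (q * 1)))) * P⁻¹ := by rw [(sq' _ (cl _ _ hp (cl _ _ hq (Or.inl rfl)))).1]
      _ = x * (p * (q * (p * (q * 1)))) := by rw [(sp _ (cl _ _ hq (cl _ _ hp (cl _ _ hq (Or.inl rfl))))).1]
      _ = x := by rcases hp with rfl | rfl <;> rcases hq with rfl | rfl <;> simp [hw]
  calc ⁅P, R⁆ * x = ⁅P, R⁆ * x * ⁅P, R⁆⁻¹ * ⁅P, R⁆ := by group
    _ = x * ⁅P, R⁆ := by rw [e]

include S in
theorem comm_t {v : VQ Q} (K : Coord S.rep v) (h k : CC ⧸ Q) : ⁅h, k⁆ * K.t = K.t * ⁅h, k⁆ := by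
  have two : ∀ a b : CC ⧸ Q, a * b * K.t * (a * b)⁻¹ = b * a * K.t * (b * a)⁻¹ := by
    intro a b
    have e1 : ∀ a b : CC ⧸ Q, a * b * K.t * (a * b)⁻¹ = a * (b * K.t * b⁻¹) * a⁻¹ := fun a b => by group
    rw [e1, e1]
    rcases K.t_norm a with ea | ea <;> rcases K.t_norm b with eb | eb <;>
      simp only [ea, eb, ← conj_inv, inv_inv]
  set u := k * h * K.t * (k * h)⁻¹ with hu
  have e : ⁅h, k⁆ * u * ⁅h, k⁆⁻¹ = u := by
    conv_rhs => rw [hu, ← two h k]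
    rw [hu, commutatorElement_def]; group
  have hfix : ⁅h, k⁆ * u = u * ⁅h, k⁆ := mul_inv_eq_iff_eq_mul.1 e
  rcases K.t_norm (k * h) with e' | e'
  · rwa [hu, e'] at hfix
  · rw [hu, e'] at hfix
    have := (show Commute ⁅h, k⁆ K.t⁻¹ from hfix).inv_right.eq
    rwa [inv_inv] at this

include S in
theorem fix_consts {v : VQ Q} (K : Coord S.rep v) {h : CC ⧸ Q} (hc : h * K.t = K.t * h)
    (hv : S.rep.ρ h v = v) (x : F4) : S.rep.ρ h (K.ψ fun _ => x) = K.ψ fun _ => x := by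
  have h10 : S.rep.ρ h (K.ψ fun _ => (1, 0)) = K.ψ fun _ => (1, 0) :=
    ((congrArg (S.rep.ρ h) K.ψ_one).trans hv).trans K.ψ_one.symm
  have h01 : S.rep.ρ h (K.ψ fun _ => (0, 1)) = K.ψ fun _ => (0, 1) := by
    rw [K.ψ_tv, ← S.rep.mul_apply, hc, S.rep.mul_apply, hv]
  rcases (by decide : ∀ a : F4, a = 0 ∨ a = (1, 0) ∨ a = (0, 1) ∨ a = (1, 1)) x with rfl | rfl | rfl | rfl
  · rw [show (fun _ : Fin 6 => (0 : F4)) = 0 from rfl, map_zero, map_zero]
  · exact h10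
  · exact h01
  · rw [show (fun _ : Fin 6 => ((1, 1) : F4)) = (fun _ => (1, 0)) + fun _ => (0, 1) from rfl, map_add,
      map_add, h10, h01]

set_option maxHeartbeats 1000000 in
include S in
/-- The subgroups at a conjugate of `z` in `Q`. -/
theorem exists_line (hz : orderOf z = 2) {g : G} (hg : g * z * g⁻¹ ∈ QQ Q) (hne : g * z * g⁻¹ ≠ z) :
    Nonempty (Line S g) := by
  classical
  obtain ⟨s, hs⟩ := mem_QQ.1 hg
  have hsz : gv s ≠ z := hs ▸ hne
  have hs1 : gv s ≠ 1 := fun e => by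
    have e' : g * z * g⁻¹ = 1 := hs.symm.trans e
    rw [mul_inv_eq_one, mul_eq_left] at e'
    rw [e', orderOf_one] at hz
    omega
  have hzz : z * z = 1 := by rw [← sq, ← hz]; exact pow_orderOf_eq_one z
  have hs2 : s * s = 1 := gv_inj (by
    rw [gv_mul, hs, gv_one]
    calc g * z * g⁻¹ * (g * z * g⁻¹) = g * (z * z) * g⁻¹ := by group
      _ = 1 := by rw [hzz]; group)
  have ncs : s ∉ Subgroup.center Q := not_center S hz hs1 hsz
  let E : Subgroup (CC ⧸ Q) :=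
    ((tw Q g ⊓ CC).subgroupOf CC).map (QuotientGroup.mk' Q)
  obtain ⟨hstab, hR, hR7, hEX, -, hEel, hE32, -⟩ := local_structure S hz s hs.symm hsz (QQ Q) rfl E rfl
  obtain ⟨K⟩ := S.exists_coord (v := pr s) (fun e => ncs (S.pr_eq_zero.1 e)) (S.q_invol hs2)
    (by rw [← S.stabImage_eq ncs]; exact hstab)
  have hv_of : ∀ {h}, h ∈ stabImage s → S.rep.ρ h (pr s) = pr s := fun {h} hh => by
    rw [S.stabImage_eq ncs] at hh; exact hh
  -- the abelian subgroup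
  let A : Subgroup Q := (tw Q g).comap ((Subgroup.centralizer ({z} : Set G)).subtype.comp Q.subtype)
  have memA : ∀ a : Q, a ∈ A ↔ gv a ∈ tw Q g := fun a => Iff.rfl
  have hRA : ∀ a ∈ A, gv a ∈ QQ Q ⊓ tw Q g := fun a ha => Subgroup.mem_inf.2 ⟨gv_mem a, ha⟩
  have hA : Nat.card A = 128 := by
    have e : Nat.card A = Nat.card ↥(QQ Q ⊓ tw Q g) := by
      refine Nat.card_congr (Equiv.ofBijective (fun a => ⟨gv a.1, hRA _ a.2⟩) ⟨fun a b h => ?_, fun x => ?_⟩)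
      · have h' : gv a.1 = gv b.1 := Subtype.mk.inj h
        exact Subtype.ext (gv_inj h')
      · obtain ⟨a, ha⟩ := mem_QQ.1 (Subgroup.mem_inf.1 x.2).1
        exact ⟨⟨a, by rw [memA, ha]; exact (Subgroup.mem_inf.1 x.2).2⟩, Subtype.ext ha⟩
    rw [e]; exact hR7
  have hAcomm : ∀ a ∈ A, ∀ b ∈ A, a * b = b * a := fun a ha b hb =>
    gv_inj (by rw [gv_mul, gv_mul]; exact congrArg Subtype.val (hR.1.1.1 ⟨_, hRA a ha⟩ ⟨_, hRA b hb⟩))
  have hAsq : ∀ a ∈ A, a * a = 1 := fun a ha => gv_inj (by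
    rw [gv_mul, gv_one, ← sq]; exact hR.2 _ (hRA a ha))
  have hcenA : Subgroup.center Q ≤ A := by
    let A' : Subgroup Q := A ⊔ Subgroup.center Q
    have hA' : IsMulCommutative A' := by
      refine ⟨⟨fun a b => Subtype.ext ?_⟩⟩
      obtain ⟨a₁, ha₁, k, hk, ea⟩ := (Subgroup.mem_sup_of_normal_right (s := A) (t := Subgroup.center Q)).1 a.2
      obtain ⟨b₁, hb₁, l, hl, eb⟩ := (Subgroup.mem_sup_of_normal_right (s := A) (t := Subgroup.center Q)).1 b.2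
      show (a : Q) * b = b * a
      rw [← ea, ← eb]
      have h1 : Commute a₁ b₁ := hAcomm _ ha₁ _ hb₁
      have h2 : ∀ w, Commute w k := fun w => Subgroup.mem_center_iff.1 hk w
      have h3 : ∀ w, Commute w l := fun w => Subgroup.mem_center_iff.1 hl w
      exact ((h1.mul_right (h3 a₁)).mul_left ((h2 (b₁ * l)).symm)).eq
    have h := S.card_abelian A' hA'
    have e : A = A' := Subgroup.eq_of_le_of_card_ge le_sup_left (by rw [hA]; exact h)
    rw [e]; exact le_sup_right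
  let Wv : AddSubgroup (VQ Q) :=
    { carrier := {u | ∃ a ∈ A, pr a = u}
      zero_mem' := ⟨1, one_mem _, pr_one⟩
      add_mem' := by rintro _ _ ⟨a, ha, rfl⟩ ⟨b, hb, rfl⟩; exact ⟨a * b, mul_mem ha hb, pr_mul a b⟩
      neg_mem' := by
        rintro _ ⟨a, ha, rfl⟩
        exact ⟨a, ha, (neg_eq_of_add_eq_zero_left (S.rep.two _)).symm⟩ }
  have memWv : ∀ u, u ∈ Wv ↔ ∃ a ∈ A, pr a = u := fun u => Iff.rfl
  have hmemtw : ∀ a : Q, gv a ∈ tw Q g ↔ pr a ∈ Wv := by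
    refine fun a => ⟨fun h => ⟨a, h, rfl⟩, fun ⟨b, hb, e⟩ => ?_⟩
    have hk := hcenA (S.pr_eq_iff.1 e)
    have := mul_mem hb hk
    rw [mul_inv_cancel_left] at this
    exact this
  have hWv : Nat.card Wv = 64 := by
    let f : A →* Multiplicative (VQ Q) :=
      MonoidHom.mk' (fun a => Multiplicative.ofAdd (pr (a : Q))) fun a b => by
        rw [Subgroup.coe_mul, pr_mul]; rfl
    have hker : Nat.card f.ker = 2 := by
      have e : f.ker = (Subgroup.center Q).subgroupOf A := by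
        ext a
        rw [MonoidHom.mem_ker, Subgroup.mem_subgroupOf]
        exact ofAdd_eq_one.trans S.pr_eq_zero
      rw [e, Nat.card_congr (Subgroup.subgroupOfEquivOfLe hcenA).toEquiv]
      exact S.extra.2
    have hr : Nat.card f.range = Nat.card Wv := by
      refine Nat.card_congr ((Multiplicative.toAdd).subtypeEquiv fun w => ?_)
      rw [memWv]
      exact ⟨fun ⟨a, ha⟩ => ⟨a, a.2, congrArg Multiplicative.toAdd ha⟩,
        fun ⟨a, ha, e⟩ => ⟨⟨a, ha⟩, congrArg Multiplicative.ofAdd e⟩⟩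
    have h := Subgroup.card_eq_card_quotient_mul_card_subgroup f.ker
    rw [hA, Nat.card_congr (QuotientGroup.quotientKerEquivRange f).toEquiv, hker, hr] at h
    omega
  have lift : ∀ τ, ∃ d : CC, (d : G) * gv s = gv s * d ∧ QuotientGroup.mk d = K.φ τ := by
    intro τ
    have : K.φ τ ∈ stabImage s := by rw [S.stabImage_eq ncs]; exact K.φ_v τ
    obtain ⟨d, hd, e⟩ := this
    exact ⟨d, congrArg Subtype.val (Subgroup.mem_centralizer_singleton_iff.1 hd), e⟩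
  have hinv : ∀ τ, ∀ x ∈ Wv, S.rep.ρ (K.φ τ) x ∈ Wv := by
    rintro τ _ ⟨a, ha, rfl⟩
    obtain ⟨d, hd, e⟩ := lift τ
    refine ⟨cjQ d a, ?_, by rw [← e, S.rep_apply]⟩
    rw [memA, gv_cjQ, ← tw_norm (d := (d : G)) (by rw [← hs]; exact hd)]
    rw [show (d : G)⁻¹ * ((d : G) * gv a * (d : G)⁻¹) * (d : G) = gv a by group]
    exact ha
  have hq0 : ∀ x ∈ Wv, S.rep.q x = 0 := by
    rintro _ ⟨a, ha, rfl⟩
    exact S.q_invol (hAsq a ha)
  have hzQQ : z ∈ QQ Q := z_mem_QQ S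
  have hsA : s ∈ A := by
    rw [memA, mem_tw, hs, show g⁻¹ * (g * z * g⁻¹) * g = z by group]; exact hzQQ
  have hvW : pr s ∈ Wv := ⟨s, hsA, rfl⟩
  have htv : S.rep.ρ K.t (pr s) ∈ Wv := by
    refine K.tv_mem Wv hWv hinv hq0 hvW {h | h ∈ E ∧ h * K.t = K.t * h} (fun h hh => ?_) ?_
    · refine ⟨hh.2, hv_of (hEX hh.1), ?_⟩
      obtain ⟨w, hw, rfl⟩ := hh.1
      rintro _ ⟨a, ha, rfl⟩
      rw [QuotientGroup.mk'_apply, S.rep_apply, ← pr_mul]
      have e : gv (cjQ w a * a) = ⁅(w : G), gv a⁆ := by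
        have ea : gv a = (gv a)⁻¹ := by rw [← gv_inv, inv_eq_of_mul_eq_one_right (hAsq a ha)]
        rw [gv_mul, gv_cjQ, commutatorElement_def]
        nth_rewrite 2 [ea]
        rfl
      have hw' : (w : G) ∈ tw Q g := (Subgroup.mem_inf.1 hw).1
      rcases tw_comm S hz hw' ha with h | h
      · left; rw [show cjQ w a * a = 1 from gv_inj (e.trans h), pr_one]
      · right; rw [show cjQ w a * a = s from gv_inj ((e.trans h).trans hs.symm)]
    · have hEc : (E : Set (CC ⧸ Q)).ncard = 32 := by rw [← Nat.card_coe_set_eq]; exact hE32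
      set Sx : Set (CC ⧸ Q) := {h | h ∈ E ∧ h * K.t = K.t * h} with hSx
      by_cases hall : ∀ a ∈ E, a * K.t = K.t * a
      · have : (E : Set (CC ⧸ Q)).ncard ≤ Sx.ncard := Set.ncard_le_ncard (fun a ha => ⟨ha, hall a ha⟩)
        omega
      push Not at hall
      obtain ⟨a₀, ha₀, hna⟩ := hall
      have hinv' : ∀ a, ¬ a * K.t = K.t * a → a * K.t * a⁻¹ = K.t⁻¹ := fun a ha =>
        (K.t_norm a).resolve_left fun e => ha (mul_inv_eq_iff_eq_mul.1 e)
      have hsub : (E : Set (CC ⧸ Q)) ⊆ Sx ∪ (fun h => a₀⁻¹ * h) '' Sx := by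
        intro b hb
        by_cases hbt : b * K.t = K.t * b
        · exact Or.inl ⟨hb, hbt⟩
        refine Or.inr ⟨a₀ * b, ⟨mul_mem ha₀ hb, mul_inv_eq_iff_eq_mul.1 ?_⟩, by simp⟩
        calc a₀ * b * K.t * (a₀ * b)⁻¹ = a₀ * (b * K.t * b⁻¹) * a₀⁻¹ := by group
          _ = (a₀ * K.t * a₀⁻¹)⁻¹ := by rw [hinv' b hbt, conj_inv]
          _ = K.t := by rw [hinv' a₀ hna, inv_inv]
      have h1 := (Set.ncard_le_ncard hsub).trans (Set.ncard_union_le _ _)
      have h2 : ((fun h => a₀⁻¹ * h) '' Sx).ncard ≤ Sx.ncard := Set.ncard_image_le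
      omega
  have hWc : ∀ x : F4, (fun _ => x) ∈ K.codes Wv := by
    have h10 : (fun _ => ((1, 0) : F4)) ∈ K.codes Wv := by rw [K.mem_codes, K.ψ_one]; exact hvW
    have h01 : (fun _ => ((0, 1) : F4)) ∈ K.codes Wv := by rw [K.mem_codes, K.ψ_tv]; exact htv
    intro x
    rcases (by decide : ∀ a : F4, a = 0 ∨ a = (1, 0) ∨ a = (0, 1) ∨ a = (1, 1)) x with rfl | rfl | rfl | rfl
    · rw [show (fun _ : Fin 6 => (0 : F4)) = 0 from rfl]; exact zero_mem _
    · exact h10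
    · exact h01
    · have e : (fun _ : Fin 6 => ((1, 1) : F4)) = (fun _ => (1, 0)) + fun _ => (0, 1) := funext fun _ => rfl
      rw [e]; exact add_mem h10 h01
  have mem_tw' : ∀ a : Q, gv a ∈ tw Q g ↔ ∃ c ∈ K.codes Wv, pr a = K.ψ c := by
    intro a
    rw [hmemtw]
    constructor
    · intro h
      obtain ⟨c, hc⟩ := K.ψ_bij.2 (pr a)
      exact ⟨c, by rw [K.mem_codes, hc]; exact h, hc.symm⟩
    · rintro ⟨c, hc, e⟩
      rw [e]; exact hc
  refine ⟨⟨s, hs, ncs, hstab, K, K.codes Wv, K.codes_inv hinv, by rw [K.card_codes, hWv], ?_, hWc, mem_tw',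
    fun a => ⟨fun ha => ?_, fun ⟨x, hx⟩ => ?_⟩, lift⟩⟩
  · intro c hc d hd
    obtain ⟨a, ha, ea⟩ := hc
    obtain ⟨b, hb, eb⟩ := hd
    rw [← K.b_ψ, ← ea, ← eb]
    show bf (pr a) (pr b) = 0
    rw [S.bf_pr, commutatorElement_eq_one_iff_mul_comm.2 (hAcomm a ha b hb)]
    exact if_pos rfl
  · obtain ⟨c, hc⟩ := K.ψ_bij.2 (pr a)
    obtain ⟨h12, h3⟩ := Subgroup.mem_inf.1 ha
    let P : Subgroup A6 := (S.rep.stab (pr a)).comap K.φ
    have hP : P = ⊤ := by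
      refine A6_gen P fun i j k l => ?_
      obtain ⟨di, hi, ei⟩ := lift i
      obtain ⟨dj, hj, ej⟩ := lift j
      obtain ⟨dk, hk, ek⟩ := lift k
      obtain ⟨dl, hl, el⟩ := lift l
      show S.rep.ρ (K.φ ⁅⁅i, j⁆, ⁅k, l⁆⁆) (pr a) = pr a
      have hy : QuotientGroup.mk' Q ⁅⁅di, dj⁆, ⁅dk, dl⁆⁆ = K.φ ⁅⁅i, j⁆, ⁅k, l⁆⁆ := by
        simp only [map_commutatorElement, QuotientGroup.mk'_apply, ei, ej, ek, el]
      rw [← hy, QuotientGroup.mk'_apply, S.rep_apply]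
      refine congrArg pr (gv_inj ?_)
      have hD : ∀ d : CC, (d : G) * gv s = gv s * d →
          (d : G) ∈ CC ⊓ Subgroup.centralizer ({g * z * g⁻¹} : Set G) := fun d hd => by
        rw [mem_pair_iff, ← hs]; exact ⟨Subgroup.mem_centralizer_singleton_iff.1 d.2, hd⟩
      have hcm := Subgroup.mem_centralizer_iff.1 h3
        ((⁅⁅di, dj⁆, ⁅dk, dl⁆⁆ : CC) : G) ⟨_, _, _, _, hD di hi, hD dj hj, hD dk hk, hD dl hl, rfl⟩
      rw [gv_cjQ, hcm, mul_inv_cancel_right]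
    refine ⟨c 0, ?_⟩
    rw [← hc]
    refine congrArg K.ψ (funext fun i => const_fixed4 (fun τ => ⟨0, fun j => ?_⟩) i)
    have hm : τ ∈ P := hP ▸ Subgroup.mem_top τ
    have e : S.rep.ρ (K.φ τ) (pr a) = pr a := hm
    rw [← hc, K.φ_ψ] at e
    rw [K.ψ_bij.1 e]
    exact add_self4 _
  · refine Subgroup.mem_inf.2 ⟨Subgroup.mem_inf.2 ⟨gv_mem a, (mem_tw' a).2 ⟨_, hWc x, hx⟩⟩, ?_⟩
    refine Subgroup.mem_centralizer_iff.2 ?_
    rintro _ ⟨i, j, k, l, hi, hj, hk, hl, rfl⟩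
    have hzc : ∀ w : CC, (w : G) * z = z * w := fun w => Subgroup.mem_centralizer_singleton_iff.1 w.2
    have key : ∀ p q : G, p ∈ CC ⊓ Subgroup.centralizer ({g * z * g⁻¹} : Set G) →
        q ∈ CC ⊓ Subgroup.centralizer ({g * z * g⁻¹} : Set G) →
        ⁅p, q⁆ * z = z * ⁅p, q⁆ ∧
          (⁅p, q⁆ * gv a * ⁅p, q⁆⁻¹ = gv a ∨ ⁅p, q⁆ * gv a * ⁅p, q⁆⁻¹ = gv a * z) := by
      intro p q hp hq
      obtain ⟨pz, ps⟩ := mem_pair_iff.1 hp
      obtain ⟨qz, qs⟩ := mem_pair_iff.1 hq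
      let p' : CC := ⟨p, (Subgroup.mem_inf.1 hp).1⟩
      let q' : CC := ⟨q, (Subgroup.mem_inf.1 hq).1⟩
      refine ⟨hzc ⁅p', q'⁆, ?_⟩
      have hst : ∀ w : CC, (w : G) * (g * z * g⁻¹) = g * z * g⁻¹ * w → S.rep.ρ (QuotientGroup.mk w) (pr s) = pr s :=
        fun w hw => hv_of ⟨w, Subgroup.mem_centralizer_singleton_iff.2
          (Subtype.ext (show (w : G) * gv s = gv s * w by rw [hs]; exact hw)), rfl⟩
      have hpq : ((⁅p', q'⁆ : CC) : G) * (g * z * g⁻¹) = g * z * g⁻¹ * (⁅p', q'⁆ : CC) := by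
        have cp : Commute p (g * z * g⁻¹) := ps
        have cq : Commute q (g * z * g⁻¹) := qs
        exact (((cp.mul_left cq).mul_left cp.inv_left).mul_left cq.inv_left).eq
      have hfix : pr (cjQ ⁅p', q'⁆ a) = pr a := by
        rw [← S.rep_apply, hx]
        refine fix_consts S K ?_ (hst _ hpq) x
        rw [← QuotientGroup.mk'_apply, map_commutatorElement]
        exact comm_t S K _ _
      rcases cases_center S hz (a := a⁻¹ * cjQ ⁅p', q'⁆ a) (by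
          rw [pr_mul, hfix, ← pr_mul, inv_mul_cancel, pr_one]) with e | e
      · left
        rw [gv_mul, gv_inv, gv_cjQ, inv_mul_eq_one] at e
        exact e.symm
      · right
        rw [gv_mul, gv_inv, gv_cjQ, inv_mul_eq_iff_eq_mul] at e
        exact e
    obtain ⟨P1, P2⟩ := key i j hi hj
    obtain ⟨R1, R2⟩ := key k l hk hl
    exact comm_fix hzz (Subgroup.mem_centralizer_singleton_iff.1 (a : CC).2) P1 R1 P2 R2

end CfsgLib.FischerTwoFour
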