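import Mathlib
import Cfsg.Agent.Lib.FischerTwoFour.PlaneLine

/-!
The normaliser of the plane through `z` and a conjugate of `z` in `Q`: an element exchanging the two
points, and the orders of the stabilisers of points.
-/

set_option autoImplicit false
set_option linter.unusedSectionVars false

namespace CfsgLib.FischerTwoFour

open scoped commutatorElement

variable {G : Type*} [Group G] {z : G}

set_option quotPrecheck false in
/-- The centraliser of `z`. -/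
local notation "CC" => Subgroup.centralizer ({z} : Set G)

variable {Q : Subgroup (Subgroup.centralizer ({z} : Set G))}

/-- An invariant set of conjugates on which a subgroup is transitive. -/
theorem card_orbit_conj [Finite G] (H : Subgroup G) (x : G) (X : Set G)
    (h1 : ∀ h ∈ H, h * x * h⁻¹ ∈ X) (h2 : ∀ y ∈ X, ∃ h ∈ H, h * x * h⁻¹ = y) :
    Nat.card H = X.ncard * Nat.card ↥(H ⊓ Subgroup.centralizer ({x} : Set G)) := by
  let act : MulAction H G := MulAction.compHom G ((MulAut.conj : G →* MulAut G).comp H.subtype)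
  have horb : MulAction.orbit H x = X := by
    ext y
    constructor
    · rintro ⟨h, rfl⟩; exact h1 h h.2
    · intro hy; obtain ⟨h, hh, e⟩ := h2 y hy; exact ⟨⟨h, hh⟩, e⟩
  have hst : Nat.card (MulAction.stabilizer H x) = Nat.card ↥(H ⊓ Subgroup.centralizer ({x} : Set G)) := by
    refine Nat.card_congr (Equiv.ofBijective (fun h => ⟨((h : H) : G), Subgroup.mem_inf.2
      ⟨(h : H).2, Subgroup.mem_centralizer_singleton_iff.2 (mul_inv_eq_iff_eq_mul.1 h.2)⟩⟩) ⟨fun a b e => ?_, fun h => ?_⟩)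
    · exact Subtype.ext (Subtype.ext (Subtype.mk.inj e))
    · obtain ⟨hH, hC⟩ := Subgroup.mem_inf.1 h.2
      exact ⟨⟨⟨h, hH⟩, mul_inv_eq_iff_eq_mul.2 (Subgroup.mem_centralizer_singleton_iff.1 hC)⟩, rfl⟩
  rw [← horb, ← hst, ← MulAction.index_stabilizer, mul_comm, Subgroup.card_mul_index]

theorem norm_of [Finite G] {V : Subgroup G} {n : G} (h : ∀ x ∈ V, n * x * n⁻¹ ∈ V) :
    n ∈ Subgroup.normalizer (V : Set G) := by
  rw [Subgroup.mem_normalizer_iff]
  intro x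
  refine ⟨fun hx => h x hx, fun hx => ?_⟩
  let f : V → V := fun x => ⟨n * x * n⁻¹, h x x.2⟩
  have hf : Function.Injective f := fun a b e =>
    Subtype.ext (mul_left_cancel (mul_right_cancel (Subtype.mk.inj e)))
  obtain ⟨y, hy⟩ := Finite.injective_iff_surjective.1 hf ⟨_, hx⟩
  have e : n * y * n⁻¹ = n * x * n⁻¹ := Subtype.mk.inj hy
  rw [← mul_left_cancel (mul_right_cancel e)]
  exact y.2

variable [Q.Normal] [Finite G] {S : Shape Q}

theorem card_preimage (S : Shape Q) (A : Subgroup Q) (U : AddSubgroup (VQ Q)) (h : ∀ a, a ∈ A ↔ pr a ∈ U) :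
    Nat.card A = 2 * Nat.card U := by
  let f : A →* Multiplicative (VQ Q) :=
    MonoidHom.mk' (fun a => Multiplicative.ofAdd (pr (a : Q))) fun a b => by
      rw [Subgroup.coe_mul, pr_mul]; rfl
  have hcenA : Subgroup.center Q ≤ A := fun a ha => (h a).2 (by rw [S.pr_eq_zero.2 ha]; exact zero_mem _)
  have hker : Nat.card f.ker = 2 := by
    have e : f.ker = (Subgroup.center Q).subgroupOf A := by
      ext a
      rw [MonoidHom.mem_ker, Subgroup.mem_subgroupOf]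
      exact ofAdd_eq_one.trans S.pr_eq_zero
    rw [e, Nat.card_congr (Subgroup.subgroupOfEquivOfLe hcenA).toEquiv]
    exact S.extra.2
  have hr : Nat.card f.range = Nat.card U := by
    refine Nat.card_congr ((Multiplicative.toAdd).subtypeEquiv fun w => ?_)
    constructor
    · rintro ⟨a, rfl⟩; exact (h a).1 a.2
    · intro hw
      obtain ⟨a, ha⟩ := pr_surj (Multiplicative.toAdd w)
      exact ⟨⟨a, (h a).2 (ha ▸ hw)⟩, congrArg Multiplicative.ofAdd ha⟩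
  have e := Subgroup.card_eq_card_quotient_mul_card_subgroup f.ker
  rw [Nat.card_congr (QuotientGroup.quotientKerEquivRange f).toEquiv, hker, hr] at e
  rw [e, mul_comm]

theorem card_comap_QQ {H : Subgroup G} (hH : H ≤ QQ Q) :
    Nat.card (H.comap ((Subgroup.centralizer ({z} : Set G)).subtype.comp Q.subtype)) = Nat.card H := by
  refine Nat.card_congr (Equiv.ofBijective (fun a => ⟨gv a.1, a.2⟩) ⟨fun a b h => ?_, fun x => ?_⟩)
  · exact Subtype.ext (gv_inj (Subtype.mk.inj h))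
  · obtain ⟨a, ha⟩ := mem_QQ.1 (hH x.2)
    exact ⟨⟨a, show gv a ∈ H by rw [ha]; exact x.2⟩, Subtype.ext ha⟩

theorem bit_zero_iff {a : Q} : bit a = 0 ↔ a = 1 := by
  classical
  rw [bit]
  split_ifs with h <;> simp [h]

namespace Line

variable {g : G} (P : Line S g)

include P

theorem QQ_ge : Pl Q g ≤ QQ Q := fun _ h => (Subgroup.mem_inf.1 (Subgroup.mem_inf.1 h).1).1

theorem tw_ge : Pl Q g ≤ tw Q g := fun _ h => (Subgroup.mem_inf.1 (Subgroup.mem_inf.1 h).1).2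

theorem Pl_le_CC : Pl Q g ≤ CC := fun _ h => QQ_le (P.QQ_ge h)

theorem z_mem : z ∈ Pl Q g := by
  have h : gv (⟨zC z, zC_mem S⟩ : Q) ∈ Pl Q g := (P.mem_Pl _).2 ⟨0, by
    rw [show (fun _ : Fin 6 => (0 : F4)) = 0 from rfl, map_zero]
    exact S.pr_eq_zero.2 (zQ_center S)⟩
  exact h

theorem s_mem : gv P.s ∈ Pl Q g := (P.mem_Pl _).2 ⟨(1, 0), P.K.ψ_one.symm⟩

theorem card_Pl : Nat.card (Pl Q g) = 8 := by
  let U : AddSubgroup (VQ Q) := (P.K.ψ.comp (AddMonoidHom.pi fun _ : Fin 6 => AddMonoidHom.id F4)).range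
  have hU : Nat.card U = 4 := by
    have hinj : Function.Injective (P.K.ψ.comp (AddMonoidHom.pi fun _ : Fin 6 => AddMonoidHom.id F4)) :=
      fun a b h => congrFun (P.K.ψ_bij.1 h) 0
    rw [← Nat.card_congr (AddMonoidHom.ofInjective hinj).toEquiv, Nat.card_eq_fintype_card]
    rfl
  rw [← card_comap_QQ P.QQ_ge, card_preimage S _ U fun a => ?_, hU]
  exact (P.mem_Pl a).trans ⟨fun ⟨x, hx⟩ => ⟨x, hx.symm⟩, fun ⟨x, hx⟩ => ⟨x, hx.symm⟩⟩

theorem Pl_comm {x y : G} (hz : orderOf z = 2) (hne : g * z * g⁻¹ ≠ z) (hx : x ∈ Pl Q g) (hy : y ∈ Pl Q g) :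
    x * y = y * x := by
  refine commutatorElement_eq_one_iff_mul_comm.1 ?_
  rcases QQ_comm S hz (P.QQ_ge hx) (P.QQ_ge hy) with h | h
  · exact h
  rcases tw_comm S hz (P.tw_ge hx) (P.tw_ge hy) with h' | h'
  · exact h'
  · exact absurd (h'.symm.trans h) hne

theorem Pl_sq (hz : orderOf z = 2) {x : G} (hx : x ∈ Pl Q g) : x * x = 1 := by
  obtain ⟨a, rfl⟩ := mem_QQ.1 (P.QQ_ge hx)
  obtain ⟨x, hx'⟩ := (P.mem_Pl a).1 hx
  have hq : qf (pr a) = 0 := by
    show S.rep.q (pr a) = 0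
    rw [hx', P.K.q_ψ]
    exact (by decide : ∀ x : F4, qc4 (fun _ => x) = 0) x
  rw [S.qf_pr, bit_zero_iff] at hq
  rw [← gv_mul, hq, gv_one]

theorem Pl_elem (hz : orderOf z = 2) (hne : g * z * g⁻¹ ≠ z) : Cfsg.IsElementaryAbelian 2 (Pl Q g) :=
  ⟨⟨⟨fun a b => Subtype.ext (P.Pl_comm hz hne a.2 b.2)⟩⟩, fun a ha => by rw [sq]; exact P.Pl_sq hz ha⟩

theorem D_norm {d : G} (hd : d ∈ CC) (hd' : d * (g * z * g⁻¹) = g * z * g⁻¹ * d) :
    d ∈ Subgroup.normalizer (Pl Q g : Set G) := by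
  refine norm_of fun x hx => ?_
  rw [← Pl_point (g := g) (g' := d * g) (by
    calc d * g * z * (d * g)⁻¹ = d * (g * z * g⁻¹) * d⁻¹ := by group
      _ = _ := by rw [hd']; group)]
  exact Pl_left hd hx

theorem scale (c : CC) (hc : (QuotientGroup.mk c : CC ⧸ Q) * P.K.t = P.K.t * QuotientGroup.mk c)
    (hconst : ∃ k : ℕ, (QuotientGroup.mk c : CC ⧸ Q) = P.K.t ^ k) :
    (c : G) ∈ Subgroup.normalizer (Pl Q g : Set G) := by
  refine norm_of fun x hx => ?_
  obtain ⟨a, rfl⟩ := mem_QQ.1 (P.QQ_ge hx)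
  obtain ⟨x, hx'⟩ := (P.mem_Pl a).1 hx
  rw [← gv_cjQ]
  obtain ⟨k, hk⟩ := hconst
  have : ∀ n : ℕ, ∃ y : F4, S.rep.ρ (P.K.t ^ n) (pr a) = P.K.ψ fun _ => y := by
    intro n
    induction n with
    | zero => exact ⟨x, by rw [pow_zero, S.rep.one_apply, hx']⟩
    | succ n ih =>
      obtain ⟨y, hy⟩ := ih
      exact ⟨om4 y, by rw [pow_succ', S.rep.mul_apply, hy, P.K.T_ψ]⟩
  obtain ⟨y, hy⟩ := this k
  refine (P.mem_Pl _).2 ⟨y, ?_⟩
  rw [← S.rep_apply, hk, hy]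

theorem points (hz : orderOf z = 2) {x : G} (hx : x ∈ Pl Q g) (hx1 : x ≠ 1) (hxz : x ≠ z) :
    ∃ c ∈ CC, c ∈ Subgroup.normalizer (Pl Q g : Set G) ∧ c * (g * z * g⁻¹) * c⁻¹ = x := by
  obtain ⟨a, rfl⟩ := mem_QQ.1 (P.QQ_ge hx)
  obtain ⟨y, hy⟩ := (P.mem_Pl a).1 hx
  have hna : a ∉ Subgroup.center Q := not_center S hz hx1 hxz
  have hy0 : y ≠ 0 := fun e => hna (S.pr_eq_zero.1 (by
    rw [hy, e, show (fun _ : Fin 6 => (0 : F4)) = 0 from rfl, map_zero]))
  obtain ⟨k, hk⟩ : ∃ k : ℕ, S.rep.ρ (P.K.t ^ k) (pr P.s) = pr a := by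
    rcases (by decide : ∀ a : F4, a = 0 ∨ a = (1, 0) ∨ a = (0, 1) ∨ a = (1, 1)) y with rfl | rfl | rfl | rfl
    · exact absurd rfl hy0
    · exact ⟨0, by rw [pow_zero, S.rep.one_apply, hy, P.K.ψ_one]⟩
    · exact ⟨1, by rw [pow_one, hy, P.K.ψ_tv]⟩
    · refine ⟨2, ?_⟩
      rw [sq, S.rep.mul_apply, ← P.K.ψ_tv, P.K.T_ψ, hy]
      rfl
  obtain ⟨c, hc⟩ := QuotientGroup.mk_surjective (P.K.t ^ k)
  have hct : ∀ c' : CC, QuotientGroup.mk c' = P.K.t ^ k →
      (QuotientGroup.mk c' : CC ⧸ Q) * P.K.t = P.K.t * QuotientGroup.mk c' := fun c' e => by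
    rw [e, ← pow_succ, ← pow_succ']
  have hpr : pr a = pr (cjQ c P.s) := by rw [← hk, ← hc, S.rep_apply]
  obtain ⟨y', hy'⟩ := S.exists_conj_of_pr (s := cjQ c P.s) (t := a) (fun e => hna (by
    rw [← S.pr_eq_zero, hpr, S.pr_eq_zero]; exact e)) hpr
  have hm : (QuotientGroup.mk ((y' : CC) * c) : CC ⧸ Q) = P.K.t ^ k := by
    rw [QuotientGroup.mk_mul, (QuotientGroup.eq_one_iff (y' : CC)).2 y'.2, one_mul, hc]
  refine ⟨_, ((y' : CC) * c).2, P.scale _ (hct _ hm) ⟨k, hm⟩, ?_⟩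
  have e := congrArg gv hy'
  rw [gv_mul, gv_mul, gv_inv, gv_cjQ] at e
  rw [← e, ← P.hs]
  show gv y' * (c : G) * gv P.s * (gv y' * (c : G))⁻¹ = _
  group

theorem exists_swap (hz : orderOf z = 2) (hne : g * z * g⁻¹ ≠ z) :
    ∃ n : G, n ∈ Subgroup.normalizer (Pl Q g : Set G) ∧ n * z * n⁻¹ = g * z * g⁻¹ ∧
      n * (g * z * g⁻¹) * n⁻¹ = z ∧ (∀ x, x ∈ tw Q g ↔ n⁻¹ * x * n ∈ QQ Q) ∧
      ∀ x, x ∈ QQ Q ↔ n⁻¹ * x * n ∈ tw Q g := by
  obtain ⟨b, hb⟩ : ∃ b : Q, gv b = g⁻¹ * z * g := mem_QQ.1 (mem_tw.1 (P.tw_ge P.z_mem))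
  have hbz : gv b ≠ z := fun e => hne (by
    rw [hb] at e
    calc g * z * g⁻¹ = g * (g⁻¹ * z * g) * g⁻¹ := by rw [e]
      _ = z := by group)
  have hzz : z * z = 1 := by rw [← sq, ← hz]; exact pow_orderOf_eq_one z
  have hb1 : gv b ≠ 1 := fun e => by
    rw [hb] at e
    have : z = 1 := by
      calc z = g * (g⁻¹ * z * g) * g⁻¹ := by group
        _ = 1 := by rw [e]; group
    rw [this, orderOf_one] at hz
    omega
  have hb2 : b * b = 1 := gv_inj (by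
    rw [gv_mul, gv_one, hb]
    calc g⁻¹ * z * g * (g⁻¹ * z * g) = g⁻¹ * (z * z) * g := by group
      _ = 1 := by rw [hzz]; group)
  have hbs : Nat.card (stabImage b) = 11520 :=
    (local_structure S hz (g := g⁻¹) b (by rw [inv_inv]; exact hb.symm) hbz _ rfl _ rfl).1
  have hs2 : P.s * P.s = 1 := gv_inj (by rw [gv_mul, gv_one]; exact P.Pl_sq hz P.s_mem)
  obtain ⟨c, hc⟩ := S.conj_of_card hs2 P.ncs hb2 (not_center S hz hb1 hbz) (P.hstab.trans hbs.symm)
  have hcG : (c : G) * (g * z * g⁻¹) * (c : G)⁻¹ = g⁻¹ * z * g := by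
    rw [← P.hs, ← hb]; exact congrArg Subtype.val hc
  set n := g * (c : G) with hn
  have n1 : n * z * n⁻¹ = g * z * g⁻¹ := point_right c.2
  have n2 : n * (g * z * g⁻¹) * n⁻¹ = z := by
    calc n * (g * z * g⁻¹) * n⁻¹ = g * ((c : G) * (g * z * g⁻¹) * (c : G)⁻¹) * g⁻¹ := by rw [hn]; group
      _ = z := by rw [hcG]; group
  have t1 : ∀ x, x ∈ tw Q g ↔ n⁻¹ * x * n ∈ QQ Q := fun x => by
    rw [← tw_right (g := g) c.2]; exact mem_tw
  refine ⟨n, norm_of fun x hx => ?_, n1, n2, t1, fun x => ?_⟩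
  · rw [show n * x * n⁻¹ = g * ((c : G) * x * (c : G)⁻¹) * g⁻¹ by rw [hn]; group]
    refine Pl_swap ?_
    rw [← Pl_point (g := g⁻¹) (g' := (c : G) * g) (by
      calc (c : G) * g * z * ((c : G) * g)⁻¹ = (c : G) * (g * z * g⁻¹) * (c : G)⁻¹ := by group
        _ = _ := by rw [hcG, inv_inv])]
    exact Pl_left c.2 hx
  · have hnn : n * n ∈ CC := Subgroup.mem_centralizer_singleton_iff.2 (by
      calc n * n * z = n * (n * z * n⁻¹) * n⁻¹ * (n * n) := by group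
        _ = z * (n * n) := by rw [n1, n2])
    rw [t1, show n⁻¹ * (n⁻¹ * x * n) * n = (n * n)⁻¹ * x * (n * n) by group, QQ_conj hnn]

theorem exists_move (hz : orderOf z = 2) {u : G} (hu : u ∈ Pl Q g) (u1 : u ≠ 1) (uz : u ≠ z)
    (us : u ≠ g * z * g⁻¹) (uzs : u ≠ g * z * g⁻¹ * z) :
    ∃ y ∈ CC, y * (g * z * g⁻¹) = g * z * g⁻¹ * y ∧ y * u * y⁻¹ = u * z := by
  obtain ⟨a, rfl⟩ := mem_QQ.1 (P.QQ_ge hu)
  have hna : a ∉ Subgroup.center Q := not_center S hz u1 uz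
  have hsq : gv P.s * gv P.s = 1 := P.Pl_sq hz P.s_mem
  suffices ∃ y : Q, ⁅y, P.s⁆ = 1 ∧ ⁅y, a⁆ ≠ 1 by
    obtain ⟨y, y1, y2⟩ := this
    refine ⟨gv y, (y : CC).2, ?_, ?_⟩
    · rw [← P.hs, ← gv_mul, ← gv_mul, commutatorElement_eq_one_iff_mul_comm.1 y1]
    · have e : gv ⁅y, a⁆ = z :=
        (center_cases S hz (S.comm_mem y a)).resolve_left fun h => y2 (gv_inj h)
      have e2 : gv y * gv a * (gv y)⁻¹ = gv ⁅y, a⁆ * gv a := by
        rw [commutatorElement_def, gv_mul, gv_mul, gv_mul, gv_inv, gv_inv]; group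
      rw [e2, e]
      exact (Subgroup.mem_centralizer_singleton_iff.1 (a : CC).2).symm
  by_contra hno
  push Not at hno
  obtain ⟨w, hw⟩ := S.exists_not_comm P.ncs
  have hw1 : bit ⁅w, P.s⁆ = 1 := by
    rcases (by decide : ∀ k : ZMod 2, k = 0 ∨ k = 1) (bit ⁅w, P.s⁆) with h | h
    · exact absurd (bit_zero_iff.1 h) hw
    · exact h
  have hlin : ∀ y : Q, bit ⁅y, a⁆ = bit ⁅y, P.s⁆ * bit ⁅w, a⁆ := by
    intro y
    rcases (by decide : ∀ k : ZMod 2, k = 0 ∨ k = 1) (bit ⁅y, P.s⁆) with h | h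
    · rw [h, zero_mul, bit_zero_iff, hno y (bit_zero_iff.1 h)]
    · have h' : bit ⁅y * w, P.s⁆ = 0 := by rw [S.bit_comm_mul, h, hw1]; rfl
      have h2 := bit_zero_iff.2 (hno _ (bit_zero_iff.1 h'))
      rw [S.bit_comm_mul] at h2
      rw [h, one_mul]
      exact (by decide : ∀ p q : ZMod 2, p + q = 0 → p = q) _ _ h2
  rcases (by decide : ∀ k : ZMod 2, k = 0 ∨ k = 1) (bit ⁅w, a⁆) with h | h
  · exact hna (Subgroup.mem_center_iff.2 fun y =>
      commutatorElement_eq_one_iff_mul_comm.1 (bit_zero_iff.1 (by rw [hlin, h, mul_zero])))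
  · have hcen : P.s * a ∈ Subgroup.center Q := Subgroup.mem_center_iff.2 fun y => by
      refine commutatorElement_eq_one_iff_mul_comm.1 (bit_zero_iff.1 ?_)
      rw [← S.comm_swap y (P.s * a), S.bit_comm_mul, S.comm_swap y, S.comm_swap y, hlin, h, mul_one]
      exact (by decide : ∀ p : ZMod 2, p + p = 0) _
    rcases center_cases S hz hcen with e | e
    · change gv P.s * gv a = 1 at e
      exact us (by rw [← P.hs, ← inv_eq_of_mul_eq_one_right e, inv_eq_of_mul_eq_one_right hsq])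
    · change gv P.s * gv a = z at e
      refine uzs ?_
      calc gv a = gv P.s * (gv P.s * gv a) := by rw [← mul_assoc, hsq, one_mul]
        _ = g * z * g⁻¹ * z := congrArg₂ (· * ·) P.hs e

theorem card_D :
    Nat.card ↥(CC ⊓ Subgroup.centralizer ({g * z * g⁻¹} : Set G)) = 11520 * 4096 := by
  let f : ↥(CC ⊓ Subgroup.centralizer ({g * z * g⁻¹} : Set G)) →* CC ⧸ Q :=
    (QuotientGroup.mk' Q).comp (Subgroup.inclusion inf_le_left)
  have hrange : f.range = stabImage P.s := by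
    ext h
    constructor
    · rintro ⟨d, rfl⟩
      refine ⟨Subgroup.inclusion inf_le_left d, Subgroup.mem_centralizer_singleton_iff.2 (Subtype.ext ?_), rfl⟩
      show (d : G) * gv P.s = gv P.s * d
      rw [P.hs]; exact (mem_pair_iff.1 d.2).2
    · rintro ⟨c, hc, rfl⟩
      refine ⟨⟨c, mem_pair_iff.2 ⟨Subgroup.mem_centralizer_singleton_iff.1 c.2, ?_⟩⟩, rfl⟩
      rw [← P.hs]; exact congrArg Subtype.val (Subgroup.mem_centralizer_singleton_iff.1 hc)
  have hker : Nat.card f.ker = 4096 := by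
    rw [← S.card_centralizer P.ncs]
    refine Nat.card_congr (Equiv.ofBijective (fun d => ⟨⟨⟨((d : f.ker).1 : G), (Subgroup.mem_inf.1 d.1.2).1⟩,
      (QuotientGroup.eq_one_iff _).1 d.2⟩, Subgroup.mem_centralizer_singleton_iff.2 (gv_inj (by
        rw [gv_mul, gv_mul, P.hs]; exact (mem_pair_iff.1 d.1.2).2))⟩) ⟨fun a b e => ?_, fun a => ?_⟩)
    · exact Subtype.ext (Subtype.ext (congrArg gv (Subtype.mk.inj e)))
    · refine ⟨⟨⟨gv a.1, mem_pair_iff.2 ⟨Subgroup.mem_centralizer_singleton_iff.1 (a.1 : CC).2, ?_⟩⟩,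
        (QuotientGroup.eq_one_iff _).2 a.1.2⟩, rfl⟩
      rw [← P.hs, ← gv_mul, ← gv_mul, Subgroup.mem_centralizer_singleton_iff.1 a.2]
  have h := Subgroup.card_eq_card_quotient_mul_card_subgroup f.ker
  rw [Nat.card_congr (QuotientGroup.quotientKerEquivRange f).toEquiv, hrange, P.hstab, hker] at h
  exact h

end Line

end CfsgLib.FischerTwoFour
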