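import Mathlib
import Cfsg.Agent.Lib.FischerTwoFour.PlaneNorm

/-!
The normaliser of the plane has order `168 · 360 · 2^15`; the radical of the centraliser of the plane
is special with the plane as centre.
-/

set_option autoImplicit false
set_option linter.unusedSectionVars false

namespace CfsgLib.FischerTwoFour

open scoped commutatorElement

variable {G : Type*} [Group G] {z : G}

set_option quotPrecheck false in
/-- The centraliser of `z`. -/
local notation "CC" => Subgroup.centralizer ({z} : Set G)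

variable {Q : Subgroup (Subgroup.centralizer ({z} : Set G))}

/-- The subgroup `{1, z, s, sz}`. -/
def fourGroup (z s : G) (hz : z * z = 1) (hs : s * s = 1) (hc : z * s = s * z) : Subgroup G where
  carrier := {x | x = 1 ∨ x = z ∨ x = s ∨ x = s * z}
  one_mem' := Or.inl rfl
  inv_mem' {x} hx := by
    have e1 := inv_eq_of_mul_eq_one_right hz
    have e2 := inv_eq_of_mul_eq_one_right hs
    rcases hx with rfl | rfl | rfl | rfl
    · left; exact inv_one
    · right; left; exact e1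
    · right; right; left; exact e2
    · right; right; right; rw [mul_inv_rev, e1, e2, hc]
  mul_mem' {x y} hx hy := by
    have h1 : z * (s * z) = s := by rw [← mul_assoc, hc, mul_assoc, hz, mul_one]
    have h2 : s * (s * z) = z := by rw [← mul_assoc, hs, one_mul]
    have h3 : s * z * s = z := by rw [mul_assoc, hc, h2]
    have h4 : s * z * z = s := by rw [mul_assoc, hz, mul_one]
    have h5 : s * z * (s * z) = 1 := by rw [← mul_assoc, h3, hz]
    rcases hx with rfl | rfl | rfl | rfl <;> rcases hy with rfl | rfl | rfl | rfl <;>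
      simp only [Set.mem_ofPred_eq, one_mul, mul_one, hz, hs, hc, h1, h2, h3, h4, h5, true_or, or_true]

/-- Orders of the join and the meet when one factor normalises the other. -/
theorem card_join_meet [Finite G] (A B : Subgroup G) (h : A ≤ Subgroup.normalizer (B : Set G)) :
    Nat.card ↥(A ⊔ B) * Nat.card ↥(A ⊓ B) = Nat.card A * Nat.card B := by
  set N := A ⊔ B with hN
  haveI hn : (B.subgroupOf N).Normal :=
    Subgroup.normal_subgroupOf_of_le_normalizer (sup_le h Subgroup.le_normalizer)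
  have h1 : B.relIndex N = B.relIndex A := by
    rw [← Subgroup.relIndex_subgroupOf (le_refl N), ← Subgroup.relIndex_subgroupOf (H := B) (le_sup_left : A ≤ N),
      Subgroup.subgroupOf_sup (le_sup_left : A ≤ N) le_sup_right, Subgroup.relIndex_sup_right]
  have h2 := Subgroup.card_mul_index (B.subgroupOf N)
  have h3 := Subgroup.card_mul_index (B.subgroupOf A)
  rw [Nat.card_congr (Subgroup.subgroupOfEquivOfLe (le_sup_right : B ≤ N)).toEquiv] at h2
  rw [← Subgroup.inf_subgroupOf_right, Nat.card_congr (Subgroup.subgroupOfEquivOfLe (inf_le_right : B ⊓ A ≤ A)).toEquiv,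
    Subgroup.inf_subgroupOf_right, inf_comm] at h3
  rw [← h2, ← h3, show (B.subgroupOf N).index = B.relIndex N from rfl,
    show (B.subgroupOf A).index = B.relIndex A from rfl, h1]
  ring

/-- Commutators and squares of a group generated by involutions commuting modulo a central subgroup. -/
theorem closure_special {V : Subgroup G} {T : Set G}
    (hcen : ∀ x ∈ T, ∀ v ∈ V, x * v = v * x) (hV : ∀ v ∈ V, v * v = 1)
    (hT : ∀ x ∈ T, ∀ y ∈ T, ⁅x, y⁆ ∈ V) :
    (∀ x ∈ Subgroup.closure T, ∀ y ∈ Subgroup.closure T, ⁅x, y⁆ ∈ V) ∧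
      ((∀ x ∈ T, x * x ∈ V) → ∀ x ∈ Subgroup.closure T, x * x ∈ V) := by
  have hcen' : ∀ x ∈ Subgroup.closure T, ∀ v ∈ V, x * v = v * x := fun x hx v hv => by
    have : Subgroup.closure T ≤ Subgroup.centralizer ({v} : Set G) := (Subgroup.closure_le _).2 fun y hy =>
      Subgroup.mem_centralizer_singleton_iff.2 (hcen y hy v hv)
    exact Subgroup.mem_centralizer_singleton_iff.1 (this hx)
  have left : ∀ r : G, r ∈ Subgroup.closure T → (∀ t ∈ T, ⁅t, r⁆ ∈ V) →
      ∀ x ∈ Subgroup.closure T, ⁅x, r⁆ ∈ V := by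
    intro r hr ht x hx
    suffices x ∈ Subgroup.closure T ∧ ⁅x, r⁆ ∈ V from this.2
    induction hx using Subgroup.closure_induction with
    | mem y hy => exact ⟨Subgroup.subset_closure hy, ht y hy⟩
    | one => exact ⟨one_mem _, by rw [commutatorElement_one_left]; exact one_mem _⟩
    | mul a b _ _ ha hb =>
      refine ⟨mul_mem ha.1 hb.1, ?_⟩
      have e : ⁅a * b, r⁆ = a * ⁅b, r⁆ * a⁻¹ * ⁅a, r⁆ := by simp only [commutatorElement_def]; group
      rw [e, hcen' a ha.1 _ hb.2, mul_inv_cancel_right]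
      exact mul_mem hb.2 ha.2
    | inv a _ ha =>
      refine ⟨inv_mem ha.1, ?_⟩
      have e : ⁅a⁻¹, r⁆ = a⁻¹ * ⁅a, r⁆⁻¹ * a := by simp only [commutatorElement_def]; group
      rw [e, hcen' _ (inv_mem ha.1) _ (inv_mem ha.2), mul_assoc, inv_mul_cancel, mul_one]
      exact inv_mem ha.2
  have hall : ∀ x ∈ Subgroup.closure T, ∀ y ∈ Subgroup.closure T, ⁅x, y⁆ ∈ V := fun x hx y hy =>
    left y hy (fun t ht => by
      rw [← commutatorElement_inv y t]
      exact inv_mem (left t (Subgroup.subset_closure ht) (fun t' ht' => hT t' ht' t ht) y hy)) x hx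
  refine ⟨hall, fun hsq x hx => ?_⟩
  suffices x ∈ Subgroup.closure T ∧ x * x ∈ V from this.2
  induction hx using Subgroup.closure_induction with
  | mem y hy => exact ⟨Subgroup.subset_closure hy, hsq y hy⟩
  | one => exact ⟨one_mem _, by rw [mul_one]; exact one_mem _⟩
  | mul a b _ _ ha hb =>
    refine ⟨mul_mem ha.1 hb.1, ?_⟩
    have e : a * b * (a * b) = ⁅a, b⁆ * (b * (a * a)) * b := by simp only [commutatorElement_def]; group
    rw [e, hcen' b hb.1 _ ha.2, mul_assoc, mul_assoc]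
    exact mul_mem (hall a ha.1 b hb.1) (mul_mem ha.2 hb.2)
  | inv a _ ha =>
    refine ⟨inv_mem ha.1, ?_⟩
    rw [← mul_inv_rev]
    exact inv_mem ha.2

variable [Q.Normal] [Finite G] {S : Shape Q} {g : G}

namespace Line

variable (P : Line S g) (hz : orderOf z = 2) (hne : g * z * g⁻¹ ≠ z)

include P hz hne

theorem basic : z * z = 1 ∧ z ≠ 1 ∧ g * z * g⁻¹ * (g * z * g⁻¹) = 1 ∧ g * z * g⁻¹ ≠ 1 ∧
    z * (g * z * g⁻¹) = g * z * g⁻¹ * z ∧ g * z * g⁻¹ ∈ Pl Q g := by
  have hz1 : z ≠ 1 := fun e => by rw [e, orderOf_one] at hz; omega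
  refine ⟨by rw [← sq, ← hz]; exact pow_orderOf_eq_one z, hz1, ?_, fun e => hz1 (conj_eq_one_iff.1 e), ?_, ?_⟩
  · rw [← P.hs]; exact P.Pl_sq hz P.s_mem
  · rw [← P.hs]; exact P.Pl_comm hz hne P.z_mem P.s_mem
  · rw [← P.hs]; exact P.s_mem

theorem four_le : ∃ F : Subgroup G, F ≤ Pl Q g ∧ Nat.card F = 4 ∧
    ∀ x, x ∈ F ↔ x = 1 ∨ x = z ∨ x = g * z * g⁻¹ ∨ x = g * z * g⁻¹ * z := by
  obtain ⟨hzz, hz1, hss, hs1, hc, hs⟩ := P.basic hz hne
  refine ⟨fourGroup z (g * z * g⁻¹) hzz hss hc, ?_, ?_, fun x => Iff.rfl⟩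
  · rintro x (rfl | rfl | rfl | rfl)
    exacts [one_mem _, P.z_mem, hs, mul_mem hs P.z_mem]
  · have e : ((fourGroup z (g * z * g⁻¹) hzz hss hc : Subgroup G) : Set G) =
        {1, z, g * z * g⁻¹, g * z * g⁻¹ * z} := by
      ext x; simp only [SetLike.mem_coe, Set.mem_insert_iff, Set.mem_singleton_iff]; rfl
    rw [← SetLike.coe_sort_coe, Nat.card_coe_set_eq, e, Set.ncard_insert_of_notMem ?_ (Set.toFinite _),
      Set.ncard_insert_of_notMem ?_ (Set.toFinite _), Set.ncard_insert_of_notMem ?_ (Set.toFinite _),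
      Set.ncard_singleton]
    · rw [Set.mem_singleton_iff]; exact fun e => hz1 (mul_eq_left.1 e.symm)
    · simp only [Set.mem_insert_iff, Set.mem_singleton_iff, not_or]
      exact ⟨hne.symm, fun e => hs1 (mul_eq_right.1 e.symm)⟩
    · simp only [Set.mem_insert_iff, Set.mem_singleton_iff, not_or]
      exact ⟨hz1.symm, hs1.symm, fun e => hne (by
        rw [eq_inv_of_mul_eq_one_left e.symm, inv_eq_of_mul_eq_one_right hzz])⟩

/-- A third generator. -/
theorem exists_third : ∃ u ∈ Pl Q g, (u ≠ 1 ∧ u ≠ z ∧ u ≠ g * z * g⁻¹ ∧ u ≠ g * z * g⁻¹ * z) ∧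
    ∀ H : Subgroup G, z ∈ H → g * z * g⁻¹ ∈ H → u ∈ H → Pl Q g ≤ H := by
  obtain ⟨F, hF, hF4, hmem⟩ := P.four_le hz hne
  obtain ⟨u, hu, huF⟩ : ∃ u ∈ Pl Q g, u ∉ F := by
    by_contra hno
    push Not at hno
    have := Subgroup.card_dvd_of_le (show Pl Q g ≤ F from hno)
    rw [P.card_Pl, hF4] at this
    norm_num at this
  refine ⟨u, hu, ?_, fun H h1 h2 h3 => ?_⟩
  · rw [hmem] at huF
    push Not at huF
    exact huF
  · have hle : F ≤ H ⊓ Pl Q g := fun x hx => by
      refine Subgroup.mem_inf.2 ⟨?_, hF hx⟩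
      rcases (hmem x).1 hx with rfl | rfl | rfl | rfl
      exacts [one_mem _, h1, h2, mul_mem h2 h1]
    have hd1 := Subgroup.card_dvd_of_le (inf_le_right : H ⊓ Pl Q g ≤ Pl Q g)
    rw [P.card_Pl] at hd1
    have hgt : 4 < Nat.card ↥(H ⊓ Pl Q g) := by
      refine lt_of_le_of_ne (hF4 ▸ Subgroup.card_le_of_le hle) fun e => huF ?_
      rw [Subgroup.eq_of_le_of_card_ge hle (by rw [hF4, ← e])]
      exact Subgroup.mem_inf.2 ⟨h3, hu⟩
    have h8 : Nat.card ↥(H ⊓ Pl Q g) = 8 := by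
      have hle8 := Nat.le_of_dvd (by norm_num) hd1
      revert hd1
      interval_cases Nat.card ↥(H ⊓ Pl Q g) <;> norm_num
    exact (Subgroup.eq_of_le_of_card_ge (inf_le_right : H ⊓ Pl Q g ≤ Pl Q g) (by rw [h8, P.card_Pl])).ge.trans
      inf_le_left

theorem R0_le : QQ Q ⊓ tw Q g ≤ Subgroup.centralizer (Pl Q g : Set G) := by
  intro x hx
  obtain ⟨h1, h2⟩ := Subgroup.mem_inf.1 hx
  refine Subgroup.mem_centralizer_iff.2 fun y hy => commutatorElement_eq_one_iff_mul_comm.1 ?_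
  rcases QQ_comm S hz (P.QQ_ge hy) h1 with h | h
  · exact h
  rcases tw_comm S hz (P.tw_ge hy) h2 with h' | h'
  · exact h'
  · exact absurd (h'.symm.trans h) hne

theorem cen_pair {k : G} (hk : k ∈ Subgroup.centralizer (Pl Q g : Set G)) :
    k ∈ CC ⊓ Subgroup.centralizer ({g * z * g⁻¹} : Set G) :=
  mem_pair_iff.2 ⟨(Subgroup.mem_centralizer_iff.1 hk z P.z_mem).symm,
    (Subgroup.mem_centralizer_iff.1 hk _ (P.basic hz hne).2.2.2.2.2).symm⟩

theorem cen_normal {l k : G} (hl : l ∈ Subgroup.normalizer (Pl Q g : Set G))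
    (hk : k ∈ Subgroup.centralizer (Pl Q g : Set G)) : l * k * l⁻¹ ∈ Subgroup.centralizer (Pl Q g : Set G) :=
  conj_mem_centralizer (fun y hy => by
    have := (Subgroup.mem_normalizer_iff.1 (inv_mem hl) y).1 hy
    rwa [inv_inv] at this) hk

/-- The orders of the normaliser and the centraliser. -/
theorem card_norm :
    Nat.card ↥(Subgroup.normalizer (Pl Q g : Set G)) =
      168 * Nat.card ↥(Subgroup.centralizer (Pl Q g : Set G)) ∧
    Nat.card ↥(Subgroup.centralizer (Pl Q g : Set G)) = 2 ^ 15 * 360 := by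
  obtain ⟨hzz, hz1, hss, hs1, hc, hs⟩ := P.basic hz hne
  obtain ⟨n, hn, n1, n2, t1, t2⟩ := P.exists_swap hz hne
  obtain ⟨F, hF, hF4, hmem⟩ := P.four_le hz hne
  obtain ⟨u, hu, ⟨u1, uz, us, uzs⟩, hgen⟩ := P.exists_third hz hne
  set V := Pl Q g with hV
  set L := Subgroup.normalizer (V : Set G) with hL
  set s := g * z * g⁻¹ with hsdef
  set D := CC ⊓ Subgroup.centralizer ({s} : Set G) with hD
  have hcl : ∀ h ∈ L, ∀ x ∈ V, h * x * h⁻¹ ∈ V := fun h hh x hx => (Subgroup.mem_normalizer_iff.1 hh x).1 hx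
  have inj : ∀ {h x y : G}, h * x * h⁻¹ = h * y * h⁻¹ → x = y := fun e => mul_left_cancel (mul_right_cancel e)
  -- the orbit of `z`
  have e1 := card_orbit_conj L z ((V : Set G) \ {1}) (fun h hh => ⟨hcl h hh z P.z_mem, fun e =>
    hz1 (inj (h := h) (by rw [Set.mem_singleton_iff] at e; rw [e]; group))⟩) (fun y hy => by
      by_cases hyz : y = z
      · exact ⟨1, one_mem _, by rw [hyz]; group⟩
      obtain ⟨c, -, hcL, hce⟩ := P.points hz hy.1 (by simpa using hy.2) hyz
      exact ⟨c * n, mul_mem hcL hn, (show c * n * z * (c * n)⁻¹ = c * (n * z * n⁻¹) * c⁻¹ by group).trans (by rw [n1]; exact hce)⟩)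
  have e2 := card_orbit_conj (L ⊓ CC) s ((V : Set G) \ {1, z}) (fun h hh => by
    obtain ⟨hL', hC⟩ := Subgroup.mem_inf.1 hh
    refine ⟨hcl h hL' s hs, fun e => ?_⟩
    rcases e with e | e
    · exact hs1 (conj_eq_one_iff.1 e)
    · rw [Set.mem_singleton_iff] at e
      exact hne (inj (e.trans (conj_z hC).symm))) (fun y hy => by
      obtain ⟨c, hcC, hcL, hce⟩ := P.points hz hy.1 (fun e => hy.2 (Or.inl e)) (fun e => hy.2 (Or.inr e))
      exact ⟨c, Subgroup.mem_inf.2 ⟨hcL, hcC⟩, hce⟩)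
  have hDL : D ≤ L := fun d hd => P.D_norm (Subgroup.mem_inf.1 hd).1 (mem_pair_iff.1 hd).2
  have hst2 : L ⊓ CC ⊓ Subgroup.centralizer ({s} : Set G) = D := by
    rw [inf_assoc]; exact inf_eq_right.2 hDL
  -- the four points over the line
  obtain ⟨y₁, hy₁C, hy₁s, hy₁⟩ := P.exists_move hz hu u1 uz us uzs
  have hu'V : n⁻¹ * u * n ∈ V := by
    have := hcl n⁻¹ (inv_mem hn) u hu
    rwa [inv_inv] at this
  have back : ∀ x, n⁻¹ * u * n = x → u = n * x * n⁻¹ := fun x e => by rw [← e]; group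
  obtain ⟨y₂, hy₂C, hy₂s, hy₂⟩ := P.exists_move hz hu'V
    (fun e => u1 (by rw [back _ e]; group))
    (fun e => us ((back _ e).trans n1))
    (fun e => uz ((back _ e).trans n2))
    (fun e => uzs (by
      rw [back _ e, show n * (s * z) * n⁻¹ = n * s * n⁻¹ * (n * z * n⁻¹) by group, n1, n2, hc]))
  have hy₁D : y₁ ∈ D := mem_pair_iff.2 ⟨Subgroup.mem_centralizer_singleton_iff.1 hy₁C, hy₁s⟩
  have hnD : n * y₂ * n⁻¹ ∈ D := by
    have a1 := conj_commute (k := n) hy₂s
    have a2 := conj_commute (k := n) (Subgroup.mem_centralizer_singleton_iff.1 hy₂C)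
    rw [n2] at a1
    rw [n1] at a2
    exact mem_pair_iff.2 ⟨a1, a2⟩
  have m2 : n * y₂ * n⁻¹ * u * (n * y₂ * n⁻¹)⁻¹ = u * s := by
    calc n * y₂ * n⁻¹ * u * (n * y₂ * n⁻¹)⁻¹ = n * (y₂ * (n⁻¹ * u * n) * y₂⁻¹) * n⁻¹ := by group
      _ = u * (n * z * n⁻¹) := by rw [hy₂]; group
      _ = u * s := by rw [n1]
  have e3 := card_orbit_conj D u ((V : Set G) \ (F : Set G)) (fun h hh => by
    refine ⟨hcl h (hDL hh) u hu, fun e => ?_⟩
    have hfix : ∀ x ∈ F, h * x * h⁻¹ = x := fun x hx => by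
      obtain ⟨a1, a2⟩ := mem_pair_iff.1 hh
      have cz : Commute h z := a1
      have cs : Commute h s := a2
      rcases (hmem x).1 hx with rfl | rfl | rfl | rfl
      · group
      · rw [cz.eq]; group
      · rw [cs.eq]; group
      · rw [(cs.mul_right cz).eq]; group
    have : h * u * h⁻¹ = h * (h * u * h⁻¹) * h⁻¹ := (hfix _ e).symm
    have hu' : u ∈ F := by rw [inj this]; exact e
    rcases (hmem u).1 hu' with e | e | e | e <;> contradiction) (fun y hy => by
      have hy₁₂ : n * y₂ * n⁻¹ * y₁ ∈ D := mul_mem hnD hy₁D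
      have m3 : n * y₂ * n⁻¹ * y₁ * u * (n * y₂ * n⁻¹ * y₁)⁻¹ = u * (s * z) := by
        calc n * y₂ * n⁻¹ * y₁ * u * (n * y₂ * n⁻¹ * y₁)⁻¹
            = n * y₂ * n⁻¹ * (y₁ * u * y₁⁻¹) * (n * y₂ * n⁻¹)⁻¹ := by group
          _ = n * y₂ * n⁻¹ * u * (n * y₂ * n⁻¹)⁻¹ * (n * y₂ * n⁻¹ * z * (n * y₂ * n⁻¹)⁻¹) := by rw [hy₁]; group
          _ = u * (s * z) := by rw [m2, conj_z (Subgroup.mem_inf.1 hnD).1, mul_assoc]
      have hcov : ((fun t => u * t) '' (F : Set G)) = (V : Set G) \ (F : Set G) := by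
        refine Set.eq_of_subset_of_ncard_le ?_ ?_
        · rintro _ ⟨t, ht, rfl⟩
          refine ⟨mul_mem hu (hF ht), fun e => ?_⟩
          have : u ∈ F := by
            have := mul_mem e (inv_mem ht)
            rwa [mul_inv_cancel_right] at this
          rcases (hmem u).1 this with e | e | e | e <;> contradiction
        · rw [Set.ncard_image_of_injective _ (mul_right_injective u), Set.ncard_sdiff (SetLike.coe_subset_coe.2 hF)]
          rw [← Nat.card_coe_set_eq, ← Nat.card_coe_set_eq]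
          show Nat.card V - Nat.card F ≤ Nat.card F
          rw [P.card_Pl, hF4]
      rw [← hcov] at hy
      obtain ⟨t, ht, rfl⟩ := hy
      rcases (hmem t).1 ht with rfl | rfl | rfl | rfl
      · exact ⟨1, one_mem _, by group⟩
      · exact ⟨y₁, hy₁D, hy₁⟩
      · exact ⟨_, hnD, m2⟩
      · exact ⟨_, hy₁₂, m3⟩)
  have hst3 : D ⊓ Subgroup.centralizer ({u} : Set G) = Subgroup.centralizer (V : Set G) := by
    refine le_antisymm (fun d hd => Subgroup.mem_centralizer_iff.2 fun x hx => ?_) (fun k hk => ?_)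
    · obtain ⟨h1, h2⟩ := Subgroup.mem_inf.1 hd
      obtain ⟨a1, a2⟩ := mem_pair_iff.1 h1
      refine (Subgroup.mem_centralizer_singleton_iff.1 (hgen (Subgroup.centralizer ({d} : Set G)) ?_ ?_ ?_ hx))
      · exact Subgroup.mem_centralizer_singleton_iff.2 a1.symm
      · exact Subgroup.mem_centralizer_singleton_iff.2 a2.symm
      · exact Subgroup.mem_centralizer_singleton_iff.2 (Subgroup.mem_centralizer_singleton_iff.1 h2).symm
    · exact Subgroup.mem_inf.2 ⟨P.cen_pair hz hne hk,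
        Subgroup.mem_centralizer_singleton_iff.2 (Subgroup.mem_centralizer_iff.1 hk u hu).symm⟩
  have c8 : (V : Set G).ncard = 8 := by rw [← Nat.card_coe_set_eq]; exact P.card_Pl
  have x1 : ((V : Set G) \ {1}).ncard = 7 := by
    rw [Set.ncard_diff_singleton_of_mem (s := (V : Set G)) (one_mem V), c8]
  have x2 : ((V : Set G) \ {1, z}).ncard = 6 := by
    rw [Set.ncard_sdiff (Set.insert_subset (one_mem V) (Set.singleton_subset_iff.2 P.z_mem)),
      Set.ncard_pair hz1.symm, c8]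
  have x3 : ((V : Set G) \ (F : Set G)).ncard = 4 := by
    rw [Set.ncard_sdiff (SetLike.coe_subset_coe.2 hF), c8, ← Nat.card_coe_set_eq]
    show 8 - Nat.card F = 4
    rw [hF4]
  rw [x1] at e1
  rw [x2, hst2] at e2
  rw [x3, hst3, hD, hsdef, P.card_D] at e3
  rw [e2, hD, hsdef, P.card_D] at e1
  refine ⟨?_, ?_⟩
  · omega
  · omega

/-- The radical of the centraliser. -/
theorem exists_rad :
    ∃ (π : ↥(Subgroup.centralizer (Pl Q g : Set G)) →* A6), Function.Surjective π ∧
      Nat.card π.ker = 2 ^ 15 := by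
  obtain ⟨hzz, hz1, hss, hs1, hc, hs⟩ := P.basic hz hne
  let E : Subgroup (CC ⧸ Q) := ((tw Q g ⊓ CC).subgroupOf CC).map (QuotientGroup.mk' Q)
  obtain ⟨hstab, -, -, hEX, -, -, hE32, hnorm, ⟨e⟩⟩ :=
    local_structure S hz P.s P.hs.symm (fun e => hne (P.hs.symm.trans e)) (QQ Q) rfl E rfl
  haveI := hnorm
  set D := CC ⊓ Subgroup.centralizer ({g * z * g⁻¹} : Set G) with hD
  let f : D →* stabImage P.s :=
    ((QuotientGroup.mk' Q).comp (Subgroup.inclusion (inf_le_left : D ≤ CC))).codRestrict _ fun d =>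
      ⟨Subgroup.inclusion (inf_le_left : D ≤ CC) d, Subgroup.mem_centralizer_singleton_iff.2 (Subtype.ext (by
        show (d : G) * gv P.s = gv P.s * d
        rw [P.hs]; exact (mem_pair_iff.1 d.2).2)), rfl⟩
  let δ : D →* A6 := e.toMonoidHom.comp ((QuotientGroup.mk' _).comp f)
  have hδ : Function.Surjective δ := by
    refine e.surjective.comp ((QuotientGroup.mk'_surjective _).comp fun x => ?_)
    obtain ⟨c, hc', hx⟩ := x.2
    refine ⟨⟨c, mem_pair_iff.2 ⟨Subgroup.mem_centralizer_singleton_iff.1 c.2, ?_⟩⟩, Subtype.ext hx⟩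
    rw [← P.hs]; exact congrArg Subtype.val (Subgroup.mem_centralizer_singleton_iff.1 hc')
  have hker : Nat.card δ.ker = 2 ^ 17 := by
    have h := Subgroup.card_eq_card_quotient_mul_card_subgroup δ.ker
    rw [Nat.card_congr (QuotientGroup.quotientKerEquivOfSurjective δ hδ).toEquiv, card_A6, show Nat.card D = _ from P.card_D] at h
    omega
  obtain ⟨-, hK⟩ := P.card_norm hz hne
  set K := Subgroup.centralizer (Pl Q g : Set G) with hKdef
  have hKD : K ≤ D := fun k hk => P.cen_pair hz hne hk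
  haveI : (K.subgroupOf D).Normal := ⟨fun k hk d => by
    rw [Subgroup.mem_subgroupOf] at hk ⊢
    exact P.cen_normal hz hne (P.D_norm (Subgroup.mem_inf.1 d.2).1 (mem_pair_iff.1 d.2).2) hk⟩
  let π : K →* A6 := δ.comp (Subgroup.inclusion hKD)
  have hπ : Function.Surjective π := by
    have hsimp := isSimpleGroup_A6
    rcases (Subgroup.Normal.map (inferInstance : (K.subgroupOf D).Normal) δ hδ).eq_bot_or_eq_top with h | h
    · exfalso
      rw [Subgroup.map_eq_bot_iff] at h
      have := Subgroup.card_dvd_of_le h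
      rw [hker, Nat.card_congr (Subgroup.subgroupOfEquivOfLe hKD).toEquiv, hK] at this
      norm_num at this
    · intro a
      obtain ⟨d, hd, rfl⟩ := (h ▸ Subgroup.mem_top a : a ∈ (K.subgroupOf D).map δ)
      exact ⟨⟨d, hd⟩, congrArg δ (Subtype.ext rfl)⟩
  refine ⟨π, hπ, ?_⟩
  have h := Subgroup.card_eq_card_quotient_mul_card_subgroup π.ker
  rw [Nat.card_congr (QuotientGroup.quotientKerEquivOfSurjective π hπ).toEquiv, card_A6, hK] at h
  omega

end Line

end CfsgLib.FischerTwoFour
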