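import Mathlib
import Cfsg.Agent.Lib.FischerTwoFour.PlaneRad

/-!
The radical of the centraliser of the plane is special with the plane as centre.
-/

set_option autoImplicit false
set_option linter.unusedSectionVars false

namespace CfsgLib.FischerTwoFour

open scoped commutatorElement

variable {G : Type*} [Group G] {z : G}

set_option quotPrecheck false in
/-- The centraliser of `z`. -/
local notation "CC" => Subgroup.centralizer ({z} : Set G)

variable {Q : Subgroup (Subgroup.centralizer ({z} : Set G))}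

/-- Coordinatewise multiplication by the generator. -/
def omC : Code4 →+ Code4 :=
  AddMonoidHom.mk' (fun c i => om4 (c i)) fun a b => funext fun i =>
    (by decide : ∀ x y : F4, om4 (x + y) = om4 x + om4 y) (a i) (b i)

theorem bl4_zero (y : F4) : bl4 0 y = 0 := (by decide : ∀ y, bl4 0 y = 0) y

theorem bl4_sep : ∀ t : F4, bl4 t (1, 0) = 0 → bl4 t (0, 1) = 0 → t = 0 := by decide

theorem bl4_sep_two : ∀ p q : F4,
    bl4 p (1, 0) + bl4 q (1, 0) = 0 → bl4 p (0, 1) + bl4 q (0, 1) = 0 → p = q := by decide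

theorem neg_self4 : ∀ x : F4, -x = x := by decide

theorem sum_omC (c : Code4) : ∑ i, omC c i = om4 (∑ i, c i) := by
  let f : F4 →+ F4 := AddMonoidHom.mk' om4 (by decide)
  exact (map_sum f c Finset.univ).symm

theorem card_sum_zero :
    Nat.card ((AddMonoidHom.mk' (fun c : Code4 => ∑ i, c i) fun a b => Finset.sum_add_distrib).ker) = 1024 := by
  set f : Code4 →+ F4 := AddMonoidHom.mk' (fun c : Code4 => ∑ i, c i) fun a b => Finset.sum_add_distrib
  have hf : Function.Surjective f := fun x => ⟨fun i => if i = 0 then x else 0, by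
    show ∑ i : Fin 6, (if i = 0 then x else 0) = x
    rw [Finset.sum_ite_eq', if_pos (Finset.mem_univ _)]⟩
  have h := AddSubgroup.card_eq_card_quotient_mul_card_addSubgroup f.ker
  rw [Nat.card_congr (QuotientAddGroup.quotientKerEquivOfSurjective f hf).toEquiv,
    Nat.card_eq_fintype_card (α := Code4), Nat.card_eq_fintype_card (α := F4)] at h
  simp only [Fintype.card_fun, Fintype.card_prod, ZMod.card, Fintype.card_fin] at h
  omega

variable [Q.Normal] [Finite G] {S : Shape Q} {g : G}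

namespace Line

variable (P : Line S g) (hz : orderOf z = 2) (hne : g * z * g⁻¹ ≠ z)

include P hz hne

theorem exists_plane_rad :
    ∃ R : Subgroup G, R ≤ Subgroup.centralizer (Pl Q g : Set G) ∧ Nat.card R = 2 ^ 15 ∧
      (∀ N : Subgroup G, N ≤ Subgroup.centralizer (Pl Q g : Set G) → IsPGroup 2 N →
        (∀ k ∈ Subgroup.centralizer (Pl Q g : Set G), ∀ x ∈ N, k * x * k⁻¹ ∈ N) → N ≤ R) ∧
      (∀ l ∈ Subgroup.normalizer (Pl Q g : Set G), ∀ r ∈ R, l * r * l⁻¹ ∈ R) ∧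
      ∃ π : ↥(Subgroup.centralizer (Pl Q g : Set G)) →* A6, Function.Surjective π ∧
        R = π.ker.map (Subgroup.centralizer (Pl Q g : Set G)).subtype := by
  have hr := P.exists_rad hz hne
  set K := Subgroup.centralizer (Pl Q g : Set G) with hK
  obtain ⟨π, hπ, hker⟩ := hr
  have hRc : Nat.card (π.ker.map K.subtype) = 2 ^ 15 := by
    rw [← hker]; exact Nat.card_congr (π.ker.equivMapOfInjective K.subtype K.subtype_injective).symm.toEquiv
  have hmax : ∀ N : Subgroup G, N ≤ K → IsPGroup 2 N → (∀ k ∈ K, ∀ x ∈ N, k * x * k⁻¹ ∈ N) →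
      N ≤ π.ker.map K.subtype := by
    intro N hNK hN hn
    haveI : (N.subgroupOf K).Normal := ⟨fun x hx k => hn k k.2 x hx⟩
    have h2 : IsPGroup 2 ((N.subgroupOf K).map π) :=
      (hN.of_equiv (Subgroup.subgroupOfEquivOfLe hNK).symm).map π
    have hsimp := isSimpleGroup_A6
    rcases (Subgroup.Normal.map (inferInstance : (N.subgroupOf K).Normal) π hπ).eq_bot_or_eq_top with h | h
    · rw [Subgroup.map_eq_bot_iff] at h
      intro x hx
      exact ⟨⟨x, hNK hx⟩, h hx, rfl⟩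
    · exfalso
      haveI := Fact.mk Nat.prime_two
      obtain ⟨k, hk⟩ := IsPGroup.iff_card.1 h2
      rw [h, Subgroup.card_top, card_A6] at hk
      have h5 := Nat.prime_five.dvd_of_dvd_pow (show 5 ∣ 2 ^ k from hk ▸ by norm_num)
      omega
  have hle : π.ker.map K.subtype ≤ K := Subgroup.map_subtype_le _
  refine ⟨_, hle, hRc, hmax, fun l hl r hr => ?_, π, hπ, rfl⟩
  have hN := hmax ((π.ker.map K.subtype).map (MulAut.conj l).toMonoidHom) ?_ ?_ ?_
  · exact hN ⟨r, hr, rfl⟩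
  · rintro _ ⟨x, hx, rfl⟩; exact P.cen_normal hz hne hl (hle hx)
  · exact (IsPGroup.of_card hRc).map _
  · rintro k hk _ ⟨x, hx, rfl⟩
    obtain ⟨x', hx', rfl⟩ := hx
    have hk' : l⁻¹ * k * l⁻¹⁻¹ ∈ K := P.cen_normal hz hne (inv_mem hl) hk
    refine ⟨_, ⟨⟨_, hk'⟩ * x' * ⟨_, hk'⟩⁻¹, π.normal_ker.conj_mem _ hx' _, rfl⟩, ?_⟩
    simp [mul_assoc]

theorem QQ_norm {k x : G} (hk : k ∈ CC) (hx : x ∈ QQ Q) : k * x * k⁻¹ ∈ QQ Q := by
  rw [← QQ_conj (Q := Q) hk, show k⁻¹ * (k * x * k⁻¹) * k = x by group]; exact hx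

theorem tw_conj {h k x : G} (hk : k * (h * z * h⁻¹) = h * z * h⁻¹ * k) (hx : x ∈ tw Q h) :
    k * x * k⁻¹ ∈ tw Q h := by
  rw [← tw_norm (Q := Q) hk, show k⁻¹ * (k * x * k⁻¹) * k = x by group]; exact hx

set_option maxHeartbeats 1000000 in
/-- The commutators, squares and centre of the radical. -/
theorem special (R : Subgroup G) (hRK : R ≤ Subgroup.centralizer (Pl Q g : Set G))
    (hRc : Nat.card R = 2 ^ 15)
    (hmax : ∀ N : Subgroup G, N ≤ Subgroup.centralizer (Pl Q g : Set G) → IsPGroup 2 N →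
      (∀ k ∈ Subgroup.centralizer (Pl Q g : Set G), ∀ x ∈ N, k * x * k⁻¹ ∈ N) → N ≤ R)
    (hnorm : ∀ l ∈ Subgroup.normalizer (Pl Q g : Set G), ∀ r ∈ R, l * r * l⁻¹ ∈ R) :
    ⁅R, R⁆ = Pl Q g ∧ (∀ x ∈ R, x * x ∈ Pl Q g) ∧
      R ⊓ Subgroup.centralizer (R : Set G) = Pl Q g := by
  classical
  haveI := Fact.mk Nat.prime_two
  obtain ⟨hzz, hz1, hss, hs1, hc, hs⟩ := P.basic hz hne
  obtain ⟨n, hn, n1, n2, t1, t2⟩ := P.exists_swap hz hne
  set V := Pl Q g with hVdef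
  set L := Subgroup.normalizer (V : Set G) with hL
  set K := Subgroup.centralizer (V : Set G) with hK
  have hKC : K ≤ CC := fun k hk => (Subgroup.mem_inf.1 (P.cen_pair hz hne hk)).1
  have hKs : ∀ k ∈ K, k * (g * z * g⁻¹) = g * z * g⁻¹ * k := fun k hk => (mem_pair_iff.1 (P.cen_pair hz hne hk)).2
  have hR0K : QQ Q ⊓ tw Q g ≤ K := P.R0_le hz hne
  have hKn : ∀ {l k : G}, l ∈ L → k ∈ K → l * k * l⁻¹ ∈ K := fun hl hk => P.cen_normal hz hne hl hk
  set X := QQ Q ⊓ K with hX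
  set Y := tw Q g ⊓ K with hY
  have p13 : IsPGroup 2 (QQ Q) := IsPGroup.of_card (n := 13) (by
    rw [← card_comap_QQ (Q := Q) (H := QQ Q) le_rfl,
      show (QQ Q).comap ((Subgroup.centralizer ({z} : Set G)).subtype.comp Q.subtype) = ⊤ from
        eq_top_iff.2 fun a _ => gv_mem a, Subgroup.card_top, S.card_Q])
  have pX : IsPGroup 2 X := p13.to_le inf_le_left
  have pY : IsPGroup 2 Y := (p13.map (MulAut.conj g).toMonoidHom).to_le inf_le_left
  have nX : ∀ k ∈ K, ∀ x ∈ X, k * x * k⁻¹ ∈ X := fun k hk x hx =>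
    Subgroup.mem_inf.2 ⟨P.QQ_norm hz hne (hKC hk) (Subgroup.mem_inf.1 hx).1,
      mul_mem (mul_mem hk (Subgroup.mem_inf.1 hx).2) (inv_mem hk)⟩
  have nY : ∀ k ∈ K, ∀ x ∈ Y, k * x * k⁻¹ ∈ Y := fun k hk x hx =>
    Subgroup.mem_inf.2 ⟨P.tw_conj hz hne (hKs k hk) (Subgroup.mem_inf.1 hx).1,
      mul_mem (mul_mem hk (Subgroup.mem_inf.1 hx).2) (inv_mem hk)⟩
  have hXR : X ≤ R := hmax X inf_le_right pX nX
  have hYR : Y ≤ R := hmax Y inf_le_right pY nY
  have hYn : ∀ x, x ∈ Y ↔ n⁻¹ * x * n ∈ X := fun x => by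
    constructor
    · intro hx
      obtain ⟨h1, h2⟩ := Subgroup.mem_inf.1 hx
      refine Subgroup.mem_inf.2 ⟨(t1 x).1 h1, ?_⟩
      have := hKn (inv_mem hn) h2
      rwa [inv_inv] at this
    · intro hx
      obtain ⟨h1, h2⟩ := Subgroup.mem_inf.1 hx
      refine Subgroup.mem_inf.2 ⟨(t1 x).2 h1, ?_⟩
      have := hKn hn h2
      rwa [show n * (n⁻¹ * x * n) * n⁻¹ = x by group] at this
  -- codes of `X`
  have memX : ∀ a : Q, gv a ∈ X ↔ ∃ d : Code4, ∑ i, d i = 0 ∧ pr a = P.K.ψ d := by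
    intro a
    obtain ⟨d, hd⟩ := P.K.ψ_bij.2 (pr a)
    have hb : ∀ y : F4, ∀ b : Q, pr b = P.K.ψ (fun _ => y) → bit ⁅a, b⁆ = bl4 (∑ i, d i) y := fun y b hb => by
      rw [← S.bf_pr, hb, ← hd]
      exact (P.K.b_ψ _ _).trans (bc4_const _ _)
    constructor
    · intro ha
      refine ⟨d, ?_, hd.symm⟩
      have key : ∀ y : F4, bl4 (∑ i, d i) y = 0 := fun y => by
        obtain ⟨b, hb'⟩ := pr_surj (P.K.ψ fun _ => y)
        rw [← hb y b hb', bit_zero_iff, commutatorElement_eq_one_iff_mul_comm]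
        exact gv_inj (Subgroup.mem_centralizer_iff.1 (Subgroup.mem_inf.1 ha).2 (gv b) ((P.mem_Pl b).2 ⟨y, hb'⟩)).symm
      exact bl4_sep _ (key _) (key _)
    · rintro ⟨d', hd', e⟩
      rw [P.K.ψ_bij.1 (e.symm.trans hd.symm)] at hd'
      refine Subgroup.mem_inf.2 ⟨gv_mem a, Subgroup.mem_centralizer_iff.2 fun x hx => ?_⟩
      obtain ⟨b, rfl⟩ := mem_QQ.1 (P.QQ_ge hx)
      obtain ⟨y, hy⟩ := (P.mem_Pl b).1 hx
      have h0 := hb y b hy
      rw [hd', bl4_zero, bit_zero_iff,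
        commutatorElement_eq_one_iff_mul_comm] at h0
      rw [← gv_mul, ← gv_mul, h0]
  let SZ : AddSubgroup Code4 :=
    (AddMonoidHom.mk' (fun c : Code4 => ∑ i, c i) fun a b => Finset.sum_add_distrib).ker
  have memSZ : ∀ c, c ∈ SZ ↔ ∑ i, c i = 0 := fun c => Iff.rfl
  have cX : Nat.card X = 2048 := by
    rw [← card_comap_QQ (Q := Q) (H := X) inf_le_left, card_preimage S _ (SZ.map P.K.ψ) fun a => ?_,
      Nat.card_congr (SZ.equivMapOfInjective P.K.ψ P.K.ψ_bij.1).symm.toEquiv, card_sum_zero]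
    exact (memX a).trans ⟨fun ⟨d, h1, h2⟩ => ⟨d, (memSZ d).2 h1, h2.symm⟩,
      fun ⟨d, h1, h2⟩ => ⟨d, (memSZ d).1 h1, h2.symm⟩⟩
  have cY : Nat.card Y = 2048 := by
    rw [← cX]
    refine Nat.card_congr (((MulAut.conj n⁻¹).toEquiv).subtypeEquiv fun x => ?_)
    rw [hYn x, MulEquiv.toEquiv_eq_coe, EquivLike.coe_coe, MulAut.conj_apply, inv_inv]
  have hinf : X ⊓ Y = QQ Q ⊓ tw Q g :=
    le_antisymm (inf_le_inf inf_le_left inf_le_left)
      (le_inf (le_inf inf_le_left hR0K) (le_inf inf_le_right hR0K))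
  have cR0 : Nat.card ↥(QQ Q ⊓ tw Q g) = 128 := by
    rw [← card_comap_QQ (Q := Q) (H := QQ Q ⊓ tw Q g) inf_le_left,
      card_preimage S _ (P.W.map P.K.ψ) fun a => ?_,
      Nat.card_congr (P.W.equivMapOfInjective P.K.ψ P.K.ψ_bij.1).symm.toEquiv, P.W_card]
    have e1 : gv a ∈ QQ Q ⊓ tw Q g ↔ gv a ∈ tw Q g :=
      ⟨fun h => (Subgroup.mem_inf.1 h).2, fun h => Subgroup.mem_inf.2 ⟨gv_mem a, h⟩⟩
    exact e1.trans ((P.mem_tw' a).trans ⟨fun ⟨d, h1, h2⟩ => ⟨d, h1, h2.symm⟩, fun ⟨d, h1, h2⟩ => ⟨d, h1, h2.symm⟩⟩)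
  have hYnorm : Y ≤ Subgroup.normalizer (X : Set G) := fun y hy => norm_of fun x hx => nX y (Subgroup.mem_inf.1 hy).2 x hx
  have hRsup : R = Y ⊔ X := by
    refine (Subgroup.eq_of_le_of_card_ge (sup_le hYR hXR) ?_).symm
    have h := card_join_meet Y X hYnorm
    rw [inf_comm, hinf, cX, cY, cR0] at h
    rw [hRc]; omega
  -- the second point
  obtain ⟨c, hct⟩ := QuotientGroup.mk_surjective P.K.t
  have hcL : (c : G) ∈ L := P.scale c (by rw [hct]) ⟨1, by rw [hct, pow_one]⟩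
  set g' := (c : G) * g with hg'
  have hg'V : g' * z * g'⁻¹ ∈ V := by
    rw [show g' * z * g'⁻¹ = (c : G) * (g * z * g⁻¹) * (c : G)⁻¹ by rw [hg']; group]
    exact (Subgroup.mem_normalizer_iff.1 hcL _).1 hs
  have hKs' : ∀ k ∈ K, k * (g' * z * g'⁻¹) = g' * z * g'⁻¹ * k := fun k hk =>
    (Subgroup.mem_centralizer_iff.1 hk _ hg'V).symm
  set R1 := QQ Q ⊓ tw Q g' with hR1
  have hR1K : R1 ≤ K := by
    intro x hx
    obtain ⟨h1, h2⟩ := Subgroup.mem_inf.1 hx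
    have h3 := hKn hcL (hR0K (Subgroup.mem_inf.2 ⟨(QQ_conj (Q := Q) c.2).2 h1, mem_tw_left.1 h2⟩))
    rwa [show (c : G) * ((c : G)⁻¹ * x * c) * (c : G)⁻¹ = x by group] at h3
  have memR1 : ∀ a : Q, gv a ∈ R1 ↔ ∃ d ∈ P.W, pr a = P.K.ψ (omC d) := by
    intro a
    have e1 : gv a ∈ R1 ↔ gv a ∈ tw Q g' :=
      ⟨fun h => (Subgroup.mem_inf.1 h).2, fun h => Subgroup.mem_inf.2 ⟨gv_mem a, h⟩⟩
    have e2 : (c : G)⁻¹ * gv a * c = gv (cjQ c⁻¹ a) := by
      rw [gv_cjQ]; simp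
    have hT : ∀ d : Code4, S.rep.ρ P.K.t (P.K.ψ d) = P.K.ψ (omC d) := fun d => P.K.T_ψ d
    rw [e1, hg', mem_tw_left, e2, P.mem_tw']
    constructor
    · rintro ⟨d, hd, e⟩
      refine ⟨d, hd, ?_⟩
      rw [← hT, ← e, ← hct, S.rep_apply]
      exact congrArg pr (gv_inj (by rw [gv_cjQ, gv_cjQ]; simp [mul_assoc]))
    · rintro ⟨d, hd, e⟩
      refine ⟨d, hd, S.rep.inj P.K.t ?_⟩
      rw [hT, ← e, ← hct, S.rep_apply]
      exact congrArg pr (gv_inj (by rw [gv_cjQ, gv_cjQ]; simp [mul_assoc]))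
  obtain ⟨α, hα, hset, hmemW⟩ := struct4 P.W P.W_inv P.W_card P.W_iso P.W_const
  have hR01 : ∀ x, x ∈ QQ Q ⊓ tw Q g → x ∈ R1 → x ∈ V := by
    intro x hx hx'
    obtain ⟨a, rfl⟩ := mem_QQ.1 (Subgroup.mem_inf.1 hx).1
    obtain ⟨d1, hd1, e1⟩ := (P.mem_tw' a).1 (Subgroup.mem_inf.1 hx).2
    obtain ⟨d2, hd2, e2⟩ := (memR1 a).1 hx'
    have he : d1 = omC d2 := P.K.ψ_bij.1 (e1.symm.trans e2)
    refine (P.mem_Pl a).2 ⟨d1 0, e1.trans (congrArg P.K.ψ (funext fun i => ?_))⟩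
    exact inter4 hα hmemW hd1 hd2 (fun j => congrFun he j) i
  have hXgen : X ≤ (QQ Q ⊓ tw Q g) ⊔ R1 := by
    let U : AddSubgroup Code4 := P.W ⊔ P.W.map omC
    have hUinv : ∀ τ d, d ∈ U → mv4 τ d ∈ U := by
      intro τ d hd
      obtain ⟨d1, h1, _, ⟨d2, h2, rfl⟩, rfl⟩ := AddSubgroup.mem_sup.1 hd
      exact AddSubgroup.mem_sup.2 ⟨mv4 τ d1, P.W_inv τ _ h1, omC (mv4 τ d2), ⟨_, P.W_inv τ _ h2, rfl⟩, rfl⟩
    have hUsum : ∀ d ∈ U, ∑ i, d i = 0 := by
      intro d hd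
      obtain ⟨d1, h1, _, ⟨d2, h2, rfl⟩, rfl⟩ := AddSubgroup.mem_sup.1 hd
      simp only [Pi.add_apply, Finset.sum_add_distrib]
      rw [((hmemW d1).1 h1).1, sum_omC, ((hmemW d2).1 h2).1]; rfl
    have hall : ∀ d : Code4, ∑ i, d i = 0 → d ∈ U := by
      rcases between4 U hUinv P.W_const hα hset hmemW le_sup_left hUsum with h | h
      · exfalso
        have hconst : ∀ d ∈ P.W, ∀ i, d i = d 0 := fun d hd i => by
          have h' : omC d ∈ P.W := h ▸ AddSubgroup.mem_sup_right ⟨d, hd, rfl⟩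
          exact (by decide : ∀ x y : F4, om4 x = om4 y → x = y) _ _ (inter4 hα hmemW h' hd (fun j => rfl) i)
        have hinj : Function.Injective (fun d : P.W => (d : Code4) 0) := fun a b e =>
          Subtype.ext (funext fun i => (hconst _ a.2 i).trans (e.trans (hconst _ b.2 i).symm))
        have := Nat.card_le_card_of_injective _ hinj
        rw [P.W_card, Nat.card_eq_fintype_card] at this
        simp [F4] at this
      · exact h
    intro x hx
    obtain ⟨a, rfl⟩ := mem_QQ.1 (Subgroup.mem_inf.1 hx).1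
    obtain ⟨d, hd, e⟩ := (memX a).1 hx
    obtain ⟨d1, h1, _, ⟨d2, h2, rfl⟩, rfl⟩ := AddSubgroup.mem_sup.1 (hall d hd)
    obtain ⟨b1, hb1⟩ := pr_surj (P.K.ψ d1)
    obtain ⟨b2, hb2⟩ := pr_surj (P.K.ψ (omC d2))
    have hb1m : gv b1 ∈ QQ Q ⊓ tw Q g := Subgroup.mem_inf.2 ⟨gv_mem b1, (P.mem_tw' b1).2 ⟨d1, h1, hb1⟩⟩
    have hb2m : gv b2 ∈ R1 := (memR1 b2).2 ⟨d2, h2, hb2⟩
    have hk : gv ((b1 * b2)⁻¹ * a) = 1 ∨ gv ((b1 * b2)⁻¹ * a) = z :=
      center_cases S hz (S.pr_eq_iff.1 (by rw [pr_mul, hb1, hb2, e, map_add]))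
    have hk' : gv ((b1 * b2)⁻¹ * a) ∈ (QQ Q ⊓ tw Q g) ⊔ R1 := by
      refine Subgroup.mem_sup_left ?_
      rcases hk with e | e <;> rw [e]
      exacts [one_mem _, Subgroup.mem_inf.2 ⟨z_mem_QQ S, P.tw_ge P.z_mem⟩]
    have := mul_mem (mul_mem (Subgroup.mem_sup_left hb1m) (Subgroup.mem_sup_right hb2m)) hk'
    rwa [← gv_mul, ← gv_mul, mul_inv_cancel_left] at this
  -- generators
  let T : Set G := {x | x ∈ QQ Q ⊓ tw Q g ∨ x ∈ R1 ∨ n⁻¹ * x * n ∈ R1}
  have hTY : ∀ x, n⁻¹ * x * n ∈ R1 → x ∈ Y := fun x hx =>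
    (hYn x).2 (Subgroup.mem_inf.2 ⟨(Subgroup.mem_inf.1 hx).1, hR1K hx⟩)
  have hTR : T ⊆ R := by
    rintro x (h | h | h)
    · exact hXR (Subgroup.mem_inf.2 ⟨(Subgroup.mem_inf.1 h).1, hR0K h⟩)
    · exact hXR (Subgroup.mem_inf.2 ⟨(Subgroup.mem_inf.1 h).1, hR1K h⟩)
    · exact hYR (hTY x h)
  have hXT : X ≤ Subgroup.closure T :=
    hXgen.trans (sup_le (fun x hx => Subgroup.subset_closure (Or.inl hx))
      fun x hx => Subgroup.subset_closure (Or.inr (Or.inl hx)))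
  have hgen : R ≤ Subgroup.closure T := by
    rw [hRsup]
    refine sup_le (fun y hy => ?_) hXT
    have h1 : (QQ Q ⊓ tw Q g) ⊔ R1 ≤ (Subgroup.closure T).comap (MulAut.conj n).toMonoidHom := by
      refine sup_le (fun x hx => Subgroup.subset_closure (Or.inl ?_)) fun x hx => Subgroup.subset_closure (Or.inr (Or.inr ?_))
      · obtain ⟨a1, a2⟩ := Subgroup.mem_inf.1 hx
        simp only [MulEquiv.coe_toMonoidHom, MulAut.conj_apply]
        refine Subgroup.mem_inf.2 ⟨?_, ?_⟩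
        · rw [t2, show n⁻¹ * (n * x * n⁻¹) * n = x by group]; exact a2
        · rw [t1, show n⁻¹ * (n * x * n⁻¹) * n = x by group]; exact a1
      · simp only [MulEquiv.coe_toMonoidHom, MulAut.conj_apply]
        rw [show n⁻¹ * (n * x * n⁻¹) * n = x by group]; exact hx
    have h2 : n * (n⁻¹ * y * n) * n⁻¹ ∈ Subgroup.closure T := h1 (hXgen ((hYn y).1 hy))
    rwa [show n * (n⁻¹ * y * n) * n⁻¹ = y by group] at h2
  have hTK : ∀ x ∈ T, ∀ v ∈ V, x * v = v * x := fun x hx v hv =>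
    (Subgroup.mem_centralizer_iff.1 (hRK (hTR hx)) v hv).symm
  have hVsq : ∀ v ∈ V, v * v = 1 := fun v hv => P.Pl_sq hz hv
  have comQ : ∀ x ∈ QQ Q, ∀ y ∈ QQ Q, ⁅x, y⁆ ∈ V := fun x hx y hy => by
    rcases QQ_comm S hz hx hy with e | e <;> rw [e]
    exacts [one_mem _, P.z_mem]
  have comT : ∀ x ∈ tw Q g, ∀ y ∈ tw Q g, ⁅x, y⁆ ∈ V := fun x hx y hy => by
    rcases tw_comm S hz hx hy with e | e <;> rw [e]
    exacts [one_mem _, hs]
  have mix : ∀ x ∈ R1, ∀ y, n⁻¹ * y * n ∈ R1 → ⁅x, y⁆ ∈ V := by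
    intro x hx y hy
    obtain ⟨a1, a2⟩ := Subgroup.mem_inf.1 hx
    obtain ⟨b1, b2⟩ := Subgroup.mem_inf.1 (hTY y hy)
    have e : ⁅x, y⁆ = x * (y * x⁻¹ * y⁻¹) := by rw [commutatorElement_def]; group
    refine hR01 _ (Subgroup.mem_inf.2 ⟨?_, ?_⟩) (Subgroup.mem_inf.2 ⟨?_, ?_⟩)
    · rw [e]; exact mul_mem a1 (P.QQ_norm hz hne (hKC b2) (inv_mem a1))
    · rw [commutatorElement_def]; exact mul_mem (P.tw_conj hz hne (hKs x (hR1K hx)) b1) (inv_mem b1)
    · rw [e]; exact mul_mem a1 (P.QQ_norm hz hne (hKC b2) (inv_mem a1))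
    · rw [e]; exact mul_mem a2 (P.tw_conj hz hne (hKs' y b2) (inv_mem a2))
  have hTc : ∀ x ∈ T, ∀ y ∈ T, ⁅x, y⁆ ∈ V := by
    intro x hx y hy
    rcases hx with hx | hx | hx <;> rcases hy with hy | hy | hy
    · exact comQ x (Subgroup.mem_inf.1 hx).1 y (Subgroup.mem_inf.1 hy).1
    · exact comQ x (Subgroup.mem_inf.1 hx).1 y (Subgroup.mem_inf.1 hy).1
    · exact comT x (Subgroup.mem_inf.1 hx).2 y (Subgroup.mem_inf.1 (hTY y hy)).1
    · exact comQ x (Subgroup.mem_inf.1 hx).1 y (Subgroup.mem_inf.1 hy).1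
    · exact comQ x (Subgroup.mem_inf.1 hx).1 y (Subgroup.mem_inf.1 hy).1
    · exact mix x hx y hy
    · exact comT x (Subgroup.mem_inf.1 (hTY x hx)).1 y (Subgroup.mem_inf.1 hy).2
    · rw [← commutatorElement_inv y x]; exact inv_mem (mix y hy x hx)
    · exact comT x (Subgroup.mem_inf.1 (hTY x hx)).1 y (Subgroup.mem_inf.1 (hTY y hy)).1
  have sqR0 : ∀ x ∈ QQ Q ⊓ tw Q g, x * x = 1 := fun x hx => by
    obtain ⟨h1, h2⟩ := Subgroup.mem_inf.1 hx
    obtain ⟨a, rfl⟩ := mem_QQ.1 h1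
    rcases sq_cases_at S hz a with e | e
    · exact e
    · have h3 : g⁻¹ * gv a * g ∈ QQ Q := mem_tw.1 h2
      obtain ⟨b, hb⟩ := mem_QQ.1 h3
      rcases sq_cases_at S hz b with e' | e'
      all_goals change gv b * gv b = _ at e'; change gv a * gv a = z at e
      all_goals rw [hb, show g⁻¹ * gv a * g * (g⁻¹ * gv a * g) = g⁻¹ * (gv a * gv a) * g by group, e] at e'
      · exact absurd (by
          calc z = g * (g⁻¹ * z * g) * g⁻¹ := by group
            _ = 1 := by rw [e']; group) hz1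
      · exact absurd (by
          calc g * z * g⁻¹ = g * (g⁻¹ * z * g) * g⁻¹ := by rw [e']
            _ = z := by group) hne
  have sqR1 : ∀ x ∈ R1, x * x = 1 := fun x hx => by
    obtain ⟨h1, h2⟩ := Subgroup.mem_inf.1 hx
    have h3 := sqR0 _ (Subgroup.mem_inf.2 ⟨(QQ_conj (Q := Q) c.2).2 h1, mem_tw_left.1 h2⟩)
    calc x * x = (c : G) * ((c : G)⁻¹ * x * c * ((c : G)⁻¹ * x * c)) * (c : G)⁻¹ := by group
      _ = 1 := by rw [h3]; group
  have hTsq : ∀ x ∈ T, x * x ∈ V := by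
    rintro x (hx | hx | hx)
    · rw [sqR0 x hx]; exact one_mem _
    · rw [sqR1 x hx]; exact one_mem _
    · rw [show x * x = n * (n⁻¹ * x * n * (n⁻¹ * x * n)) * n⁻¹ by group, sqR1 _ hx,
        show n * 1 * n⁻¹ = (1 : G) by group]
      exact one_mem _
  obtain ⟨hcomm, hsq⟩ := closure_special hTK hVsq hTc
  -- the derived subgroup
  have hle : ⁅R, R⁆ ≤ V := Subgroup.commutator_le.2 fun x hx y hy => hcomm x (hgen hx) y (hgen hy)
  have hzR : z ∈ ⁅R, R⁆ := by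
    by_contra hno
    have hcom : ∀ x ∈ X, ∀ y ∈ X, x * y = y * x := fun x hx y hy => by
      rcases QQ_comm S hz (Subgroup.mem_inf.1 hx).1 (Subgroup.mem_inf.1 hy).1 with e | e
      · exact commutatorElement_eq_one_iff_mul_comm.1 e
      · exact absurd (e ▸ Subgroup.commutator_mem_commutator (hXR hx) (hXR hy)) hno
    have h := S.card_abelian (X.comap ((Subgroup.centralizer ({z} : Set G)).subtype.comp Q.subtype))
      ⟨⟨fun a b => Subtype.ext (gv_inj (hcom _ a.2 _ b.2))⟩⟩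
    rw [card_comap_QQ (Q := Q) (H := X) inf_le_left, cX] at h
    omega
  have hRRn : ∀ l ∈ L, ∀ x ∈ ⁅R, R⁆, l * x * l⁻¹ ∈ ⁅R, R⁆ := fun l hl x hx => by
    have : (⁅R, R⁆).map (MulAut.conj l).toMonoidHom ≤ ⁅R, R⁆ := by
      rw [Subgroup.map_commutator]
      refine Subgroup.commutator_mono ?_ ?_ <;> (rintro _ ⟨r, hr, rfl⟩; exact hnorm l hl r hr)
    exact this ⟨x, hx, rfl⟩
  have hVle : V ≤ ⁅R, R⁆ := by
    intro x hx
    by_cases hx1 : x = 1
    · rw [hx1]; exact one_mem _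
    by_cases hxz : x = z
    · rw [hxz]; exact hzR
    obtain ⟨k, -, hkL, hk⟩ := P.points hz hx hx1 hxz
    have := hRRn k hkL _ (hRRn n hn z hzR)
    rwa [n1, hk] at this
  refine ⟨le_antisymm hle hVle, fun x hx => hsq hTsq x (hgen hx), ?_⟩
  -- the centre
  set Zc := R ⊓ Subgroup.centralizer (R : Set G) with hZc
  have hVR : V ≤ R := fun x hx => hXR (Subgroup.mem_inf.2 ⟨P.QQ_ge hx,
    hR0K (Subgroup.mem_inf.2 ⟨P.QQ_ge hx, P.tw_ge hx⟩)⟩)
  refine le_antisymm ?_ fun x hx => Subgroup.mem_inf.2 ⟨hVR hx,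
    Subgroup.mem_centralizer_iff.2 fun r hr => (Subgroup.mem_centralizer_iff.1 (hRK hr) x hx).symm⟩
  suffices hZQ : Zc ≤ QQ Q by
    intro x hx
    obtain ⟨a, rfl⟩ := mem_QQ.1 (hZQ hx)
    obtain ⟨d, hd⟩ := P.K.ψ_bij.2 (pr a)
    have hbc : ∀ e : Code4, ∑ i, e i = 0 → bc4 d e = 0 := fun e he => by
      obtain ⟨b, hb⟩ := pr_surj (P.K.ψ e)
      rw [← P.K.b_ψ, hd, ← hb]
      show bf (pr a) (pr b) = 0
      rw [S.bf_pr, bit_zero_iff, commutatorElement_eq_one_iff_mul_comm]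
      exact gv_inj (Subgroup.mem_centralizer_iff.1 (Subgroup.mem_inf.1 hx).2 _
        (hXR ((memX b).2 ⟨e, he, hb⟩))).symm
    refine (P.mem_Pl a).2 ⟨d 0, hd.symm.trans (congrArg P.K.ψ (funext fun i => ?_))⟩
    by_cases hi : i = 0
    · rw [hi]
    have hpair : ∀ y : F4, bl4 (d i) y + bl4 (d 0) y = 0 := fun y => by
      have hs0 : ∑ k, pair4 y i 0 k = 0 := by
        rw [Finset.sum_eq_add i 0 hi]
        · simp [pair4, add_self4]
        · intro k _ hk; simp [pair4, hk.1, hk.2]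
        · simp
        · simp
      refine Eq.trans ?_ (hbc _ hs0)
      rw [bc4, Finset.sum_eq_add i 0 hi]
      · simp [pair4]
      · intro k _ hk; simp [pair4, hk.1, hk.2, bl4]
      · simp
      · simp
    exact bl4_sep_two _ _ (hpair _) (hpair _)
  -- nothing central outside `Q`
  let U : AddSubgroup Code4 :=
    { carrier := {d | ∃ a : Q, pr a = P.K.ψ d ∧ gv a ∈ K ∧ ∀ y ∈ Y, ⁅gv a, y⁆ = 1 ∨ ⁅gv a, y⁆ = g * z * g⁻¹}
      zero_mem' := ⟨1, by rw [pr_one, map_zero], by rw [gv_one]; exact one_mem _,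
        fun y _ => Or.inl (by rw [gv_one, commutatorElement_one_left])⟩
      add_mem' := by
        rintro d e ⟨a, ha, haK, ha'⟩ ⟨b, hb, hbK, hb'⟩
        refine ⟨a * b, by rw [pr_mul, ha, hb, map_add], mul_mem haK hbK, fun y hy => ?_⟩
        have e1 : ⁅gv a * gv b, y⁆ = gv a * ⁅gv b, y⁆ * (gv a)⁻¹ * ⁅gv a, y⁆ := by
          simp only [commutatorElement_def]; group
        rw [gv_mul, e1]
        rcases hb' y hy with h | h <;> rw [h]
        · rw [mul_one, mul_inv_cancel, one_mul]; exact ha' y hy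
        · rw [hKs _ haK, mul_inv_cancel_right]
          rcases ha' y hy with h' | h' <;> rw [h']
          · rw [mul_one]; exact Or.inr rfl
          · exact Or.inl hss
      neg_mem' := by
        intro d hd
        rwa [show -d = d from funext fun i => neg_self4 (d i)] }
  have hWU : P.W ≤ U := fun d hd => by
    obtain ⟨a, ha⟩ := pr_surj (P.K.ψ d)
    have hat : gv a ∈ tw Q g := (P.mem_tw' a).2 ⟨d, hd, ha⟩
    exact ⟨a, ha, hR0K (Subgroup.mem_inf.2 ⟨gv_mem a, hat⟩),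
      fun y hy => tw_comm S hz hat (Subgroup.mem_inf.1 hy).1⟩
  have hUsum : ∀ d ∈ U, ∑ i, d i = 0 := by
    rintro d ⟨a, ha, haK, -⟩
    obtain ⟨d', hd', e⟩ := (memX a).1 (Subgroup.mem_inf.2 ⟨gv_mem a, haK⟩)
    rw [P.K.ψ_bij.1 (ha.symm.trans e)]; exact hd'
  have hUinv : ∀ τ d, d ∈ U → mv4 τ d ∈ U := by
    rintro τ d ⟨a, ha, haK, hy'⟩
    obtain ⟨h, hh, he⟩ := P.lift τ
    rw [P.hs] at hh
    have hhL : (h : G) ∈ L := P.D_norm h.2 hh
    refine ⟨cjQ h a, by rw [← P.K.φ_ψ, ← ha, ← he, S.rep_apply], ?_, fun y hy => ?_⟩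
    · rw [gv_cjQ]; exact hKn hhL haK
    · have hy2 : (h : G)⁻¹ * y * h ∈ Y := by
        obtain ⟨y1, y2⟩ := Subgroup.mem_inf.1 hy
        refine Subgroup.mem_inf.2 ⟨(tw_norm (Q := Q) hh).2 y1, ?_⟩
        have := hKn (inv_mem hhL) y2
        rwa [inv_inv] at this
      have e1 : ⁅gv (cjQ h a), y⁆ = (h : G) * ⁅gv a, (h : G)⁻¹ * y * h⁆ * (h : G)⁻¹ := by
        rw [gv_cjQ]; simp only [commutatorElement_def]; group
      rcases hy' _ hy2 with e | e <;> rw [e1, e]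
      · left; group
      · right; rw [hh]; group
  rcases between4 U hUinv P.W_const hα hset hmemW hWU hUsum with hU | hU
  · have hY' : Zc ≤ Y := by
      intro x hx
      obtain ⟨hxR, hxC⟩ := Subgroup.mem_inf.1 hx
      have hmem : x ∈ ((Y ⊔ X : Subgroup G) : Set G) := hRsup ▸ hxR
      rw [Subgroup.coe_mul_of_left_le_normalizer_right Y X hYnorm] at hmem
      obtain ⟨y0, hy0, a0, ha0, rfl⟩ := hmem
      simp only [SetLike.mem_coe] at hy0 ha0
      obtain ⟨a, ha⟩ := mem_QQ.1 (Subgroup.mem_inf.1 ha0).1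
      obtain ⟨d, hd, e⟩ := (memX a).1 (by rw [ha]; exact ha0)
      have hdU : d ∈ U := ⟨a, e, by rw [ha]; exact (Subgroup.mem_inf.1 ha0).2, fun y hy => by
        have c1 : y * (y0 * a0) = y0 * a0 * y := Subgroup.mem_centralizer_iff.1 hxC y (hYR hy)
        have e2 : ⁅gv a, y⁆ = ⁅y0⁻¹, y⁆ := by
          rw [ha]
          calc ⁅a0, y⁆ = y0⁻¹ * ((y0 * a0 * y) * a0⁻¹) * y⁻¹ := by rw [commutatorElement_def]; group
            _ = y0⁻¹ * (y * (y0 * a0) * a0⁻¹) * y⁻¹ := by rw [c1]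
            _ = ⁅y0⁻¹, y⁆ := by rw [commutatorElement_def]; group
        rw [e2]
        exact tw_comm S hz (inv_mem (Subgroup.mem_inf.1 hy0).1) (Subgroup.mem_inf.1 hy).1⟩
      rw [hU] at hdU
      have hat : a0 ∈ tw Q g := ha ▸ (P.mem_tw' a).2 ⟨d, hdU, e⟩
      exact mul_mem hy0 (Subgroup.mem_inf.2 ⟨hat, (Subgroup.mem_inf.1 ha0).2⟩)
    intro x hx
    obtain ⟨hxR, hxC⟩ := Subgroup.mem_inf.1 hx
    have hx' : n * x * n⁻¹ ∈ Zc := Subgroup.mem_inf.2 ⟨hnorm n hn x hxR,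
      conj_mem_centralizer (fun y hy => by
        have := hnorm n⁻¹ (inv_mem hn) y hy
        rwa [inv_inv] at this) hxC⟩
    have := (hYn _).1 (hY' hx')
    rw [show n⁻¹ * (n * x * n⁻¹) * n = x by group] at this
    exact (Subgroup.mem_inf.1 this).1
  · exfalso
    have one : ∀ x ∈ X, ∀ y ∈ Y, ⁅x, y⁆ = 1 ∨ ⁅x, y⁆ = g * z * g⁻¹ := by
      intro x hx y hy
      obtain ⟨a, rfl⟩ := mem_QQ.1 (Subgroup.mem_inf.1 hx).1
      obtain ⟨d, hd, e⟩ := (memX a).1 hx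
      obtain ⟨b, hb, -, hb'⟩ := hU d hd
      rcases center_cases S hz (S.pr_eq_iff.1 (hb.trans e.symm)) with k | k
      all_goals change gv (b⁻¹ * a) = _ at k; rw [gv_mul, gv_inv, inv_mul_eq_iff_eq_mul] at k
      · rw [k, mul_one]; exact hb' y hy
      · have e2 : ⁅gv b * z, y⁆ = ⁅gv b, y⁆ := by
          have hy' : z * y = y * z := (Subgroup.mem_centralizer_singleton_iff.1 (hKC (Subgroup.mem_inf.1 hy).2)).symm
          calc ⁅gv b * z, y⁆ = gv b * (z * y) * z⁻¹ * (gv b)⁻¹ * y⁻¹ := by rw [commutatorElement_def]; group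
            _ = ⁅gv b, y⁆ := by rw [hy', commutatorElement_def]; group
        rw [k, e2]; exact hb' y hy
    have triv : ∀ x ∈ X, ∀ y ∈ Y, ⁅x, y⁆ = 1 := by
      intro x hx y hy
      have hx' : n * x * n⁻¹ ∈ Y := (hYn _).2 (by rwa [show n⁻¹ * (n * x * n⁻¹) * n = x by group])
      have hy' : n⁻¹ * y * n ∈ X := (hYn y).1 hy
      -- apply the first fact to the transported pair
      obtain ⟨h1, h2⟩ := Subgroup.mem_inf.1 hx
      have hxn : n⁻¹ * x * n ∈ Y := by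
        refine Subgroup.mem_inf.2 ⟨(t2 x).1 h1, ?_⟩
        have := hKn (inv_mem hn) h2
        rwa [inv_inv] at this
      have e1 : ⁅n⁻¹ * y * n, n⁻¹ * x * n⁆ = n⁻¹ * ⁅y, x⁆ * n := by simp only [commutatorElement_def]; group
      have e2 : ⁅y, x⁆ = 1 ∨ ⁅y, x⁆ = z := by
        rcases one _ hy' _ hxn with e | e
        · left; rw [e1] at e
          calc ⁅y, x⁆ = n * (n⁻¹ * ⁅y, x⁆ * n) * n⁻¹ := by group
            _ = 1 := by rw [e]; group
        · right; rw [e1] at e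
          calc ⁅y, x⁆ = n * (n⁻¹ * ⁅y, x⁆ * n) * n⁻¹ := by group
            _ = z := by rw [e, n2]
      rcases one x hx y hy with e | e
      · exact e
      · exfalso
        rcases e2 with e' | e' <;> rw [← commutatorElement_inv x y, e, inv_eq_of_mul_eq_one_right hss] at e'
        · exact hs1 e'
        · exact hne e'
    obtain ⟨F, hF, hF4, hmemF⟩ := P.four_le hz hne
    have hTF : ∀ x ∈ ((X : Set G) ∪ (Y : Set G)), ∀ y ∈ ((X : Set G) ∪ (Y : Set G)), ⁅x, y⁆ ∈ F := by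
      rintro x (hx | hx) y (hy | hy)
      · rcases QQ_comm S hz (Subgroup.mem_inf.1 hx).1 (Subgroup.mem_inf.1 hy).1 with e | e <;> rw [e]
        exacts [one_mem _, (hmemF z).2 (Or.inr (Or.inl rfl))]
      · rw [triv x hx y hy]; exact one_mem _
      · rw [← commutatorElement_inv y x, triv y hy x hx, inv_one]; exact one_mem _
      · rcases tw_comm S hz (Subgroup.mem_inf.1 hx).1 (Subgroup.mem_inf.1 hy).1 with e | e <;> rw [e]
        exacts [one_mem _, (hmemF _).2 (Or.inr (Or.inr (Or.inl rfl)))]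
    obtain ⟨hc2, -⟩ := closure_special (V := F) (T := (X : Set G) ∪ (Y : Set G)) (fun x hx v hv => by
      have hxK : x ∈ K := hx.elim (fun h => (Subgroup.mem_inf.1 h).2) fun h => (Subgroup.mem_inf.1 h).2
      exact (Subgroup.mem_centralizer_iff.1 hxK v (hF hv)).symm) (fun v hv => hVsq v (hF hv)) hTF
    have hRcl : R ≤ Subgroup.closure ((X : Set G) ∪ (Y : Set G)) := by
      rw [hRsup]
      exact sup_le (fun y hy => Subgroup.subset_closure (Or.inr hy)) fun x hx => Subgroup.subset_closure (Or.inl hx)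
    have hVF : V ≤ F := hVle.trans (Subgroup.commutator_le.2 fun x hx y hy => hc2 x (hRcl hx) y (hRcl hy))
    have := Subgroup.card_le_of_le hVF
    rw [P.card_Pl, hF4] at this
    omega

end Line

end CfsgLib.FischerTwoFour
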