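import Cfsg.Agent.Lib.FischerTwoFour.Symm

/-!
`z` lies in the derived subgroup of the centraliser of `ξ` in `C(z)`.

Otherwise lifts give an invariant complement of `R` in `W` modulo `s`; the element exchanging `z` and
`s` carries it to `Q`, where it spans a `ξ`-invariant subgroup meeting `R` in an invariant complement
of `A₃` modulo `z`; carried back this is an invariant complement of `A₃` in `R` modulo `s`, on which
the orbit product is a quadratic form admitting too large a group.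
-/

set_option autoImplicit false
set_option linter.unusedSectionVars false
set_option linter.unusedVariables false
set_option linter.style.haveILetI false

namespace CfsgLib.FischerTwoFour

open Subgroup
open scoped commutatorElement

variable {G : Type*} [Group G] {z : G}

theorem mem_sup_zpowers [Finite G] (A : Subgroup G) {b : G} (hb : b * b = 1)
    (hc : ∀ a ∈ A, a * b = b * a) {x : G} : x ∈ A ⊔ zpowers b ↔ x ∈ A ∨ x * b ∈ A := by
  let B : Subgroup G :=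
    { carrier := {x | x ∈ A ∨ x * b ∈ A}
      one_mem' := Or.inl A.one_mem
      mul_mem' := by
        intro x y hx hy
        have hy' : b * y = y * b := by
          rcases hy with hy | hy
          · exact (hc y hy).symm
          · have h1 := hc _ hy
            calc b * y = b * (y * b) * b := by rw [mul_assoc, mul_assoc y, hb, mul_one]
              _ = y * b * b * b := by rw [h1]
              _ = y * b := by rw [mul_assoc _ b b, hb, mul_one]
        rcases hx with hx | hx <;> rcases hy with hy | hy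
        · exact Or.inl (A.mul_mem hx hy)
        · exact Or.inr (by rw [mul_assoc]; exact A.mul_mem hx hy)
        · refine Or.inr ?_
          rw [mul_assoc, ← hy', ← mul_assoc]
          exact A.mul_mem hx hy
        · refine Or.inl ?_
          have := A.mul_mem hx hy
          rwa [show x * b * (y * b) = x * (b * y * b) by group, hy', mul_assoc y, hb, mul_one] at this
      inv_mem' := by
        intro x hx
        rcases hx with hx | hx
        · exact Or.inl (A.inv_mem hx)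
        · refine Or.inr ?_
          have h := A.inv_mem hx
          rw [mul_inv_rev, inv_eq_of_mul_eq_one_right hb] at h
          have := hc _ h
          rw [← mul_assoc b b, hb, one_mul] at this
          have e : x⁻¹ * b = b * x⁻¹ := by
            calc x⁻¹ * b = b * x⁻¹ * b * b := by rw [this]
              _ = b * x⁻¹ := by rw [mul_assoc _ b b, hb, mul_one]
          rw [e]; exact h }
  constructor
  · intro hx
    have h : A ⊔ zpowers b ≤ B :=
      sup_le (fun a ha => Or.inl ha) (zpowers_le.2 (Or.inr (by rw [hb]; exact A.one_mem)))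
    exact h hx
  · rintro (h | h)
    · exact mem_sup_left h
    · have := mul_mem (mem_sup_left h : x * b ∈ A ⊔ zpowers b) (mem_sup_right (mem_zpowers b))
      rwa [mul_assoc, hb, mul_one] at this

/-- The centraliser of `ξ` in `M`. -/
def Sys.K (Y : Sys z) : Subgroup G := Y.M ⊓ centralizer ({Y.ξ} : Set G)

namespace Pt

variable [Finite G] {Y : Sys z} (P : Pt Y)
include P

/-- `⟨z, s⟩`. -/
def Zs : Subgroup G := zpowers z ⊔ zpowers P.s

/-- `⟨z, s, s₁⟩`. -/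
def A3 : Subgroup G := P.Zs ⊔ zpowers P.s1

/-- `C(s, s₁)` in `Q`. -/
def Sg : Subgroup G := Y.Qg ⊓ centralizer ({P.s} : Set G) ⊓ centralizer ({P.s1} : Set G)

theorem mem_zpowers_z {x : G} : x ∈ zpowers z ↔ InZ z x := by
  have h := mem_sup_zpowers (⊥ : Subgroup G) Y.zz (fun a ha => by rw [Subgroup.mem_bot.1 ha]; simp) (x := x)
  rw [bot_sup_eq, Subgroup.mem_bot, Subgroup.mem_bot, ← eq_inv_iff_mul_eq_one, Y.zinv] at h
  exact h

theorem mem_Zs {x : G} : x ∈ P.Zs ↔ InZ z x ∨ InZ z (x * P.s) := by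
  rw [Zs, mem_sup_zpowers _ P.ss (fun a ha => (Y.zcomm P.s_cen (P.mem_zpowers_z.1 ha)).symm),
    P.mem_zpowers_z, P.mem_zpowers_z]

theorem Zs_le : P.Zs ≤ P.R := sup_le (zpowers_le.2 P.z_mem) (zpowers_le.2 P.s_mem)

theorem s1s1 : P.s1 * P.s1 = 1 := P.R_sq P.s1_mem

theorem s1_not_Zs : P.s1 ∉ P.Zs := fun h => by
  rcases P.mem_Zs.1 h with h | h
  · exact (P.s1_not _ h).1 rfl
  · exact (P.s1_not _ h).2 (by rw [mul_assoc, P.ss, mul_one])

theorem mem_A3 {x : G} : x ∈ P.A3 ↔ x ∈ P.Zs ∨ x * P.s1 ∈ P.Zs :=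
  mem_sup_zpowers _ P.s1s1 fun _ ha => P.R_comm (P.Zs_le ha) P.s1_mem

theorem A3_le : P.A3 ≤ P.R := sup_le P.Zs_le (zpowers_le.2 P.s1_mem)

theorem z_A3 : z ∈ P.A3 := mem_sup_left (mem_sup_left (mem_zpowers z))

theorem s_A3 : P.s ∈ P.A3 := mem_sup_left (mem_sup_right (mem_zpowers _))

theorem s1_A3 : P.s1 ∈ P.A3 := mem_sup_right (mem_zpowers _)

theorem inZ_A3 {e : G} (he : InZ z e) : e ∈ P.A3 := by
  rcases he with rfl | rfl
  · exact one_mem _
  · exact P.z_A3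

theorem card_A3 : Nat.card P.A3 = 8 := by
  have h1 : Nat.card P.Zs = 4 := by
    rw [card_of_pair (X := P.Zs) (Y := zpowers z) le_sup_left (w := P.s) (mem_sup_right (mem_zpowers _))
      (fun h => P.s_not_inZ (P.mem_zpowers_z.1 h)) fun a ha b hb hna hnb => by
        rw [P.mem_zpowers_z] at hna hnb ⊢
        have ha' := (P.mem_Zs.1 ha).resolve_left hna
        have hb' := (P.mem_Zs.1 hb).resolve_left hnb
        have := Y.inZ_mul ha' hb'
        rwa [show a * P.s * (b * P.s) = a * (P.s * b) * P.s by group,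
          P.R_comm P.s_mem (P.Zs_le hb), show a * (b * P.s) * P.s = a * b * (P.s * P.s) by group,
          P.ss, mul_one] at this,
      Nat.card_zpowers, orderOf_eq_prime (p := 2) (by rw [pow_two, Y.zz]) Y.z1]
  rw [card_of_pair (X := P.A3) (Y := P.Zs) le_sup_left (w := P.s1) P.s1_A3 P.s1_not_Zs
    fun a ha b hb hna hnb => by
      have := mul_mem ((P.mem_A3.1 ha).resolve_left hna) ((P.mem_A3.1 hb).resolve_left hnb)
      rwa [show a * P.s1 * (b * P.s1) = a * (P.s1 * b) * P.s1 by group,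
        P.R_comm P.s1_mem (P.A3_le hb), show a * (b * P.s1) * P.s1 = a * b * (P.s1 * P.s1) by group,
        P.s1s1, mul_one] at this, h1]

theorem sh_A3 {x : G} (hx : x ∈ P.A3) : Y.sh x ∈ P.A3 := by
  have h : P.A3 ≤ P.A3.comap (MulAut.conj Y.ξ).toMonoidHom := by
    refine sup_le (sup_le (zpowers_le.2 ?_) (zpowers_le.2 ?_)) (zpowers_le.2 ?_)
    · show Y.sh z ∈ P.A3
      rw [Y.sh_inZ (Or.inr rfl)]; exact P.z_A3
    · exact P.s1_A3
    · show Y.sh P.s1 ∈ P.A3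
      rw [P.sh_s1]; exact inv_mem (mul_mem P.s_A3 P.s1_A3)
  exact h hx

theorem A3_le_Sg : P.A3 ≤ P.Sg := fun x hx =>
  ⟨⟨(P.A3_le hx).1, mem_centralizer_singleton_iff.2 (P.R_comm (P.A3_le hx) P.s_mem)⟩,
    mem_centralizer_singleton_iff.2 (P.R_comm (P.A3_le hx) P.s1_mem)⟩

theorem R_le_Sg : P.R ≤ P.Sg := fun x hx =>
  ⟨⟨hx.1, mem_centralizer_singleton_iff.2 (P.R_comm hx P.s_mem)⟩,
    mem_centralizer_singleton_iff.2 (P.R_comm hx P.s1_mem)⟩

theorem Sg_pair {a b : G} (ha : a ∈ Y.Qg ⊓ centralizer ({P.s} : Set G))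
    (hb : b ∈ Y.Qg ⊓ centralizer ({P.s} : Set G)) (hna : a ∉ P.Sg) (hnb : b ∉ P.Sg) :
    a * b ∈ P.Sg := by
  refine ⟨mul_mem ha hb, mem_centralizer_singleton_iff.2 ?_⟩
  have key : ∀ x ∈ Y.Qg ⊓ centralizer ({P.s} : Set G), x ∉ P.Sg → x * P.s1 = z * (P.s1 * x) :=
    fun x hx hxn => by
      obtain ⟨e, he, h⟩ := Y.comm' hx.1 P.s1Q
      rcases he with he | he <;> rw [he] at h
      · exact absurd ⟨hx, mem_centralizer_singleton_iff.2 (by rw [h, one_mul])⟩ hxn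
      · exact h
  have hza : a * z = z * a := Y.zcomm (Y.le_cen ha.1) (Or.inr rfl)
  calc a * b * P.s1 = a * (b * P.s1) := mul_assoc _ _ _
    _ = a * z * (P.s1 * b) := by rw [key b hb hnb]; group
    _ = z * (a * P.s1) * b := by rw [hza]; group
    _ = z * z * (P.s1 * (a * b)) := by rw [key a ha hna]; group
    _ = P.s1 * (a * b) := by rw [Y.zz, one_mul]

theorem card_Sg : Nat.card P.Sg = 2048 := by
  obtain ⟨c, hc, hc'⟩ : ∃ c ∈ Y.Qg ⊓ centralizer ({P.s} : Set G), c ∉ P.Sg := by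
    by_contra h
    push Not at h
    rcases Y.span P.s P.sQ P.s1' P.sz P.s1 P.s1Q fun c hc hcs =>
        mem_centralizer_singleton_iff.1 (h c ⟨hc, mem_centralizer_singleton_iff.2 hcs⟩).2 with e | e | e | e
    · exact (P.s1_not 1 (Or.inl rfl)).1 e
    · exact (P.s1_not z (Or.inr rfl)).1 e
    · exact (P.s1_not 1 (Or.inl rfl)).2 (by rw [one_mul]; exact e)
    · exact (P.s1_not z (Or.inr rfl)).2 e
  have := card_of_pair (X := Y.Qg ⊓ centralizer ({P.s} : Set G)) (Y := P.Sg) inf_le_left hc hc'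
    fun a ha b hb => P.Sg_pair ha hb
  rw [Y.card_cent P.s P.sQ P.s1' P.sz] at this
  omega

theorem D_M_fix_s1 {c : G} (hc : c ∈ P.D) (hcM : c ∈ Y.M) :
    ∃ e, InZ z e ∧ c * P.s1 * c⁻¹ = e * P.s1 := by
  obtain ⟨e, he, h⟩ := P.conj_sh hc.1 (Y.xiC c hcM) P.sQ
  refine ⟨e, he, ?_⟩
  rwa [show c * P.s * c⁻¹ = P.s by rw [P.D_s hc, mul_inv_cancel_right]] at h

theorem D_M_norm_A3 {c : G} (hc : c ∈ P.D) (hcM : c ∈ Y.M) {x : G} (hx : x ∈ P.A3) :
    c * x * c⁻¹ ∈ P.A3 := by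
  have h : P.A3 ≤ P.A3.comap (MulAut.conj c).toMonoidHom := by
    refine sup_le (sup_le (zpowers_le.2 ?_) (zpowers_le.2 ?_)) (zpowers_le.2 ?_)
    · show c * z * c⁻¹ ∈ P.A3
      rw [Y.zcomm hc.1 (Or.inr rfl), mul_inv_cancel_right]; exact P.z_A3
    · show c * P.s * c⁻¹ ∈ P.A3
      rw [P.D_s hc, mul_inv_cancel_right]; exact P.s_A3
    · show c * P.s1 * c⁻¹ ∈ P.A3
      obtain ⟨e, he, h⟩ := P.D_M_fix_s1 hc hcM
      rw [h]; exact mul_mem (P.inZ_A3 he) P.s1_A3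
  exact h hx

/-- Elements of order five of `D` centralise exactly `A₃` in `C(s, s₁) ∩ Q`. -/
theorem five_fix {u : G} (hu : u ∈ P.D) (hu5 : u ^ 5 = 1) (hu1 : u ≠ 1) {v : G} (hv : v ∈ P.Sg)
    (h : u * v = v * u) : v ∈ P.A3 := by
  obtain ⟨e, he, h'⟩ := Y.five u (Y.odd_M hu.1 (by decide) hu5) hu5 hu1 P.s P.sQ P.ss P.s1' P.sz
    (P.D_s hu) v hv.1.1 (Or.inl (by rw [h]; group)) (mem_centralizer_singleton_iff.1 hv.1.2)
    (mem_centralizer_singleton_iff.1 hv.2)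
  rcases h' with rfl | rfl | rfl | rfl
  · exact P.inZ_A3 he
  · exact mul_mem (P.inZ_A3 he) P.s_A3
  · exact mul_mem (P.inZ_A3 he) P.s1_A3
  · exact mul_mem (P.inZ_A3 he) (mul_mem P.s_A3 P.s1_A3)

theorem five_A3 {u : G} (hu : u ∈ P.D) (hu5 : u ^ 5 = 1) {x : G} (hx : x ∈ P.A3) :
    u * x = x * u := by
  obtain ⟨e, he, h⟩ := P.D_M_fix_s1 hu (Y.odd_M hu.1 (by decide) hu5)
  have hcc : Commute u e := Y.zcomm hu.1 he
  have hn : ∀ n : ℕ, u ^ n * P.s1 * (u ^ n)⁻¹ = e ^ n * P.s1 := fun n => by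
    induction n with
    | zero => simp
    | succ n ih =>
      calc u ^ (n + 1) * P.s1 * (u ^ (n + 1))⁻¹ = u * (u ^ n * P.s1 * (u ^ n)⁻¹) * u⁻¹ := by
            rw [pow_succ']; group
        _ = u * e ^ n * P.s1 * u⁻¹ := by rw [ih]; group
        _ = e ^ n * (u * P.s1 * u⁻¹) := by rw [(hcc.pow_right n).eq]; group
        _ = e ^ (n + 1) * P.s1 := by rw [h, ← mul_assoc, ← pow_succ]
  have h5 := hn 5
  rw [hu5, one_mul, inv_one, mul_one, pow_succ, pow_mul' e 2 2, pow_two e, Y.inZ_sq he, one_pow,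
    one_mul] at h5
  have he1 : e = 1 := mul_eq_right.1 h5.symm
  have h' : P.A3 ≤ centralizer ({u} : Set G) := by
    refine sup_le (sup_le (zpowers_le.2 ?_) (zpowers_le.2 ?_)) (zpowers_le.2 ?_) <;>
      rw [mem_centralizer_singleton_iff]
    · exact (Y.zcomm hu.1 (Or.inr rfl)).symm
    · exact (P.D_s hu).symm
    · rw [he1, one_mul] at h
      exact (mul_inv_eq_iff_eq_mul.1 h).symm
  exact (mem_centralizer_singleton_iff.1 (h' hx)).symm

/-- The `ξ`-line of `a` modulo `A₃`. -/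
def line (a : G) : Set G := {b | a⁻¹ * b ∈ P.A3 ∨ (Y.sh a)⁻¹ * b ∈ P.A3 ∨ (Y.sh (Y.sh a))⁻¹ * b ∈ P.A3}

/-- A `ξ`-invariant subgroup between `A₃` and `C(s, s₁) ∩ Q` invariant under a big group is one of
the two. -/
theorem irreducible (J : Subgroup G) (hAJ : P.A3 ≤ J) (hJS : J ≤ P.Sg)
    (hsh : ∀ a ∈ J, Y.sh a ∈ J) {Γ : Subgroup G} (hΓ : Big Γ) (hΓD : Γ ≤ P.D ⊓ Y.M)
    (hinv : ∀ c ∈ Γ, ∀ a ∈ J, c * a * c⁻¹ ∈ J) :
    Nat.card J = 8 ∨ Nat.card J = 2048 := by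
  classical
  haveI := Fintype.ofFinite G
  obtain ⟨u, huΓ, huo⟩ := hΓ.exists_five
  have hu5 : u ^ 5 = 1 := huo ▸ pow_orderOf_eq_one u
  have hu1 : u ≠ 1 := fun e => by rw [e, orderOf_one] at huo; omega
  have huD : u ∈ P.D := (hΓD huΓ).1
  set T : Set G := (J : Set G) \ (P.A3 : Set G) with hT
  have hTinv : ∀ c ∈ Γ, ∀ a ∈ T, c * a * c⁻¹ ∈ T := fun c hc a ha => by
    refine ⟨hinv c hc a ha.1, fun h => ha.2 ?_⟩
    have := P.D_M_norm_A3 (inv_mem (hΓD hc).1) (inv_mem (hΓD hc).2) h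
    rwa [show c⁻¹ * (c * a * c⁻¹) * c⁻¹⁻¹ = a by group] at this
  have hfree : ∀ a ∈ T, u * a ≠ a * u := fun a ha h =>
    ha.2 (P.five_fix huD hu5 hu1 (hJS ha.1) h)
  have h5 := card_dvd_of_free (by norm_num : Nat.Prime 5) hu5 T (hTinv u huΓ) hfree
  have hcardT : T.ncard + 8 = Nat.card J := by
    rw [← P.card_A3]
    have h := Set.ncard_diff_add_ncard_of_subset (s := (P.A3 : Set G)) (t := (J : Set G)) hAJ
    rw [← Nat.card_coe_set_eq (P.A3 : Set G), ← Nat.card_coe_set_eq (J : Set G)] at h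
    exact h
  have h11 := card_dvd_of_le hJS
  rw [P.card_Sg, show 2048 = 2 ^ 11 from rfl] at h11
  obtain ⟨k, hk, hk2⟩ := (Nat.dvd_prime_pow Nat.prime_two).1 h11
  have hcases : k = 3 ∨ k = 7 ∨ k = 11 := by
    rw [hk2] at hcardT
    interval_cases k <;> omega
  rcases hcases with rfl | rfl | rfl
  · exact Or.inl hk2
  swap
  · exact Or.inr hk2
  exfalso
  have hT120 : T.ncard = 120 := by rw [hk2] at hcardT; omega
  have hTsh : ∀ a ∈ T, Y.sh a ∈ T := fun a ha => ⟨hsh a ha.1, fun h => ha.2 (by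
    have := P.sh_A3 (P.sh_A3 h); rwa [Y.sh_three] at this)⟩
  have hTA : ∀ a ∈ T, ∀ x ∈ P.A3, a * x ∈ T := fun a ha x hx => ⟨mul_mem ha.1 (hAJ hx), fun h =>
    ha.2 (by have := mul_mem h (inv_mem hx); rwa [mul_inv_cancel_right] at this)⟩
  -- the lines
  have hmove : ∀ a b : G, a⁻¹ * b ∈ P.A3 → P.line b = P.line a := fun a b h => by
    have e : ∀ {a b : G}, a⁻¹ * b ∈ P.A3 → ∀ c, (b⁻¹ * c ∈ P.A3 ↔ a⁻¹ * c ∈ P.A3) := fun {a b} h c => by
      rw [show a⁻¹ * c = (a⁻¹ * b) * (b⁻¹ * c) by group, Subgroup.mul_mem_cancel_left _ h]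
    have h1 : (Y.sh a)⁻¹ * Y.sh b ∈ P.A3 := by
      have := P.sh_A3 h
      rwa [Y.sh_mul, show Y.sh a⁻¹ = (Y.sh a)⁻¹ from map_inv (MulAut.conj Y.ξ) a] at this
    have h2 : (Y.sh (Y.sh a))⁻¹ * Y.sh (Y.sh b) ∈ P.A3 := by
      have := P.sh_A3 h1
      rwa [Y.sh_mul, show Y.sh (Y.sh a)⁻¹ = (Y.sh (Y.sh a))⁻¹ from map_inv (MulAut.conj Y.ξ) _] at this
    ext c
    exact or_congr (e h c) (or_congr (e h1 c) (e h2 c))
  have hrot : ∀ a : G, P.line (Y.sh a) = P.line a := fun a => by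
    ext c
    show (_ ∨ _ ∨ _) ↔ (_ ∨ _ ∨ _)
    rw [Y.sh_three]
    tauto
  have hline : ∀ a b : G, b ∈ P.line a → P.line b = P.line a := fun a b hb => by
    rcases hb with h | h | h
    · exact hmove _ _ h
    · rw [hmove _ _ h, hrot]
    · rw [hmove _ _ h, hrot, hrot]
  have hlineT : ∀ a ∈ T, P.line a ⊆ T := fun a ha b hb => by
    rcases hb with h | h | h
    · simpa using hTA a ha _ h
    · simpa using hTA _ (hTsh a ha) _ h
    · simpa using hTA _ (hTsh _ (hTsh a ha)) _ h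
  -- a line has twenty-four elements
  have hne : ∀ a ∈ T, a⁻¹ * Y.sh a ∉ P.A3 := fun a ha h => by
    have haQ : a ∈ Y.Qg := (hJS ha.1).1.1
    have h' : (Y.sh a)⁻¹ * Y.sh (Y.sh a) ∈ P.A3 := by
      have := P.sh_A3 h
      rwa [Y.sh_mul, show Y.sh a⁻¹ = (Y.sh a)⁻¹ from map_inv (MulAut.conj Y.ξ) a] at this
    set c := a⁻¹ * Y.sh a with hc
    set d := (Y.sh a)⁻¹ * Y.sh (Y.sh a) with hd
    obtain ⟨e, he, hca⟩ := Y.comm' (P.A3_le h).1 haQ
    refine ha.2 ?_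
    have h3 : Y.Φ a = a * a * a * (e * c * c * d) := by
      calc Y.Φ a = a * a * c * a * c * d := by rw [Sys.Φ, hc, hd]; group
        _ = a * a * (c * a) * c * d := by group
        _ = a * a * (e * (a * c)) * c * d := by rw [hca]
        _ = a * (a * e) * a * c * c * d := by group
        _ = a * (e * a) * a * c * c * d := by rw [Y.zcomm (Y.le_cen haQ) he]
        _ = a * e * a * a * c * c * d := by group
        _ = e * a * a * a * c * c * d := by rw [Y.zcomm (Y.le_cen haQ) he]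
        _ = a * a * a * (e * c * c * d) := by
          rw [show e * a * a * a * c * c * d = e * (a * a * a) * (c * c * d) by group,
            ← Y.zcomm (mul_mem (mul_mem (Y.le_cen haQ) (Y.le_cen haQ)) (Y.le_cen haQ)) he]
          group
    have h4 : a * a * a ∈ P.A3 := by
      rw [eq_mul_inv_of_mul_eq h3.symm]
      exact mul_mem (P.inZ_A3 (Y.Φ_inZ haQ))
        (inv_mem (mul_mem (mul_mem (mul_mem (P.inZ_A3 he) h) h) h'))
    have := mul_mem (inv_mem (P.inZ_A3 (Y.sq a haQ))) h4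
    rwa [show (a * a)⁻¹ * (a * a * a) = a by group] at this
  have h24 : ∀ a ∈ T, (P.line a).ncard = 24 := by
    intro a ha
    let f : Fin 3 × P.A3 → G := fun p => ![a, Y.sh a, Y.sh (Y.sh a)] p.1 * p.2
    have hf : Set.range f = P.line a := by
      ext b
      constructor
      · rintro ⟨⟨i, x, hx⟩, rfl⟩
        fin_cases i
        · exact Or.inl (by simpa [f] using hx)
        · exact Or.inr (Or.inl (by simpa [f] using hx))
        · exact Or.inr (Or.inr (by simpa [f] using hx))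
      · rintro (h | h | h)
        · exact ⟨(0, ⟨_, h⟩), by simp [f]⟩
        · exact ⟨(1, ⟨_, h⟩), by simp [f]⟩
        · exact ⟨(2, ⟨_, h⟩), by simp [f]⟩
    have h0 := hne a ha
    have h1 := hne _ (hTsh a ha)
    have h2 : a⁻¹ * Y.sh (Y.sh a) ∉ P.A3 := fun h => hne _ (hTsh _ (hTsh a ha)) (by
      have := inv_mem h
      rw [mul_inv_rev, inv_inv] at this
      rwa [Y.sh_three a])
    have hfi : Function.Injective f := by
      have key : ∀ (x y : G) (c d : P.A3), x * c = y * d → x⁻¹ * y ∈ P.A3 := fun x y c d h => by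
        rw [show x⁻¹ * y = c * (d : G)⁻¹ by rw [eq_mul_inv_iff_mul_eq, mul_assoc, ← h, inv_mul_cancel_left]]
        exact mul_mem c.2 (inv_mem d.2)
      rintro ⟨i, c⟩ ⟨j, d⟩ h
      have k1 := key _ _ _ _ h
      have k2 := key _ _ _ _ h.symm
      fin_cases i <;> fin_cases j
      case «0».«0» | «1».«1» | «2».«2» => simpa [f] using h
      all_goals exfalso
      all_goals first
        | exact h0 (by simpa using k1)
        | exact h0 (by simpa using k2)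
        | exact h1 (by simpa using k1)
        | exact h1 (by simpa using k2)
        | exact h2 (by simpa using k1)
        | exact h2 (by simpa using k2)
    rw [← hf, Set.ncard_range_of_injective hfi, Nat.card_prod, P.card_A3, Nat.card_eq_fintype_card,
      Fintype.card_fin]
  -- five lines
  let L : Finset (Set G) := T.toFinset.image P.line
  have hsum : T.toFinset.card = L.card * 24 := by
    rw [Finset.card_eq_sum_card_image P.line]
    refine Finset.sum_const_nat fun l hl => ?_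
    obtain ⟨a, ha, rfl⟩ := Finset.mem_image.1 hl
    rw [Set.mem_toFinset] at ha
    rw [← h24 a ha, Set.ncard_eq_toFinset_card']
    congr 1
    ext b
    simp only [Finset.mem_filter, Set.mem_toFinset]
    exact ⟨fun h => h.2 ▸ Or.inl (by simp), fun h => ⟨hlineT a ha h, hline a b h⟩⟩
  have hL : L.card = 5 := by rw [← Set.ncard_eq_toFinset_card', hT120] at hsum; omega
  have hLinv : ∀ c ∈ Γ, ∀ X ∈ L, (fun a => c * a * c⁻¹) '' X ∈ L := by
    intro c hc X hX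
    obtain ⟨a, ha, rfl⟩ := Finset.mem_image.1 hX
    rw [Set.mem_toFinset] at ha
    refine Finset.mem_image.2 ⟨c * a * c⁻¹, Set.mem_toFinset.2 (hTinv c hc a ha), ?_⟩
    have hcsh : ∀ x ∈ Y.Qg, (Y.sh (c * x * c⁻¹))⁻¹ * (c * Y.sh x * c⁻¹) ∈ P.A3 := fun x hx => by
      obtain ⟨e, he, h⟩ := P.conj_sh (hΓD hc).1.1 (Y.xiC c (hΓD hc).2) hx
      rw [h, ← mul_assoc, Y.zcomm (inv_mem (Y.le_cen (Y.sh_mem (Y.normQ c (hΓD hc).1.1 x hx)))) he,
        mul_assoc, inv_mul_cancel, mul_one]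
      exact P.inZ_A3 he
    have hsub : (fun a => c * a * c⁻¹) '' P.line a ⊆ P.line (c * a * c⁻¹) := by
      rintro _ ⟨b, hb, rfl⟩
      have hm : ∀ {x y : G}, x⁻¹ * y ∈ P.A3 → (c * x * c⁻¹)⁻¹ * (c * y * c⁻¹) ∈ P.A3 := fun {x y} h => by
        rw [show (c * x * c⁻¹)⁻¹ * (c * y * c⁻¹) = c * (x⁻¹ * y) * c⁻¹ by group]
        exact P.D_M_norm_A3 (hΓD hc).1 (hΓD hc).2 h
      have haQ : a ∈ Y.Qg := (hJS ha.1).1.1
      rcases hb with h | h | h
      · exact Or.inl (hm h)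
      · refine Or.inr (Or.inl ?_)
        have := mul_mem (hcsh a haQ) (hm h)
        rwa [show (Y.sh (c * a * c⁻¹))⁻¹ * (c * Y.sh a * c⁻¹) * ((c * Y.sh a * c⁻¹)⁻¹ * (c * b * c⁻¹)) =
          (Y.sh (c * a * c⁻¹))⁻¹ * (c * b * c⁻¹) by group] at this
      · refine Or.inr (Or.inr ?_)
        have e1 := P.sh_A3 (hcsh a haQ)
        rw [Y.sh_mul, show Y.sh (Y.sh (c * a * c⁻¹))⁻¹ = (Y.sh (Y.sh (c * a * c⁻¹)))⁻¹ from
          map_inv (MulAut.conj Y.ξ) _] at e1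
        have := mul_mem (mul_mem e1 (hcsh _ (Y.sh_mem haQ))) (hm h)
        rwa [show (Y.sh (Y.sh (c * a * c⁻¹)))⁻¹ * Y.sh (c * Y.sh a * c⁻¹) *
            ((Y.sh (c * Y.sh a * c⁻¹))⁻¹ * (c * Y.sh (Y.sh a) * c⁻¹)) *
            ((c * Y.sh (Y.sh a) * c⁻¹)⁻¹ * (c * b * c⁻¹)) =
          (Y.sh (Y.sh (c * a * c⁻¹)))⁻¹ * (c * b * c⁻¹) by group] at this
    refine (Set.eq_of_subset_of_ncard_le hsub ?_).symm
    rw [h24 _ (hTinv c hc a ha), Set.ncard_image_of_injective _ fun x y h => by simpa using h, h24 a ha]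
  obtain ⟨X, hX⟩ := Finset.card_pos.1 (show 0 < L.card by omega)
  obtain ⟨a, ha, rfl⟩ := Finset.mem_image.1 hX
  rw [Set.mem_toFinset] at ha
  have hfix := hΓ.fix_sets L hL.le hLinv huΓ hu5 hX
  have := card_dvd_of_free (by norm_num : Nat.Prime 5) hu5 (P.line a)
    (fun b hb => hfix ▸ ⟨b, hb, rfl⟩) fun b hb => hfree b (hlineT a ha hb)
  rw [h24 a ha] at this
  omega

/-- `A₃` has no invariant complement in `R` modulo `s`. -/
theorem no_complement (N : Subgroup G) (hN : N ≤ P.R) (hcard : Nat.card N = 32) (hsN : P.s ∈ N)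
    (hcap : ∀ x ∈ N, x ∈ P.A3 → x = 1 ∨ x = P.s) {Γ : Subgroup G} (hΓ : Big Γ)
    (hΓD : Γ ≤ P.D ⊓ Y.M) (hΓξ : ∀ c ∈ Γ, c * Y.ξ = Y.ξ * c)
    (hinv : ∀ c ∈ Γ, ∀ a ∈ N, c * a * c⁻¹ ∈ N) : False := by
  classical
  haveI := Fintype.ofFinite G
  obtain ⟨u, huΓ, huo⟩ := hΓ.exists_five
  have hu5 : u ^ 5 = 1 := huo ▸ pow_orderOf_eq_one u
  have hu1 : u ≠ 1 := fun e => by rw [e, orderOf_one] at huo; omega
  have huD : u ∈ P.D := (hΓD huΓ).1
  let T : G → Set G := fun e => {a | a ∈ N ∧ a ≠ 1 ∧ a ≠ P.s ∧ Y.Φ a = e}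
  have hfree : ∀ e, ∀ a ∈ T e, u * a ≠ a * u := fun e a ha h =>
    (hcap a ha.1 (P.five_fix huD hu5 hu1 (P.R_le_Sg (hN ha.1)) h)).elim ha.2.1 ha.2.2.1
  have hTinv : ∀ e, ∀ c ∈ Γ, ∀ a ∈ T e, c * a * c⁻¹ ∈ T e := fun e c hc a ha => by
    refine ⟨hinv c hc a ha.1, fun h => ha.2.1 (conj_eq_one_iff.1 h), fun h => ha.2.2.1 ?_,
      by rw [Y.Φ_conj (hΓξ c hc) (hΓD hc).1.1 (hN ha.1).1, ha.2.2.2]⟩
    calc a = c⁻¹ * (c * a * c⁻¹) * c := by group
      _ = c⁻¹ * (P.s * c) := by rw [h]; group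
      _ = P.s := by rw [← P.D_s (hΓD hc).1, inv_mul_cancel_left]
  have hsc : ∀ e, ∀ a ∈ T e, a * P.s ∈ T e := fun e a ha =>
    ⟨N.mul_mem ha.1 hsN, fun h => ha.2.2.1 (by rw [eq_inv_of_mul_eq_one_left h, P.sinv]),
      fun h => ha.2.1 (mul_eq_right.1 h), by rw [P.Φ_mul_s (hN ha.1)]; exact ha.2.2.2⟩
  have hsmall : ∀ e, 2 ∣ (T e).ncard ∧ ((T e).ncard = 0 ∨ 10 < (T e).ncard) := by
    intro e
    let pairOf : G → Set G := fun a => {a, a * P.s}
    have hpair : ∀ a ∈ T e, (pairOf a).ncard = 2 := fun a ha =>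
      Set.ncard_pair fun h => P.s1' (left_eq_mul.1 h)
    have hmem : ∀ a b : G, b ∈ pairOf a → pairOf b = pairOf a := by
      intro a b hb
      simp only [pairOf, Set.mem_insert_iff, Set.mem_singleton_iff] at hb
      rcases hb with rfl | rfl
      · rfl
      · simp only [pairOf]
        rw [mul_assoc, P.ss, mul_one, Set.pair_comm]
    let L : Finset (Set G) := (T e).toFinset.image pairOf
    have hsum : (T e).toFinset.card = L.card * 2 := by
      rw [Finset.card_eq_sum_card_image pairOf]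
      refine Finset.sum_const_nat fun l hl => ?_
      obtain ⟨a, ha, rfl⟩ := Finset.mem_image.1 hl
      rw [Set.mem_toFinset] at ha
      rw [← hpair a ha, Set.ncard_eq_toFinset_card']
      congr 1
      ext b
      simp only [Finset.mem_filter, Set.mem_toFinset]
      refine ⟨fun h => h.2 ▸ Or.inl rfl, fun h => ⟨?_, hmem a b h⟩⟩
      rcases h with rfl | rfl
      exacts [ha, hsc e a ha]
    rw [← Set.ncard_eq_toFinset_card'] at hsum
    refine ⟨⟨L.card, by omega⟩, ?_⟩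
    by_contra hcon
    push Not at hcon
    have hLinv : ∀ c ∈ Γ, ∀ X ∈ L, (fun a => c * a * c⁻¹) '' X ∈ L := by
      intro c hc X hX
      obtain ⟨a, ha, rfl⟩ := Finset.mem_image.1 hX
      rw [Set.mem_toFinset] at ha
      refine Finset.mem_image.2 ⟨c * a * c⁻¹, Set.mem_toFinset.2 (hTinv e c hc a ha), ?_⟩
      have h1 : c * (a * P.s) * c⁻¹ = c * a * c⁻¹ * P.s := by
        calc c * (a * P.s) * c⁻¹ = c * a * c⁻¹ * (c * P.s * c⁻¹) := by group
          _ = c * a * c⁻¹ * P.s := by rw [P.D_s (hΓD hc).1, mul_inv_cancel_right]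
      show ({c * a * c⁻¹, c * a * c⁻¹ * P.s} : Set G) = (fun x => c * x * c⁻¹) '' {a, a * P.s}
      rw [Set.image_pair, h1]
    obtain ⟨a, ha⟩ := Set.nonempty_of_ncard_ne_zero hcon.1
    have hfix := hΓ.fix_sets L (by omega) hLinv huΓ hu5
      (Finset.mem_image.2 ⟨a, Set.mem_toFinset.2 ha, rfl⟩)
    have hd := card_dvd_of_free (by norm_num : Nat.Prime 5) hu5 (pairOf a)
      (fun b hb => hfix ▸ ⟨b, hb, rfl⟩) fun b hb => by
        rcases hb with rfl | rfl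
        exacts [hfree e _ ha, hfree e _ (hsc e a ha)]
    rw [hpair a ha] at hd
    omega
  have hdisj : Disjoint (T 1) (T z) := Set.disjoint_left.2 fun a h1 h2 =>
    Y.z1 (h2.2.2.2.symm.trans h1.2.2.2)
  have hTT : T 1 ∪ T z = (N : Set G) \ ({1, P.s} : Set G) := by
    ext a
    constructor
    · rintro (h | h) <;> exact ⟨h.1, fun e => e.elim h.2.1 h.2.2.1⟩
    · rintro ⟨haN, ha⟩
      rcases Y.Φ_inZ (hN haN).1 with h | h
      · exact Or.inl ⟨haN, fun e => ha (Or.inl e), fun e => ha (Or.inr e), h⟩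
      · exact Or.inr ⟨haN, fun e => ha (Or.inl e), fun e => ha (Or.inr e), h⟩
  have h30 : (T 1).ncard + (T z).ncard = 30 := by
    rw [← Set.ncard_union_eq hdisj, hTT,
      Set.ncard_sdiff (by rintro x (rfl | rfl); exacts [N.one_mem, hsN]),
      Set.ncard_pair (Ne.symm P.s1'), ← Nat.card_coe_set_eq]
    show Nat.card N - 2 = 30
    rw [hcard]
  have hfive : ∀ e, 5 ∣ (T e).ncard := fun e =>
    card_dvd_of_free (by norm_num) hu5 (T e) (hTinv e u huΓ) (hfree e)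
  have hcases : (T 1).ncard = 0 ∨ (T z).ncard = 0 := by
    have := hsmall 1; have := hsmall z; have := hfive 1; have := hfive z
    omega
  rcases hcases with h | h
  · -- all orbit products are `z`
    rw [Set.ncard_eq_zero] at h
    have hz : ∀ a ∈ N, a ≠ 1 → a ≠ P.s → Y.Φ a = z := fun a ha h1 h2 =>
      (Y.Φ_inZ (hN ha).1).resolve_left fun e =>
        Set.notMem_empty a (h ▸ (⟨ha, h1, h2, e⟩ : a ∈ T 1))
    have pick : ∀ F : Finset G, F.card < 32 → ∃ a ∈ N, a ∉ F := fun F hF => by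
      by_contra hno
      push Not at hno
      have := Set.ncard_le_ncard (s := (N : Set G)) (t := (F : Set G)) hno
      rw [Set.ncard_coe_finset, ← Nat.card_coe_set_eq] at this
      have e : Nat.card (N : Set G) = 32 := hcard
      omega
    obtain ⟨a, ha, haF⟩ := pick {1, P.s} ((Finset.card_insert_le _ _).trans_lt (by simp))
    simp only [Finset.mem_insert, Finset.mem_singleton, not_or] at haF
    have hainv : a⁻¹ = a := inv_eq_of_mul_eq_one_right (P.R_sq (hN ha))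
    obtain ⟨b, hb, hbF⟩ := pick {1, P.s, a, a * P.s} (by
      refine lt_of_le_of_lt ((Finset.card_insert_le _ _).trans (Nat.succ_le_succ
        ((Finset.card_insert_le _ _).trans (Nat.succ_le_succ (Finset.card_insert_le _ _))))) (by simp))
    simp only [Finset.mem_insert, Finset.mem_singleton, not_or] at hbF
    obtain ⟨c, hc, hcF⟩ := pick
      (({1, P.s, a, a * P.s} : Finset G) ∪ ({b, b * P.s, b * a, b * (a * P.s)} : Finset G)) (by
      have h4 : ∀ p q r t : G, ({p, q, r, t} : Finset G).card ≤ 4 := fun p q r t =>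
        (Finset.card_insert_le _ _).trans (Nat.succ_le_succ ((Finset.card_insert_le _ _).trans
          (Nat.succ_le_succ ((Finset.card_insert_le _ _).trans (by simp)))))
      have := (Finset.card_union_le _ _).trans (Nat.add_le_add (h4 1 P.s a (a * P.s))
        (h4 b (b * P.s) (b * a) (b * (a * P.s))))
      omega)
    simp only [Finset.mem_union, Finset.mem_insert, Finset.mem_singleton, not_or] at hcF
    have key : ∀ x ∈ N, x ≠ 1 → x ≠ P.s → x ≠ a → x ≠ a * P.s →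
        x * Y.sh (Y.sh a) * x⁻¹ * (Y.sh (Y.sh a))⁻¹ = z := by
      intro x hx h1 h2 h3 h4
      have h := Y.Φ_mul (hN ha).1 (hN hx).1
      rw [hz a ha haF.1 haF.2, hz x hx h1 h2, Y.zz, one_mul,
        hz (a * x) (N.mul_mem ha hx) (fun e => h3 (by rw [eq_inv_of_mul_eq_one_right e, hainv]))
          (fun e => h4 (by rw [← e, ← mul_assoc, P.R_sq (hN ha), one_mul]))] at h
      exact h.symm
    have hbinv : b⁻¹ = b := inv_eq_of_mul_eq_one_right (P.R_sq (hN hb))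
    have e1 := key b hb hbF.1 hbF.2.1 hbF.2.2.1 hbF.2.2.2
    have e2 := key c hc hcF.1.1 hcF.1.2.1 hcF.1.2.2.1 hcF.1.2.2.2
    have hb2 : ∀ y, b * c = y → c = b * y := fun y h => by
      rw [← h, ← mul_assoc, P.R_sq (hN hb), one_mul]
    have e3 := key (b * c) (N.mul_mem hb hc) (fun e => hcF.2.1 (by rw [hb2 _ e, mul_one]))
      (fun e => hcF.2.2.1 (hb2 _ e)) (fun e => hcF.2.2.2.1 (hb2 _ e))
      (fun e => hcF.2.2.2.2 (hb2 _ e))
    set x := Y.sh (Y.sh a)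
    have : z = z * z := by
      calc z = b * (c * x * c⁻¹ * x⁻¹) * (x * b⁻¹ * x⁻¹) := by
            conv_lhs => rw [← e3]
            group
        _ = z * (b * x * b⁻¹ * x⁻¹) := by
            rw [e2, Y.zcomm (Y.le_cen (hN hb).1) (Or.inr rfl)]; group
        _ = z * z := by rw [e1]
    exact Y.z1 (mul_eq_left.1 this.symm)
  · -- `R` would be invariant under `ξ`
    rw [Set.ncard_eq_zero] at h
    have h1 : ∀ a ∈ N, Y.Φ a = 1 := fun a ha => by
      by_cases e1 : a = 1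
      · rw [e1, Y.Φ_of_inZ (Or.inl rfl)]
      by_cases e2 : a = P.s
      · rw [e2, P.Φs]
      exact (Y.Φ_inZ (hN ha).1).resolve_right fun e =>
        Set.notMem_empty a (h ▸ (⟨ha, e1, e2, e⟩ : a ∈ T z))
    have hsup : N ⊔ P.A3 = P.R := by
      refine eq_of_le_of_card_ge (sup_le hN P.A3_le) ?_
      have h := card_sup_mul_inf N P.A3 fun a ha b hb => by
        rwa [P.R_comm (hN ha) (P.A3_le hb), mul_inv_cancel_right]
      have h2 : Nat.card ↥(N ⊓ P.A3) = 2 := by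
        rw [show N ⊓ P.A3 = zpowers P.s from le_antisymm (fun x hx => by
            rcases hcap x hx.1 hx.2 with rfl | rfl
            exacts [one_mem _, mem_zpowers _]) (zpowers_le.2 ⟨hsN, P.s_A3⟩), Nat.card_zpowers,
          orderOf_eq_prime (p := 2) (by rw [pow_two, P.ss]) P.s1']
      rw [hcard, P.card_A3, h2] at h
      rw [P.R_card]; omega
    have hshR : ∀ a ∈ N, Y.sh (Y.sh a) ∈ P.R := by
      intro a ha
      set x := Y.sh (Y.sh a)
      refine P.mem_of_centralizes inf_le_left P.R_card (fun c hc d hd => P.R_comm hc hd)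
        (Y.sh_mem (Y.sh_mem (hN ha).1)) fun r hr => ?_
      have hle : N ⊔ P.A3 ≤ centralizer ({x} : Set G) := by
        refine sup_le (fun b hb => mem_centralizer_singleton_iff.2 ?_) fun y hy =>
          mem_centralizer_singleton_iff.2 ?_
        · have h := Y.Φ_mul (hN ha).1 (hN hb).1
          rw [h1 _ (N.mul_mem ha hb), h1 a ha, h1 b hb, one_mul, one_mul] at h
          exact mul_inv_eq_iff_eq_mul.1 (mul_inv_eq_one.1 h.symm)
        · have h := Y.sh_comm (Y.sh_comm (P.R_comm (hN ha) (P.A3_le (P.sh_A3 hy))))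
          rw [Y.sh_three] at h
          exact h.symm
      exact (mem_centralizer_singleton_iff.1 (hle (hsup.symm ▸ hr))).symm
    have hle : P.R ≤ P.R.comap ((MulAut.conj Y.ξ).toMonoidHom.comp (MulAut.conj Y.ξ).toMonoidHom) :=
      hsup ▸ sup_le (fun a ha => hsup.symm ▸ hshR a ha)
        fun y hy => hsup.symm ▸ P.A3_le (P.sh_A3 (P.sh_A3 hy))
    rcases P.irreducible P.R P.A3_le P.R_le_Sg (fun a ha => by
      have h := hle (hle ha)
      have e : Y.sh (Y.sh (Y.sh (Y.sh a))) = Y.sh a := Y.sh_three _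
      rw [← e]; exact h) hΓ hΓD (fun c hc a ha => P.D_norm_R (hΓD hc).1 ha) with e | e <;>
      rw [P.R_card] at e <;> omega

theorem K_cases (hperf : Y.M ≤ ⁅Y.M, Y.M⁆ ⊔ Y.Qg) {k : G} (hk : k ∈ Y.K) :
    k ∈ ⁅Y.K, Y.K⁆ ∨ k * z ∈ ⁅Y.K, Y.K⁆ := by
  set K' := ⁅Y.K, Y.K⁆
  have hK' : K' ≤ Y.K := commutator_le.2 fun a ha b hb =>
    mul_mem (mul_mem (mul_mem ha hb) (inv_mem ha)) (inv_mem hb)
  have hQ : ∀ c ∈ Y.M, ∀ q ∈ Y.Qg, c * q * c⁻¹ ∈ Y.Qg := fun c hc => Y.normQ c (Y.Mle hc)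
  have hle : ⁅Y.M, Y.M⁆ ≤ K' ⊔ Y.Qg := by
    refine commutator_le.2 fun m hm m' hm' => ?_
    obtain ⟨a, q, haM, haξ, hq, rfl⟩ := Y.cover hm
    obtain ⟨b, p, hbM, hbξ, hp, rfl⟩ := Y.cover hm'
    have ha : a ∈ Y.K := ⟨haM, mem_centralizer_singleton_iff.2 haξ⟩
    have hb : b ∈ Y.K := ⟨hbM, mem_centralizer_singleton_iff.2 hbξ⟩
    have h1 : a * q * a⁻¹ ∈ Y.Qg := hQ a haM q hq
    have h2 : b * p * b⁻¹ ∈ Y.Qg := hQ b hbM p hp
    rw [show ⁅a * q, b * p⁆ = a * q * a⁻¹ * (a * (b * p * b⁻¹) * a⁻¹) * ⁅a, b⁆ *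
      (b * (a * q * a⁻¹)⁻¹ * b⁻¹) * (b * p * b⁻¹)⁻¹ by simp only [commutatorElement_def]; group]
    exact mul_mem (mul_mem (mul_mem (mem_sup_right (mul_mem h1 (hQ a haM _ h2)))
      (mem_sup_left (commutator_mem_commutator ha hb))) (mem_sup_right (hQ b hbM _ (inv_mem h1))))
      (mem_sup_right (inv_mem h2))
  have hk' : k ∈ K' ⊔ Y.Qg := sup_le hle le_sup_right (hperf hk.1)
  have hn : K' ≤ normalizer (Y.Qg : Set G) := fun c hc => mem_normalizer_iff.2 fun q =>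
    ⟨fun h => hQ c (hK' hc).1 q h, fun h => by
      have := hQ c⁻¹ (inv_mem (hK' hc).1) _ h
      simpa [mul_assoc] using this⟩
  rw [← SetLike.mem_coe, coe_mul_of_left_le_normalizer_right K' Y.Qg hn] at hk'
  obtain ⟨y, hy, q, hq, rfl⟩ := hk'
  have hqK : q ∈ Y.K := by simpa using mul_mem (inv_mem (hK' hy)) hk
  rcases Y.inZ_of_comm hq (mem_centralizer_singleton_iff.1 hqK.2) with rfl | rfl
  · left; simpa using hy
  · right; simpa [mul_assoc, Y.zz] using hy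

theorem z_mem_commutator (hperf : Y.M ≤ ⁅Y.M, Y.M⁆ ⊔ Y.Qg) : z ∈ ⁅Y.K, Y.K⁆ := by
  classical
  by_contra hzK
  set K' := ⁅Y.K, Y.K⁆ with hK'def
  have hK' : K' ≤ Y.K := commutator_le.2 fun a ha b hb =>
    mul_mem (mul_mem (mul_mem ha hb) (inv_mem ha)) (inv_mem hb)
  have hzpow : Nat.card (zpowers z) = 2 := by
    rw [Nat.card_zpowers, orderOf_eq_prime (p := 2) (by rw [pow_two, Y.zz]) Y.z1]
  obtain ⟨w₀, hw₀, hw₀M⟩ := P.exists_out
  have hzW : z ∈ P.W := P.R_le_W P.z_mem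
  have hzK1 : z ∈ Y.K :=
    ⟨Y.QM Y.zQ, mem_centralizer_singleton_iff.2 (Y.zcomm Y.xi_cen (Or.inr rfl)).symm⟩
  -- `W ∩ M = (K ∩ W) R`
  have hWcard : Nat.card P.W = 4096 := by
    set a := P.g⁻¹ * z * P.g with ha
    have haQ : a ∈ Y.Qg := P.mem_Qs.1 P.z_mem.2
    have ha1 : a ≠ 1 := fun e => Y.z1 (by
      calc z = P.g * a * P.g⁻¹ := by rw [ha]; group
        _ = 1 := by rw [e]; group)
    have haz : a ≠ z := fun e => P.sz (by
      rw [← P.hg]
      calc P.g * z * P.g⁻¹ = P.g * a * P.g⁻¹ := congrArg (fun y => P.g * y * P.g⁻¹) e.symm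
        _ = z := by rw [ha]; group)
    rw [← Y.card_cent a haQ ha1 haz, show P.W = (Y.Qg ⊓ centralizer ({a} : Set G)).map
      (MulAut.conj P.g).toMonoidHom from ?_, card_map_of_injective (MulAut.conj P.g).injective]
    rw [map_inf _ _ _ (MulAut.conj P.g).injective]
    refine congrArg (P.Qs ⊓ ·) ?_
    ext x
    rw [mem_centralizer_singleton_iff, ← SetLike.mem_coe, coe_map, Set.mem_image]
    constructor
    · intro hx
      refine ⟨P.g⁻¹ * x * P.g, mem_centralizer_singleton_iff.2 ?_, by simp [mul_assoc]⟩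
      calc P.g⁻¹ * x * P.g * a = P.g⁻¹ * (x * z) * P.g := by rw [ha]; group
        _ = a * (P.g⁻¹ * x * P.g) := by rw [hx, ha]; group
    · rintro ⟨y, hy, rfl⟩
      have hy' := mem_centralizer_singleton_iff.1 hy
      show P.g * y * P.g⁻¹ * z = z * (P.g * y * P.g⁻¹)
      calc P.g * y * P.g⁻¹ * z = P.g * (y * a) * P.g⁻¹ := by rw [ha]; group
        _ = z * (P.g * y * P.g⁻¹) := by rw [hy', ha]; group
  have hWM : Nat.card ↥(P.W ⊓ Y.M) = 2048 := by
    have := card_of_pair (X := P.W) (Y := P.W ⊓ Y.M) inf_le_left hw₀ (fun h => hw₀M h.2)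
      fun a ha b hb hna hnb => ⟨mul_mem ha hb,
        Y.pair a ha.2 b hb.2 (fun h => hna ⟨ha, h⟩) fun h => hnb ⟨hb, h⟩⟩
    omega
  set KW := Y.K ⊓ P.W with hKW
  have hKWsup : KW ⊔ P.R = P.W ⊓ Y.M := by
    refine le_antisymm (sup_le (fun x hx => ⟨hx.2, hx.1.1⟩)
      fun x hx => ⟨P.R_le_W hx, Y.QM hx.1⟩) ?_
    rintro m ⟨hmW, hmM⟩
    obtain ⟨k, q, hkM, hkξ, hq, rfl⟩ := Y.cover hmM
    have hks : k * P.s = P.s * k := by
      refine P.fix_s (Y.Mle hkM) hkξ ?_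
      have hms : k * q * P.s = P.s * (k * q) := P.Qs_cen_s hmW.1
      have h1 : k * (q * P.s * q⁻¹ * P.s⁻¹) * k⁻¹ = (k * P.s * k⁻¹ * P.s⁻¹)⁻¹ := by
        calc k * (q * P.s * q⁻¹ * P.s⁻¹) * k⁻¹ = k * q * P.s * q⁻¹ * P.s⁻¹ * k⁻¹ := by group
          _ = P.s * (k * q) * q⁻¹ * P.s⁻¹ * k⁻¹ := by rw [hms]
          _ = _ := by group
      have h2 := Y.comm q hq P.s P.sQ
      rw [Y.zcomm (Y.Mle hkM) h2, mul_inv_cancel_right] at h1
      rw [h1] at h2
      have := Y.inZ_inv h2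
      rwa [inv_inv] at this
    obtain ⟨hqR, hkW⟩ := P.mem_W (Y.Mle hkM) hkξ hmW (inv_mem hq) hks
      (by rw [mul_inv_cancel_right])
    exact mul_mem (mem_sup_left ⟨⟨hkM, mem_centralizer_singleton_iff.2 hkξ⟩, hkW⟩)
      (mem_sup_right (by simpa using inv_mem hqR))
  have hKWcard : Nat.card KW = 32 := by
    have h := card_sup_mul_inf KW P.R fun a ha b hb => P.D_norm_R (P.W_le_D ha.2) hb
    have h2 : KW ⊓ P.R = zpowers z := le_antisymm
      (fun x hx => P.mem_zpowers_z.2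
        (Y.inZ_of_comm hx.2.1 (mem_centralizer_singleton_iff.1 hx.1.1.2)))
      (zpowers_le.2 ⟨⟨hzK1, hzW⟩, P.z_mem⟩)
    rw [hKWsup, hWM, h2, hzpow, P.R_card] at h
    omega
  have hK'W : Nat.card ↥(K' ⊓ P.W) = 16 := by
    have := card_of_pair (X := KW) (Y := K' ⊓ P.W) (inf_le_inf_right _ hK') (w := z) ⟨hzK1, hzW⟩
      (fun h => hzK h.1) fun a ha b hb hna hnb => by
        have h1 : a * z ∈ K' := (P.K_cases hperf ha.1).resolve_left fun h => hna ⟨h, ha.2⟩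
        have h2 : b * z ∈ K' := (P.K_cases hperf hb.1).resolve_left fun h => hnb ⟨h, hb.2⟩
        have h3 := mul_mem h1 h2
        rw [show a * z * (b * z) = a * (z * b) * z by group,
          ← Y.zcomm hb.2.2 (Or.inr rfl), show a * (b * z) * z = a * b * (z * z) by group, Y.zz,
          mul_one] at h3
        exact ⟨h3, mul_mem ha.2 hb.2⟩
    omega
  set U := (K' ⊓ P.W) ⊔ zpowers P.s with hU
  have memU : ∀ {x}, x ∈ U ↔ x ∈ K' ⊓ P.W ∨ x * P.s ∈ K' ⊓ P.W := fun {x} =>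
    mem_sup_zpowers (K' ⊓ P.W) P.ss fun a ha => P.Qs_cen_s (mem_inf.1 (mem_inf.1 ha).2).1
  have hUW : U ≤ P.W := sup_le inf_le_right (zpowers_le.2 (P.R_le_W P.s_mem))
  have hK'R : ∀ x ∈ K', x ∈ P.R → x = 1 := fun x hx hxR =>
    (Y.inZ_of_comm hxR.1 (mem_centralizer_singleton_iff.1 (hK' hx).2)).resolve_right
      fun e => hzK (e ▸ hx)
  have hUR : ∀ x ∈ U, x ∈ P.R → x = 1 ∨ x = P.s := fun x hx hxR => by
    rcases memU.1 hx with h | h
    · exact Or.inl (hK'R x h.1 hxR)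
    · exact Or.inr (by rw [eq_inv_of_mul_eq_one_left (hK'R _ h.1 (mul_mem hxR P.s_mem)), P.sinv])
  have hUcard : Nat.card U = 32 := by
    rw [card_of_pair (X := U) (Y := K' ⊓ P.W) le_sup_left (w := P.s) (mem_sup_right (mem_zpowers _))
      (fun h => P.s1' (hK'R _ h.1 P.s_mem)) fun a ha b hb hna hnb => by
        have h3 := mul_mem ((memU.1 ha).resolve_left hna) ((memU.1 hb).resolve_left hnb)
        rwa [show a * P.s * (b * P.s) = a * (P.s * b) * P.s by group,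
          ← P.Qs_cen_s (hUW hb).1, show a * (b * P.s) * P.s = a * b * (P.s * P.s) by group,
          P.ss, mul_one] at h3, hK'W]
  -- the group acting
  set Γ0 := Y.K ⊓ centralizer ({P.s} : Set G) with hΓ0
  have hΓ0D : Γ0 ≤ P.D := fun c hc => ⟨Y.Mle hc.1.1, hc.2⟩
  have hΓ0Big : Big Γ0 := by
    let i : Γ0 →* ↥(centralizer ({z} : Set G) ⊓ centralizer ({P.s} : Set G)) := inclusion hΓ0D
    refine ⟨P.π.comp i, fun y => ?_, fun a => ?_⟩
    · obtain ⟨d, rfl⟩ := P.π_surj y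
      obtain ⟨m, hm, hmd⟩ : ∃ m : ↥(centralizer ({z} : Set G) ⊓ centralizer ({P.s} : Set G)), (m : G) ∈ Y.M ∧ P.π m = P.π d := by
        by_cases hd : (d : G) ∈ Y.M
        · exact ⟨d, hd, rfl⟩
        · let w : ↥(centralizer ({z} : Set G) ⊓ centralizer ({P.s} : Set G)) := ⟨w₀, P.W_le_D hw₀⟩
          refine ⟨d * w, Y.pair _ d.2.1 _ hw₀.2 hd hw₀M, ?_⟩
          have e : P.π w = 1 := P.π_kill _ (Or.inr hw₀.1)
          exact (map_mul P.π d w).trans (by rw [e]; exact mul_one _)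
      obtain ⟨k, q, hkM, hkξ, hq, hmkq⟩ := Y.cover hm
      have hks : k * P.s = P.s * k := by
        refine P.fix_s (Y.Mle hkM) hkξ ?_
        have hms : k * q * P.s = P.s * (k * q) := hmkq ▸ P.D_s m.2
        have h1 : k * (q * P.s * q⁻¹ * P.s⁻¹) * k⁻¹ = (k * P.s * k⁻¹ * P.s⁻¹)⁻¹ := by
          calc k * (q * P.s * q⁻¹ * P.s⁻¹) * k⁻¹ = k * q * P.s * q⁻¹ * P.s⁻¹ * k⁻¹ := by group
            _ = P.s * (k * q) * q⁻¹ * P.s⁻¹ * k⁻¹ := by rw [hms]
            _ = _ := by group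
        have h2 := Y.comm q hq P.s P.sQ
        rw [Y.zcomm (Y.Mle hkM) h2, mul_inv_cancel_right] at h1
        rw [h1] at h2
        have := Y.inZ_inv h2
        rwa [inv_inv] at this
      have hk0 : k ∈ Γ0 :=
        ⟨⟨hkM, mem_centralizer_singleton_iff.2 hkξ⟩, mem_centralizer_singleton_iff.2 hks⟩
      have hqD : q ∈ P.D := by
        have := mul_mem (inv_mem (hΓ0D hk0)) (hmkq ▸ m.2 : k * q ∈ P.D)
        rwa [inv_mul_cancel_left] at this
      refine ⟨⟨k, hk0⟩, ?_⟩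
      rw [← hmd]
      let q' : ↥(centralizer ({z} : Set G) ⊓ centralizer ({P.s} : Set G)) := ⟨q, hqD⟩
      have e : P.π q' = 1 := P.π_kill _ (Or.inl hq)
      calc P.π (i ⟨k, hk0⟩) = P.π (i ⟨k, hk0⟩) * P.π q' := by rw [e]; exact (mul_one _).symm
        _ = P.π m := by rw [← map_mul]; exact congrArg P.π (Subtype.ext hmkq.symm)
    · obtain ⟨n, hn⟩ := P.π_ker ⟨i a, a.2⟩
      exact ⟨n, Subtype.ext (inclusion_injective hΓ0D (by
        rw [SubmonoidClass.coe_pow, map_pow, OneMemClass.coe_one, map_one]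
        exact congrArg Subtype.val hn))⟩
  have hΓ0U : ∀ c ∈ Γ0, ∀ a ∈ U, c * a * c⁻¹ ∈ U := by
    intro c hc a ha
    have hc' : ∀ x ∈ K' ⊓ P.W, c * x * c⁻¹ ∈ K' ⊓ P.W := fun x hx => by
      refine ⟨?_, P.D_norm_W (hΓ0D hc) hx.2⟩
      have hn : K' ≤ K'.comap (MulAut.conj c).toMonoidHom := commutator_le.2 fun u hu v hv => by
        show c * ⁅u, v⁆ * c⁻¹ ∈ K'
        rw [conjugate_commutatorElement]
        exact commutator_mem_commutator (mul_mem (mul_mem hc.1 hu) (inv_mem hc.1))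
          (mul_mem (mul_mem hc.1 hv) (inv_mem hc.1))
      exact hn hx.1
    rcases memU.1 ha with h | h
    · exact memU.2 (Or.inl (hc' a h))
    · refine memU.2 (Or.inr ?_)
      have := hc' _ h
      rwa [show c * (a * P.s) * c⁻¹ = c * a * c⁻¹ * (c * P.s * c⁻¹) by group,
        P.D_s (hΓ0D hc), mul_inv_cancel_right] at this
  -- exchange `z` and `s`
  obtain ⟨h, hhz, hhs, hQ1, hQ2⟩ := P.exists_swap
  set cj := MulAut.conj h with hcj
  have cjv : ∀ x, cj x = h * x * h⁻¹ := fun x => rfl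
  have hQsc : Nat.card P.Qs = Nat.card Y.Qg :=
    card_map_of_injective (MulAut.conj P.g).injective
  have hmap1 : Y.Qg.map cj.toMonoidHom = P.Qs := eq_of_le_of_card_ge
    (map_le_iff_le_comap.2 hQ1) (by rw [card_map_of_injective cj.injective, hQsc])
  have hmap2 : P.Qs.map cj.toMonoidHom = Y.Qg := eq_of_le_of_card_ge
    (map_le_iff_le_comap.2 hQ2) (by rw [card_map_of_injective cj.injective, hQsc])
  have hRback : ∀ {y}, h * y * h⁻¹ ∈ P.R → y ∈ P.R := fun {y} hy => by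
    have h1 : cj y ∈ P.Qs.map cj.toMonoidHom := hmap2.symm ▸ hy.1
    have h2 : cj y ∈ Y.Qg.map cj.toMonoidHom := hmap1.symm ▸ hy.2
    rw [mem_map_equiv, MulEquiv.symm_apply_apply] at h1 h2
    exact ⟨h2, h1⟩
  have hRfwd : ∀ {y}, y ∈ P.R → h * y * h⁻¹ ∈ P.R := fun {y} hy => ⟨hQ2 y hy.2, hQ1 y hy.1⟩
  have hDfwd : ∀ {y}, y ∈ P.D → h * y * h⁻¹ ∈ P.D := fun {y} hy => by
    refine ⟨mem_centralizer_singleton_iff.2 ?_, mem_centralizer_singleton_iff.2 ?_⟩
    · rw [← hhs]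
      calc h * y * h⁻¹ * (h * P.s * h⁻¹) = h * (y * P.s) * h⁻¹ := by group
        _ = h * P.s * h⁻¹ * (h * y * h⁻¹) := by rw [P.D_s hy]; group
    · rw [← hhz]
      calc h * y * h⁻¹ * (h * z * h⁻¹) = h * (y * z) * h⁻¹ := by group
        _ = h * z * h⁻¹ * (h * y * h⁻¹) := by rw [mem_centralizer_singleton_iff.1 hy.1]; group
  set U2 := U.map cj.toMonoidHom with hU2
  have hU2card : Nat.card U2 = 32 := by rw [card_map_of_injective cj.injective, hUcard]
  have hzU2 : z ∈ U2 := ⟨P.s, mem_sup_right (mem_zpowers _), hhs⟩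
  have hU2R : ∀ x ∈ U2, x ∈ P.R → InZ z x := by
    rintro x ⟨y, hy, rfl⟩ hx
    show InZ z (h * y * h⁻¹)
    rcases hUR y hy (hRback hx) with rfl | rfl
    · exact Or.inl (by group)
    · exact Or.inr hhs
  have hU2Q : U2 ≤ Y.Qg ⊓ centralizer ({P.s} : Set G) := by
    rintro x ⟨y, hy, rfl⟩
    refine ⟨hQ2 y (hUW hy).1, mem_centralizer_singleton_iff.2 ?_⟩
    show h * y * h⁻¹ * P.s = P.s * (h * y * h⁻¹)
    rw [← hhz]
    calc h * y * h⁻¹ * (h * z * h⁻¹) = h * (y * z) * h⁻¹ := by group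
      _ = h * z * h⁻¹ * (h * y * h⁻¹) := by
        rw [mem_centralizer_singleton_iff.1 (hUW hy).2]; group
  set Γ2 := Γ0.map cj.toMonoidHom with hΓ2
  have hΓ2D : Γ2 ≤ P.D := by
    rintro x ⟨y, hy, rfl⟩
    exact hDfwd (hΓ0D hy)
  set Γ := Γ2 ⊓ Y.M with hΓ
  have hΓBig : Big Γ := Big.inf (hΓ0Big.map cj) (fun c hc => Y.sq_M (hΓ2D hc).1)
    (fun c hc m hm => Y.normM c (hΓ2D hc).1 m hm)
  have hΓDM : Γ ≤ P.D ⊓ Y.M := fun c hc => ⟨hΓ2D hc.1, hc.2⟩
  have hΓU2 : ∀ c ∈ Γ, ∀ a ∈ U2, c * a * c⁻¹ ∈ U2 := by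
    rintro c ⟨⟨c', hc', rfl⟩, -⟩ _ ⟨a, ha, rfl⟩
    exact ⟨_, hΓ0U c' hc' a ha, by simp⟩
  obtain ⟨u, huΓ, huo⟩ := hΓBig.exists_five
  have hu5 : u ^ 5 = 1 := huo ▸ pow_orderOf_eq_one u
  have hu1 : u ≠ 1 := fun e => by rw [e, orderOf_one] at huo; omega
  have huD : u ∈ P.D := (hΓDM huΓ).1
  have hSgnorm : ∀ c ∈ Γ, ∀ a ∈ P.Sg, c * a * c⁻¹ ∈ P.Sg := fun c hc a ha => by
    obtain ⟨⟨haQ, has⟩, has1⟩ := ha
    have hcD := (hΓDM hc).1
    refine ⟨⟨Y.normQ c hcD.1 a haQ, (centralizer ({P.s} : Set G)).mul_mem ((centralizer ({P.s} : Set G)).mul_mem hcD.2 has)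
      ((centralizer ({P.s} : Set G)).inv_mem hcD.2)⟩,
      mem_centralizer_singleton_iff.2 ?_⟩
    obtain ⟨e, he, hcs⟩ := P.D_M_fix_s1 hcD (hΓDM hc).2
    have h1 : c * a * c⁻¹ * (e * P.s1) = e * P.s1 * (c * a * c⁻¹) := by
      rw [← hcs]
      calc c * a * c⁻¹ * (c * P.s1 * c⁻¹) = c * (a * P.s1) * c⁻¹ := by group
        _ = _ := by rw [mem_centralizer_singleton_iff.1 has1]; group
    rw [← mul_assoc, Y.zcomm (Y.le_cen (Y.normQ c hcD.1 a haQ)) he, mul_assoc, mul_assoc e] at h1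
    exact mul_left_cancel h1
  have hU2S : U2 ≤ P.Sg := by
    by_contra hcon
    obtain ⟨b, hb, hbS⟩ := SetLike.not_le_iff_exists.1 hcon
    have hpair := card_of_pair (X := U2) (Y := U2 ⊓ P.Sg) inf_le_left hb (fun h => hbS h.2)
      fun x hx y hy hnx hny => ⟨mul_mem hx hy,
        P.Sg_pair (hU2Q hx) (hU2Q hy) (fun h => hnx ⟨hx, h⟩) fun h => hny ⟨hy, h⟩⟩
    rw [hU2card] at hpair
    have h14 : (((U2 ⊓ P.Sg : Subgroup G) : Set G) \ ({1, z} : Set G)).ncard = 14 := by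
      rw [Set.ncard_sdiff (by
        rintro x (rfl | rfl)
        exacts [one_mem _, ⟨hzU2, P.R_le_Sg P.z_mem⟩]), Set.ncard_pair (Ne.symm Y.z1),
        ← Nat.card_coe_set_eq]
      show Nat.card ↥(U2 ⊓ P.Sg) - 2 = 14
      omega
    have := card_dvd_of_free (by norm_num : Nat.Prime 5) hu5
      (((U2 ⊓ P.Sg : Subgroup G) : Set G) \ ({1, z} : Set G))
      (fun a ha => ⟨⟨hΓU2 u huΓ a ha.1.1, hSgnorm u huΓ a ha.1.2⟩, fun h => ha.2 (by
        have hcz : Commute u z := Y.zcomm huD.1 (Or.inr rfl)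
        rcases h with h | h
        · exact Or.inl (conj_eq_one_iff.1 h)
        · exact Or.inr (mul_left_cancel
            ((mul_inv_eq_iff_eq_mul.1 h).trans hcz.eq.symm)))⟩)
      fun a ha hc => ha.2 (hU2R a ha.1.1 (P.A3_le (P.five_fix huD hu5 hu1 ha.1.2 hc)))
    omega
  -- the `ξ`-span of `U2`
  set Yy := U2 ⊔ U2.map (MulAut.conj Y.ξ).toMonoidHom with hYy
  have hU2Yy : U2 ≤ Yy := le_sup_left
  have hshU2 : ∀ a ∈ U2, Y.sh a ∈ Yy := fun a ha => mem_sup_right ⟨a, ha, rfl⟩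
  have hshYy : ∀ a ∈ Yy, Y.sh a ∈ Yy := by
    have h : Yy ≤ Yy.comap (MulAut.conj Y.ξ).toMonoidHom := by
      refine sup_le (fun a ha => hshU2 a ha) ?_
      rintro _ ⟨a, ha, rfl⟩
      show Y.sh (Y.sh a) ∈ Yy
      rw [show Y.sh (Y.sh a) = (a * Y.sh a)⁻¹ * Y.Φ a by rw [Sys.Φ]; group]
      refine mul_mem (inv_mem (mul_mem (hU2Yy ha) (hshU2 a ha))) ?_
      rcases Y.Φ_inZ (hU2Q ha).1 with e | e <;> rw [e]
      exacts [one_mem _, hU2Yy hzU2]
    exact fun a ha => h ha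
  have hshS : ∀ a ∈ P.Sg, Y.sh a ∈ P.Sg := fun a ha => by
    have h1 := mem_centralizer_singleton_iff.1 ha.1.2
    have h2 := mem_centralizer_singleton_iff.1 ha.2
    have h3 : a * Y.sh P.s1 = Y.sh P.s1 * a := by
      rw [P.sh_s1]; exact ((Commute.mul_right h1 h2).inv_right).eq
    refine ⟨⟨Y.sh_mem ha.1.1, mem_centralizer_singleton_iff.2 ?_⟩,
      mem_centralizer_singleton_iff.2 (Y.sh_comm h1)⟩
    have h4 := Y.sh_comm h3
    rwa [show Y.sh (Y.sh P.s1) = P.s from Y.sh_three P.s] at h4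
  have hYyS : Yy ≤ P.Sg := sup_le hU2S (by rintro _ ⟨a, ha, rfl⟩; exact hshS a (hU2S ha))
  have hΓYy : ∀ c ∈ Γ, ∀ a ∈ Yy, c * a * c⁻¹ ∈ Yy := by
    intro c hc
    have h : Yy ≤ Yy.comap (MulAut.conj c).toMonoidHom := by
      refine sup_le (fun a ha => hU2Yy (hΓU2 c hc a ha)) ?_
      rintro _ ⟨a, ha, rfl⟩
      show c * Y.sh a * c⁻¹ ∈ Yy
      obtain ⟨e, he, h⟩ := P.conj_sh (hΓDM hc).1.1 (Y.xiC c (hΓDM hc).2) (hU2Q ha).1
      rw [h]
      refine mul_mem ?_ (hshU2 _ (hΓU2 c hc a ha))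
      rcases he with rfl | rfl
      exacts [one_mem _, hU2Yy hzU2]
    exact fun a ha => h ha
  have hnorm : ∀ {A B : Subgroup G}, A ≤ Y.Qg → B ≤ Y.Qg → z ∈ B →
      ∀ a ∈ A, ∀ b ∈ B, a * b * a⁻¹ ∈ B := fun hA hB hzB a ha b hb => by
    obtain ⟨e, he, h⟩ := Y.comm' (hA ha) (hB hb)
    rw [h, show e * (b * a) * a⁻¹ = e * b by group]
    refine mul_mem ?_ hb
    rcases he with rfl | rfl
    exacts [one_mem _, hzB]
  have hSQ : P.Sg ≤ Y.Qg := fun x hx => hx.1.1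
  have hJ : Nat.card ↥(Yy ⊔ P.A3) = 2048 := by
    refine (P.irreducible (Yy ⊔ P.A3) le_sup_right (sup_le hYyS P.A3_le_Sg) (fun a ha => ?_) hΓBig
      hΓDM (fun c hc a ha => ?_)).resolve_left fun h => ?_
    · have hh : Yy ⊔ P.A3 ≤ (Yy ⊔ P.A3).comap (MulAut.conj Y.ξ).toMonoidHom :=
        sup_le (fun a ha => mem_sup_left (hshYy a ha)) (fun a ha => mem_sup_right (P.sh_A3 ha))
      exact hh ha
    · have hh : Yy ⊔ P.A3 ≤ (Yy ⊔ P.A3).comap (MulAut.conj c).toMonoidHom :=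
        sup_le (fun a ha => mem_sup_left (hΓYy c hc a ha))
          (fun a ha => mem_sup_right (P.D_M_norm_A3 (hΓDM hc).1 (hΓDM hc).2 ha))
      exact hh ha
    · have := card_le_of_le (hU2Yy.trans (le_sup_left : Yy ≤ Yy ⊔ P.A3))
      omega
  have hYycard : Nat.card Yy = 512 ∧ Nat.card ↥(Yy ⊓ P.A3) = 2 := by
    have h1 := card_sup_mul_inf U2 (U2.map (MulAut.conj Y.ξ).toMonoidHom)
      (hnorm (hU2S.trans hSQ) (le_sup_right.trans (hYyS.trans hSQ))
        ⟨z, hzU2, Y.sh_inZ (Or.inr rfl)⟩)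
    rw [card_map_of_injective (f := (MulAut.conj Y.ξ).toMonoidHom) (MulAut.conj Y.ξ).injective, hU2card,
      ← hYy] at h1
    have h2 := card_sup_mul_inf Yy P.A3
      (hnorm (hYyS.trans hSQ) (P.A3_le_Sg.trans hSQ) P.z_A3)
    rw [hJ, P.card_A3] at h2
    have hle1 := card_le_of_le ((zpowers_le (g := z) (H := U2 ⊓ U2.map (MulAut.conj Y.ξ).toMonoidHom)).2
      ⟨hzU2, ⟨z, hzU2, Y.sh_inZ (Or.inr rfl)⟩⟩)
    have hle2 := card_le_of_le ((zpowers_le (g := z) (H := Yy ⊓ P.A3)).2 ⟨hU2Yy hzU2, P.z_A3⟩)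
    rw [hzpow] at hle1 hle2
    have hle3 := Nat.mul_le_mul_left (Nat.card Yy) hle1
    constructor <;> omega
  set W' := Yy ⊓ P.R with hW'
  have hW'card : Nat.card W' = 32 := by
    have h1 := card_sup_mul_inf Yy P.R (hnorm (hYyS.trans hSQ) inf_le_left P.z_mem)
    have h2 := card_sup_mul_inf U2 P.R (hnorm (hU2S.trans hSQ) inf_le_left P.z_mem)
    have h3 : U2 ⊓ P.R = zpowers z := le_antisymm
      (fun x hx => P.mem_zpowers_z.2 (hU2R x hx.1 hx.2)) (zpowers_le.2 ⟨hzU2, P.z_mem⟩)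
    rw [h3, hzpow, hU2card, P.R_card] at h2
    have h4 := card_le_of_le (sup_le_sup_right hU2Yy P.R)
    have h5 := card_le_of_le (sup_le hYyS P.R_le_Sg)
    rw [P.card_Sg] at h5
    have h6 : Nat.card ↥(Yy ⊔ P.R) = 2048 := by omega
    rw [h6, hYycard.1, P.R_card, ← hW'] at h1
    omega
  -- carry it back
  set N := W'.map cj.symm.toMonoidHom with hN
  have memN : ∀ {x}, x ∈ N ↔ h * x * h⁻¹ ∈ W' := fun {x} => by
    rw [hN, mem_map_equiv]; rfl
  set Γ1 := Γ.map cj.symm.toMonoidHom with hΓ1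
  have hΓ1 : ∀ {c}, c ∈ Γ1 → h * c * h⁻¹ ∈ Γ ∧ c ∈ Γ0 := fun {c} hc => by
    have h1 : h * c * h⁻¹ ∈ Γ := by
      have := mem_map_equiv.1 hc
      exact this
    obtain ⟨c', hc', he⟩ := h1.1
    exact ⟨h1, (cj.injective he) ▸ hc'⟩
  refine P.no_complement N (fun x hx => hRback (memN.1 hx).2)
    (by rw [hN, card_map_of_injective cj.symm.injective, hW'card])
    (memN.2 ⟨by rw [hhs]; exact hU2Yy hzU2, by rw [hhs]; exact P.z_mem⟩) (fun x hx hxA => ?_)
    (hΓBig.map cj.symm) (fun c hc => ⟨hΓ0D (hΓ1 hc).2, (hΓ1 hc).2.1.1⟩)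
    (fun c hc => mem_centralizer_singleton_iff.1 (hΓ1 hc).2.1.2) (fun c hc a ha => memN.2 ?_)
  · have hyA : h * x * h⁻¹ ∈ P.A3 := by
      refine P.five_fix huD hu5 hu1 (P.R_le_Sg (hRfwd (P.A3_le hxA))) ?_
      have hu' : h⁻¹ * u * h ∈ P.D := by
        obtain ⟨c', hc', he⟩ := huΓ.1
        rw [← he]
        show h⁻¹ * (h * c' * h⁻¹) * h ∈ P.D
        rw [show h⁻¹ * (h * c' * h⁻¹) * h = c' by group]
        exact hΓ0D hc'
      have hc5 := P.five_A3 hu' (by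
        rw [show h⁻¹ * u * h = h⁻¹ * u * h⁻¹⁻¹ by rw [inv_inv], conj_pow, hu5, mul_one,
          mul_inv_cancel]) hxA
      calc u * (h * x * h⁻¹) = h * (h⁻¹ * u * h * x) * h⁻¹ := by group
        _ = h * (x * (h⁻¹ * u * h)) * h⁻¹ := by rw [hc5]
        _ = h * x * h⁻¹ * u := by group
    have hz' : h * x * h⁻¹ ∈ zpowers z := by
      have heq : zpowers z = Yy ⊓ P.A3 := eq_of_le_of_card_ge
        (zpowers_le.2 ⟨hU2Yy hzU2, P.z_A3⟩) (by rw [hYycard.2, hzpow])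
      rw [heq]; exact ⟨(memN.1 hx).1, hyA⟩
    rcases P.mem_zpowers_z.1 hz' with e | e
    · exact Or.inl (conj_eq_one_iff.1 e)
    · exact Or.inr (cj.injective (e.trans hhs.symm))
  · obtain ⟨hcΓ, -⟩ := hΓ1 hc
    have hy := memN.1 ha
    rw [show h * (c * a * c⁻¹) * h⁻¹ = h * c * h⁻¹ * (h * a * h⁻¹) * (h * c * h⁻¹)⁻¹ by group]
    exact ⟨hΓYy _ hcΓ _ hy.1, P.D_norm_R (hΓDM hcΓ).1 hy.2⟩

end Pt

end CfsgLib.FischerTwoFour
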