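import Cfsg.Agent.Lib.FischerTwoFour.Sys

/-!
A conjugate `s` of `z` in `Q`: the intersection `R` of the two extraspecial groups, the subgroup
`A₃ = ⟨z, s, ξ s ξ⁻¹⟩` of `R`, lifts in the centraliser of `ξ`, and an element exchanging `z` and `s`.
-/

set_option autoImplicit false
set_option linter.unusedSectionVars false
set_option linter.style.haveILetI false

namespace CfsgLib.FischerTwoFour

open Subgroup

variable {G : Type*} [Group G] {z : G}

/-- A conjugate `s` of `z` in `Q`, with its local structure. -/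
structure Pt (Y : Sys z) where
  s : G
  g : G
  sQ : s ∈ Y.Qg
  hg : g * z * g⁻¹ = s
  sz : s ≠ z
  Φs : Y.Φ s = 1
  Rsq : ∀ a ∈ Y.Qg ⊓ Y.Qg.map (MulAut.conj g).toMonoidHom, a * a = 1
  Rcard : Nat.card ↥(Y.Qg ⊓ Y.Qg.map (MulAut.conj g).toMonoidHom) = 128
  π : ↥(centralizer ({z} : Set G) ⊓ centralizer ({s} : Set G)) →* A6
  π_surj : Function.Surjective π
  π_ker : IsPGroup 2 π.ker
  π_kill : ∀ d : ↥(centralizer ({z} : Set G) ⊓ centralizer ({s} : Set G)),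
    ((d : G) ∈ Y.Qg ∨ (d : G) ∈ Y.Qg.map (MulAut.conj g).toMonoidHom) → π d = 1
  trans : ∀ a ∈ Y.Qg, IsConj z a → a ≠ z → ∃ c ∈ centralizer ({z} : Set G), c * s * c⁻¹ = a

namespace Pt

variable [Finite G] {Y : Sys z} (P : Pt Y)
include P

/-- The conjugate of `Q` at `s`. -/
def Qs : Subgroup G := Y.Qg.map (MulAut.conj P.g).toMonoidHom

/-- `Q ∩ Q^g`. -/
def R : Subgroup G := Y.Qg ⊓ P.Qs

/-- `Q^g ∩ C(z)`. -/
def W : Subgroup G := P.Qs ⊓ centralizer ({z} : Set G)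

/-- `C(z, s)`. -/
def D : Subgroup G := centralizer ({z} : Set G) ⊓ centralizer ({P.s} : Set G)

theorem mem_Qs {x : G} : x ∈ P.Qs ↔ P.g⁻¹ * x * P.g ∈ Y.Qg := by
  refine ⟨fun ⟨y, hy, e⟩ => ?_, fun h => ⟨_, h, ?_⟩⟩
  · rw [← e, MulEquiv.coe_toMonoidHom, MulAut.conj_apply]
    simpa [mul_assoc] using hy
  · simp [mul_assoc]

theorem back {x : G} (h : InZ z (P.g⁻¹ * x * P.g)) : x = 1 ∨ x = P.s := by
  rcases h with h | h
  · left
    calc x = P.g * (P.g⁻¹ * x * P.g) * P.g⁻¹ := by group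
      _ = 1 := by rw [h]; group
  · right
    calc x = P.g * (P.g⁻¹ * x * P.g) * P.g⁻¹ := by group
      _ = P.g * z * P.g⁻¹ := congrArg (fun y => P.g * y * P.g⁻¹) h
      _ = P.s := P.hg

theorem ss : P.s * P.s = 1 := by
  rw [← P.hg, show P.g * z * P.g⁻¹ * (P.g * z * P.g⁻¹) = P.g * (z * z) * P.g⁻¹ by group, Y.zz]; group

theorem s1' : P.s ≠ 1 := fun h => Y.z1 (conj_eq_one_iff.1 (P.hg.trans h))

theorem sinv : P.s⁻¹ = P.s := inv_eq_of_mul_eq_one_right P.ss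

theorem s_not_inZ : ¬ InZ z P.s := fun h => h.elim P.s1' P.sz

theorem s_cen : P.s ∈ centralizer ({z} : Set G) := Y.le_cen P.sQ

theorem commQs {a b : G} (ha : a ∈ P.Qs) (hb : b ∈ P.Qs) :
    a * b * a⁻¹ * b⁻¹ = 1 ∨ a * b * a⁻¹ * b⁻¹ = P.s := P.back (by
  have := Y.comm _ (P.mem_Qs.1 ha) _ (P.mem_Qs.1 hb)
  rwa [show P.g⁻¹ * a * P.g * (P.g⁻¹ * b * P.g) * (P.g⁻¹ * a * P.g)⁻¹ * (P.g⁻¹ * b * P.g)⁻¹ =
    P.g⁻¹ * (a * b * a⁻¹ * b⁻¹) * P.g by group] at this)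

theorem normQs {c : G} (hc : c * P.s = P.s * c) {a : G} (ha : a ∈ P.Qs) : c * a * c⁻¹ ∈ P.Qs := by
  rw [P.mem_Qs] at ha ⊢
  have hc' : P.g⁻¹ * c * P.g ∈ centralizer ({z} : Set G) := mem_centralizer_singleton_iff.2 (by
    calc P.g⁻¹ * c * P.g * z = P.g⁻¹ * (c * (P.g * z * P.g⁻¹)) * P.g := by group
      _ = P.g⁻¹ * (P.g * z * P.g⁻¹ * c) * P.g := by rw [P.hg, hc]
      _ = z * (P.g⁻¹ * c * P.g) := by group)
  have := Y.normQ _ hc' _ ha
  rwa [show P.g⁻¹ * c * P.g * (P.g⁻¹ * a * P.g) * (P.g⁻¹ * c * P.g)⁻¹ = P.g⁻¹ * (c * a * c⁻¹) * P.g by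
    group] at this

theorem Qs_cen_s {x : G} (hx : x ∈ P.Qs) : x * P.s = P.s * x := by
  have h := mem_centralizer_singleton_iff.1 (Y.le_cen (P.mem_Qs.1 hx))
  rw [← P.hg]
  calc x * (P.g * z * P.g⁻¹) = P.g * (P.g⁻¹ * x * P.g * z) * P.g⁻¹ := by group
    _ = P.g * (z * (P.g⁻¹ * x * P.g)) * P.g⁻¹ := by rw [h]
    _ = P.g * z * P.g⁻¹ * x := by group

theorem s_Qs : P.s ∈ P.Qs := P.mem_Qs.2 (by
  rw [← P.hg, show P.g⁻¹ * (P.g * z * P.g⁻¹) * P.g = z by group]; exact Y.zQ)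

theorem R_sq {a : G} (ha : a ∈ P.R) : a * a = 1 := P.Rsq a ha

theorem R_card : Nat.card P.R = 128 := P.Rcard

theorem R_comm {a b : G} (ha : a ∈ P.R) (hb : b ∈ P.R) : a * b = b * a := by
  have inv : ∀ x ∈ P.R, x⁻¹ = x := fun x hx => inv_eq_of_mul_eq_one_right (P.R_sq hx)
  calc a * b = (a * b)⁻¹ := (inv _ (mul_mem ha hb)).symm
    _ = b * a := by rw [mul_inv_rev, inv a ha, inv b hb]

theorem mem_R {r : G} (h1 : r ∈ Y.Qg) (h2 : r ∈ P.Qs) : r ∈ P.R := ⟨h1, h2⟩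

/-- An abelian subgroup `A` of `Q` of order `128` contains what centralises it. -/
theorem mem_of_centralizes {A : Subgroup G} (hA : A ≤ Y.Qg) (hAc : Nat.card A = 128)
    (hab : ∀ a ∈ A, ∀ b ∈ A, a * b = b * a) {q : G} (hq : q ∈ Y.Qg)
    (hc : ∀ a ∈ A, q * a = a * q) : q ∈ A := by
  by_contra hqA
  have hlt : A < A ⊔ zpowers q := lt_of_le_of_ne le_sup_left fun e =>
    hqA (e ▸ mem_sup_right (mem_zpowers q))
  have hab' : ∀ a ∈ A ⊔ zpowers q, ∀ b ∈ A ⊔ zpowers q, a * b = b * a := by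
    have h1 : A ⊔ zpowers q ≤ centralizer ((A : Set G) ∪ {q}) := by
      refine sup_le (fun a ha => mem_centralizer_iff.2 ?_) (zpowers_le.2 (mem_centralizer_iff.2 ?_))
      · rintro b (hb | rfl)
        · exact hab b hb a ha
        · exact hc a ha
      · rintro b (hb | rfl)
        · exact (hc b hb).symm
        · rfl
    intro a ha b hb
    have h2 : A ⊔ zpowers q ≤ centralizer ({a} : Set G) := by
      have ha' := mem_centralizer_iff.1 (h1 ha)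
      refine sup_le (fun x hx => mem_centralizer_singleton_iff.2 (ha' x (Or.inl hx))) (zpowers_le.2 ?_)
      exact mem_centralizer_singleton_iff.2 (ha' q (Or.inr rfl))
    exact (mem_centralizer_singleton_iff.1 (h2 hb)).symm
  have h := Y.abel (A ⊔ zpowers q) (sup_le hA (zpowers_le.2 hq)) hab'
  exact absurd (eq_of_le_of_card_ge hlt.le (by omega)) hlt.ne

theorem z_mem : z ∈ P.R := by
  have hz : ∀ a ∈ P.R, z * a = a * z := fun a ha => (Y.zcomm (Y.le_cen ha.1) (Or.inr rfl)).symm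
  exact P.mem_of_centralizes inf_le_left P.R_card (fun a ha b hb => P.R_comm ha hb) Y.zQ hz

theorem inZ_R {e : G} (he : InZ z e) : e ∈ P.R := by
  rcases he with rfl | rfl
  · exact one_mem _
  · exact P.z_mem

theorem s_mem : P.s ∈ P.R := ⟨P.sQ, P.s_Qs⟩

theorem W_le_D : P.W ≤ P.D := fun _ hx => ⟨hx.2, mem_centralizer_singleton_iff.2 (P.Qs_cen_s hx.1)⟩

theorem R_le_W : P.R ≤ P.W := fun _ hx => ⟨hx.2, Y.le_cen hx.1⟩

theorem D_s {d : G} (hd : d ∈ P.D) : d * P.s = P.s * d := mem_centralizer_singleton_iff.1 hd.2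

theorem D_norm_R {d : G} (hd : d ∈ P.D) {r : G} (hr : r ∈ P.R) : d * r * d⁻¹ ∈ P.R :=
  ⟨Y.normQ d hd.1 r hr.1, P.normQs (P.D_s hd) hr.2⟩

theorem D_norm_W {d : G} (hd : d ∈ P.D) {w : G} (hw : w ∈ P.W) : d * w * d⁻¹ ∈ P.W :=
  ⟨P.normQs (P.D_s hd) hw.1,
    (centralizer ({z} : Set G)).mul_mem ((centralizer ({z} : Set G)).mul_mem hd.1 hw.2)
      ((centralizer ({z} : Set G)).inv_mem hd.1)⟩

theorem W_R {w r : G} (hw : w ∈ P.W) (hr : r ∈ P.R) :
    w * r * w⁻¹ = r ∨ w * r * w⁻¹ = P.s * r :=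
  (P.commQs hw.1 hr.2).imp (fun h => mul_inv_eq_one.1 h) fun h => eq_mul_of_mul_inv_eq h

/-- Elements of `R` centralised by `W`. -/
theorem R_center {r : G} (hr : r ∈ P.R) (h : ∀ w ∈ P.W, w * r = r * w) :
    r = 1 ∨ r = z ∨ r = P.s ∨ r = z * P.s := by
  set a := P.g⁻¹ * z * P.g with ha
  have haQ : a ∈ Y.Qg := P.mem_Qs.1 P.z_mem.2
  have ha1 : a ≠ 1 := fun e => Y.z1 (by
    calc z = P.g * a * P.g⁻¹ := by rw [ha]; group
      _ = 1 := by rw [e]; group)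
  have haz : a ≠ z := fun e => P.sz (by
    rw [← P.hg]
    calc P.g * z * P.g⁻¹ = P.g * a * P.g⁻¹ := congrArg (fun y => P.g * y * P.g⁻¹) e.symm
      _ = z := by rw [ha]; group)
  have hconj : ∀ x, P.g * (P.g⁻¹ * x * P.g) * P.g⁻¹ = x := fun x => by group
  rcases Y.span a haQ ha1 haz _ (P.mem_Qs.1 hr.2) (fun c hc hca => by
    have hw : P.g * c * P.g⁻¹ ∈ P.W := ⟨P.mem_Qs.2 (by
      rwa [show P.g⁻¹ * (P.g * c * P.g⁻¹) * P.g = c by group]), mem_centralizer_singleton_iff.2 (by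
      calc P.g * c * P.g⁻¹ * z = P.g * (c * a) * P.g⁻¹ := by rw [ha]; group
        _ = P.g * (a * c) * P.g⁻¹ := by rw [hca]
        _ = z * (P.g * c * P.g⁻¹) := by rw [ha]; group)⟩
    calc c * (P.g⁻¹ * r * P.g) = P.g⁻¹ * (P.g * c * P.g⁻¹ * r) * P.g := by group
      _ = P.g⁻¹ * (r * (P.g * c * P.g⁻¹)) * P.g := by rw [h _ hw]
      _ = P.g⁻¹ * r * P.g * c := by group) with e | e | e | e
  · exact Or.inl (by rw [← hconj r, e]; group)
  · exact Or.inr (Or.inr (Or.inl (by rw [← hconj r, e, P.hg])))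
  · exact Or.inr (Or.inl (by rw [← hconj r, e, ha]; group))
  · refine Or.inr (Or.inr (Or.inr ?_))
    rw [← hconj r, e, ha, ← Y.zcomm P.s_cen (Or.inr rfl), ← P.hg]; group

/-- The translate of `s` under `ξ`. -/
def s1 : G := Y.sh P.s

theorem s1Q : P.s1 ∈ Y.Qg := Y.sh_mem P.sQ

theorem sh_s1 : Y.sh P.s1 = (P.s * P.s1)⁻¹ := eq_inv_of_mul_eq_one_right P.Φs

/-- `w` commuting with `ξ` modulo `Q` moves `s₁` at most by `z`. -/
theorem conj_sh {c : G} (hc : c ∈ centralizer ({z} : Set G))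
    (hcξ : c * Y.ξ * c⁻¹ * Y.ξ⁻¹ ∈ Y.Qg) {a : G} (ha : a ∈ Y.Qg) :
    ∃ e, InZ z e ∧ c * Y.sh a * c⁻¹ = e * Y.sh (c * a * c⁻¹) := by
  set q := c * Y.ξ * c⁻¹ * Y.ξ⁻¹ with hq
  obtain ⟨e, he, h⟩ := Y.comm' hcξ (Y.sh_mem (Y.normQ c hc a ha))
  refine ⟨e, he, ?_⟩
  calc c * Y.sh a * c⁻¹ = q * Y.sh (c * a * c⁻¹) * q⁻¹ := by
        rw [hq]; show c * (Y.ξ * a * Y.ξ⁻¹) * c⁻¹ = _ * (Y.ξ * (c * a * c⁻¹) * Y.ξ⁻¹) * _
        group
    _ = e * Y.sh (c * a * c⁻¹) := by rw [h]; group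

theorem s1_mem : P.s1 ∈ P.R := by
  by_contra hcon
  set R1 := P.R ⊓ centralizer ({P.s1} : Set G) with hR1
  have hM : ∀ w ∈ P.W, w ∈ Y.M → ∀ r ∈ R1, w * r = r * w := by
    intro w hw hwM r hr
    rcases P.W_R hw hr.1 with h | h
    · exact mul_inv_eq_iff_eq_mul.1 h
    exfalso
    set r' := Y.sh r
    have hr'Q : r' ∈ Y.Qg := Y.sh_mem hr.1.1
    have hr's : r' * P.s = P.s * r' := by
      have h1 : r * P.s1 = P.s1 * r := mem_centralizer_singleton_iff.1 hr.2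
      have h2 : r * P.s = P.s * r := P.R_comm hr.1 P.s_mem
      have h3 : r * Y.sh P.s1 = Y.sh P.s1 * r := by
        rw [P.sh_s1]; exact ((Commute.mul_right h2 h1).inv_right).eq
      have := Y.sh_comm h3
      rwa [show Y.sh (Y.sh P.s1) = P.s from Y.sh_three P.s] at this
    obtain ⟨e, he, hwr⟩ := P.conj_sh (Y.Mle hwM) (Y.xiC w hwM) hr.1.1
    rw [h, Y.sh_mul] at hwr
    have hd : w * r' * w⁻¹ * r'⁻¹ = e * P.s1 := by
      rw [show w * r' * w⁻¹ = e * (Y.sh P.s * r') from hwr]; show _ = e * Y.sh P.s; group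
    have h1 : w * r' * w⁻¹ * r'⁻¹ ∈ P.R := by
      refine ⟨Y.Qg.mul_mem (Y.normQ w hw.2 _ hr'Q) (Y.Qg.inv_mem hr'Q), ?_⟩
      rw [show w * r' * w⁻¹ * r'⁻¹ = w * (r' * w⁻¹ * r'⁻¹) by group]
      exact P.Qs.mul_mem hw.1 (P.normQs hr's (P.Qs.inv_mem hw.1))
    rw [hd] at h1
    exact hcon (by simpa using mul_mem (inv_mem (P.inZ_R he)) h1)
  have h64 : 64 ≤ Nat.card R1 := by
    by_cases hall : P.R ≤ R1
    · have := card_le_of_le hall
      rw [P.R_card] at this; omega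
    · obtain ⟨r₀, hr₀, hr₀'⟩ := SetLike.not_le_iff_exists.1 hall
      have := card_of_pair (X := P.R) (Y := R1) inf_le_left hr₀ hr₀' fun a ha b hb hna hnb => by
        refine ⟨mul_mem ha hb, mem_centralizer_singleton_iff.2 ?_⟩
        have key : ∀ x ∈ P.R, x ∉ R1 → x * P.s1 = z * (P.s1 * x) := fun x hx hxn => by
          obtain ⟨e, he, h⟩ := Y.comm' hx.1 P.s1Q
          rcases he with rfl | rfl
          · exact absurd ⟨hx, mem_centralizer_singleton_iff.2 (by rw [h, one_mul])⟩ hxn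
          · exact h
        have hza : a * z = z * a := Y.zcomm (Y.le_cen ha.1) (Or.inr rfl)
        calc a * b * P.s1 = a * (b * P.s1) := mul_assoc _ _ _
          _ = a * z * (P.s1 * b) := by rw [key b hb hnb]; group
          _ = z * (a * P.s1) * b := by rw [hza]; group
          _ = z * z * (P.s1 * (a * b)) := by rw [key a ha hna]; group
          _ = P.s1 * (a * b) := by rw [Y.zz, one_mul]
      rw [P.R_card] at this; omega
  have hsub : ∃ S : Finset G, S.card ≤ 8 ∧ ∀ r ∈ R1, r ∈ S := by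
    classical
    by_cases hall : ∀ r ∈ R1, ∀ w ∈ P.W, w * r = r * w
    · refine ⟨{1, z, P.s, z * P.s}, (Finset.card_insert_le _ _).trans (by
        have := (Finset.card_insert_le z {P.s, z * P.s}).trans
          (Nat.succ_le_succ (Finset.card_insert_le P.s {z * P.s}))
        rw [Finset.card_singleton] at this; omega), fun r hr => ?_⟩
      rcases P.R_center hr.1 (hall r hr) with h | h | h | h <;> simp [h]
    · push Not at hall
      obtain ⟨r₀, hr₀, w₀, hw₀, hne⟩ := hall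
      have hw₀M : w₀ ∉ Y.M := fun h => hne (hM w₀ hw₀ h r₀ hr₀)
      let S4 : Finset G := {1, z, P.s, z * P.s}
      refine ⟨S4 ∪ S4.image (r₀ * ·), ?_, fun r hr => ?_⟩
      · have h4 : S4.card ≤ 4 := by
          have := (Finset.card_insert_le z {P.s, z * P.s}).trans
            (Nat.succ_le_succ (Finset.card_insert_le P.s {z * P.s}))
          rw [Finset.card_singleton] at this
          exact (Finset.card_insert_le _ _).trans (by omega)
        have := Finset.card_union_le S4 (S4.image (r₀ * ·))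
        have := (Finset.card_image_le (s := S4) (f := (r₀ * ·)))
        omega
      · have key : ∀ x ∈ R1, w₀ * x = x * w₀ → ∀ w ∈ P.W, w * x = x * w := by
          intro x hx h0 w hw
          by_cases hwM : w ∈ Y.M
          · exact hM w hw hwM x hx
          · have h1 := hM _ (mul_mem hw hw₀) (Y.pair w hw.2 w₀ hw₀.2 hwM hw₀M) x hx
            exact mul_right_cancel (show w * x * w₀ = x * w * w₀ by
              rw [mul_assoc, ← h0, ← mul_assoc, h1, mul_assoc])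
        by_cases h0 : w₀ * r = r * w₀
        · rcases P.R_center hr.1 (key r hr h0) with h | h | h | h <;> simp [S4, h]
        · have hc : w₀ * (r₀ * r) = r₀ * r * w₀ := by
            have e1 := (P.W_R hw₀ hr₀.1).resolve_left fun h => hne (mul_inv_eq_iff_eq_mul.1 h)
            have e2 := (P.W_R hw₀ hr.1).resolve_left fun h => h0 (mul_inv_eq_iff_eq_mul.1 h)
            refine mul_inv_eq_iff_eq_mul.1 ?_
            rw [show w₀ * (r₀ * r) * w₀⁻¹ = w₀ * r₀ * w₀⁻¹ * (w₀ * r * w₀⁻¹) by group, e1, e2]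
            calc P.s * r₀ * (P.s * r) = P.s * (r₀ * P.s) * r := by group
              _ = r₀ * r := by rw [P.R_comm hr₀.1 P.s_mem, ← mul_assoc, P.ss, one_mul]
          have hr' : r = r₀ * (r₀ * r) := by rw [← mul_assoc, P.R_sq hr₀.1, one_mul]
          refine Finset.mem_union_right _ (Finset.mem_image.2 ⟨r₀ * r, ?_, hr'.symm⟩)
          rcases P.R_center (mul_mem hr₀.1 hr.1) (key _ (mul_mem hr₀ hr) hc) with h | h | h | h <;>
            simp [S4, h]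
  obtain ⟨S, hS, hsub⟩ := hsub
  classical
  haveI := Fintype.ofFinite G
  have : Nat.card R1 ≤ S.card := by
    rw [← Nat.card_eq_finsetCard S]
    exact Nat.card_le_card_of_injective (fun r => (⟨r, hsub r r.2⟩ : S))
      fun a b h => Subtype.ext (congrArg (fun x : S => (x : G)) h)
  omega

theorem s_s1 : P.s * P.s1 = P.s1 * P.s := P.R_comm P.s_mem P.s1_mem

theorem s1_not : ∀ e, InZ z e → P.s1 ≠ e ∧ P.s1 ≠ e * P.s := by
  intro e he
  constructor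
  · intro h
    refine P.s_not_inZ ?_
    have := Y.sh_three P.s
    rw [show Y.sh P.s = e from h, Y.sh_inZ he, Y.sh_inZ he] at this
    rw [← this]; exact he
  · intro h
    refine P.s_not_inZ (Y.xi_fix P.s P.sQ ?_)
    rw [show Y.ξ * P.s * Y.ξ⁻¹ = e * P.s from h, mul_inv_cancel_right]
    exact he

/-- `w` in `W` commuting with `ξ` modulo `Q` centralises `s₁`. -/
theorem comm_s1_of {w : G} (hw : w ∈ P.W) (hwξ : w * Y.ξ * w⁻¹ * Y.ξ⁻¹ ∈ Y.Qg) :
    w * P.s1 = P.s1 * w := by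
  rcases P.W_R hw P.s1_mem with h | h
  · exact mul_inv_eq_iff_eq_mul.1 h
  exfalso
  obtain ⟨e, he, h'⟩ := P.conj_sh hw.2 hwξ P.sQ
  rw [show w * P.s * w⁻¹ = P.s by rw [P.Qs_cen_s hw.1, mul_inv_cancel_right]] at h'
  refine P.s_not_inZ ?_
  rw [show P.s = e from mul_right_cancel (h.symm.trans h')]
  exact he

theorem exists_out : ∃ w ∈ P.W, w ∉ Y.M := by
  by_contra h
  push Not at h
  rcases P.R_center P.s1_mem fun w hw => P.comm_s1_of hw (Y.xiC w (h w hw)) with e | e | e | e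
  · exact (P.s1_not 1 (Or.inl rfl)).1 e
  · exact (P.s1_not z (Or.inr rfl)).1 e
  · exact (P.s1_not 1 (Or.inl rfl)).2 (by rw [one_mul]; exact e)
  · exact (P.s1_not z (Or.inr rfl)).2 e

/-- The centraliser of `ξ` in `C(z)` lies in `M`. -/
theorem cen_xi_M {c : G} (hc : c ∈ centralizer ({z} : Set G)) (hcξ : c * Y.ξ = Y.ξ * c) : c ∈ Y.M := by
  by_contra hcM
  obtain ⟨w, hw, hwM⟩ := P.exists_out
  have hm : w * c ∈ Y.M := Y.pair w hw.2 c hc hwM hcM
  have h1 : w * Y.ξ * w⁻¹ * Y.ξ⁻¹ ∈ Y.Qg := by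
    have := Y.xiC _ hm
    rwa [show w * c * Y.ξ * (w * c)⁻¹ * Y.ξ⁻¹ = w * (c * Y.ξ) * c⁻¹ * w⁻¹ * Y.ξ⁻¹ by group, hcξ,
      show w * (Y.ξ * c) * c⁻¹ * w⁻¹ * Y.ξ⁻¹ = w * Y.ξ * w⁻¹ * Y.ξ⁻¹ by group] at this
  rcases P.R_center P.s1_mem fun v hv => by
      by_cases hvM : v ∈ Y.M
      · exact P.comm_s1_of hv (Y.xiC v hvM)
      · have h2 := P.comm_s1_of (mul_mem hv hw) (Y.xiC _ (Y.pair v hv.2 w hw.2 hvM hwM))
        have h3 := P.comm_s1_of hw h1
        exact mul_right_cancel (show v * P.s1 * w = P.s1 * v * w by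
          rw [mul_assoc, ← h3, ← mul_assoc, h2, mul_assoc]) with e | e | e | e
  · exact (P.s1_not 1 (Or.inl rfl)).1 e
  · exact (P.s1_not z (Or.inr rfl)).1 e
  · exact (P.s1_not 1 (Or.inl rfl)).2 (by rw [one_mul]; exact e)
  · exact (P.s1_not z (Or.inr rfl)).2 e

theorem Φ_mul_s {r : G} (hr : r ∈ P.R) : Y.Φ (r * P.s) = Y.Φ r := by
  rw [Y.Φ_mul hr.1 P.sQ, P.Φs, mul_one]
  have h : P.s1 * r = r * P.s1 := P.R_comm P.s1_mem hr
  have h2 := Y.sh_comm (Y.sh_comm h)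
  rw [show Y.sh (Y.sh P.s1) = P.s from Y.sh_three P.s] at h2
  rw [h2, mul_inv_cancel_right, mul_inv_cancel, mul_one]

theorem Φ_mul_z {a : G} (ha : a ∈ Y.Qg) : Y.Φ (a * z) = Y.Φ a * z := by
  have hc : Y.sh (Y.sh a) * z = z * Y.sh (Y.sh a) :=
    Y.zcomm (Y.le_cen (Y.sh_mem (Y.sh_mem ha))) (Or.inr rfl)
  rw [Y.Φ_mul ha Y.zQ, Y.Φ_of_inZ (Or.inr rfl), ← hc, mul_inv_cancel_right, mul_inv_cancel, mul_one]

/-- An element commuting with `ξ` which moves `s` at most by `z` fixes it. -/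
theorem fix_s {k : G} (hk : k ∈ centralizer ({z} : Set G)) (hkξ : k * Y.ξ = Y.ξ * k)
    (h : InZ z (k * P.s * k⁻¹ * P.s⁻¹)) : k * P.s = P.s * k := by
  rcases h with h | h
  · exact mul_inv_eq_iff_eq_mul.1 (mul_inv_eq_one.1 h)
  exfalso
  have e : k * P.s * k⁻¹ = P.s * z := by
    rw [Y.zcomm P.s_cen (Or.inr rfl)]; exact eq_mul_of_mul_inv_eq h
  have := Y.Φ_conj hkξ hk P.sQ
  rw [e, P.Φ_mul_z P.sQ, P.Φs, one_mul] at this
  exact Y.z1 this

/-- Lifts in the centraliser of `ξ` of elements of `W` lie in `W`. -/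
theorem mem_W {k w q : G} (hk : k ∈ centralizer ({z} : Set G)) (hkξ : k * Y.ξ = Y.ξ * k)
    (hw : w ∈ P.W) (hq : q ∈ Y.Qg) (hks : k * P.s = P.s * k) (h : k = w * q) :
    q ∈ P.R ∧ k ∈ P.W := by
  have hqR : q ∈ P.R := by
    refine P.mem_of_centralizes inf_le_left P.R_card (fun a ha b hb => P.R_comm ha hb) hq fun r hr => ?_
    obtain ⟨e, he, hqr⟩ := Y.comm' hq hr.1
    rcases he with he | he <;> rw [he] at hqr
    · rw [hqr, one_mul]
    exfalso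
    have hqr' : q * r * q⁻¹ = z * r := by rw [hqr]; group
    have hΦ := Y.Φ_conj hkξ hk hr.1
    have hwz : ∀ y, w * (z * y) * w⁻¹ = z * (w * y * w⁻¹) := fun y => by
      rw [← mul_assoc w z, Y.zcomm hw.2 (Or.inr rfl)]; group
    rw [h, show w * q * r * (w * q)⁻¹ = w * (q * r * q⁻¹) * w⁻¹ by group, hqr', hwz] at hΦ
    rcases P.W_R hw hr with e1 | e1 <;> rw [e1] at hΦ
    · rw [← Y.zcomm (Y.le_cen hr.1) (Or.inr rfl), P.Φ_mul_z hr.1] at hΦ
      exact Y.z1 (mul_eq_left.1 hΦ)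
    · have hsr : P.s * r ∈ P.R := mul_mem P.s_mem hr
      rw [← Y.zcomm (Y.le_cen hsr.1) (Or.inr rfl), P.Φ_mul_z hsr.1, P.R_comm P.s_mem hr,
        P.Φ_mul_s hr] at hΦ
      exact Y.z1 (mul_eq_left.1 hΦ)
  exact ⟨hqR, h ▸ mul_mem hw (P.R_le_W hqR)⟩

/-- An element exchanging `z` and `s`. -/
theorem exists_swap : ∃ h : G, h * z * h⁻¹ = P.s ∧ h * P.s * h⁻¹ = z ∧
    (∀ x ∈ Y.Qg, h * x * h⁻¹ ∈ P.Qs) ∧ ∀ x ∈ P.Qs, h * x * h⁻¹ ∈ Y.Qg := by
  set a := P.g⁻¹ * z * P.g with ha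
  have haQ : a ∈ Y.Qg := P.mem_Qs.1 P.z_mem.2
  have haz : a ≠ z := fun e => P.sz (by
    rw [← P.hg]
    calc P.g * z * P.g⁻¹ = P.g * a * P.g⁻¹ := congrArg (fun y => P.g * y * P.g⁻¹) e.symm
      _ = z := by rw [ha]; group)
  obtain ⟨c, hc, hca⟩ := P.trans a haQ (isConj_iff.2 ⟨P.g⁻¹, by rw [inv_inv]⟩) haz
  have hcz := mem_centralizer_singleton_iff.1 hc
  have h1 : P.g * c * z * (P.g * c)⁻¹ = P.s := by
    rw [show P.g * c * z * (P.g * c)⁻¹ = P.g * (c * z * c⁻¹) * P.g⁻¹ by group, hcz,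
      mul_inv_cancel_right, P.hg]
  have h2 : P.g * c * P.s * (P.g * c)⁻¹ = z := by
    rw [show P.g * c * P.s * (P.g * c)⁻¹ = P.g * (c * P.s * c⁻¹) * P.g⁻¹ by group, hca, ha]; group
  refine ⟨P.g * c, h1, h2, fun x hx => P.mem_Qs.2 ?_, fun x hx => ?_⟩
  · rw [show P.g⁻¹ * (P.g * c * x * (P.g * c)⁻¹) * P.g = c * x * c⁻¹ by group]
    exact Y.normQ c hc x hx
  · have hC : P.g * c * P.g ∈ centralizer ({z} : Set G) := mem_centralizer_singleton_iff.2 (by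
      refine mul_inv_eq_iff_eq_mul.1 ?_
      rw [show P.g * c * P.g * z * (P.g * c * P.g)⁻¹ = P.g * c * (P.g * z * P.g⁻¹) * (P.g * c)⁻¹ by group,
        P.hg, h2])
    have := Y.normQ _ hC _ (P.mem_Qs.1 hx)
    rwa [show P.g * c * P.g * (P.g⁻¹ * x * P.g) * (P.g * c * P.g)⁻¹ = P.g * c * x * (P.g * c)⁻¹ by
      group] at this

end Pt

end CfsgLib.FischerTwoFour
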