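import Cfsg.Agent.Lib.FischerTwoFour.Local
import Cfsg.Agent.Lib.FischerTwoFour.Fixed
import Cfsg.Agent.Lib.FischerTwoFour.Tower

/-!
The centraliser of `z` and a subgroup `⟨ξ⟩` of order three over `Q`, described by subgroups of `G`;
elementary counting tools, and groups covering the alternating group of degree six.
-/

set_option autoImplicit false
set_option linter.unusedSectionVars false
set_option linter.style.haveILetI false

namespace CfsgLib.FischerTwoFour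

open Subgroup

variable {G : Type*} [Group G]

/-- `x ∈ ⟨z⟩` for an involution `z`. -/
def InZ (z x : G) : Prop := x = 1 ∨ x = z

/-- A group with the quotient `A₆` by a normal `2`-subgroup. -/
def Big (Γ : Subgroup G) : Prop :=
  ∃ π : Γ →* A6, Function.Surjective π ∧ IsPGroup 2 π.ker

section Tools

variable [Finite G]

theorem card_sup_mul_inf (A B : Subgroup G) (h : ∀ a ∈ A, ∀ b ∈ B, a * b * a⁻¹ ∈ B) :
    Nat.card ↥(A ⊔ B) * Nat.card ↥(A ⊓ B) = Nat.card A * Nat.card B := by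
  have hle : A ≤ normalizer (B : Set G) := fun a ha => mem_normalizer_iff.2 fun b => by
    refine ⟨fun hb => h a ha b hb, fun hb => ?_⟩
    have := h a⁻¹ (inv_mem ha) _ hb
    simpa [mul_assoc] using this
  set N := A ⊔ B with hN
  haveI hn : (B.subgroupOf N).Normal :=
    normal_subgroupOf_of_le_normalizer (sup_le hle le_normalizer)
  have h1 : B.relIndex N = B.relIndex A := by
    rw [← relIndex_subgroupOf (le_refl N), ← relIndex_subgroupOf (H := B) (le_sup_left : A ≤ N),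
      subgroupOf_sup (le_sup_left : A ≤ N) le_sup_right, relIndex_sup_right]
  have h2 := card_mul_index (B.subgroupOf N)
  have h3 := card_mul_index (B.subgroupOf A)
  rw [Nat.card_congr (subgroupOfEquivOfLe (le_sup_right : B ≤ N)).toEquiv] at h2
  rw [← inf_subgroupOf_right, Nat.card_congr (subgroupOfEquivOfLe (inf_le_right : B ⊓ A ≤ A)).toEquiv,
    inf_subgroupOf_right, inf_comm] at h3
  rw [← h2, ← h3, show (B.subgroupOf N).index = B.relIndex N from rfl,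
    show (B.subgroupOf A).index = B.relIndex A from rfl, h1]
  ring

theorem card_of_pair {X Y : Subgroup G} (hYX : Y ≤ X) {w : G} (hw : w ∈ X) (hwY : w ∉ Y)
    (hpair : ∀ a ∈ X, ∀ b ∈ X, a ∉ Y → b ∉ Y → a * b ∈ Y) : Nat.card X = 2 * Nat.card Y := by
  have h2 : (Y.subgroupOf X).index = 2 := by
    refine index_eq_two_iff.2 ⟨⟨w, hw⟩, fun b => ?_⟩
    rw [mem_subgroupOf, mem_subgroupOf, Subgroup.coe_mul]
    by_cases hb : (b : G) ∈ Y
    · refine Or.inr ⟨hb, fun h => hwY ?_⟩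
      simpa using Y.mul_mem (Y.inv_mem hb) h
    · exact Or.inl ⟨hpair _ b.2 _ hw hb hwY, hb⟩
  have h := card_mul_index (Y.subgroupOf X)
  rw [h2, Nat.card_congr (subgroupOfEquivOfLe hYX).toEquiv] at h
  omega

theorem card_dvd_of_free {p : ℕ} (hp : p.Prime) {u : G} (hu : u ^ p = 1) (T : Set G)
    (hinv : ∀ a ∈ T, u * a * u⁻¹ ∈ T) (hfree : ∀ a ∈ T, u * a ≠ a * u) : p ∣ T.ncard := by
  classical
  haveI := Fact.mk hp
  haveI : Fintype T := Fintype.ofFinite _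
  let f : Function.End T := fun a => ⟨u * a * u⁻¹, hinv a a.2⟩
  have hpow : ∀ n (a : T), ((f ^ n) a : G) = u ^ n * a * (u ^ n)⁻¹ := by
    intro n
    induction n with
    | zero => intro a; rw [pow_zero, pow_zero, one_mul, inv_one, mul_one]; rfl
    | succ n ih =>
      intro a
      rw [pow_succ', pow_succ']
      show u * ((f ^ n) a : G) * u⁻¹ = _
      rw [ih]; group
  have h := Equiv.Perm.card_fixedPoints_modEq (f := f) (p := p) (n := 1) (by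
    funext a
    apply Subtype.ext
    rw [pow_one, hpow, hu]; simp; rfl)
  have h0 : IsEmpty f.fixedPoints :=
    ⟨fun a => hfree a.1 a.1.2 (mul_inv_eq_iff_eq_mul.1 (congrArg Subtype.val a.2))⟩
  rw [Fintype.card_eq_zero_iff.2 h0] at h
  rw [← Nat.card_coe_set_eq, Nat.card_eq_fintype_card]
  exact Nat.modEq_zero_iff_dvd.1 h

theorem Big.exists_five {Γ : Subgroup G} (hB : Big Γ) : ∃ u ∈ Γ, orderOf u = 5 := by
  obtain ⟨π, hπ, -⟩ := hB
  haveI := Fact.mk (show Nat.Prime 5 by norm_num)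
  obtain ⟨u, hu⟩ := exists_prime_orderOf_dvd_card' (G := Γ) 5
    ((show 5 ∣ Nat.card A6 by rw [card_A6]; norm_num).trans (card_dvd_of_surjective π hπ))
  exact ⟨u, u.2, by rw [orderOf_coe]; exact hu⟩

theorem Big.fix_sets {Γ : Subgroup G} (hB : Big Γ) (L : Finset (Set G)) (hL : L.card ≤ 5)
    (hinv : ∀ c ∈ Γ, ∀ X ∈ L, (fun a => c * a * c⁻¹) '' X ∈ L) {u : G} (hu : u ∈ Γ)
    (hu5 : u ^ 5 = 1) {X : Set G} (hX : X ∈ L) : (fun a => u * a * u⁻¹) '' X = X := by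
  classical
  obtain ⟨π, hπ, hker⟩ := hB
  have comp : ∀ (c d : G) (X : Set G), (fun a => c * d * a * (c * d)⁻¹) '' X =
      (fun a => c * a * c⁻¹) '' ((fun a => d * a * d⁻¹) '' X) := fun c d X => by
    rw [Set.image_image]
    exact Set.image_congr fun a _ => by group
  have one : ∀ X : Set G, (fun a => (1 : G) * a * (1 : G)⁻¹) '' X = X := fun X => by simp
  let φ : Γ →* Equiv.Perm L :=
    { toFun := fun c =>
        { toFun := fun X => ⟨_, hinv c c.2 X X.2⟩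
          invFun := fun X => ⟨_, hinv (c : G)⁻¹ (inv_mem c.2) X X.2⟩
          left_inv := fun X => Subtype.ext (by
            show (fun a => (c : G)⁻¹ * a * (c : G)⁻¹⁻¹) '' ((fun a => (c : G) * a * (c : G)⁻¹) '' X) = X
            rw [← comp, inv_mul_cancel, one])
          right_inv := fun X => Subtype.ext (by
            show (fun a => (c : G) * a * (c : G)⁻¹) '' ((fun a => (c : G)⁻¹ * a * (c : G)⁻¹⁻¹) '' X) = X
            rw [← comp, mul_inv_cancel, one]) }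
      map_one' := Equiv.ext fun X => Subtype.ext (one _)
      map_mul' := fun c d => Equiv.ext fun X => Subtype.ext (comp _ _ _) }
  suffices h : φ ⟨u, hu⟩ = 1 from congrArg Subtype.val (DFunLike.congr_fun h ⟨X, hX⟩)
  haveI := isSimpleGroup_A6
  rcases (Subgroup.Normal.map φ.normal_ker π hπ).eq_bot_or_eq_top with h | h
  · exfalso
    rw [Subgroup.map_eq_bot_iff] at h
    have h1 : π.ker.index ∣ φ.ker.index := index_dvd_of_le h
    rw [index_ker, index_ker, MonoidHom.range_eq_top.2 hπ, Subgroup.card_top, card_A6] at h1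
    have h2 : Nat.card φ.range ∣ L.card.factorial := by
      refine (card_subgroup_dvd_card _).trans (dvd_of_eq ?_)
      rw [Nat.card_eq_fintype_card, Fintype.card_perm, Fintype.card_coe]
    have h3 := Nat.le_of_dvd (by norm_num) ((h1.trans h2).trans (Nat.factorial_dvd_factorial hL))
    norm_num [Nat.factorial] at h3
  · obtain ⟨a, ha, hau⟩ := (h ▸ mem_top (π ⟨u, hu⟩) : π ⟨u, hu⟩ ∈ φ.ker.map π)
    have hb : a⁻¹ * ⟨u, hu⟩ ∈ π.ker := by simp [MonoidHom.mem_ker, hau]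
    obtain ⟨k, hk⟩ := hker ⟨_, hb⟩
    have hk' : (a⁻¹ * ⟨u, hu⟩ : Γ) ^ 2 ^ k = 1 := congrArg Subtype.val hk
    have h2 := congrArg φ hk'
    rw [map_pow, map_mul, map_inv, MonoidHom.mem_ker.1 ha, inv_one, one_mul, map_one] at h2
    have h5 : φ ⟨u, hu⟩ ^ 5 = 1 := by
      rw [← map_pow, show (⟨u, hu⟩ : Γ) ^ 5 = 1 from Subtype.ext hu5, map_one]
    exact orderOf_eq_one_iff.1 (Nat.eq_one_of_dvd_coprimes
      (show Nat.Coprime (2 ^ k) 5 from Nat.Coprime.pow_left k (by norm_num))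
      (orderOf_dvd_of_pow_eq_one h2) (orderOf_dvd_of_pow_eq_one h5))

theorem Big.inf {Γ M : Subgroup G} (hB : Big Γ) (hsq : ∀ c ∈ Γ, c * c ∈ M)
    (hn : ∀ c ∈ Γ, ∀ m ∈ M, c * m * c⁻¹ ∈ M) : Big (Γ ⊓ M) := by
  obtain ⟨π, hπ, hker⟩ := hB
  let i : ↥(Γ ⊓ M) →* Γ := inclusion inf_le_left
  have hrn : (i.range).Normal := ⟨fun a ha c => by
    obtain ⟨a, rfl⟩ := ha
    exact ⟨⟨(c : G) * a * (c : G)⁻¹, Γ.mul_mem (Γ.mul_mem c.2 a.2.1) (Γ.inv_mem c.2), hn c c.2 a a.2.2⟩, rfl⟩⟩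
  have hN : ((π.comp i).range).Normal := by
    rw [MonoidHom.range_comp]
    exact hrn.map π hπ
  refine ⟨π.comp i, ?_, ?_⟩
  · rw [← MonoidHom.range_eq_top]
    refine (isSimpleGroup_A6.eq_bot_or_eq_top_of_normal _ hN).resolve_left fun h => ?_
    have h2 : ∀ y : A6, y * y = 1 := by
      intro y
      obtain ⟨c, rfl⟩ := hπ y
      have : π.comp i ⟨(c : G) * c, mul_mem c.2 c.2, hsq c c.2⟩ = 1 :=
        Subgroup.mem_bot.1 (h ▸ ⟨_, rfl⟩)
      rw [← map_mul]; exact this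
    haveI := Fact.mk Nat.prime_three
    obtain ⟨y, hy⟩ := exists_prime_orderOf_dvd_card' (G := A6) 3 (by rw [card_A6]; norm_num)
    have := orderOf_dvd_of_pow_eq_one (show y ^ 2 = 1 by rw [pow_two]; exact h2 y)
    rw [hy] at this
    omega
  · intro a
    obtain ⟨k, hk⟩ := hker ⟨i a, a.2⟩
    exact ⟨k, Subtype.ext (inclusion_injective inf_le_left (by
      rw [SubmonoidClass.coe_pow, map_pow, OneMemClass.coe_one, map_one]
      exact congrArg Subtype.val hk))⟩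

theorem Big.map {Γ : Subgroup G} (hB : Big Γ) (e : G ≃* G) : Big (Γ.map e.toMonoidHom) := by
  obtain ⟨π, hπ, hker⟩ := hB
  let ε := Γ.equivMapOfInjective e.toMonoidHom e.injective
  refine ⟨π.comp ε.symm.toMonoidHom, hπ.comp ε.symm.surjective, fun a => ?_⟩
  obtain ⟨k, hk⟩ := hker ⟨ε.symm a, a.2⟩
  refine ⟨k, Subtype.ext (ε.symm.injective ?_)⟩
  rw [SubmonoidClass.coe_pow, map_pow, OneMemClass.coe_one, map_one]
  exact congrArg Subtype.val hk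

end Tools

/-- The centraliser of `z`: `Q`, the subgroup `M` of index two and an element `ξ` of order three. -/
structure Sys (z : G) where
  Qg : Subgroup G
  M : Subgroup G
  ξ : G
  zz : z * z = 1
  z1 : z ≠ 1
  Mle : M ≤ centralizer ({z} : Set G)
  QM : Qg ≤ M
  zQ : z ∈ Qg
  card_Qg : Nat.card Qg = 2 ^ 13
  xiM : ξ ∈ M
  xi3 : ξ ^ 3 = 1
  xi1 : ξ ≠ 1
  normQ : ∀ c ∈ centralizer ({z} : Set G), ∀ a ∈ Qg, c * a * c⁻¹ ∈ Qg
  normM : ∀ c ∈ centralizer ({z} : Set G), ∀ m ∈ M, c * m * c⁻¹ ∈ M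
  pair : ∀ a ∈ centralizer ({z} : Set G), ∀ b ∈ centralizer ({z} : Set G), a ∉ M → b ∉ M → a * b ∈ M
  comm : ∀ a ∈ Qg, ∀ b ∈ Qg, InZ z (a * b * a⁻¹ * b⁻¹)
  sq : ∀ a ∈ Qg, InZ z (a * a)
  span : ∀ a ∈ Qg, a ≠ 1 → a ≠ z → ∀ b ∈ Qg, (∀ c ∈ Qg, c * a = a * c → c * b = b * c) →
    b = 1 ∨ b = z ∨ b = a ∨ b = z * a
  abel : ∀ A : Subgroup G, A ≤ Qg → (∀ a ∈ A, ∀ b ∈ A, a * b = b * a) → Nat.card A ≤ 128
  card_cent : ∀ a ∈ Qg, a ≠ 1 → a ≠ z → Nat.card ↥(Qg ⊓ centralizer ({a} : Set G)) = 4096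
  xiC : ∀ m ∈ M, m * ξ * m⁻¹ * ξ⁻¹ ∈ Qg
  fpf : ∀ a ∈ Qg, InZ z ((a * ξ) ^ 3)
  xi_fix : ∀ a ∈ Qg, InZ z (ξ * a * ξ⁻¹ * a⁻¹) → InZ z a
  five : ∀ x ∈ M, x ^ 5 = 1 → x ≠ 1 → ∀ s ∈ Qg, s * s = 1 → s ≠ 1 → s ≠ z → x * s = s * x →
    ∀ v ∈ Qg, InZ z (x * v * x⁻¹ * v⁻¹) → v * s = s * v → v * (ξ * s * ξ⁻¹) = ξ * s * ξ⁻¹ * v →
      ∃ e, InZ z e ∧ (v = e ∨ v = e * s ∨ v = e * (ξ * s * ξ⁻¹) ∨ v = e * (s * (ξ * s * ξ⁻¹)))

namespace Sys

variable {z : G} (Y : Sys z)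
include Y

theorem zinv : z⁻¹ = z := inv_eq_of_mul_eq_one_right Y.zz

theorem inZ_mul {a b : G} (ha : InZ z a) (hb : InZ z b) : InZ z (a * b) := by
  rcases ha with rfl | rfl <;> rcases hb with rfl | rfl <;> simp [InZ, Y.zz]

theorem inZ_inv {a : G} (ha : InZ z a) : InZ z a⁻¹ := by
  rcases ha with rfl | rfl <;> simp [InZ, Y.zinv]

theorem inZ_sq {e : G} (he : InZ z e) : e * e = 1 := by
  rcases he with rfl | rfl
  · exact one_mul 1
  · exact Y.zz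

theorem inZ_mem {e : G} (he : InZ z e) : e ∈ Y.Qg := by
  rcases he with rfl | rfl
  · exact one_mem _
  · exact Y.zQ

theorem zcomm {c : G} (hc : c ∈ centralizer ({z} : Set G)) {e : G} (he : InZ z e) : c * e = e * c := by
  rcases he with rfl | rfl
  · simp
  · exact mem_centralizer_singleton_iff.1 hc

theorem le_cen : Y.Qg ≤ centralizer ({z} : Set G) := Y.QM.trans Y.Mle

theorem xi_cen : Y.ξ ∈ centralizer ({z} : Set G) := Y.Mle Y.xiM

/-- Conjugation by `ξ`. -/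
def sh (a : G) : G := Y.ξ * a * Y.ξ⁻¹

theorem sh_mem {a : G} (ha : a ∈ Y.Qg) : Y.sh a ∈ Y.Qg := Y.normQ _ Y.xi_cen a ha

theorem sh_mul (a b : G) : Y.sh (a * b) = Y.sh a * Y.sh b := by
  show Y.ξ * (a * b) * Y.ξ⁻¹ = Y.ξ * a * Y.ξ⁻¹ * (Y.ξ * b * Y.ξ⁻¹)
  group

theorem sh_three (a : G) : Y.sh (Y.sh (Y.sh a)) = a := by
  show Y.ξ * (Y.ξ * (Y.ξ * a * Y.ξ⁻¹) * Y.ξ⁻¹) * Y.ξ⁻¹ = a
  calc Y.ξ * (Y.ξ * (Y.ξ * a * Y.ξ⁻¹) * Y.ξ⁻¹) * Y.ξ⁻¹ = Y.ξ ^ 3 * a * (Y.ξ ^ 3)⁻¹ := by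
        rw [pow_three]; group
    _ = a := by rw [Y.xi3]; simp

theorem sh_inZ {e : G} (he : InZ z e) : Y.sh e = e := by
  rw [sh, Y.zcomm Y.xi_cen he, mul_inv_cancel_right]

theorem sh_comm {a b : G} (h : a * b = b * a) : Y.sh a * Y.sh b = Y.sh b * Y.sh a := by
  rw [← Y.sh_mul, h, Y.sh_mul]

theorem comm' {a b : G} (ha : a ∈ Y.Qg) (hb : b ∈ Y.Qg) : ∃ e, InZ z e ∧ a * b = e * (b * a) :=
  ⟨_, Y.comm a ha b hb, by group⟩

/-- The product over the orbit of `ξ`. -/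
def Φ (a : G) : G := a * Y.sh a * Y.sh (Y.sh a)

theorem Φ_eq (a : G) : Y.Φ a = (a * Y.ξ) ^ 3 := by
  rw [show (a * Y.ξ) ^ 3 = a * Y.sh a * Y.sh (Y.sh a) * Y.ξ ^ 3 by
    simp only [sh, pow_succ, pow_zero, one_mul]; group, Y.xi3, mul_one]
  rfl

theorem Φ_inZ {a : G} (ha : a ∈ Y.Qg) : InZ z (Y.Φ a) := by rw [Y.Φ_eq]; exact Y.fpf a ha

theorem Φ_of_inZ {e : G} (he : InZ z e) : Y.Φ e = e := by
  rw [Φ, Y.sh_inZ he, Y.sh_inZ he, Y.inZ_sq he, one_mul]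

theorem Φ_conj {k : G} (hkξ : k * Y.ξ = Y.ξ * k) (hk : k ∈ centralizer ({z} : Set G)) {a : G}
    (ha : a ∈ Y.Qg) : Y.Φ (k * a * k⁻¹) = Y.Φ a := by
  have h : k * a * k⁻¹ * Y.ξ = k * (a * Y.ξ) * k⁻¹ := by
    rw [mul_assoc _ k⁻¹, ((show Commute k Y.ξ from hkξ).inv_left).eq]; group
  rw [Y.Φ_eq, Y.Φ_eq, h, conj_pow, Y.zcomm hk (Y.fpf a ha), mul_inv_cancel_right]

/-- The orbit product on a product. -/
theorem Φ_mul {a b : G} (ha : a ∈ Y.Qg) (hb : b ∈ Y.Qg) :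
    Y.Φ (a * b) = Y.Φ a * Y.Φ b * (b * Y.sh (Y.sh a) * b⁻¹ * (Y.sh (Y.sh a))⁻¹) := by
  set a' := Y.sh a
  set a'' := Y.sh a'
  set b' := Y.sh b
  set b'' := Y.sh b'
  have ha' : a' ∈ Y.Qg := Y.sh_mem ha
  have ha'' : a'' ∈ Y.Qg := Y.sh_mem ha'
  have hb' : b' ∈ Y.Qg := Y.sh_mem hb
  have cz : ∀ {x : G}, x ∈ Y.Qg → ∀ {e : G}, InZ z e → x * e = e * x := fun hx _ he =>
    Y.zcomm (Y.le_cen hx) he
  set c1 := b * a' * b⁻¹ * a'⁻¹ with hc1
  set c2 := b * a'' * b⁻¹ * a''⁻¹ with hc2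
  set c3 := b' * a'' * b'⁻¹ * a''⁻¹ with hc3
  have z1 : InZ z c1 := Y.comm b hb a' ha'
  have z2 : InZ z c2 := Y.comm b hb a'' ha''
  have z3 : InZ z c3 := Y.comm b' hb' a'' ha''
  have e31 : c3 = c1 := by
    rw [← Y.sh_inZ z1, hc1, hc3]
    simp only [sh, a'', b']
    group
  have h1 : Y.Φ (a * b) = a * b * (a' * b') * (a'' * b'') := by
    rw [Φ, Y.sh_mul, Y.sh_mul]
  rw [h1]
  calc a * b * (a' * b') * (a'' * b'') = a * (c1 * a') * b * (c3 * a'') * b' * b'' := by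
        rw [hc1, hc3]; group
    _ = c1 * c3 * (a * a' * (b * a'') * b' * b'') := by
        rw [show a * (c1 * a') * b * (c3 * a'') * b' * b'' = (a * c1) * (a' * b) * (c3 * a'') * b' * b'' by
          group, cz ha z1, show c1 * a * (a' * b) * (c3 * a'') * b' * b'' =
            c1 * ((a * (a' * b)) * c3) * (a'' * b' * b'') by group,
          cz (mul_mem ha (mul_mem ha' hb)) z3]
        group
    _ = a * a' * (c2 * a'') * b * b' * b'' := by rw [e31, Y.inZ_sq z1, one_mul, hc2]; group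
    _ = c2 * (a * a' * a'' * (b * b' * b'')) := by
        rw [show a * a' * (c2 * a'') * b * b' * b'' = (a * a') * c2 * (a'' * (b * b' * b'')) by group,
          cz (mul_mem ha ha') z2]
        group
    _ = _ := (cz (mul_mem (Y.inZ_mem (Y.Φ_inZ ha)) (Y.inZ_mem (Y.Φ_inZ hb))) z2).symm

/-- Every element of `M` is a product of an element centralising `ξ` and one of `Q`. -/
theorem cover {m : G} (hm : m ∈ Y.M) :
    ∃ k q, k ∈ Y.M ∧ k * Y.ξ = Y.ξ * k ∧ q ∈ Y.Qg ∧ m = k * q := by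
  set q₀ := m * Y.ξ * m⁻¹ * Y.ξ⁻¹ with hq₀
  have hq₀Q : q₀ ∈ Y.Qg := Y.xiC m hm
  set q := Y.sh q₀ with hq
  have hqQ : q ∈ Y.Qg := Y.sh_mem hq₀Q
  -- `q ξ q⁻¹ = q₀ ξ`
  have hΦ := Y.Φ_inZ hq₀Q
  obtain ⟨e, he, hqe⟩ : ∃ e, InZ z e ∧ q * (Y.sh q)⁻¹ = q₀ * e := by
    obtain ⟨d, hd, hd'⟩ : ∃ d, InZ z d ∧ Y.sh q * Y.sh q = d := ⟨_, Y.sq _ (Y.sh_mem hqQ), rfl⟩
    have hq0q : InZ z (q₀ * q₀) := Y.sq _ hq₀Q
    refine ⟨q₀⁻¹ * q₀⁻¹ * Y.Φ q₀ * d⁻¹, Y.inZ_mul (Y.inZ_mul ?_ hΦ) (Y.inZ_inv hd), ?_⟩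
    · rw [← mul_inv_rev]; exact Y.inZ_inv hq0q
    · rw [← hd', Φ, ← hq]; group
  have hone : q * Y.ξ * q⁻¹ = q₀ * Y.ξ * e := by
    calc q * Y.ξ * q⁻¹ = q * (Y.sh q)⁻¹ * Y.ξ := by rw [sh]; group
      _ = q₀ * (e * Y.ξ) := by rw [hqe]; group
      _ = q₀ * Y.ξ * e := by rw [← Y.zcomm Y.xi_cen he]; group
  have he1 : e = 1 := by
    have hc : Commute (q₀ * Y.ξ) e :=
      Y.zcomm (mul_mem (Y.le_cen hq₀Q) Y.xi_cen) he
    have h3 : (q * Y.ξ * q⁻¹) ^ 3 = 1 := by rw [conj_pow, Y.xi3, mul_one, mul_inv_cancel]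
    have h4 : (q₀ * Y.ξ) ^ 3 = 1 := by
      rw [show q₀ * Y.ξ = m * Y.ξ * m⁻¹ by rw [hq₀]; group, conj_pow, Y.xi3, mul_one, mul_inv_cancel]
    rw [hone, hc.mul_pow, h4, one_mul, pow_succ, pow_two, Y.inZ_sq he, one_mul] at h3
    exact h3
  rw [he1, mul_one] at hone
  have hk : q⁻¹ * m * Y.ξ = Y.ξ * (q⁻¹ * m) := by
    calc q⁻¹ * m * Y.ξ = q⁻¹ * (q₀ * Y.ξ) * m := by rw [hq₀]; group
      _ = Y.ξ * (q⁻¹ * m) := by rw [← hone]; group
  refine ⟨q⁻¹ * m, (q⁻¹ * m)⁻¹ * q * (q⁻¹ * m), mul_mem (inv_mem (Y.QM hqQ)) hm, hk, ?_, by group⟩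
  have := Y.normQ _ (inv_mem (Y.Mle (mul_mem (inv_mem (Y.QM hqQ)) hm))) q hqQ
  rwa [inv_inv] at this

/-- The centraliser of `ξ` meets `Q` in `⟨z⟩`. -/
theorem inZ_of_comm {a : G} (ha : a ∈ Y.Qg) (h : a * Y.ξ = Y.ξ * a) : InZ z a :=
  Y.xi_fix a ha (Or.inl (by rw [← h]; group))

/-- The square of any element of the centraliser lies in `M`. -/
theorem sq_M {c : G} (hc : c ∈ centralizer ({z} : Set G)) : c * c ∈ Y.M := by
  by_cases h : c ∈ Y.M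
  · exact mul_mem h h
  · exact Y.pair c hc c hc h h

theorem odd_M {c : G} (hc : c ∈ centralizer ({z} : Set G)) {n : ℕ} (hn : Odd n) (hcn : c ^ n = 1) :
    c ∈ Y.M := by
  obtain ⟨j, rfl⟩ := hn
  have h : c = ((c * c) ^ j)⁻¹ := by
    rw [pow_succ, pow_mul, pow_two] at hcn
    exact eq_inv_of_mul_eq_one_right hcn
  rw [h]
  exact inv_mem (pow_mem (Y.sq_M hc) j)

end Sys

end CfsgLib.FischerTwoFour
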